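/-
Thin interface to the character foundation, in the vocabulary of `Def_Blocks` (`charDegree`).
-/
import Cfsg.Prelude.Def_Blocks
import Cfsg.Agent.Lib.Char.Complete
import Cfsg.Agent.Lib.Char.Integral

set_option autoImplicit false
open Cfsg
open scoped ComplexConjugate

namespace CfsgLib.Blk83

variable {G : Type*} [Group G] [Finite G]

omit [Finite G] in
theorem one_eq (χ : Cfsg.IrrCharacter G) : (χ : G → ℂ) 1 = (Cfsg.charDegree (χ : G → ℂ) : ℂ) := by
  obtain ⟨n, -, hn⟩ := CfsgLib.Char.IsIrrCharacter.exists_degree χ.2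
  simp [Cfsg.charDegree, hn]

omit [Finite G] in
theorem deg_pos (χ : Cfsg.IrrCharacter G) : 0 < Cfsg.charDegree (χ : G → ℂ) := by
  obtain ⟨n, hpos, hn⟩ := CfsgLib.Char.IsIrrCharacter.exists_degree χ.2
  simpa [Cfsg.charDegree, hn] using hpos

theorem deg_dvd (χ : Cfsg.IrrCharacter G) : Cfsg.charDegree (χ : G → ℂ) ∣ Nat.card G := by
  obtain ⟨f, n, ρ, hirr, rfl⟩ := χ
  haveI := hirr
  simpa [Cfsg.charDegree] using CfsgLib.Char.finrank_dvd_card ρ

theorem conj_char (χ : Cfsg.IrrCharacter G) (g : G) : conj ((χ : G → ℂ) g) = (χ : G → ℂ) g⁻¹ :=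
  (CfsgLib.Char.IsIrrCharacter.apply_inv χ.2 g).symm

theorem isIntegral_apply (χ : Cfsg.IrrCharacter G) (g : G) : IsIntegral ℤ ((χ : G → ℂ) g) := by
  obtain ⟨f, n, ρ, hirr, rfl⟩ := χ
  exact CfsgLib.Char.isIntegral_character ρ g

end CfsgLib.Blk83
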