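/-
Class algebra counting against a subgroup: degrees of irreducible characters forced to be divisible by a
large power of a prime when few products of two conjugates land in a `p`-subgroup.
-/
import Cfsg.Prelude.Def_Blocks
import Cfsg.Agent.Lib.Blk83.Irr
import Mathlib.RepresentationTheory.Irreducible
import Mathlib.RingTheory.IntegralClosure.IntegrallyClosed
import Mathlib.RingTheory.Int.Basic
import Mathlib.Analysis.Complex.Polynomial.Basic
import Mathlib.RingTheory.Polynomial.RationalRoot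
import Mathlib.Algebra.BigOperators.Field

set_option autoImplicit false
open Cfsg
open scoped ComplexConjugate

namespace CfsgLib.Blk83

variable {G : Type*} [Group G] [Finite G]

/-- The sum of `χ` over products of the conjugates of `x` with `y`. -/
theorem sum_conj_mul [Fintype G] (χ : Cfsg.IrrCharacter G) (x y : G) :
    (∑ a : G, (χ : G → ℂ) (a * x * a⁻¹ * y)) * (χ : G → ℂ) 1 =
      (Fintype.card G : ℂ) * ((χ : G → ℂ) x * (χ : G → ℂ) y) := by
  obtain ⟨f, n, ρ, hirr, rfl⟩ := χ
  haveI := hirr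
  set A : (Fin n → ℂ) →ₗ[ℂ] (Fin n → ℂ) := ∑ a : G, ρ (a * x * a⁻¹) with hA
  have hcomm : ∀ g : G, A ∘ₗ ρ g = ρ g ∘ₗ A := by
    intro g
    simp only [hA, ← Module.End.mul_eq_comp, Finset.sum_mul, Finset.mul_sum, ← map_mul]
    refine Fintype.sum_equiv (Equiv.mulLeft g⁻¹) _ _ fun a => ?_
    simp only [Equiv.coe_mulLeft]
    group
  let T : Representation.IntertwiningMap ρ ρ := ⟨A, hcomm⟩
  obtain ⟨c, hc⟩ := (Representation.IsIrreducible.algebraMap_intertwiningMap_bijective_of_isAlgClosed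
    (k := ℂ) (ρ := ρ)).2 T
  have hAc : A = c • LinearMap.id := by
    have := congrArg (fun S : Representation.IntertwiningMap ρ ρ => S.toLinearMap) hc
    simp only [T] at this
    rw [← this]
    rfl
  have h1 : c * (n : ℂ) = (Fintype.card G : ℂ) * ρ.character x := by
    have := congrArg (LinearMap.trace ℂ (Fin n → ℂ)) hAc
    rw [hA, map_sum, map_smul, LinearMap.trace_id, smul_eq_mul, Module.finrank_fin_fun] at this
    rw [← this]
    have hx : ∀ a : G, LinearMap.trace ℂ (Fin n → ℂ) (ρ (a * x * a⁻¹)) = ρ.character x :=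
      fun a => ρ.char_conj x a
    simp only [hx, Finset.sum_const, Finset.card_univ, nsmul_eq_mul]
  have h2 : ∑ a : G, ρ.character (a * x * a⁻¹ * y) = c * ρ.character y := by
    have : LinearMap.trace ℂ (Fin n → ℂ) (A * ρ y) =
        LinearMap.trace ℂ (Fin n → ℂ) ((c • LinearMap.id : (Fin n → ℂ) →ₗ[ℂ] (Fin n → ℂ)) * ρ y) := by
      rw [hAc]
    rw [hA, Finset.sum_mul, map_sum] at this
    simp only [← map_mul] at this
    unfold Representation.character
    rw [this, smul_mul_assoc, map_smul, smul_eq_mul]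
    rfl
  change (∑ a : G, ρ.character (a * x * a⁻¹ * y)) * ρ.character 1 = _
  rw [h2, ρ.char_one, Module.finrank_fin_fun]
  linear_combination ρ.character y * h1

/-- The averaged sum of a character over a subgroup is a natural number. -/
theorem exists_nat_sum_eq (χ : Cfsg.IrrCharacter G) (P : Subgroup G) [Fintype P] :
    ∃ m : ℕ, ∑ w : P, (χ : G → ℂ) w = (Nat.card P : ℂ) * m := by
  obtain ⟨f, n, ρ, hirr, rfl⟩ := χ
  haveI : Invertible (Nat.card P : ℂ) := invertibleOfNonzero (by simp [Nat.card_pos.ne'])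
  refine ⟨Module.finrank ℂ (Representation.invariants (ρ.comp P.subtype : Representation ℂ P (Fin n → ℂ))), ?_⟩
  rw [← Representation.card_inv_mul_sum_char_eq_finrank, ← mul_assoc,
    mul_inv_cancel₀ (by simp [Nat.card_pos.ne']), one_mul]
  rfl

theorem sum_conj_mul_div [Fintype G] (z w : G) [DecidableRel (IsConj : G → G → Prop)] :
    (Fintype.card G : ℂ) *
      ∑ χ : Cfsg.IrrCharacter G, (χ : G → ℂ) z * conj ((χ : G → ℂ) z) * (χ : G → ℂ) w / (χ : G → ℂ) 1 =
    ((Finset.univ.filter fun a : G => IsConj z (a * z * a⁻¹ * w)).card : ℂ) *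
      Nat.card (Subgroup.centralizer ({z} : Set G)) := by
  have hterm : ∀ χ : Cfsg.IrrCharacter G,
      (Fintype.card G : ℂ) * ((χ : G → ℂ) z * conj ((χ : G → ℂ) z) * (χ : G → ℂ) w / (χ : G → ℂ) 1) =
        ∑ a : G, (χ : G → ℂ) (a * z * a⁻¹ * w) * conj ((χ : G → ℂ) z) := by
    intro χ
    have h1 : (χ : G → ℂ) 1 ≠ 0 := by
      rw [CfsgLib.Blk83.one_eq]; exact_mod_cast (CfsgLib.Blk83.deg_pos χ).ne'
    rw [← Finset.sum_mul]
    have := sum_conj_mul χ z w
    field_simp
    linear_combination -(conj ((χ : G → ℂ) z)) * this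
  rw [Finset.mul_sum]
  simp only [hterm]
  rw [Finset.sum_comm]
  simp only [CfsgLib.Char.sum_mul_conj]
  have : ∀ a : G, (if IsConj (a * z * a⁻¹ * w) z then
      (Nat.card (Subgroup.centralizer ({a * z * a⁻¹ * w} : Set G)) : ℂ) else 0) =
      if IsConj z (a * z * a⁻¹ * w) then (Nat.card (Subgroup.centralizer ({z} : Set G)) : ℂ) else 0 := by
    intro a
    by_cases h : IsConj (a * z * a⁻¹ * w) z
    · rw [if_pos h, if_pos h.symm]
      obtain ⟨c, hc⟩ := isConj_iff.mp h
      generalize a * z * a⁻¹ * w = t at hc ⊢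
      subst hc
      congr 1
      refine Nat.card_congr (Equiv.subtypeEquiv (MulAut.conj c).toEquiv fun u => ?_)
      simp only [Subgroup.mem_centralizer_singleton_iff, MulEquiv.toEquiv_eq_coe, MulEquiv.coe_toEquiv]
      exact (Commute.conj_iff c).symm
    · rw [if_neg h, if_neg fun h' => h h'.symm]
  simp only [this]
  rw [Finset.sum_ite, Finset.sum_const_zero, add_zero, Finset.sum_const, nsmul_eq_mul]

theorem isIntegral_rat_dvd {u v : ℕ} (h : IsIntegral ℤ ((u : ℂ) / (v : ℂ))) (hv : v ≠ 0) : v ∣ u := by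
  have h2 : IsIntegral ℤ ((u : ℚ) / v) := by
    refine (isIntegral_algebraMap_iff (B := ℂ) (algebraMap ℚ ℂ).injective).mp ?_
    simpa using h
  obtain ⟨k, hk⟩ := IsIntegrallyClosed.algebraMap_eq_of_integral h2
  have : (k : ℚ) * v = u := by
    rw [show (k : ℚ) = algebraMap ℤ ℚ k from rfl, hk]; field_simp
  have h3 : k * (v : ℤ) = (u : ℤ) := by exact_mod_cast this
  exact Int.natCast_dvd_natCast.mp ⟨k, by rw [← h3, mul_comm]⟩

/-- If no product `g⁻¹ h` of two conjugates of `z` is a nontrivial element of `P`, some degree is divisible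
by a large power of `p`. -/
theorem exists_pow_dvd_degree (p : ℕ) [Fact p.Prime] (z : G) (P : Subgroup G) (c a : ℕ)
    (hP : Nat.card P = p ^ c)
    (ha : (Nat.card (Subgroup.centralizer ({z} : Set G))).factorization p = a)
    (hfree : ∀ b : G, ∀ w ∈ P, IsConj z (b * z * b⁻¹ * w) → w = 1) :
    ∃ χ : Cfsg.IrrCharacter G, p ^ (c - a) ∣ Cfsg.charDegree (χ : G → ℂ) := by
  classical
  have := Fintype.ofFinite G
  have hp : p.Prime := Fact.out
  set C := Nat.card (Subgroup.centralizer ({z} : Set G)) with hC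
  have hcount : ∀ w : P, (Finset.univ.filter fun b : G => IsConj z (b * z * b⁻¹ * (w : G))).card =
      if w = 1 then Fintype.card G else 0 := by
    intro w
    split_ifs with hw
    · subst hw
      rw [Finset.filter_true_of_mem, Finset.card_univ]
      intro b _
      simp [isConj_iff]
    · rw [Finset.card_eq_zero, Finset.filter_eq_empty_iff]
      intro b _ hb
      exact hw (Subtype.ext (hfree b w w.2 hb))
  choose m hm using fun χ : Cfsg.IrrCharacter G => exists_nat_sum_eq χ P
  have key : ∑ χ : Cfsg.IrrCharacter G,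
      (χ : G → ℂ) z * conj ((χ : G → ℂ) z) * ((Nat.card P : ℂ) * m χ) / (χ : G → ℂ) 1 = (C : ℂ) := by
    have hG : (Fintype.card G : ℂ) ≠ 0 := by exact_mod_cast Fintype.card_ne_zero
    apply mul_left_cancel₀ hG
    simp only [← hm, Finset.mul_sum, Finset.sum_div]
    rw [Finset.sum_comm]
    simp only [← Finset.mul_sum]
    rw [Finset.mul_sum]
    simp only [sum_conj_mul_div, hcount]
    rw [Finset.sum_eq_single (1 : P)]
    · simp [hC]
    · intro w _ hw
      simp [hw]
    · simp
  by_contra hcon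
  simp only [not_exists] at hcon
  set d := fun χ : Cfsg.IrrCharacter G => Cfsg.charDegree (χ : G → ℂ) with hd
  set M := ∏ χ : Cfsg.IrrCharacter G, ordCompl[p] (d χ) with hM
  have hMcop : ¬ p ∣ M := by
    rw [hM, Prime.dvd_finsetProd_iff hp.prime]
    rintro ⟨χ, -, h⟩
    exact Nat.not_dvd_ordCompl hp (CfsgLib.Blk83.deg_pos χ).ne' h
  have hca : a < c := by
    by_contra hle
    have h1 : Nonempty (Cfsg.IrrCharacter G) := by
      by_contra hne
      rw [not_nonempty_iff] at hne
      rw [Finset.univ_eq_empty, Finset.sum_empty] at key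
      have hz : (C : ℕ) = 0 := by exact_mod_cast key.symm
      exact Nat.card_pos.ne' hz
    obtain ⟨χ⟩ := h1
    apply hcon χ
    simp [Nat.sub_eq_zero_of_le (not_lt.mp hle)]
  have hdiv : ∀ χ, d χ ∣ p ^ (c - a - 1) * M := by
    intro χ
    conv_lhs => rw [← Nat.ordProj_mul_ordCompl_eq_self (d χ) p]
    refine Nat.mul_dvd_mul (Nat.pow_dvd_pow _ ?_) (Finset.dvd_prod_of_mem _ (Finset.mem_univ χ))
    by_contra hlt
    apply hcon χ
    exact dvd_trans (Nat.pow_dvd_pow p (by omega)) (Nat.ordProj_dvd (d χ) p)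
  choose e he using hdiv
  have hint : IsIntegral ℤ (((C * (p ^ (c - a - 1) * M) : ℕ) : ℂ) / ((p ^ c : ℕ) : ℂ)) := by
    have : ((C * (p ^ (c - a - 1) * M) : ℕ) : ℂ) / ((p ^ c : ℕ) : ℂ) =
        ∑ χ : Cfsg.IrrCharacter G, (χ : G → ℂ) z * (χ : G → ℂ) z⁻¹ * ((m χ * e χ : ℕ) : ℂ) := by
      have hpc : ((p ^ c : ℕ) : ℂ) ≠ 0 := by exact_mod_cast pow_ne_zero _ hp.ne_zero
      rw [div_eq_iff hpc, Nat.cast_mul, ← key, Finset.sum_mul, Finset.sum_mul]
      refine Finset.sum_congr rfl fun χ _ => ?_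
      have hd0 : (d χ : ℂ) ≠ 0 := by exact_mod_cast (CfsgLib.Blk83.deg_pos χ).ne'
      rw [CfsgLib.Blk83.one_eq, show Cfsg.charDegree (χ : G → ℂ) = d χ from rfl, he χ, hP, CfsgLib.Blk83.conj_char,
        Nat.cast_mul (d χ), Nat.cast_mul]
      field_simp
    rw [this]
    exact IsIntegral.sum _ fun χ _ =>
      ((CfsgLib.Blk83.isIntegral_apply χ z).mul (CfsgLib.Blk83.isIntegral_apply χ z⁻¹)).mul (isIntegral_natCast _)
  have hdvd := isIntegral_rat_dvd hint (pow_ne_zero _ hp.ne_zero)
  have hC0 : C ≠ 0 := Nat.card_pos.ne'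
  have hM0 : M ≠ 0 := fun h => hMcop (h ▸ dvd_zero p)
  have hp0 : p ^ (c - a - 1) ≠ 0 := pow_ne_zero _ hp.ne_zero
  have := (hp.pow_dvd_iff_le_factorization (mul_ne_zero hC0 (mul_ne_zero hp0 hM0))).mp hdvd
  rw [Nat.factorization_mul hC0 (mul_ne_zero hp0 hM0), Nat.factorization_mul hp0 hM0,
    hp.factorization_pow] at this
  simp only [Finsupp.add_apply, Finsupp.single_eq_same, Nat.factorization_eq_zero_of_not_dvd hMcop] at this
  omega

end CfsgLib.Blk83
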