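import Mathlib.GroupTheory.FiniteAbelian.Duality
import Mathlib.Analysis.Complex.Polynomial.Basic
import Mathlib.RingTheory.RootsOfUnity.AlgebraicallyClosed
import Cfsg.Agent.Lib.Char.Linear
import Cfsg.Agent.Lib.Char.Complete

/-!
Sums of linear characters over the orbits of a group of automorphisms acting freely on the
non-identity elements of a finite abelian group.
-/

set_option autoImplicit false
open scoped ComplexConjugate

namespace CfsgLib.Blk83.FreeOrbit

variable {A : Type*} [CommGroup A] [Finite A]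

theorem finite_dual : Finite (A →* ℂˣ) := by
  haveI : Fintype A := Fintype.ofFinite A
  exact Finite.of_equiv _ CfsgLib.Char.linearCharEquiv.symm

theorem conj_apply (ψ : A →* ℂˣ) (y : A) : conj (ψ y : ℂ) = (ψ y⁻¹ : ℂ) := by
  have h := CfsgLib.Char.IsIrrCharacter.apply_inv (CfsgLib.Char.isIrrCharacter_linear ψ) y
  exact h.symm

theorem mul_conj_apply (ψ : A →* ℂˣ) (y y' : A) :
    (ψ y : ℂ) * conj (ψ y' : ℂ) = (ψ (y * y'⁻¹) : ℂ) := by
  rw [conj_apply, map_mul, Units.val_mul]

theorem sum_dual [Fintype (A →* ℂˣ)] [DecidableEq A] (y : A) :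
    ∑ ψ : A →* ℂˣ, (ψ y : ℂ) = if y = 1 then (Nat.card A : ℂ) else 0 := by
  split_ifs with h
  · subst h
    simp only [map_one, Units.val_one, Finset.sum_const, Finset.card_univ, nsmul_eq_mul, mul_one]
    rw [← CommGroup.card_monoidHom_of_hasEnoughRootsOfUnity A ℂ, Nat.card_eq_fintype_card]
  · obtain ⟨f, hf⟩ := CommGroup.exists_apply_ne_one_of_hasEnoughRootsOfUnity A ℂ (a := y) h
    have h1 : (f y : ℂ) * ∑ ψ : A →* ℂˣ, (ψ y : ℂ) = ∑ ψ : A →* ℂˣ, (ψ y : ℂ) := by
      rw [Finset.mul_sum]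
      exact Fintype.sum_equiv (Equiv.mulLeft f) _ _ fun ψ => by simp
    have h2 : (f y : ℂ) - 1 ≠ 0 := sub_ne_zero.2 fun e => hf (Units.ext e)
    exact (mul_eq_zero.1 (show ((f y : ℂ) - 1) * ∑ ψ : A →* ℂˣ, (ψ y : ℂ) = 0 by
      linear_combination h1)).resolve_left h2

theorem sum_elem [Fintype A] [DecidableEq (A →* ℂˣ)] (ψ : A →* ℂˣ) :
    ∑ y : A, (ψ y : ℂ) = if ψ = 1 then (Nat.card A : ℂ) else 0 := by
  split_ifs with h
  · subst h
    simp [Nat.card_eq_fintype_card]
  · obtain ⟨a, ha⟩ : ∃ a, ψ a ≠ 1 := by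
      by_contra hc
      push Not at hc
      exact h (MonoidHom.ext hc)
    have h1 : (ψ a : ℂ) * ∑ y : A, (ψ y : ℂ) = ∑ y : A, (ψ y : ℂ) := by
      rw [Finset.mul_sum]
      exact Fintype.sum_equiv (Equiv.mulLeft a) _ _ fun y => by simp
    have h2 : (ψ a : ℂ) - 1 ≠ 0 := sub_ne_zero.2 fun e => ha (Units.ext e)
    exact (mul_eq_zero.1 (show ((ψ a : ℂ) - 1) * ∑ y : A, (ψ y : ℂ) = 0 by
      linear_combination h1)).resolve_left h2

/-- The action of an automorphism on the linear characters. -/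
def act (ψ : A →* ℂˣ) (a : MulAut A) : A →* ℂˣ := ψ.comp a.toMonoidHom

omit [Finite A] in
@[simp] theorem act_apply (ψ : A →* ℂˣ) (a : MulAut A) (y : A) : act ψ a y = ψ (a y) := rfl

omit [Finite A] in
theorem act_one (ψ : A →* ℂˣ) : act ψ 1 = ψ := rfl

omit [Finite A] in
theorem act_act (ψ : A →* ℂˣ) (a b : MulAut A) : act (act ψ a) b = act ψ (a * b) := rfl

omit [Finite A] in
theorem act_eq_one_iff (ψ : A →* ℂˣ) (a : MulAut A) : act ψ a = 1 ↔ ψ = 1 := by
  refine ⟨fun h => MonoidHom.ext fun y => ?_, fun h => by subst h; rfl⟩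
  have := DFunLike.congr_fun h (a.symm y)
  simpa using this

variable (T : Subgroup (MulAut A))

omit [Finite A] in
/-- The orbit relation on the non-principal linear characters. -/
def orbSetoid : Setoid {ψ : A →* ℂˣ // ψ ≠ 1} where
  r ψ φ := ∃ a : T, act ψ.1 a = φ.1
  iseqv :=
    { refl := fun ψ => ⟨1, act_one ψ.1⟩
      symm := fun {ψ φ} ⟨a, ha⟩ => ⟨a⁻¹, by rw [← ha, act_act]; simp [act_one]⟩
      trans := fun {ψ φ χ} ⟨a, ha⟩ ⟨b, hb⟩ => ⟨a * b, by rw [← hb, ← ha, act_act]; rfl⟩ }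

/-- The orbits of non-principal linear characters. -/
abbrev Orb : Type _ := Quotient (orbSetoid T)

/-- The orbit of a non-principal linear character. -/
def orbOf (ψ : A →* ℂˣ) (h : ψ ≠ 1) : Orb T := Quotient.mk (orbSetoid T) ⟨ψ, h⟩

/-- A representative of an orbit. -/
noncomputable def rep (q : Orb T) : A →* ℂˣ := (Quotient.out q).1

omit [Finite A] in
theorem rep_ne_one (q : Orb T) : rep T q ≠ 1 := (Quotient.out q).2

omit [Finite A] in
theorem act_ne_one {ψ : A →* ℂˣ} (h : ψ ≠ 1) (a : MulAut A) : act ψ a ≠ 1 :=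
  fun e => h ((act_eq_one_iff ψ a).1 e)

omit [Finite A] in
theorem orbOf_rep (q : Orb T) : orbOf T (rep T q) (rep_ne_one T q) = q := Quotient.out_eq q

omit [Finite A] in
theorem orbOf_act {ψ : A →* ℂˣ} (h : ψ ≠ 1) (a : T) :
    orbOf T (act ψ a) (act_ne_one h a) = orbOf T ψ h :=
  (Quotient.sound (show orbSetoid T ⟨ψ, h⟩ ⟨act ψ a, act_ne_one h a⟩ from ⟨a, rfl⟩)).symm

omit [Finite A] in
theorem exists_act_rep (ψ : A →* ℂˣ) (h : ψ ≠ 1) :
    ∃ a : T, act (rep T (orbOf T ψ h)) a = ψ :=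
  Quotient.exact (Quotient.out_eq (orbOf T ψ h))

theorem finite_orb : Finite (Orb T) := by
  haveI := finite_dual (A := A)
  exact Quotient.finite _

variable (hT : ∀ a : T, a ≠ 1 → ∀ y : A, (a : MulAut A) y = y → y = 1)

include hT in
/-- The action on the non-principal linear characters is free. -/
theorem act_free {ψ : A →* ℂˣ} (h : ψ ≠ 1) {a : T} (ha : act ψ a = ψ) : a = 1 := by
  by_contra hne
  let f : A →* A :=
    { toFun := fun y => (a : MulAut A) y / y
      map_one' := by simp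
      map_mul' := fun x y => by rw [map_mul, mul_div_mul_comm] }
  have hinj : Function.Injective f := (injective_iff_map_eq_one f).2 fun y hy =>
    hT a hne y (div_eq_one.1 hy)
  refine h (MonoidHom.ext fun z => ?_)
  obtain ⟨y, rfl⟩ := Finite.surjective_of_injective hinj z
  change ψ ((a : MulAut A) y / y) = 1
  rw [map_div, ← act_apply, ha, div_self']

include hT in
/-- An orbit and a member of the group determine a non-principal linear character. -/
theorem bijective_orb_act : Function.Bijective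
    (fun qa : Orb T × T => (⟨act (rep T qa.1) qa.2, act_ne_one (rep_ne_one T qa.1) qa.2⟩ :
      {ψ : A →* ℂˣ // ψ ≠ 1})) := by
  refine ⟨fun ⟨q, a⟩ ⟨q', b⟩ h => ?_, fun ψ => ?_⟩
  · have he : act (rep T q) a = act (rep T q') b := congrArg Subtype.val h
    have hq : q = q' := by
      rw [← orbOf_rep T q, ← orbOf_rep T q', ← orbOf_act T (rep_ne_one T q) a,
        ← orbOf_act T (rep_ne_one T q') b]
      congr 1
    subst hq
    have h2 : act (rep T q) ((a * b⁻¹ : T) : MulAut A) = rep T q := by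
      rw [Subgroup.coe_mul, ← act_act, he, act_act]
      simp [act_one]
    rw [mul_inv_eq_one.1 (act_free T hT (rep_ne_one T q) h2)]
  · obtain ⟨a, ha⟩ := exists_act_rep T ψ.1 ψ.2
    exact ⟨(orbOf T ψ.1 ψ.2, a), Subtype.ext ha⟩

section Sums

variable [Fintype T] [Fintype (Orb T)]

/-- The sum over the orbit of a linear character. -/
noncomputable def orbSum (ψ : A →* ℂˣ) (y : A) : ℂ := ∑ a : T, (ψ ((a : MulAut A) y) : ℂ)

omit [Finite A] [Fintype (Orb T)] in
theorem orbSum_act (ψ : A →* ℂˣ) (b : T) (y : A) :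
    orbSum T (act ψ b) y = orbSum T ψ y :=
  Fintype.sum_equiv (Equiv.mulLeft b) _ _ fun _ => rfl

omit [Finite A] [Fintype (Orb T)] in
theorem orbSum_apply_one (ψ : A →* ℂˣ) : orbSum T ψ 1 = (Nat.card T : ℂ) := by
  simp [orbSum, Nat.card_eq_fintype_card]

omit [Finite A] [Fintype (Orb T)] in
theorem conj_orbSum (ψ : A →* ℂˣ) [Finite A] (y : A) :
    conj (orbSum T ψ y) = orbSum T ψ y⁻¹ := by
  simp only [orbSum, map_sum, conj_apply, map_inv]

include hT in
theorem sum_orb_act [Fintype (A →* ℂˣ)] [DecidableEq (A →* ℂˣ)] (f : (A →* ℂˣ) → ℂ) :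
    ∑ q : Orb T, ∑ a : T, f (act (rep T q) a) = ∑ ψ : A →* ℂˣ, f ψ - f 1 := by
  rw [← Finset.sum_erase_eq_sub (Finset.mem_univ _),
    Finset.sum_subtype (p := fun ψ : A →* ℂˣ => ψ ≠ 1) _ (fun ψ => by simp) f,
    ← Fintype.sum_prod_type']
  exact Fintype.sum_bijective _ (bijective_orb_act T hT) _ _ fun _ => rfl

include hT in
theorem card_orb_mul : Nat.card (Orb T) * Nat.card T + 1 = Nat.card A := by
  classical
  haveI := finite_dual (A := A)
  haveI := Fintype.ofFinite (A →* ℂˣ)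
  have h := sum_orb_act T hT fun _ => (1 : ℂ)
  simp only [Finset.sum_const, Finset.card_univ, nsmul_eq_mul, mul_one] at h
  rw [← CommGroup.card_monoidHom_of_hasEnoughRootsOfUnity A ℂ]
  simp only [Nat.card_eq_fintype_card]
  have h' : ((Fintype.card (Orb T) * Fintype.card T + 1 : ℕ) : ℂ) =
      (Fintype.card (A →* ℂˣ) : ℂ) := by
    push_cast
    linear_combination h
  exact_mod_cast h'

include hT in
theorem sum_orbSum [DecidableEq A] (y : A) :
    ∑ q : Orb T, orbSum T (rep T q) y = (if y = 1 then (Nat.card A : ℂ) else 0) - 1 := by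
  classical
  haveI := finite_dual (A := A)
  haveI := Fintype.ofFinite (A →* ℂˣ)
  rw [← sum_dual y, show (1 : ℂ) = ((1 : A →* ℂˣ) y : ℂ) from rfl,
    ← sum_orb_act T hT fun ψ => (ψ y : ℂ)]
  rfl

include hT in
theorem sum_orbSum_mul_conj {y : A} (hy : y ≠ 1) :
    ∑ q : Orb T, orbSum T (rep T q) y * conj (orbSum T (rep T q) y) =
      (Nat.card A : ℂ) - Nat.card T := by
  classical
  haveI := finite_dual (A := A)
  haveI := Fintype.ofFinite (A →* ℂˣ)
  have key : ∀ q : Orb T, orbSum T (rep T q) y * conj (orbSum T (rep T q) y) =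
      ∑ c : T, ∑ a : T, (act (rep T q) a (y * ((c : MulAut A) y)⁻¹) : ℂ) := by
    intro q
    rw [orbSum, map_sum, Finset.sum_mul_sum]
    conv_rhs => rw [Finset.sum_comm]
    refine Finset.sum_congr rfl fun a _ => ?_
    refine Fintype.sum_equiv (Equiv.mulLeft a⁻¹) _ _ fun b => ?_
    rw [mul_conj_apply, act_apply, map_mul, map_inv]
    simp [MulAut.mul_apply]
  simp only [key]
  rw [Finset.sum_comm]
  have h1 : ∀ c : T, ∑ q : Orb T, ∑ a : T, (act (rep T q) a (y * ((c : MulAut A) y)⁻¹) : ℂ) =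
      (if c = 1 then (Nat.card A : ℂ) else 0) - 1 := by
    intro c
    rw [sum_orb_act T hT fun ψ => (ψ (y * ((c : MulAut A) y)⁻¹) : ℂ), sum_dual]
    simp only [MonoidHom.one_apply, Units.val_one]
    congr 1
    refine if_congr ?_ rfl rfl
    rw [mul_inv_eq_one]
    refine ⟨fun e => ?_, fun e => by subst e; rfl⟩
    by_contra hc
    exact hy (hT c hc y e.symm)
  rw [Finset.sum_congr rfl fun c _ => h1 c, Finset.sum_sub_distrib,
    Finset.sum_ite_eq' Finset.univ (1 : T), if_pos (Finset.mem_univ _)]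
  simp [Nat.card_eq_fintype_card]

include hT in
/-- Orthogonality of the orbit sums. -/
theorem sum_conj_mul_orbSum [Fintype A] [DecidableEq (Orb T)] (i j : Orb T) :
    ∑ y : A, conj (rep T i y : ℂ) * orbSum T (rep T j) y =
      if i = j then (Nat.card A : ℂ) else 0 := by
  classical
  have h1 : ∀ a : T, ∑ y : A, conj (rep T i y : ℂ) * (rep T j ((a : MulAut A) y) : ℂ) =
      if j = i ∧ a = 1 then (Nat.card A : ℂ) else 0 := by
    intro a
    have e : ∀ y : A, conj (rep T i y : ℂ) * (rep T j ((a : MulAut A) y) : ℂ) =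
        ((act (rep T j) a * (rep T i)⁻¹) y : ℂ) := fun y => by
      rw [conj_apply, MonoidHom.mul_apply, MonoidHom.inv_apply, Units.val_mul, act_apply,
        map_inv, mul_comm]
    rw [Finset.sum_congr rfl fun y _ => e y, sum_elem]
    refine if_congr ?_ rfl rfl
    refine (mul_inv_eq_one (G := A →* ℂˣ)).trans ?_
    constructor
    · intro h
      have h2 : (⟨act (rep T j) a, act_ne_one (rep_ne_one T j) a⟩ : {ψ : A →* ℂˣ // ψ ≠ 1}) =
          ⟨act (rep T i) (1 : T), act_ne_one (rep_ne_one T i) _⟩ := Subtype.ext h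
      have h3 := (bijective_orb_act T hT).1 (a₁ := (j, a)) (a₂ := (i, 1)) h2
      exact ⟨(Prod.mk.injEq _ _ _ _).mp h3 |>.1, (Prod.mk.injEq _ _ _ _).mp h3 |>.2⟩
    · rintro ⟨rfl, rfl⟩
      rfl
  simp only [orbSum, Finset.mul_sum]
  rw [Finset.sum_comm, Finset.sum_congr rfl fun a _ => h1 a]
  by_cases h : i = j
  · subst h; simp
  · simp [h, Ne.symm h]

omit [Finite A] [Fintype (Orb T)] in
include hT in
/-- The orbit sum as a sum over the orbit. -/
theorem finsum_orbit [Finite A] {ψ : A →* ℂˣ} (h : ψ ≠ 1) (y : A) :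
    ∑ᶠ φ ∈ Set.range (fun a : T => act ψ a), (φ y : ℂ) = orbSum T ψ y := by
  have hinj : Function.Injective fun a : T => act ψ a := by
    intro a b (hab : act ψ a = act ψ b)
    refine mul_inv_eq_one.1 (act_free T hT h ?_)
    rw [Subgroup.coe_mul, ← act_act, hab, act_act]
    simp [act_one]
  rw [finsum_mem_range hinj, finsum_eq_sum_of_fintype]
  rfl

end Sums

end CfsgLib.Blk83.FreeOrbit
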