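import Cfsg.Agent.Lib.Blk83.FrobeniusLocal
import Cfsg.Agent.Lib.Blk83.FreeOrbit
import Cfsg.Agent.Lib.Char.Exceptional

/-!
The principal block when an abelian Sylow subgroup has an inertial quotient acting freely on its
non-identity elements: exceptional characters.
-/

set_option autoImplicit false
open Cfsg
open scoped ComplexConjugate IsMulCommutative

namespace CfsgLib.Blk83

open FreeOrbit

universe u

variable {G : Type u} [Group G] [Finite G] {p : ℕ} [Fact p.Prime] {M : Ideal Cfsg.AlgInt}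
variable (P : Sylow p G) [IsMulCommutative (P : Subgroup G)]

/-- The automorphisms of `P` induced by its normalizer. -/
noncomputable def autGroup : Subgroup (MulAut (P : Subgroup G)) :=
  (P : Subgroup G).normalizerMonoidHom.range

theorem card_autGroup : Nat.card (autGroup P) =
    (Subgroup.centralizer ((P : Subgroup G) : Set G)).relIndex
      (Subgroup.normalizer ((P : Subgroup G) : Set G)) := by
  rw [autGroup, ← Subgroup.index_ker, Subgroup.normalizerMonoidHom_ker]
  rfl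

theorem mem_autGroup_iff (a : MulAut (P : Subgroup G)) :
    a ∈ autGroup P ↔ ∃ n ∈ Subgroup.normalizer ((P : Subgroup G) : Set G),
      ∀ w : (P : Subgroup G), (a w : G) = n * w * n⁻¹ := by
  constructor
  · rintro ⟨n, rfl⟩
    exact ⟨n, n.2, fun w => rfl⟩
  · rintro ⟨n, hn, h⟩
    exact ⟨⟨n, hn⟩, MulEquiv.ext fun w => Subtype.ext (h w).symm⟩

theorem autGroup_free
    (hfix : ∀ y ∈ (P : Subgroup G), y ≠ 1 →
      Subgroup.centralizer ({y} : Set G) ⊓ Subgroup.normalizer ((P : Subgroup G) : Set G) ≤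
        Subgroup.centralizer ((P : Subgroup G) : Set G))
    (a : autGroup P) (ha : a ≠ 1) (y : (P : Subgroup G))
    (hy : (a : MulAut (P : Subgroup G)) y = y) : y = 1 := by
  by_contra hy1
  obtain ⟨n, hn, hna⟩ := (mem_autGroup_iff P a.1).1 a.2
  have hny : n ∈ Subgroup.centralizer ({(y : G)} : Set G) := by
    refine Subgroup.mem_centralizer_singleton_iff.2 ?_
    have h := hna y
    rw [hy, eq_mul_inv_iff_mul_eq] at h
    exact h.symm
  have hC := hfix y y.2 (fun h => hy1 (Subtype.ext h)) ⟨hny, hn⟩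
  refine ha (Subtype.ext (MulEquiv.ext fun w => Subtype.ext ?_))
  rw [hna w]
  show n * (w : G) * n⁻¹ = (w : G)
  rw [← Subgroup.mem_centralizer_iff.1 hC w w.2, mul_inv_cancel_right]

theorem isConj_iff_autGroup (y z : (P : Subgroup G)) :
    IsConj (y : G) z ↔ ∃ a : autGroup P, (a : MulAut (P : Subgroup G)) y = z := by
  constructor
  · intro h
    obtain ⟨g, hg⟩ := isConj_iff.1 h
    obtain ⟨n, hn, hnz⟩ := P.conj_eq_normalizer_conj_of_mem (y : G) g⁻¹ y.2
      (by rw [inv_inv, hg]; exact z.2)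
    rw [inv_inv, hg] at hnz
    refine ⟨⟨(P : Subgroup G).normalizerMonoidHom ⟨n⁻¹, inv_mem hn⟩, _, rfl⟩, Subtype.ext ?_⟩
    show n⁻¹ * (y : G) * n⁻¹⁻¹ = (z : G)
    rw [inv_inv, hnz]
  · rintro ⟨a, rfl⟩
    obtain ⟨n, -, hna⟩ := (mem_autGroup_iff P a.1).1 a.2
    exact isConj_iff.2 ⟨n, (hna y).symm⟩

theorem orbit_eq_range (ψ : (P : Subgroup G) →* ℂˣ) :
    {ψ' : (P : Subgroup G) →* ℂˣ | ∃ n : G, n ∈ Subgroup.normalizer ((P : Subgroup G) : Set G) ∧
      ∀ w w' : (P : Subgroup G), (w' : G) = n * w * n⁻¹ → ψ' w' = ψ w} =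
      Set.range (fun a : autGroup P => act ψ (a : MulAut (P : Subgroup G))) := by
  ext ψ'
  constructor
  · rintro ⟨n, hn, h⟩
    refine ⟨(⟨(P : Subgroup G).normalizerMonoidHom ⟨n, hn⟩, _, rfl⟩ : autGroup P)⁻¹, ?_⟩
    refine MonoidHom.ext fun w => ?_
    set a := (P : Subgroup G).normalizerMonoidHom ⟨n, hn⟩ with ha
    show ψ (a⁻¹ w) = ψ' w
    rw [← h (a⁻¹ w) w]
    show (w : G) = ((a (a⁻¹ w) : (P : Subgroup G)) : G)
    rw [MulAut.apply_inv_self]
  · rintro ⟨a, rfl⟩
    obtain ⟨n, hn, hna⟩ := (mem_autGroup_iff P (a⁻¹ : autGroup P).1).1 (a⁻¹ : autGroup P).2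
    refine ⟨n, hn, fun w w' hw => ?_⟩
    have : w' = ((a⁻¹ : autGroup P) : MulAut (P : Subgroup G)) w :=
      Subtype.ext (hw.trans (hna w).symm)
    rw [this, act_apply, Subgroup.coe_inv, MulAut.apply_inv_self]

/-- The value at an element with `p`-part in `P`. -/
theorem apply_of_isPPart
    (hfix : ∀ y ∈ (P : Subgroup G), y ≠ 1 →
      Subgroup.centralizer ({y} : Set G) ⊓ Subgroup.normalizer ((P : Subgroup G) : Set G) ≤
        Subgroup.centralizer ((P : Subgroup G) : Set G))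
    (hM : Cfsg.IsPModular p M) {χ : Cfsg.IrrCharacter G} (hχ : χ ∈ Cfsg.principalBlock M G)
    {z y : G} (hzy : Cfsg.IsPPart p z y) (hy : y ∈ (P : Subgroup G)) (hy1 : y ≠ 1) :
    (χ : G → ℂ) z = (χ : G → ℂ) y := by
  obtain ⟨x, rfl, hc, -, hx⟩ := hzy
  exact apply_mul_regular P hfix hM hχ hy hy1 hc hx

/-- The data of exceptional characters. -/
structure ExceptionalData (M : Ideal Cfsg.AlgInt) [Fintype (autGroup P)]
    [Fintype (Orb (autGroup P))] where
  /-- the sign -/
  ε : ℤ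
  hε : ε = 1 ∨ ε = -1
  /-- the exceptional characters -/
  μ : Orb (autGroup P) → Cfsg.IrrCharacter G
  μ_injective : Function.Injective μ
  μ_mem : ∀ q, μ q ∈ Cfsg.principalBlock M G
  μ_ne_principal : ∀ q, μ q ≠ CfsgLib.Char.principalIrr
  /-- the constants -/
  a : Cfsg.IrrCharacter G → ℤ
  /-- the exceptional constant -/
  d : ℤ
  apply_nonexc : ∀ χ ∈ Cfsg.principalBlock M G \ Set.range μ, a χ ≠ 0 ∧
    ∀ y : (P : Subgroup G), y ≠ 1 → (χ : G → ℂ) y = (a χ : ℂ)
  apply_exc : ∀ q, ∀ y : (P : Subgroup G), y ≠ 1 →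
    (μ q : G → ℂ) y = (d : ℂ) + (ε : ℂ) * orbSum (autGroup P) (rep (autGroup P) q) y
  a_principal : a CfsgLib.Char.principalIrr = 1
  norm_eq : (d - ε) ^ 2 + ((Nat.card (Orb (autGroup P)) : ℤ) - 1) * d ^ 2 +
    ∑ᶠ χ ∈ Cfsg.principalBlock M G \ Set.range μ, a χ ^ 2 = (Nat.card (autGroup P) : ℤ) + 1
  card_le : Nat.card ↥(Cfsg.principalBlock M G \ Set.range μ) ≤ Nat.card (autGroup P)
  regular_eq : ∀ q q', ∀ g : G, ¬ p ∣ orderOf g → (μ q : G → ℂ) g = (μ q' : G → ℂ) g
  relation : ∀ q, ∀ g : G, ¬ p ∣ orderOf g →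
    ((Nat.card (Orb (autGroup P)) : ℂ) * d - ε) * (μ q : G → ℂ) g +
      ∑ᶠ χ ∈ Cfsg.principalBlock M G \ Set.range μ, (a χ : ℂ) * (χ : G → ℂ) g = 0

omit [Fact p.Prime] [IsMulCommutative (P : Subgroup G)] in
theorem exists_int_coeff [Fintype (P : Subgroup G)] (χ : Cfsg.IrrCharacter G)
    (ψ : (P : Subgroup G) →* ℂˣ) :
    ∃ z : ℤ, (Nat.card (P : Subgroup G) : ℂ)⁻¹ *
      ∑ y : (P : Subgroup G), (χ : G → ℂ) y * conj (ψ y : ℂ) = z := by
  have hgen : Cfsg.IsGeneralizedCharacter (P : Subgroup G) (fun y : (P : Subgroup G) => (χ : G → ℂ) y) :=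
    CfsgLib.Char.IsGeneralizedCharacter.restrict
      (CfsgLib.Char.IsIrrCharacter.isGeneralizedCharacter χ.2) _
  obtain ⟨z, hz⟩ := CfsgLib.CharExc.exists_int_classInner hgen
    (CfsgLib.Char.isIrrCharacter_linear ψ)
  exact ⟨z, hz⟩

/-- Exceptional characters for an abelian Sylow subgroup with free inertial action. -/
theorem exists_exceptional [Fintype (autGroup P)] [Fintype (Orb (autGroup P))]
    (hM : Cfsg.IsPModular p M)
    (hfix : ∀ y ∈ (P : Subgroup G), y ≠ 1 →
      Subgroup.centralizer ({y} : Set G) ⊓ Subgroup.normalizer ((P : Subgroup G) : Set G) ≤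
        Subgroup.centralizer ((P : Subgroup G) : Set G))
    (hlt : Nat.card (autGroup P) + 1 < Nat.card (P : Subgroup G)) :
    Nonempty (ExceptionalData P M) := by
  classical
  have hT : ∀ a : (autGroup P), a ≠ 1 → ∀ y : (P : Subgroup G),
      (a : MulAut (P : Subgroup G)) y = y → y = 1 := autGroup_free P hfix
  haveI := Fintype.ofFinite G
  haveI : Fintype (P : Subgroup G) := Fintype.ofFinite _
  haveI := FreeOrbit.finite_dual (A := (P : Subgroup G))
  haveI := Fintype.ofFinite ((P : Subgroup G) →* ℂˣ)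
  set N : ℂ := (Nat.card (P : Subgroup G) : ℂ) with hNdef
  have hN : N ≠ 0 := Nat.cast_ne_zero.2 Nat.card_pos.ne'
  have hr : 2 ≤ Nat.card (Orb (autGroup P)) := by
    have h := card_orb_mul (autGroup P) hT
    by_contra hc
    push Not at hc
    interval_cases hk : Nat.card (Orb (autGroup P)) <;> omega
  haveI : Nontrivial (Orb (autGroup P)) := Finite.one_lt_card_iff_nontrivial.1 hr
  obtain ⟨q₀⟩ : Nonempty (Orb (autGroup P)) := inferInstance
  obtain ⟨y₁, hy₁⟩ : ∃ y : (P : Subgroup G), y ≠ 1 := by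
    haveI : Nontrivial (P : Subgroup G) := Finite.one_lt_card_iff_nontrivial.1 (by omega)
    exact exists_ne 1
  set B := Cfsg.principalBlock M G with hB
  set Bf : Finset (Cfsg.IrrCharacter G) := Finset.univ.filter (· ∈ B) with hBf
  have hmemBf : ∀ χ, χ ∈ Bf ↔ χ ∈ B := fun χ => by simp [hBf]
  -- the coefficients
  choose c hc using fun (χ : Cfsg.IrrCharacter G) (ψ : (P : Subgroup G) →* ℂˣ) =>
    exists_int_coeff P χ ψ
  have hfourier : ∀ (χ : Cfsg.IrrCharacter G) (y : (P : Subgroup G)),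
      (χ : G → ℂ) y = ∑ ψ : (P : Subgroup G) →* ℂˣ, (c χ ψ : ℂ) * (ψ y : ℂ) := by
    intro χ y
    simp only [← hc, Finset.mul_sum, Finset.sum_mul]
    rw [Finset.sum_comm, Finset.sum_eq_single y]
    · have h1 : ∀ ψ : (P : Subgroup G) →* ℂˣ, N⁻¹ * ((χ : G → ℂ) y * conj (ψ y : ℂ)) * (ψ y : ℂ) =
          N⁻¹ * (χ : G → ℂ) y * (ψ (y * y⁻¹) : ℂ) := fun ψ => by rw [← mul_conj_apply]; ring
      rw [Finset.sum_congr rfl fun ψ _ => h1 ψ, ← Finset.mul_sum, sum_dual, if_pos (mul_inv_cancel y)]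
      rw [mul_right_comm, inv_mul_cancel₀ hN, one_mul]
    · intro z _ hz
      have h1 : ∀ ψ : (P : Subgroup G) →* ℂˣ, N⁻¹ * ((χ : G → ℂ) z * conj (ψ z : ℂ)) * (ψ y : ℂ) =
          N⁻¹ * (χ : G → ℂ) z * (ψ (y * z⁻¹) : ℂ) := fun ψ => by rw [← mul_conj_apply]; ring
      rw [Finset.sum_congr rfl fun ψ _ => h1 ψ, ← Finset.mul_sum, sum_dual,
        if_neg (fun e => hz (mul_inv_eq_one.1 e).symm), mul_zero]
    · exact fun h => absurd (Finset.mem_univ _) h
  have hcorb : ∀ χ ψ (a : (autGroup P)), c χ (act ψ (a : MulAut (P : Subgroup G))) = c χ ψ := by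
    intro χ ψ a
    have : (c χ (act ψ (a : MulAut (P : Subgroup G))) : ℂ) = c χ ψ := by
      rw [← hc, ← hc]
      congr 1
      refine Fintype.sum_equiv ((a : MulAut (P : Subgroup G)).toEquiv) _ _ fun y => ?_
      rw [act_apply]
      refine congrArg₂ (· * ·) ?_ rfl
      exact CfsgLib.Char.IsClassFunction.eq_of_isConj
        (CfsgLib.Char.IsIrrCharacter.isClassFunction χ.2) ((isConj_iff_autGroup P y _).2 ⟨a, rfl⟩)
    exact_mod_cast this
  -- sums of columns
  have hcolsum : ∀ y : (P : Subgroup G), y ≠ 1 → ∀ f : ↥(P : Subgroup G) → ℂ,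
      ∑ z : (P : Subgroup G), (∑ χ ∈ Bf, (χ : G → ℂ) y * conj ((χ : G → ℂ) z)) * f z =
        N * ∑ a : (autGroup P), f ((a : MulAut (P : Subgroup G)) y) := by
    intro y hy f
    have hy' : (y : G) ≠ 1 := fun h => hy (Subtype.ext h)
    have h1 : ∀ z : (P : Subgroup G), (∑ χ ∈ Bf, (χ : G → ℂ) y * conj ((χ : G → ℂ) z)) =
        if IsConj (y : G) z then N else 0 :=
      fun z => principal_column_inner P hfix hM y.2 hy' z.2
    simp only [h1, ite_mul, zero_mul]
    rw [← Finset.sum_filter, Finset.mul_sum]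
    symm
    refine Finset.sum_bij (fun (a : autGroup P) _ => (a : MulAut (P : Subgroup G)) y) (fun a _ => ?_)
      ?_ ?_ ?_
    · exact Finset.mem_filter.2 ⟨Finset.mem_univ _, (isConj_iff_autGroup P y _).2 ⟨a, rfl⟩⟩
    · intro a _ b _ hab
      by_contra hne
      refine hy (hT (b⁻¹ * a) (fun e => hne (inv_mul_eq_one.1 e).symm) y ?_)
      simp [MulAut.mul_apply, hab]
    · intro z hz
      obtain ⟨a, ha⟩ := (isConj_iff_autGroup P y z).1 (Finset.mem_filter.1 hz).2
      exact ⟨a, Finset.mem_univ _, ha⟩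
    · exact fun a _ => rfl
  -- the difference coefficients
  set Δ : Orb (autGroup P) → ↥(P : Subgroup G) → ℂ :=
    fun q y => (rep (autGroup P) q y : ℂ) - (rep (autGroup P) q₀ y : ℂ) with hΔ
  set O : Orb (autGroup P) → ↥(P : Subgroup G) → ℂ := fun q y => orbSum (autGroup P) (rep (autGroup P) q) y with hO
  set D : Orb (autGroup P) → Cfsg.IrrCharacter G → ℤ :=
    fun q χ => if χ ∈ B then c χ (rep (autGroup P) q) - c χ (rep (autGroup P) q₀) else 0 with hD
  have hDB : ∀ q χ, χ ∈ B → (D q χ : ℂ) =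
      N⁻¹ * ∑ y : (P : Subgroup G), (χ : G → ℂ) y * conj (Δ q y) := by
    intro q χ hχ
    simp only [hD, if_pos hχ, Int.cast_sub, ← hc, hΔ, map_sub, mul_sub, Finset.sum_sub_distrib]
    rfl
  set τ : Orb (autGroup P) → (G → ℂ) := fun q => ∑ χ, (D q χ : ℂ) • (χ : G → ℂ) with hτ
  have hτapply : ∀ q g, τ q g = ∑ χ ∈ Bf, (χ : G → ℂ) g * (D q χ : ℂ) := by
    intro q g
    simp only [hτ, Finset.sum_apply, Pi.smul_apply, smul_eq_mul, hBf, Finset.sum_filter]
    refine Finset.sum_congr rfl fun χ _ => ?_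
    by_cases h : χ ∈ B
    · rw [if_pos h, mul_comm]
    · rw [if_neg h]; simp [hD, if_neg h]
  have hτy : ∀ q, ∀ y : (P : Subgroup G), y ≠ 1 → τ q y = O q y - O q₀ y := by
    intro q y hy
    rw [hτapply, Finset.sum_congr rfl fun χ hχ => by rw [hDB q χ ((hmemBf χ).1 hχ)]]
    simp only [Finset.mul_sum]
    rw [Finset.sum_comm]
    have h1 : ∀ z : (P : Subgroup G),
        ∑ χ ∈ Bf, (χ : G → ℂ) y * (N⁻¹ * ((χ : G → ℂ) z * conj (Δ q z))) =
          N⁻¹ * ((∑ χ ∈ Bf, (χ : G → ℂ) y * conj ((χ : G → ℂ) ↑z⁻¹)) * Δ q z⁻¹) := by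
      intro z
      have e1 : conj (Δ q z) = Δ q z⁻¹ := by simp only [hΔ, map_sub, FreeOrbit.conj_apply]
      rw [Finset.sum_mul, Finset.mul_sum]
      refine Finset.sum_congr rfl fun χ _ => ?_
      rw [conj_char, e1, Subgroup.coe_inv, inv_inv]
      ring
    rw [Finset.sum_congr rfl fun z _ => h1 z, ← Finset.mul_sum,
      Fintype.sum_equiv (Equiv.inv ↥(P : Subgroup G))
        (fun z : ↥(P : Subgroup G) =>
          (∑ χ ∈ Bf, (χ : G → ℂ) y * conj ((χ : G → ℂ) ((z⁻¹ : ↥(P : Subgroup G)) : G))) * Δ q z⁻¹)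
        (fun z : ↥(P : Subgroup G) =>
          (∑ χ ∈ Bf, (χ : G → ℂ) y * conj ((χ : G → ℂ) (z : G))) * Δ q z) (fun z => rfl),
      hcolsum y hy, inv_mul_cancel_left₀ hN]
    simp only [hΔ, hO, orbSum, Finset.sum_sub_distrib]
  have hDreal : ∀ q χ, conj (D q χ : ℂ) = (D q χ : ℂ) := fun q χ => map_intCast _ _
  have hτone : ∀ q, τ q 1 = 0 := by
    intro q
    rw [hτapply, Finset.sum_congr rfl fun χ hχ => by rw [hDB q χ ((hmemBf χ).1 hχ)]]
    simp only [Finset.mul_sum]
    rw [Finset.sum_comm]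
    refine Finset.sum_eq_zero fun z _ => ?_
    by_cases hz : z = 1
    · subst hz; simp [hΔ]
    · have h := principal_column_regular (M := M) hM (pElement_of_mem_sylow P z.2)
        (fun e => hz (Subtype.ext e)) (g := (1 : G)) (by simp [(Fact.out : p.Prime).ne_one])
      rw [finsum_mem_eq_finite_toFinset_sum _ (Set.toFinite _)] at h
      have hs : (Set.toFinite B).toFinset = Bf := by ext; simp [hBf]
      rw [hs] at h
      calc _ = N⁻¹ * conj (Δ q z) * ∑ χ ∈ Bf, (χ : G → ℂ) z * (χ : G → ℂ) 1 := by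
            rw [Finset.mul_sum]
            exact Finset.sum_congr rfl fun χ _ => by ring
        _ = 0 := by rw [h, mul_zero]
  have hgram : ∀ i j, Cfsg.classInner (τ i) (τ j) =
      (if i = j then (1 : ℂ) else 0) - (if q₀ = j then 1 else 0) -
        ((if i = q₀ then (1 : ℂ) else 0) - 1) := by
    intro i j
    have h1 : Cfsg.classInner (τ i) (τ j) = ∑ χ ∈ Bf, conj (D i χ : ℂ) * (D j χ : ℂ) := by
      rw [hτ, CfsgLib.Char.classInner_sum_smul_sum_smul, hBf, Finset.sum_filter]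
      refine Finset.sum_congr rfl fun χ _ => ?_
      rw [hDreal, hDreal]
      by_cases h : χ ∈ B
      · rw [if_pos h]
      · rw [if_neg h]; simp [hD, if_neg h]
    have h2 : ∑ χ ∈ Bf, conj (D i χ : ℂ) * (D j χ : ℂ) =
        N⁻¹ * ∑ y : (P : Subgroup G), conj (Δ i y) * (O j y - O q₀ y) := by
      have e : ∀ χ ∈ Bf, conj (D i χ : ℂ) * (D j χ : ℂ) =
          N⁻¹ * ∑ y : (P : Subgroup G), conj (Δ i y) * ((χ : G → ℂ) y * (D j χ : ℂ)) := by
        intro χ hχ
        rw [hDreal, hDB i χ ((hmemBf χ).1 hχ), mul_assoc, Finset.sum_mul]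
        congr 1
        exact Finset.sum_congr rfl fun y _ => by ring
      rw [Finset.sum_congr rfl e, ← Finset.mul_sum, Finset.sum_comm]
      congr 1
      refine Finset.sum_congr rfl fun y _ => ?_
      rw [← Finset.mul_sum, ← hτapply]
      by_cases hy : y = 1
      · subst hy; simp [hΔ]
      · rw [hτy j y hy]
    rw [h1, h2]
    simp only [hΔ, hO, map_sub, sub_mul, mul_sub, Finset.sum_sub_distrib,
      sum_conj_mul_orbSum (autGroup P) hT, ← hNdef, mul_ite, mul_zero, inv_mul_cancel₀ hN, if_true]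
  have hgen : ∀ q, Cfsg.IsGeneralizedCharacter G (τ q) := fun q =>
    CfsgLib.Char.IsGeneralizedCharacter.sum _ _ fun χ _ =>
      CfsgLib.Char.IsGeneralizedCharacter.intCast_smul
        (CfsgLib.Char.IsIrrCharacter.isGeneralizedCharacter χ.2) _
  have hτ0 : τ q₀ = 0 := by
    refine Finset.sum_eq_zero fun χ _ => ?_
    simp [hD]
  obtain ⟨εc, hεc, μ', hμirr, hμinj, hμτ⟩ := CfsgLib.CharExc.exists_base q₀ τ hτ0 hgen hτone
    (fun i hi => by rw [hgram, if_pos rfl, if_neg (Ne.symm hi), if_neg hi]; norm_num)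
    (fun i j hi hj hij => by rw [hgram, if_neg hij, if_neg (Ne.symm hj), if_neg hi]; norm_num)
  obtain ⟨ε, hε, rfl⟩ : ∃ ε : ℤ, (ε = 1 ∨ ε = -1) ∧ εc = (ε : ℂ) := by
    rcases hεc with rfl | rfl
    · exact ⟨1, Or.inl rfl, by simp⟩
    · exact ⟨-1, Or.inr rfl, by simp⟩
  set μ : Orb (autGroup P) → Cfsg.IrrCharacter G := fun q => ⟨μ' q, hμirr q⟩ with hμ
  have hinj : Function.Injective μ := fun q q' h => hμinj (congrArg Subtype.val h)
  have hεz : ε * ε = 1 := by rcases hε with rfl | rfl <;> norm_num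
  have hεC : (ε : ℂ) * ε = 1 := by exact_mod_cast hεz
  have hDmu : ∀ q χ, D q χ = ε * ((if μ q = χ then 1 else 0) - (if μ q₀ = χ then 1 else 0)) := by
    intro q χ
    have h := CfsgLib.Char.classInner_sum_smul_irr (fun ξ => (D q ξ : ℂ)) χ
    rw [show (∑ ξ, (D q ξ : ℂ) • (ξ : G → ℂ)) = τ q from rfl, hμτ q,
      CfsgLib.Char.classInner_smul_left, CfsgLib.Char.classInner_sub_left,
      show μ' q = (μ q : G → ℂ) from rfl, show μ' q₀ = (μ q₀ : G → ℂ) from rfl,
      CfsgLib.Char.classInner_irrCharacter, CfsgLib.Char.classInner_irrCharacter] at h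
    have : (D q χ : ℂ) = ((ε * ((if μ q = χ then 1 else 0) - (if μ q₀ = χ then 1 else 0)) : ℤ) : ℂ) := by
      rw [← h]
      push_cast
      rfl
    exact_mod_cast this
  have hmem : ∀ q, μ q ∈ B := by
    have h0 : ∀ q, q ≠ q₀ → μ q ∈ B ∧ μ q₀ ∈ B := by
      intro q hq
      have hne : μ q₀ ≠ μ q := fun h => hq (hinj h).symm
      constructor
      · by_contra hc'
        have := hDmu q (μ q)
        simp only [hD, if_neg hc', if_true, if_neg hne] at this
        rcases hε with rfl | rfl <;> norm_num at this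
      · by_contra hc'
        have := hDmu q (μ q₀)
        simp only [hD, if_neg hc', if_true, if_neg hne.symm] at this
        rcases hε with rfl | rfl <;> norm_num at this
    intro q
    by_cases hq : q = q₀
    · obtain ⟨q', hq'⟩ := exists_ne q₀
      exact hq ▸ (h0 q' hq').2
    · exact (h0 q hq).1
  set b : Cfsg.IrrCharacter G → ℤ :=
    fun χ => c χ (rep (autGroup P) q₀) - ε * (if μ q₀ = χ then 1 else 0) with hb
  have hcq : ∀ q χ, χ ∈ B → c χ (rep (autGroup P) q) = b χ + ε * (if μ q = χ then 1 else 0) := by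
    intro q χ hχ
    have h := hDmu q χ
    simp only [hD, if_pos hχ] at h
    simp only [hb]
    linear_combination h
  set a : Cfsg.IrrCharacter G → ℤ := fun χ => c χ 1 - b χ with ha
  have hval : ∀ χ ∈ B, ∀ y : (P : Subgroup G), y ≠ 1 →
      (χ : G → ℂ) y = (a χ : ℂ) + (ε : ℂ) * ∑ q, (if μ q = χ then O q y else 0) := by
    intro χ hχ y hy
    have h := sum_orb_act (autGroup P) hT fun ψ => (c χ ψ : ℂ) * (ψ y : ℂ)
    simp only [hcorb, ← Finset.mul_sum] at h
    have h2 : ∑ q, (c χ (rep (autGroup P) q) : ℂ) * O q y = (χ : G → ℂ) y - (c χ 1 : ℂ) := by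
      rw [hfourier χ y]
      have e : ∀ q, ∑ a : (autGroup P), (act (rep (autGroup P) q) (a : MulAut (P : Subgroup G)) y : ℂ) = O q y :=
        fun q => rfl
      simpa only [e, MonoidHom.one_apply, Units.val_one, mul_one] using h
    have h3 : ∑ q, O q y = -1 := by
      rw [sum_orbSum (autGroup P) hT y, if_neg hy]; ring
    simp only [hcq _ χ hχ, Int.cast_add, Int.cast_mul, add_mul, Finset.sum_add_distrib] at h2
    rw [← Finset.mul_sum, h3] at h2
    have e2 : ∀ q, (ε : ℂ) * (((if μ q = χ then (1 : ℤ) else 0) : ℤ) : ℂ) * O q y =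
        (ε : ℂ) * (if μ q = χ then O q y else 0) := fun q => by split_ifs <;> simp
    rw [Finset.sum_congr rfl fun q _ => e2 q, ← Finset.mul_sum] at h2
    simp only [ha, Int.cast_sub]
    linear_combination -h2
  have hvalμ : ∀ q, ∀ y : (P : Subgroup G), y ≠ 1 →
      (μ q : G → ℂ) y = (a (μ q) : ℂ) + (ε : ℂ) * O q y := by
    intro q y hy
    rw [hval _ (hmem q) y hy]
    simp only [hinj.eq_iff, Finset.sum_ite_eq', Finset.mem_univ, if_true]
  have hvalX : ∀ χ ∈ B \ Set.range μ, ∀ y : (P : Subgroup G), y ≠ 1 → (χ : G → ℂ) y = (a χ : ℂ) := by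
    intro χ hχ y hy
    rw [hval χ hχ.1 y hy, Finset.sum_eq_zero fun q _ => if_neg fun h => hχ.2 ⟨q, h⟩, mul_zero,
      add_zero]
  set d := a (μ q₀) with hd
  have hdq : ∀ q, a (μ q) = d := by
    intro q
    have h := congrFun (hμτ q) (y₁ : G)
    rw [hτy q y₁ hy₁, Pi.smul_apply, Pi.sub_apply, smul_eq_mul,
      show μ' q = (μ q : G → ℂ) from rfl, show μ' q₀ = (μ q₀ : G → ℂ) from rfl,
      hvalμ q y₁ hy₁, hvalμ q₀ y₁ hy₁] at h
    have : (a (μ q) : ℂ) = (d : ℂ) := by
      rw [hd]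
      linear_combination -(ε : ℂ) * h -
        ((a (μ q) : ℂ) - a (μ q₀) + ε * (O q y₁ - O q₀ y₁)) * hεC
    exact_mod_cast this
  have hexc : ∀ q, ∀ y : (P : Subgroup G), y ≠ 1 →
      (μ q : G → ℂ) y = (d : ℂ) + (ε : ℂ) * O q y := fun q y hy => by
    rw [hvalμ q y hy, hdq]
  have hnep : ∀ q, μ q ≠ CfsgLib.Char.principalIrr := by
    intro q hq
    have h1 : ∀ y : (P : Subgroup G), y ≠ 1 → O q y = ((ε * (1 - d) : ℤ) : ℂ) := by
      intro y hy
      have h := hexc q y hy
      rw [hq, CfsgLib.Char.principalIrr_apply] at h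
      push_cast
      linear_combination -(ε : ℂ) * h - O q y * hεC
    have h2 : ∑ y : (P : Subgroup G), O q y = 0 := by
      simp only [hO, orbSum]
      rw [Finset.sum_comm]
      refine Finset.sum_eq_zero fun a _ => ?_
      exact (sum_elem (act (rep (autGroup P) q) (a : MulAut (P : Subgroup G)))).trans
        (if_neg (act_ne_one (rep_ne_one (autGroup P) q) _))
    rw [← Finset.add_sum_erase _ _ (Finset.mem_univ (1 : (P : Subgroup G))),
      Finset.sum_congr rfl fun y hy => h1 y (Finset.mem_erase.1 hy).1,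
      show O q 1 = (Nat.card (autGroup P) : ℂ) from orbSum_apply_one (autGroup P) _,
      Finset.sum_const, Finset.card_erase_of_mem (Finset.mem_univ _), Finset.card_univ,
      ← Nat.card_eq_fintype_card, nsmul_eq_mul, Nat.cast_sub (by omega), Nat.cast_one] at h2
    have h3 : (Nat.card (autGroup P) : ℤ) + ((Nat.card (P : Subgroup G) : ℤ) - 1) * (ε * (1 - d)) = 0 := by
      exact_mod_cast h2
    have hm0 : 0 < Nat.card (autGroup P) := Nat.card_pos
    rcases le_or_gt 0 (ε * (1 - d)) with hk | hk <;> nlinarith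
  have hane : ∀ χ ∈ B \ Set.range μ, a χ ≠ 0 := by
    intro χ hχ h0
    have hpr : χ = CfsgLib.Char.principalIrr := by
      refine eq_principal_of_vanishing hM hχ.1 fun z hz => ?_
      obtain ⟨g, y, hy, hy1, hpp⟩ := exists_conj_pPart_mem P hz
      rw [← CfsgLib.Char.IsIrrCharacter.isClassFunction χ.2 z g,
        apply_of_isPPart P hfix hM hχ.1 hpp hy hy1,
        hvalX χ hχ ⟨y, hy⟩ (fun e => hy1 (congrArg Subtype.val e)), h0, Int.cast_zero]
    have := hvalX χ hχ y₁ hy₁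
    rw [h0, hpr, CfsgLib.Char.principalIrr_apply] at this
    simp at this
  have hap : a CfsgLib.Char.principalIrr = 1 := by
    have := hvalX _ ⟨principal_mem hM, fun ⟨q, hq⟩ => hnep q hq⟩ y₁ hy₁
    rw [CfsgLib.Char.principalIrr_apply] at this
    exact_mod_cast this.symm
  -- splitting the block
  set Xf : Finset (Cfsg.IrrCharacter G) := Bf.filter (fun χ => χ ∉ Set.range μ) with hXf
  have hXset : (Set.toFinite (B \ Set.range μ)).toFinset = Xf := by ext; simp [hXf, hBf]
  have hsplit : ∀ f : Cfsg.IrrCharacter G → ℂ,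
      ∑ χ ∈ Bf, f χ = ∑ χ ∈ Xf, f χ + ∑ q, f (μ q) := by
    intro f
    have hU : Bf = Xf ∪ Finset.univ.image μ := by
      ext χ
      simp only [hXf, hBf, Finset.mem_union, Finset.mem_filter, Finset.mem_univ, true_and,
        Finset.mem_image, Set.mem_range]
      refine ⟨fun h => ?_, ?_⟩
      · by_cases h2 : ∃ q, μ q = χ
        · exact Or.inr h2
        · exact Or.inl ⟨h, h2⟩
      · rintro (h | ⟨q, rfl⟩)
        · exact h.1
        · exact hmem q
    conv_lhs => rw [hU]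
    rw [Finset.sum_union, Finset.sum_image fun q _ q' _ h => hinj h]
    rw [Finset.disjoint_left]
    intro χ h1 h2
    obtain ⟨q, -, rfl⟩ := Finset.mem_image.1 h2
    exact (Finset.mem_filter.1 h1).2 ⟨q, rfl⟩
  have hXmem : ∀ χ ∈ Xf, χ ∈ B \ Set.range μ := fun χ h => by
    rw [← hXset] at h; exact (Set.Finite.mem_toFinset _).1 h
  have hsumO : ∀ y : (P : Subgroup G), y ≠ 1 → ∑ q, O q y = -1 := fun y hy => by
    rw [sum_orbSum (autGroup P) hT y, if_neg hy]; ring
  have hnormC : (((d - ε) ^ 2 + ((Nat.card (Orb (autGroup P)) : ℤ) - 1) * d ^ 2 + ∑ χ ∈ Xf, a χ ^ 2 : ℤ) : ℂ)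
      = (((Nat.card (autGroup P) : ℤ) + 1 : ℤ) : ℂ) := by
    have h := principal_column_inner P hfix hM y₁.2 (fun e => hy₁ (Subtype.ext e)) y₁.2
    rw [if_pos (IsConj.refl _), ← hB, ← hBf, hsplit] at h
    have eX : ∑ χ ∈ Xf, (χ : G → ℂ) y₁ * conj ((χ : G → ℂ) y₁) = ∑ χ ∈ Xf, (a χ : ℂ) * (a χ : ℂ) :=
      Finset.sum_congr rfl fun χ hχ => by rw [hvalX χ (hXmem χ hχ) y₁ hy₁, map_intCast]
    have eM : ∑ q, (μ q : G → ℂ) y₁ * conj ((μ q : G → ℂ) y₁) =
        ∑ q, ((d : ℂ) + ε * O q y₁) * conj ((d : ℂ) + ε * O q y₁) :=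
      Finset.sum_congr rfl fun q _ => by rw [hexc q y₁ hy₁]
    rw [eX, eM] at h
    have e : ∀ q, ((d : ℂ) + ε * O q y₁) * conj ((d : ℂ) + ε * O q y₁) =
        (d : ℂ) * d + ((d : ℂ) * ε * O q y₁ + ((d : ℂ) * ε * O q y₁⁻¹ +
          O q y₁ * conj (O q y₁))) := fun q => by
      simp only [map_add, map_mul, map_intCast, hO, conj_orbSum]
      linear_combination (orbSum (autGroup P) (rep (autGroup P) q) y₁ * orbSum (autGroup P) (rep (autGroup P) q) y₁⁻¹) * hεC
    rw [Finset.sum_congr rfl fun q _ => e q, Finset.sum_add_distrib, Finset.sum_add_distrib,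
      Finset.sum_add_distrib, Finset.sum_const, ← Finset.mul_sum, ← Finset.mul_sum, hsumO y₁ hy₁,
      hsumO y₁⁻¹ (inv_ne_one.2 hy₁), sum_orbSum_mul_conj (autGroup P) hT hy₁,
      Finset.card_univ, nsmul_eq_mul, ← Nat.card_eq_fintype_card] at h
    push_cast
    have e2 : ∑ χ ∈ Xf, (a χ : ℂ) ^ 2 = ∑ χ ∈ Xf, (a χ : ℂ) * (a χ : ℂ) :=
      Finset.sum_congr rfl fun χ _ => sq _
    rw [e2]
    linear_combination h + hεC
  have hnorm : (d - ε) ^ 2 + ((Nat.card (Orb (autGroup P)) : ℤ) - 1) * d ^ 2 + ∑ χ ∈ Xf, a χ ^ 2 =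
      (Nat.card (autGroup P) : ℤ) + 1 := Int.cast_inj.1 hnormC
  refine ⟨{
    ε := ε, hε := hε, μ := μ, μ_injective := hinj, μ_mem := hmem, μ_ne_principal := hnep
    a := a, d := d, apply_nonexc := fun χ hχ => ⟨hane χ hχ, hvalX χ hχ⟩
    apply_exc := hexc, a_principal := hap, norm_eq := ?_, card_le := ?_, regular_eq := ?_
    relation := ?_ }⟩
  · rw [finsum_mem_eq_finite_toFinset_sum _ (Set.toFinite _), hXset]
    exact hnorm
  · rw [Nat.card_eq_card_finite_toFinset (Set.toFinite (B \ Set.range μ)), hXset]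
    have h1 : (Xf.card : ℤ) ≤ ∑ χ ∈ Xf, a χ ^ 2 := by
      have := Finset.card_nsmul_le_sum Xf (fun χ => a χ ^ 2) 1 fun χ hχ => by
        have := hane χ (hXmem χ hχ)
        rcases lt_or_gt_of_ne this with h | h <;> nlinarith
      simpa using this
    have h2 : 1 ≤ (d - ε) ^ 2 + ((Nat.card (Orb (autGroup P)) : ℤ) - 1) * d ^ 2 := by
      have hr' : (2 : ℤ) ≤ Nat.card (Orb (autGroup P)) := by exact_mod_cast hr
      by_cases hd0 : d = 0
      · rw [hd0]; nlinarith
      · have : 1 ≤ d ^ 2 := by rcases lt_or_gt_of_ne hd0 with h | h <;> nlinarith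
        nlinarith [sq_nonneg (d - ε)]
    omega
  · have h1 : ∀ q, ∀ g : G, ¬ p ∣ orderOf g → (μ q : G → ℂ) g = (μ q₀ : G → ℂ) g := by
      intro q g hg
      have h0 : τ q g = 0 := by
        rw [hτapply, Finset.sum_congr rfl fun χ hχ => by rw [hDB q χ ((hmemBf χ).1 hχ)]]
        simp only [Finset.mul_sum]
        rw [Finset.sum_comm]
        refine Finset.sum_eq_zero fun z _ => ?_
        by_cases hz : z = 1
        · subst hz; simp [hΔ]
        · have h := principal_column_regular (M := M) hM (pElement_of_mem_sylow P z.2)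
            (fun e => hz (Subtype.ext e)) hg
          rw [finsum_mem_eq_finite_toFinset_sum _ (Set.toFinite _)] at h
          have hs : (Set.toFinite B).toFinset = Bf := by ext; simp [hBf]
          rw [hs] at h
          calc _ = N⁻¹ * conj (Δ q z) * ∑ χ ∈ Bf, (χ : G → ℂ) z * (χ : G → ℂ) g := by
                rw [Finset.mul_sum]
                exact Finset.sum_congr rfl fun χ _ => by ring
            _ = 0 := by rw [h, mul_zero]
      rw [hμτ q, Pi.smul_apply, Pi.sub_apply, smul_eq_mul, mul_eq_zero] at h0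
      exact sub_eq_zero.1 (h0.resolve_left (by rcases hε with rfl | rfl <;> norm_num))
    exact fun q q' g hg => (h1 q g hg).trans (h1 q' g hg).symm
  · intro q g hg
    have h1 : ∀ q', (μ q' : G → ℂ) g = (μ q : G → ℂ) g := by
      intro q'
      have hτg : ∀ i, τ i g = 0 := by
        intro i
        rw [hτapply, Finset.sum_congr rfl fun χ hχ => by rw [hDB i χ ((hmemBf χ).1 hχ)]]
        simp only [Finset.mul_sum]
        rw [Finset.sum_comm]
        refine Finset.sum_eq_zero fun z _ => ?_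
        by_cases hz : z = 1
        · subst hz; simp [hΔ]
        · have h := principal_column_regular (M := M) hM (pElement_of_mem_sylow P z.2)
            (fun e => hz (Subtype.ext e)) hg
          rw [finsum_mem_eq_finite_toFinset_sum _ (Set.toFinite _)] at h
          have hs : (Set.toFinite B).toFinset = Bf := by ext; simp [hBf]
          rw [hs] at h
          calc _ = N⁻¹ * conj (Δ i z) * ∑ χ ∈ Bf, (χ : G → ℂ) z * (χ : G → ℂ) g := by
                rw [Finset.mul_sum]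
                exact Finset.sum_congr rfl fun χ _ => by ring
            _ = 0 := by rw [h, mul_zero]
      have hz : ∀ i, (μ i : G → ℂ) g = (μ q₀ : G → ℂ) g := by
        intro i
        have h0 := hτg i
        rw [hμτ i, Pi.smul_apply, Pi.sub_apply, smul_eq_mul, mul_eq_zero] at h0
        exact sub_eq_zero.1 (h0.resolve_left (by rcases hε with rfl | rfl <;> norm_num))
      exact (hz q').trans (hz q).symm
    have h := principal_column_regular (M := M) hM (pElement_of_mem_sylow P y₁.2)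
      (fun e => hy₁ (Subtype.ext e)) hg
    rw [finsum_mem_eq_finite_toFinset_sum _ (Set.toFinite _)] at h
    have hs : (Set.toFinite B).toFinset = Bf := by ext; simp [hBf]
    rw [hs, hsplit] at h
    have eX : ∑ χ ∈ Xf, (χ : G → ℂ) y₁ * (χ : G → ℂ) g = ∑ χ ∈ Xf, (a χ : ℂ) * (χ : G → ℂ) g :=
      Finset.sum_congr rfl fun χ hχ => by rw [hvalX χ (hXmem χ hχ) y₁ hy₁]
    have eM : ∑ i, (μ i : G → ℂ) y₁ * (μ i : G → ℂ) g =
        ∑ i, ((d : ℂ) + ε * O i y₁) * (μ q : G → ℂ) g :=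
      Finset.sum_congr rfl fun i _ => by rw [hexc i y₁ hy₁, h1 i]
    rw [eX, eM] at h
    rw [← Finset.sum_mul, Finset.sum_add_distrib, ← Finset.mul_sum, hsumO y₁ hy₁, Finset.sum_const,
      Finset.card_univ, nsmul_eq_mul, ← Nat.card_eq_fintype_card] at h
    rw [finsum_mem_eq_finite_toFinset_sum _ (Set.toFinite _), hXset]
    linear_combination h

end CfsgLib.Blk83
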