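import Cfsg.Agent.Lib.Blk83.FrobeniusLocal
import Cfsg.Agent.Lib.Blk83.PairCount

/-!
The column of squares of the values at an involution generating normally, and its deficits.
-/

set_option autoImplicit false
open Cfsg
open scoped ComplexConjugate

namespace CfsgLib.Blk83

universe u

variable {G : Type u} [Group G] [Finite G] {p : ℕ} [Fact p.Prime] {M : Ideal Cfsg.AlgInt}

/-- The value of a non-principal character at an involution outside all proper normal subgroups
is its degree less a positive integer. -/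
theorem exists_deficit {t : G} (ht : orderOf t = 2)
    (hgen : ∀ K : Subgroup G, K.Normal → t ∈ K → K = ⊤) (χ : Cfsg.IrrCharacter G)
    (hne : χ ≠ CfsgLib.Char.principalIrr) :
    ∃ u : ℤ, 0 < u ∧ (χ : G → ℂ) t = (Cfsg.charDegree (χ : G → ℂ) : ℂ) - (u : ℂ) := by
  classical
  haveI := Fintype.ofFinite G
  obtain ⟨f, n, ρ, hirr, rfl⟩ := χ
  haveI := hirr
  obtain ⟨μ, hμ, hn, -, hpow⟩ := CfsgLib.Char.exists_eigenvalues ρ t
  have h1 := hpow 1
  simp only [pow_one] at h1
  have hdeg : ρ.character 1 = (n : ℂ) := by rw [ρ.char_one, Module.finrank_fin_fun]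
  have hd : (Cfsg.charDegree ρ.character : ℂ) = (n : ℂ) := by
    rw [Cfsg.charDegree, hdeg]; simp
  have hcases : ∀ i, μ i = 1 ∨ μ i = -1 := fun i => by
    have h := hμ i
    rw [ht] at h
    exact sq_eq_one_iff.1 h
  set S := Finset.univ.filter fun i => μ i ≠ 1 with hS
  have hsum : ρ.character t = (n : ℂ) - 2 * (S.card : ℂ) := by
    rw [h1, Finset.sum_congr rfl (g := fun i => (1 : ℂ) - if μ i ≠ 1 then 2 else 0) (fun i _ => by
      rcases hcases i with h | h <;> rw [h] <;> norm_num),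
      Finset.sum_sub_distrib, ← Finset.sum_filter, Finset.sum_const, Finset.sum_const,
      Finset.card_univ, Fintype.card_fin]
    have hf : ((Module.finrank ℂ (Fin n → ℂ) : ℕ) : ℂ) = n := by simp
    simp [hS, mul_comm, hf]
  refine ⟨2 * (S.card : ℤ), ?_, ?_⟩
  swap
  · show ρ.character t = _
    rw [hd, hsum]; push_cast; ring
  by_contra hc
  have hS0 : S.card = 0 := by omega
  rw [hS0, Nat.cast_zero, mul_zero, sub_zero] at hsum
  have hker : ρ t = LinearMap.id := (CfsgLib.Char.character_eq_degree_iff ρ t).1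
    (by rw [hsum, Module.finrank_fin_fun])
  have htop : MonoidHom.ker ρ = ⊤ := hgen _ inferInstance hker
  have hconst : ∀ g : G, ρ.character g = (n : ℂ) := fun g => by
    have hg : ρ g = 1 := by
      have : g ∈ MonoidHom.ker ρ := htop ▸ Subgroup.mem_top g
      exact this
    rw [← hdeg]
    simp only [Representation.character, hg, map_one]
  refine hne (Subtype.ext (CfsgLib.Char.eq_of_classInner_ne_zero ⟨n, ρ, hirr, rfl⟩
    (CfsgLib.Char.principalIrr : Cfsg.IrrCharacter G).2 ?_))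
  have hn0 : (n : ℂ) ≠ 0 := by
    have := CfsgLib.Char.finrank_pos_of_isIrreducible ρ
    rw [Module.finrank_fin_fun] at this
    exact_mod_cast this.ne'
  show Cfsg.classInner ρ.character _ ≠ 0
  have hpr : (CfsgLib.Char.principalIrr : Cfsg.IrrCharacter G).1 = fun _ => (1 : ℂ) := rfl
  rw [Cfsg.classInner, hpr]
  simp only [hconst, map_one, mul_one, Finset.sum_const, Finset.card_univ, nsmul_eq_mul]
  rw [← Nat.card_eq_fintype_card, inv_mul_cancel_left₀ (Nat.cast_ne_zero.2 Nat.card_pos.ne')]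
  exact hn0

/-- If no element of the `p`-section of `y` is inverse to a product of two conjugates of `t`, the
principal block column at `y` is orthogonal to the column of squares at `t`. -/
theorem sum_sq_column_eq_zero (hM : Cfsg.IsPModular p M) {y : G}
    (hy : ∃ k : ℕ, orderOf y = p ^ k) (t : G)
    (hno : ∀ a c : G, c ∈ Subgroup.centralizer ({y} : Set G) → ¬ p ∣ orderOf c →
      ¬ IsConj (a * t * a⁻¹ * t) (y * c)⁻¹) :
    ∑ᶠ χ ∈ Cfsg.principalBlock M G,
      (χ : G → ℂ) y * ((χ : G → ℂ) t * (χ : G → ℂ) t / (χ : G → ℂ) 1) = 0 := by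
  classical
  haveI := Fintype.ofFinite G
  refine principal_column_eq_zero hM hy _ fun c hc hreg => ?_
  have hG : (Fintype.card G : ℂ) ≠ 0 := Nat.cast_ne_zero.2 Fintype.card_ne_zero
  have h : ∀ χ : Cfsg.IrrCharacter G, (χ : G → ℂ) (y * c) *
      ((χ : G → ℂ) t * (χ : G → ℂ) t / (χ : G → ℂ) 1) =
      (Fintype.card G : ℂ)⁻¹ * ∑ a : G, (χ : G → ℂ) (a * t * a⁻¹ * t) *
        conj ((χ : G → ℂ) (y * c)⁻¹) := by
    intro χ
    have hχ1 : (χ : G → ℂ) 1 ≠ 0 := CfsgLib.Char.IsIrrCharacter.apply_one_ne_zero χ.2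
    rw [← Finset.sum_mul, conj_char, inv_inv]
    have := sum_conj_mul χ t t
    field_simp
    linear_combination -((χ : G → ℂ) (y * c)) * this
  rw [Finset.sum_congr rfl fun χ _ => h χ, ← Finset.mul_sum, Finset.sum_comm,
    Finset.sum_eq_zero fun a _ => by rw [CfsgLib.Char.sum_mul_conj, if_neg (hno a c hc hreg)],
    mul_zero]

section Local

variable (P : Sylow p G) [IsMulCommutative (P : Subgroup G)]

/-- An element inverse to a product of two conjugates of an involution is inverted by one of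
them. -/
theorem exists_inverter {y c t a : G} (hy : ∃ k : ℕ, orderOf y = p ^ k)
    (hc : c ∈ Subgroup.centralizer ({y} : Set G)) (hreg : ¬ p ∣ orderOf c) (ht : t * t = 1)
    (h : IsConj (a * t * a⁻¹ * t) (y * c)⁻¹) :
    ∃ u v : G, IsConj t u ∧ IsConj t v ∧ u * v = (y * c)⁻¹ ∧ v * y * v⁻¹ = y⁻¹ := by
  obtain ⟨g, hg⟩ := isConj_iff.1 h
  have hcy : Commute y c := (Subgroup.mem_centralizer_singleton_iff.1 hc).symm
  refine ⟨g * (a * t * a⁻¹) * g⁻¹, g * t * g⁻¹, isConj_iff.2 ⟨g * a, by group⟩,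
    isConj_iff.2 ⟨g, rfl⟩, by rw [← hg]; group, ?_⟩
  set v := g * t * g⁻¹ with hv
  set u := g * (a * t * a⁻¹) * g⁻¹ with hu
  have hti : t⁻¹ = t := inv_eq_of_mul_eq_one_right ht
  have hui : u⁻¹ = u := by rw [hu]; simp only [mul_inv_rev, inv_inv, hti]; group
  have hvi : v⁻¹ = v := by rw [hv]; simp only [mul_inv_rev, inv_inv, hti]; group
  have huv : u * v = (y * c)⁻¹ := by rw [← hg, hu, hv]; group
  have hvu : y * c = v * u := by rw [← inv_inv (y * c), ← huv, mul_inv_rev, hui, hvi]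
  have hvv : v * v = 1 := (congrArg (· * v) hvi).symm.trans (inv_mul_cancel v)
  have h1 : v * (y * c) * v⁻¹ = (y * c)⁻¹ := by
    calc v * (y * c) * v⁻¹ = v * (v * u) * v := by rw [hvu, hvi]
      _ = (v * v) * (u * v) := by simp only [mul_assoc]
      _ = (y * c)⁻¹ := by rw [hvv, one_mul, huv]
  obtain ⟨k, hk⟩ := hy
  have hp1 : Cfsg.IsPPart p (v * (y * c) * v⁻¹) (v * y * v⁻¹) := by
    refine ⟨v * c * v⁻¹, by group, ?_, ⟨k, by rw [← hk]; exact MulEquiv.orderOf_eq (MulAut.conj v) y⟩,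
      fun hd => hreg (by rwa [← MulEquiv.orderOf_eq (MulAut.conj v) c])⟩
    exact hcy.map (MulAut.conj v).toMonoidHom
  have hp2 : Cfsg.IsPPart p (y * c)⁻¹ y⁻¹ :=
    ⟨c⁻¹, by rw [hcy.eq, mul_inv_rev], hcy.inv_inv, ⟨k, by rw [orderOf_inv, hk]⟩,
      by rwa [orderOf_inv]⟩
  exact CfsgLib.Blocks.IsPPart.unique (Fact.out : p.Prime) (h1 ▸ hp1) hp2

omit [IsMulCommutative (P : Subgroup G)] in
/-- Modulo the normal complement in `C(y)` every element is congruent to a member of `P` conjugate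
to it, when it is a `p`-element. -/
theorem exists_mem_sylow_congr {y : G} (hle : (P : Subgroup G) ≤ Subgroup.centralizer ({y} : Set G))
    (K : Subgroup ↥(Subgroup.centralizer ({y} : Set G))) [K.Normal]
    (hcomm : ∀ a b : ↥(Subgroup.centralizer ({y} : Set G)) ⧸ K, a * b = b * a)
    (u : ↥(Subgroup.centralizer ({y} : Set G))) (hu : ∃ k : ℕ, orderOf (u : G) = p ^ k) :
    ∃ w : ↥(P : Subgroup G), IsConj (u : G) w ∧
      QuotientGroup.mk' K ⟨(w : G), hle w.2⟩ = QuotientGroup.mk' K u := by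
  obtain ⟨k, hk⟩ := hu
  have hp : IsPGroup p (Subgroup.zpowers u) := by
    refine IsPGroup.of_card (n := k) ?_
    rw [Nat.card_zpowers, ← Subgroup.orderOf_coe, hk]
  obtain ⟨Q, hQ⟩ := hp.exists_le_sylow
  obtain ⟨g, hgQ⟩ := MulAction.exists_smul_eq ↥(Subgroup.centralizer ({y} : Set G)) Q (P.subtype hle)
  have hmem : g * u * g⁻¹ ∈ ((g • Q : Sylow p _) : Subgroup _) :=
    ⟨u, hQ (Subgroup.mem_zpowers u), rfl⟩
  rw [hgQ] at hmem
  refine ⟨⟨((g * u * g⁻¹ : ↥(Subgroup.centralizer ({y} : Set G))) : G), hmem⟩,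
    isConj_iff.2 ⟨(g : G), by simp⟩, ?_⟩
  show QuotientGroup.mk' K (g * u * g⁻¹) = _
  rw [map_mul, map_mul, map_inv, hcomm (QuotientGroup.mk' K g), mul_inv_cancel_right]

end Local

end CfsgLib.Blk83
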