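/-
The principal block: invariance under isomorphisms, and the Brauer pairs formed by principal blocks of
centralizers of `p`-subgroups.
-/
import Cfsg.Prelude.Def_BrauerPairs
import Cfsg.Agent.Lib.BlockReg.Regular
import Cfsg.Agent.Lib.Char.Linear
import Cfsg.Agent.Lib.Char.Twist
import Mathlib.GroupTheory.PGroup
import Mathlib.GroupTheory.Nilpotent
import Mathlib.Algebra.Group.Subgroup.Pointwise

set_option autoImplicit false
open Cfsg
open scoped ComplexConjugate

namespace CfsgLib.Blk83

open CfsgLib.BlockReg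

theorem principalBlock_eq {M : Ideal Cfsg.AlgInt} {G : Type*} [Group G] :
    Cfsg.principalBlock M G = Cfsg.blockOf M ((CfsgLib.Char.principalIrr : Cfsg.IrrCharacter G) : G → ℂ) :=
  rfl

theorem principalBlock_isPBlock {M : Ideal Cfsg.AlgInt} {G : Type*} [Group G] :
    Cfsg.IsPBlock M (Cfsg.principalBlock M G) :=
  ⟨CfsgLib.Char.principalIrr, rfl⟩

theorem principal_mem {p : ℕ} {M : Ideal Cfsg.AlgInt} (hM : Cfsg.IsPModular p M) {G : Type*} [Group G]
    [Finite G] : (CfsgLib.Char.principalIrr : Cfsg.IrrCharacter G) ∈ Cfsg.principalBlock M G :=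
  sameBlock_refl hM _

section Transport

variable {H K : Type*} [Group H] [Group K]

theorem centralChar_comp (e : H ≃* K) (χ : K → ℂ) (h : H) :
    Cfsg.centralChar (χ ∘ e) h = Cfsg.centralChar χ (e h) := by
  have hidx : (Subgroup.centralizer ({h} : Set H)).index = (Subgroup.centralizer ({e h} : Set K)).index := by
    rw [← Subgroup.index_comap_of_surjective (f := e.toMonoidHom) _ e.surjective]
    congr 1
    ext x
    simp only [Subgroup.mem_comap, MulEquiv.coe_toMonoidHom, Subgroup.mem_centralizer_singleton_iff]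
    rw [← map_mul, ← map_mul]
    exact e.injective.eq_iff.symm
  simp only [Cfsg.centralChar, Function.comp_apply, hidx, map_one]

/-- Pullback of an irreducible character along an isomorphism. -/
def irrComp (e : H ≃* K) (χ : Cfsg.IrrCharacter K) : Cfsg.IrrCharacter H :=
  ⟨(χ : K → ℂ) ∘ e, CfsgLib.CharTwist.isIrrCharacter_comp_equiv χ.2 e⟩

@[simp] theorem irrComp_apply (e : H ≃* K) (χ : Cfsg.IrrCharacter K) (h : H) :
    (irrComp e χ : H → ℂ) h = (χ : K → ℂ) (e h) := rfl

theorem irrComp_mem_principal {M : Ideal Cfsg.AlgInt} (e : H ≃* K) {χ : Cfsg.IrrCharacter K}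
    (hχ : χ ∈ Cfsg.principalBlock M K) : irrComp e χ ∈ Cfsg.principalBlock M H := by
  intro h
  have h1 := hχ (e h)
  rw [← centralChar_comp e (fun _ => (1 : ℂ)) h, ← centralChar_comp e (χ : K → ℂ) h] at h1
  exact h1

theorem irrComp_bijOn {M : Ideal Cfsg.AlgInt} (e : H ≃* K) :
    Set.BijOn (irrComp e) (Cfsg.principalBlock M K) (Cfsg.principalBlock M H) := by
  refine ⟨fun χ hχ => irrComp_mem_principal e hχ, fun χ _ ψ _ h => ?_, fun ψ hψ => ?_⟩
  · refine Subtype.ext (funext fun k => ?_)
    simpa using congrArg (fun t : Cfsg.IrrCharacter H => (t : H → ℂ) (e.symm k)) h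
  · exact ⟨irrComp e.symm ψ, irrComp_mem_principal e.symm hψ, Subtype.ext (funext fun h => by simp)⟩

theorem blockCoeff_principal_comp {M : Ideal Cfsg.AlgInt} (e : H ≃* K) (h : H) :
    Cfsg.blockCoeff (Cfsg.principalBlock M H) h = Cfsg.blockCoeff (Cfsg.principalBlock M K) (e h) := by
  unfold Cfsg.blockCoeff
  rw [Nat.card_congr e.toEquiv]
  congr 1
  refine (finsum_mem_eq_of_bijOn (irrComp e) (irrComp_bijOn e) fun χ _ => ?_).symm
  simp

end Transport

section Orbits

variable {G : Type*} [Group G] [Finite G]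

/-- A `P`-invariant local-integral function sums, modulo the local ideal, over the centralizer of `P`. -/
theorem sum_sub_sum_centralizer [Fintype G] {p : ℕ} [Fact p.Prime] {M : Ideal Cfsg.AlgInt}
    (hM : Cfsg.IsPModular p M) (P : Subgroup G) (hP : IsPGroup p P) (β : G → ℂ)
    (hR : ∀ g, Cfsg.MemLocalRing M (β g)) (hinv : ∀ u ∈ P, ∀ g, β (u * g * u⁻¹) = β g) :
    Cfsg.MemLocalIdeal M (∑ g : G, β g - ∑ᶠ x : Subgroup.centralizer (P : Set G), β x) := by
  classical
  let act : MulAction P G :=
    { smul := fun u g => (u : G) * g * (u : G)⁻¹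
      one_smul := fun g => by
        change ((1 : P) : G) * g * ((1 : P) : G)⁻¹ = g
        simp
      mul_smul := fun u v g => by
        change ((u * v : P) : G) * g * ((u * v : P) : G)⁻¹ = (u : G) * ((v : G) * g * (v : G)⁻¹) * (u : G)⁻¹
        rw [Subgroup.coe_mul]; group }
  letI := act
  set C := Subgroup.centralizer (P : Set G)
  have hfix : ∀ g : G, g ∈ C ↔ ∀ u : P, u • g = g := by
    intro g
    rw [Subgroup.mem_centralizer_iff]
    exact ⟨fun h u => mul_inv_eq_iff_eq_mul.mpr (h u u.2),
      fun h u hu => mul_inv_eq_iff_eq_mul.mp (h ⟨u, hu⟩)⟩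
  rw [finsum_eq_sum_of_fintype, ← Finset.sum_subtype (Finset.univ.filter fun g : G => g ∈ C) (by simp) β,
    ← Finset.sum_filter_add_sum_filter_not Finset.univ (fun g : G => g ∈ C) β, add_sub_cancel_left]
  have : Fintype (MulAction.orbitRel.Quotient P G) := Fintype.ofFinite _
  rw [← Finset.sum_fiberwise _ (fun g : G => (Quotient.mk'' g : MulAction.orbitRel.Quotient P G))]
  refine memIdeal_sum hM _ fun ω _ => ?_
  induction ω using Quotient.inductionOn' with
  | h g =>
    by_cases hg : g ∈ C
    · rw [Finset.sum_eq_zero]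
      · exact memIdeal_zero hM
      · intro x hx
        simp only [Finset.mem_filter, Finset.mem_univ, true_and] at hx
        have horb : x ∈ MulAction.orbit P g :=
          (MulAction.orbitRel_apply).mp (Quotient.exact' hx.2)
        obtain ⟨u, rfl⟩ := horb
        exact absurd (by simp only [(hfix g).mp hg u]; exact hg) hx.1
    · have hset : (Finset.univ.filter fun x : G => x ∉ C).filter
          (fun x => (Quotient.mk'' x : MulAction.orbitRel.Quotient P G) = Quotient.mk'' g) =
          Finset.univ.filter fun x : G => x ∈ MulAction.orbit P g := by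
        ext x
        simp only [Finset.mem_filter, Finset.mem_univ, true_and]
        refine ⟨fun h => MulAction.orbitRel_apply.mp (Quotient.exact' h.2), fun h => ⟨fun hx => hg ?_,
          Quotient.sound' (MulAction.orbitRel_apply.mpr h)⟩⟩
        obtain ⟨u, rfl⟩ := h
        have := (hfix _).mp hx u⁻¹
        rw [inv_smul_smul] at this
        rwa [this]
      rw [hset, Finset.sum_congr rfl (g := fun _ => β g) (fun x hx => by
        obtain ⟨u, rfl⟩ := (Finset.mem_filter.mp hx).2
        exact hinv u u.2 g), Finset.sum_const, nsmul_eq_mul]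
      refine memIdeal_mul_right hM ?_ (hR g)
      rw [memIdeal_natCast_iff hM]
      obtain ⟨k, hk⟩ := hP.card_orbit g
      rw [Nat.card_eq_fintype_card, Fintype.card_subtype] at hk
      rw [hk]
      refine dvd_pow_self p ?_
      rintro rfl
      apply hg
      rw [hfix]
      intro u
      rw [pow_zero, Finset.card_eq_one] at hk
      obtain ⟨a, ha⟩ := hk
      have h1 := (Finset.ext_iff.mp ha g).mp (by simp)
      have h2 := (Finset.ext_iff.mp ha (u • g)).mp (by simp [MulAction.mem_orbit])
      rw [Finset.mem_singleton] at h1 h2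
      exact h2.trans h1.symm

/-- The principal block of `C(P)` lies above anything of augmentation one. -/
theorem brauerOmega_sub_one [Fintype G] {p : ℕ} [Fact p.Prime] {M : Ideal Cfsg.AlgInt}
    (hM : Cfsg.IsPModular p M) (P : Subgroup G) (hP : IsPGroup p P) (β : G → ℂ)
    (hR : ∀ g, Cfsg.MemLocalRing M (β g)) (hinv : ∀ u ∈ P, ∀ g, β (u * g * u⁻¹) = β g)
    (hC : ∀ c ∈ Subgroup.centralizer (P : Set G), ∀ g, β (c * g * c⁻¹) = β g) (hsum : ∑ g : G, β g = 1)
    (ξ : Cfsg.IrrCharacter (Subgroup.centralizer (P : Set G)))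
    (hξ : ξ ∈ Cfsg.principalBlock M (Subgroup.centralizer (P : Set G))) :
    Cfsg.MemLocalIdeal M (Cfsg.brauerOmega P β (ξ : Subgroup.centralizer (P : Set G) → ℂ) - 1) := by
  classical
  have : Fintype (ConjClasses (Subgroup.centralizer (P : Set G))) := Fintype.ofFinite _
  have hcl : ∀ a b : (Subgroup.centralizer (P : Set G)), IsConj a b → β a = β b := by
    intro a b hab
    obtain ⟨c, rfl⟩ := isConj_iff.mp hab
    rw [Subgroup.coe_mul, Subgroup.coe_mul, Subgroup.coe_inv, hC c c.2]
  have homega : ∀ η : Cfsg.IrrCharacter (Subgroup.centralizer (P : Set G)), Cfsg.brauerOmega P β (η : (Subgroup.centralizer (P : Set G)) → ℂ) =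
      ∑ D : ConjClasses (Subgroup.centralizer (P : Set G)), β D.out * Cfsg.centralChar (η : (Subgroup.centralizer (P : Set G)) → ℂ) D.out := by
    intro η
    rw [← sum_mul_char_div η (fun c : (Subgroup.centralizer (P : Set G)) => β c) hcl, Cfsg.brauerOmega, finsum_eq_sum_of_fintype,
      Finset.sum_div]
  have h1 : Cfsg.brauerOmega P β ((CfsgLib.Char.principalIrr : Cfsg.IrrCharacter (Subgroup.centralizer (P : Set G))) : (Subgroup.centralizer (P : Set G)) → ℂ) =
      ∑ᶠ x : (Subgroup.centralizer (P : Set G)), β x := by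
    simp [Cfsg.brauerOmega]
  have h2 : Cfsg.MemLocalIdeal M (Cfsg.brauerOmega P β (ξ : (Subgroup.centralizer (P : Set G)) → ℂ) - ∑ᶠ x : (Subgroup.centralizer (P : Set G)), β x) := by
    rw [← h1, homega, homega, ← Finset.sum_sub_distrib]
    refine memIdeal_sum hM _ fun D _ => ?_
    rw [← mul_sub]
    refine memIdeal_mul_left hM (hR _) ?_
    have := memIdeal_neg (hξ D.out)
    rwa [neg_sub] at this
  have h3 := memIdeal_sub hM h2 (sum_sub_sum_centralizer hM P hP β hR hinv)
  rw [hsum] at h3
  convert h3 using 1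
  ring_nf

omit [Finite G] in
theorem subgroupBlockCoeff_of_mem (H : Subgroup G) (e : Set (Cfsg.IrrCharacter H)) {g : G} (hg : g ∈ H) :
    Cfsg.subgroupBlockCoeff H e g = Cfsg.blockCoeff e ⟨g, hg⟩ :=
  dif_pos hg

omit [Finite G] in
theorem subgroupBlockCoeff_of_notMem (H : Subgroup G) (e : Set (Cfsg.IrrCharacter H)) {g : G} (hg : g ∉ H) :
    Cfsg.subgroupBlockCoeff H e g = 0 :=
  dif_neg hg

theorem sum_blockCoeff_principal {p : ℕ} {M : Ideal Cfsg.AlgInt} (hM : Cfsg.IsPModular p M) [Fintype G] :
    ∑ g : G, Cfsg.blockCoeff (Cfsg.principalBlock M G) g = 1 := by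
  have := (sum_blockCoeff_mul_char (Cfsg.principalBlock M G) CfsgLib.Char.principalIrr).1 (principal_mem hM)
  simpa using this

theorem conj_mem_iff_of_normalizes (H : Subgroup G) {x : G} (hx : x ∈ Subgroup.normalizer (H : Set G)) (g : G) :
    g ∈ H ↔ x * g * x⁻¹ ∈ H :=
  Subgroup.mem_normalizer_iff.mp hx g

theorem centralizer_normalized (Q : Subgroup G) {x : G} (hx : x ∈ Subgroup.normalizer (Q : Set G)) :
    x ∈ Subgroup.normalizer ((Subgroup.centralizer (Q : Set G) : Subgroup G) : Set G) := by
  have key : ∀ y ∈ Subgroup.normalizer (Q : Set G), ∀ c ∈ Subgroup.centralizer (Q : Set G),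
      y * c * y⁻¹ ∈ Subgroup.centralizer (Q : Set G) := by
    intro y hy c hc
    rw [Subgroup.mem_centralizer_iff]
    intro b hb
    have hb' : y⁻¹ * b * y ∈ Q := by
      have := (Subgroup.mem_normalizer_iff.mp (Subgroup.inv_mem _ hy) b).mp hb
      simpa using this
    calc b * (y * c * y⁻¹) = y * ((y⁻¹ * b * y) * c) * y⁻¹ := by group
      _ = y * (c * (y⁻¹ * b * y)) * y⁻¹ := by rw [Subgroup.mem_centralizer_iff.mp hc _ hb']
      _ = y * c * y⁻¹ * b := by group
  rw [Subgroup.mem_normalizer_iff]
  intro c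
  refine ⟨key x hx c, fun h => ?_⟩
  have := key x⁻¹ (Subgroup.inv_mem _ hx) _ h
  simpa [mul_assoc] using this

/-- The isomorphism induced by conjugation between two subgroups. -/
def conjIso (H K : Subgroup G) (x : G) (h : ∀ g, g ∈ H ↔ x * g * x⁻¹ ∈ K) : H ≃* K where
  toFun a := ⟨x * a * x⁻¹, (h a).mp a.2⟩
  invFun b := ⟨x⁻¹ * b * x, (h _).mpr (by
    have : x * (x⁻¹ * (b : G) * x) * x⁻¹ = b := by group
    rw [this]; exact b.2)⟩
  left_inv a := Subtype.ext (by
    change x⁻¹ * (x * (a : G) * x⁻¹) * x = a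
    group)
  right_inv b := Subtype.ext (by
    change x * (x⁻¹ * (b : G) * x) * x⁻¹ = b
    group)
  map_mul' a b := Subtype.ext (by
    change x * ((a : G) * b) * x⁻¹ = (x * a * x⁻¹) * (x * b * x⁻¹)
    group)

omit [Finite G] in
@[simp] theorem coe_conjIso (H K : Subgroup G) (x : G) (h : ∀ g, g ∈ H ↔ x * g * x⁻¹ ∈ K) (a : H) :
    ((conjIso H K x h a : K) : G) = x * a * x⁻¹ := rfl

theorem stabilizes_principal {M : Ideal Cfsg.AlgInt} (H : Subgroup G) {x : G}
    (hx : x ∈ Subgroup.normalizer (H : Set G)) :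
    Cfsg.StabilizesBlock H (Cfsg.principalBlock M H) x := by
  refine ⟨hx, fun χ hχ => ⟨irrComp (conjIso H H x (conj_mem_iff_of_normalizes H hx)).symm χ,
    irrComp_mem_principal _ hχ, fun k k' hk => ?_⟩⟩
  rw [irrComp_apply]
  refine congrArg (χ : H → ℂ) ?_
  apply (conjIso H H x (conj_mem_iff_of_normalizes H hx)).injective
  rw [MulEquiv.apply_symm_apply]
  exact Subtype.ext (by rw [coe_conjIso, hk])

/-- The coefficient function of the principal block of a subgroup is invariant under its normalizer. -/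
theorem subgroupBlockCoeff_principal_conj {M : Ideal Cfsg.AlgInt} (H : Subgroup G) {x : G}
    (hx : x ∈ Subgroup.normalizer (H : Set G)) (g : G) :
    Cfsg.subgroupBlockCoeff H (Cfsg.principalBlock M H) (x * g * x⁻¹) =
      Cfsg.subgroupBlockCoeff H (Cfsg.principalBlock M H) g := by
  by_cases hg : g ∈ H
  · have hg' := (conj_mem_iff_of_normalizes H hx g).mp hg
    rw [subgroupBlockCoeff_of_mem H _ hg, subgroupBlockCoeff_of_mem H _ hg',
      blockCoeff_principal_comp (conjIso H H x (conj_mem_iff_of_normalizes H hx)) ⟨g, hg⟩]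
    rfl
  · rw [subgroupBlockCoeff_of_notMem H _ hg,
      subgroupBlockCoeff_of_notMem H _ (fun h => hg ((conj_mem_iff_of_normalizes H hx g).mpr h))]

theorem isBrauerPair_principal {p : ℕ} {M : Ideal Cfsg.AlgInt} (Q : Subgroup G) (hQ : IsPGroup p Q) :
    Cfsg.IsBrauerPair p M Q (Cfsg.principalBlock M (Subgroup.centralizer (Q : Set G))) :=
  ⟨hQ, principalBlock_isPBlock⟩

/-- Principal blocks give Brauer pairs of the principal block. -/
theorem isBrauerPairOf_principal {p : ℕ} [Fact p.Prime] {M : Ideal Cfsg.AlgInt} (hM : Cfsg.IsPModular p M)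
    (Q : Subgroup G) (hQ : IsPGroup p Q) :
    Cfsg.IsBrauerPairOf p M (Cfsg.principalBlock M G) Q
      (Cfsg.principalBlock M (Subgroup.centralizer (Q : Set G))) := by
  have := Fintype.ofFinite G
  exact ⟨isBrauerPair_principal Q hQ, principalBlock_isPBlock, fun ξ hξ =>
    brauerOmega_sub_one hM Q hQ _ (memRing_blockCoeff hM principalBlock_isPBlock)
      (fun u _ g => blockCoeff_conj_invariant _ g u) (fun c _ g => blockCoeff_conj_invariant _ g c)
      (sum_blockCoeff_principal hM) ξ hξ⟩

theorem isNormalSubpair_principal {p : ℕ} [Fact p.Prime] {M : Ideal Cfsg.AlgInt} (hM : Cfsg.IsPModular p M)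
    (Q P : Subgroup G) (hP : IsPGroup p P) (hQP : Q ≤ P) (hPQ : P ≤ Subgroup.normalizer (Q : Set G)) :
    Cfsg.IsNormalSubpair p M Q (Cfsg.principalBlock M (Subgroup.centralizer (Q : Set G))) P
      (Cfsg.principalBlock M (Subgroup.centralizer (P : Set G))) := by
  classical
  have := Fintype.ofFinite G
  set C := Subgroup.centralizer (Q : Set G) with hCdef
  refine ⟨isBrauerPair_principal Q (hP.to_le hQP), isBrauerPair_principal P hP, hQP, hPQ,
    fun x hx => stabilizes_principal _ (centralizer_normalized Q (hPQ hx)), fun ξ hξ => ?_⟩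
  refine brauerOmega_sub_one hM P hP _ (fun g => ?_)
    (fun u hu g => subgroupBlockCoeff_principal_conj _ (centralizer_normalized Q (hPQ hu)) g)
    (fun c hc g => subgroupBlockCoeff_principal_conj _
      (Subgroup.le_normalizer (Subgroup.centralizer_le (SetLike.coe_subset_coe.mpr hQP) hc)) g) ?_ ξ hξ
  · by_cases hg : g ∈ C
    · rw [subgroupBlockCoeff_of_mem C _ hg]; exact memRing_blockCoeff hM principalBlock_isPBlock _
    · rw [subgroupBlockCoeff_of_notMem C _ hg]; exact memRing_zero hM
  · rw [← Finset.sum_filter_add_sum_filter_not Finset.univ (fun g : G => g ∈ C),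
      Finset.sum_eq_zero (s := Finset.univ.filter fun g : G => g ∉ C)
        (fun g hg => subgroupBlockCoeff_of_notMem C _ (Finset.mem_filter.mp hg).2), add_zero,
      Finset.sum_subtype (Finset.univ.filter fun g : G => g ∈ C) (p := fun g => g ∈ C) (by simp)
        (Cfsg.subgroupBlockCoeff C (Cfsg.principalBlock M C)),
      ← sum_blockCoeff_principal (G := C) hM]
    exact Finset.sum_congr rfl fun x _ => by rw [subgroupBlockCoeff_of_mem C _ x.2]

/-- Principal pairs are ordered by inclusion. -/
theorem subpairLE_principal {p : ℕ} [Fact p.Prime] {M : Ideal Cfsg.AlgInt} (hM : Cfsg.IsPModular p M)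
    (P : Subgroup G) (hP : IsPGroup p P) :
    ∀ (n : ℕ) (Q : Subgroup G), Q ≤ P → Nat.card P - Nat.card Q ≤ n →
      Cfsg.SubpairLE p M Q (Cfsg.principalBlock M (Subgroup.centralizer (Q : Set G))) P
        (Cfsg.principalBlock M (Subgroup.centralizer (P : Set G))) := by
  intro n
  induction n with
  | zero =>
    intro Q hQ hn
    have : Q = P := Subgroup.eq_of_le_of_card_ge hQ (by omega)
    subst this
    exact Relation.ReflTransGen.refl
  | succ n ih =>
    intro Q hQ hn
    rcases eq_or_ne Q P with rfl | hne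
    · exact Relation.ReflTransGen.refl
    · set R := P ⊓ Subgroup.normalizer (Q : Set G) with hR
      have hQR : Q ≤ R := le_inf hQ Subgroup.le_normalizer
      have hlt : Q < R := by
        refine lt_of_le_of_ne hQR fun h => hne ?_
        haveI : Group.IsNilpotent P := hP.isNilpotent
        have h1 : Q.subgroupOf P = ⊤ := by
          by_contra hh
          obtain ⟨⟨y, hy⟩, hyN, hyQ⟩ :=
            SetLike.exists_of_lt (normalizerCondition_of_isNilpotent _ (lt_top_iff_ne_top.mpr hh))
          refine hyQ (Subgroup.mem_subgroupOf.mpr ?_)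
          rw [h]
          refine ⟨hy, ?_⟩
          rw [SetLike.mem_coe, Subgroup.mem_normalizer_iff] at *
          intro z
          refine ⟨fun hz => ?_, fun hz => ?_⟩
          · exact Subgroup.mem_subgroupOf.mp ((hyN ⟨z, hQ hz⟩).mp (Subgroup.mem_subgroupOf.mpr hz))
          · have hzP : z ∈ P := by
              have := P.mul_mem (P.mul_mem (P.inv_mem hy) (hQ hz)) hy
              simpa [mul_assoc] using this
            exact Subgroup.mem_subgroupOf.mp ((hyN ⟨z, hzP⟩).mpr hz)
        exact le_antisymm hQ (Subgroup.subgroupOf_eq_top.mp h1)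
      have hcard : Nat.card Q < Nat.card R :=
        Set.ncard_lt_ncard (SetLike.coe_ssubset_coe.mpr hlt) (Set.toFinite _)
      refine Relation.ReflTransGen.head ?_ (ih R inf_le_left (by omega))
      exact isNormalSubpair_principal hM Q R (hP.to_le inf_le_left) hQR inf_le_right

omit [Finite G] in
theorem subpairLE_le {p : ℕ} {M : Ideal Cfsg.AlgInt} {Q : Subgroup G}
    {f : Set (Cfsg.IrrCharacter (Subgroup.centralizer (Q : Set G)))} {P : Subgroup G}
    {e : Set (Cfsg.IrrCharacter (Subgroup.centralizer (P : Set G)))}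
    (h : Cfsg.SubpairLE p M Q f P e) : Q ≤ P := by
  have key : ∀ a b : Cfsg.BrauerPairIdx G,
      Relation.ReflTransGen (Cfsg.NormalSubpairRel p M) a b → a.1 ≤ b.1 := by
    intro a b hab
    induction hab with
    | refl => exact le_rfl
    | tail _ hs ih => exact ih.trans hs.2.2.1
  exact key _ _ h

theorem conjBlock_principal {M : Ideal Cfsg.AlgInt} (Q : Subgroup G) (g : G) :
    Cfsg.conjBlock Q g (Cfsg.principalBlock M (Subgroup.centralizer (Q : Set G))) =
      Cfsg.principalBlock M
        (Subgroup.centralizer ((Q.map (MulAut.conj g).toMonoidHom : Subgroup G) : Set G)) := by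
  set C := Subgroup.centralizer (Q : Set G)
  set C' := Subgroup.centralizer ((Q.map (MulAut.conj g).toMonoidHom : Subgroup G) : Set G)
  have hiff : ∀ y, y ∈ C ↔ g * y * g⁻¹ ∈ C' := by
    intro y
    simp only [C, C', Subgroup.mem_centralizer_iff, Subgroup.coe_map, Set.forall_mem_image,
      MulEquiv.coe_toMonoidHom, MulAut.conj_apply, SetLike.mem_coe]
    refine ⟨fun h b hb => ?_, fun h b hb => ?_⟩
    · calc g * b * g⁻¹ * (g * y * g⁻¹) = g * (b * y) * g⁻¹ := by group
        _ = g * (y * b) * g⁻¹ := by rw [h b hb]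
        _ = g * y * g⁻¹ * (g * b * g⁻¹) := by group
    · have h1 := h hb
      calc b * y = g⁻¹ * (g * b * g⁻¹ * (g * y * g⁻¹)) * g := by group
        _ = g⁻¹ * (g * y * g⁻¹ * (g * b * g⁻¹)) * g := by rw [h1]
        _ = y * b := by group
  set e := conjIso C C' g hiff
  ext ξ'
  constructor
  · rintro ⟨ξ, hξ, h⟩
    have : ξ' = irrComp e.symm ξ := by
      refine Subtype.ext (funext fun c' => ?_)
      rw [irrComp_apply]
      refine h (e.symm c') c' ?_
      rw [← coe_conjIso C C' g hiff, MulEquiv.apply_symm_apply]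
    exact this ▸ irrComp_mem_principal e.symm hξ
  · intro hξ'
    refine ⟨irrComp e ξ', irrComp_mem_principal e hξ', fun c c' hc => ?_⟩
    rw [irrComp_apply]
    exact congrArg (ξ' : C' → ℂ) (Subtype.ext hc)

end Orbits

end CfsgLib.Blk83
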