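import Cfsg.Agent.Lib.Blocks.Defect
import Cfsg.Agent.Lib.BlockReg.Regular
import Cfsg.Agent.Lib.Blk83.PrincipalPairs

/-!
A group whose `p`-core contains its centralizer has only one `p`-block.
-/

set_option autoImplicit false
open Cfsg

namespace CfsgLib.Blk83

open CfsgLib.BlockReg

variable {G : Type*} [Group G] [Finite G] {p : ℕ} [Fact p.Prime] {M : Ideal Cfsg.AlgInt}

/-- Outside the centralizer of the `p`-core all central characters vanish modulo `M`. -/
theorem centralChar_memIdeal_of_notMem (hM : Cfsg.IsPModular p M) (χ : Cfsg.IrrCharacter G) {h : G}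
    (hh : h ∉ Subgroup.centralizer (Cfsg.pCore p G : Set G)) :
    Cfsg.MemLocalIdeal M (Cfsg.centralChar (χ : G → ℂ) h) := by
  haveI : M.IsMaximal := CfsgLib.Blocks.isMaximal_of_isPModular hM
  haveI := CfsgLib.Solvable.pCore_normal p G
  by_contra hne
  have hB := CfsgLib.BlockReg.isPBlock_blockOf (M := M) χ
  obtain ⟨D, hD⟩ := CfsgLib.Blocks.exists_defectGroup hM hB
  obtain ⟨c, hc, hcD⟩ := CfsgLib.Blocks.exists_isConj_centralizer_defectGroup hM hB hD
    (show χ ∈ _ from sameBlock_refl hM _) hne
  have h1 := CfsgLib.Blocks.pCore_le_defectGroup hM hB hD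
  obtain ⟨k, hk⟩ := isConj_iff.mp hc.symm
  exact hh (hk ▸ Subgroup.Normal.conj_mem inferInstance c (Subgroup.centralizer_le h1 hcD) k)

/-- If `C_G(O_p(G)) ≤ O_p(G)` then every character lies in the principal block. -/
theorem mem_principalBlock_of_centralizer_pCore_le (hM : Cfsg.IsPModular p M)
    (hC : Subgroup.centralizer (Cfsg.pCore p G : Set G) ≤ Cfsg.pCore p G) (χ : Cfsg.IrrCharacter G) :
    χ ∈ Cfsg.principalBlock M G := by
  classical
  have := Fintype.ofFinite G
  have : Fintype (ConjClasses G) := Fintype.ofFinite _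
  have hB := CfsgLib.BlockReg.isPBlock_blockOf (M := M) χ
  set B := Cfsg.blockOf M (χ : G → ℂ) with hBdef
  set e : G → ℂ := Cfsg.blockCoeff B
  have key : ∀ ξ : Cfsg.IrrCharacter G, Cfsg.MemLocalIdeal M (omegaFun ξ e - e 1) := by
    intro ξ
    have h2 : omegaFun ξ e = ∑ C : ConjClasses G, e C.out * Cfsg.centralChar (ξ : G → ℂ) C.out :=
      sum_mul_char_div ξ e (fun g h hgh => by
        obtain ⟨k, rfl⟩ := isConj_iff.mp hgh
        exact (blockCoeff_conj_invariant B g k).symm)
    have hout : (ConjClasses.mk (1 : G)).out = 1 :=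
      isConj_one_left.mp (ConjClasses.mk_eq_mk_iff_isConj.mp
        (Quotient.out_eq (ConjClasses.mk (1 : G))))
    have h3 : e 1 = e (ConjClasses.mk (1 : G)).out *
        Cfsg.centralChar (ξ : G → ℂ) (ConjClasses.mk (1 : G)).out := by
      rw [hout, centralChar_one, mul_one]
    rw [h2, h3, ← Finset.add_sum_erase _ _ (Finset.mem_univ (ConjClasses.mk (1 : G))),
      add_sub_cancel_left]
    refine memIdeal_sum hM _ fun C hCne => ?_
    by_cases hsing : p ∣ orderOf C.out
    · rw [show e C.out = 0 from blockCoeff_singular hM hB _ hsing, zero_mul]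
      exact memIdeal_zero hM
    · refine memIdeal_mul_left hM (memRing_blockCoeff hM hB _)
        (centralChar_memIdeal_of_notMem hM ξ fun hcen => ?_)
      refine (Finset.mem_erase.mp hCne).1 ?_
      obtain ⟨k, hk⟩ := CfsgLib.Solvable.pCore_isPGroup p G ⟨C.out, hC hcen⟩
      have hk' : C.out ^ p ^ k = 1 := congrArg Subtype.val hk
      obtain ⟨j, -, hj⟩ := (Nat.dvd_prime_pow (Fact.out : p.Prime)).mp (orderOf_dvd_of_pow_eq_one hk')
      rcases j with _ | j
      · rw [← Quotient.out_eq C, show C.out = 1 from orderOf_eq_one_iff.mp (by simpa using hj)]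
        rfl
      · exact absurd (hj ▸ dvd_pow_self p j.succ_ne_zero) hsing
  by_contra hne
  have hχB : χ ∈ B := sameBlock_refl hM _
  have hp : (CfsgLib.Char.principalIrr : Cfsg.IrrCharacter G) ∉ B := fun h =>
    hne (mem_of_sameBlock hM principalBlock_isPBlock (principal_mem hM)
      (sameBlock_symm (show SameBlock M (χ : G → ℂ) _ from h)))
  refine not_memIdeal_one hM ?_
  have h1 := memIdeal_sub hM (key χ) (key CfsgLib.Char.principalIrr)
  simp only [e, omegaFun_blockCoeff, if_pos hχB, if_neg hp] at h1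
  simpa using h1

end CfsgLib.Blk83
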