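/-
Elementary facts about the local ideal at a prime of the algebraic integers.
-/
import Cfsg.Agent.Lib.Blocks.Local
import Mathlib.Data.Nat.Factorization.Basic

set_option autoImplicit false
open Cfsg

namespace CfsgLib.Blk83

open CfsgLib.Blocks

variable {M : Ideal Cfsg.AlgInt} [M.IsMaximal]

theorem li_zero : MemLocalIdeal M (0 : ℂ) :=
  memLocalIdeal_iff.mpr ⟨zero_mem _, map_zero (red M)⟩

theorem li_add {x y : ℂ} (hx : MemLocalIdeal M x) (hy : MemLocalIdeal M y) : MemLocalIdeal M (x + y) := by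
  obtain ⟨a, ha⟩ := memLocalIdeal_iff.mp hx
  obtain ⟨b, hb⟩ := memLocalIdeal_iff.mp hy
  exact memLocalIdeal_iff.mpr ⟨add_mem a b, by
    rw [show (⟨x + y, add_mem a b⟩ : locRing M) = ⟨x, a⟩ + ⟨y, b⟩ from rfl, map_add, ha, hb, add_zero]⟩

theorem li_neg {x : ℂ} (hx : MemLocalIdeal M x) : MemLocalIdeal M (-x) := by
  obtain ⟨a, ha⟩ := memLocalIdeal_iff.mp hx
  exact memLocalIdeal_iff.mpr ⟨neg_mem a, by
    rw [show (⟨-x, neg_mem a⟩ : locRing M) = -⟨x, a⟩ from rfl, map_neg, ha, neg_zero]⟩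

theorem li_sub {x y : ℂ} (hx : MemLocalIdeal M x) (hy : MemLocalIdeal M y) : MemLocalIdeal M (x - y) :=
  sub_eq_add_neg x y ▸ li_add hx (li_neg hy)

theorem li_mul {x y : ℂ} (hx : x ∈ locRing M) (hy : MemLocalIdeal M y) : MemLocalIdeal M (x * y) := by
  obtain ⟨b, hb⟩ := memLocalIdeal_iff.mp hy
  exact memLocalIdeal_iff.mpr ⟨mul_mem hx b, by
    rw [show (⟨x * y, mul_mem hx b⟩ : locRing M) = ⟨x, hx⟩ * ⟨y, b⟩ from rfl, map_mul, hb, mul_zero]⟩

theorem li_mul_int {x y : ℂ} (hx : IsIntegral ℤ x) (hy : MemLocalIdeal M y) : MemLocalIdeal M (x * y) :=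
  li_mul (isIntegral_mem_locRing hx) hy

theorem li_sum {ι : Type*} (s : Finset ι) {f : ι → ℂ} (h : ∀ i ∈ s, MemLocalIdeal M (f i)) :
    MemLocalIdeal M (∑ i ∈ s, f i) :=
  Finset.sum_induction f (MemLocalIdeal M) (fun _ _ => li_add) li_zero h

theorem natCast_not_li {p n : ℕ} (hM : Cfsg.IsPModular p M) (hn : ¬ p ∣ n) :
    ¬ MemLocalIdeal M (n : ℂ) := by
  intro h
  have h' : (n : AlgInt) ∈ M := by
    rw [← memLocalIdeal_algInt_iff]; simpa using h
  obtain ⟨a, b, hab⟩ : IsCoprime (n : ℤ) (p : ℤ) :=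
    ((hM.1.coprime_iff_not_dvd.mpr hn).symm).isCoprime
  refine (‹M.IsMaximal›).ne_top ((Ideal.eq_top_iff_one M).mpr ?_)
  have : (a : AlgInt) * (n : AlgInt) + (b : AlgInt) * (p : AlgInt) = 1 := by exact_mod_cast hab
  rw [← this]
  exact M.add_mem (M.mul_mem_left _ h') (M.mul_mem_left _ hM.2.2)

theorem inv_natCast_mem {p n : ℕ} (hM : Cfsg.IsPModular p M) (hn : ¬ p ∣ n) :
    ((n : ℂ))⁻¹ ∈ locRing M := by
  refine ⟨1, (n : AlgInt), fun h => natCast_not_li hM hn ?_, by simp⟩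
  simpa using (memLocalIdeal_algInt_iff (n : AlgInt)).mpr h

/-- A natural number times an element of the local ideal and prime to `p`: cancel it. -/
theorem li_of_natCast_mul {p n : ℕ} (hM : Cfsg.IsPModular p M) (hn : ¬ p ∣ n) {x : ℂ}
    (h : MemLocalIdeal M ((n : ℂ) * x)) : MemLocalIdeal M x := by
  have := li_mul (inv_natCast_mem hM hn) h
  have hn0 : (n : ℂ) ≠ 0 := by
    intro h0
    rw [Nat.cast_eq_zero] at h0
    exact hn (h0 ▸ dvd_zero p)
  rwa [← mul_assoc, inv_mul_cancel₀ hn0, one_mul] at this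

/-- A positive rational number lies in the local ideal iff `p` divides the numerator more often. -/
theorem natCast_div_li_iff {p u v : ℕ} (hM : Cfsg.IsPModular p M) (hu : u ≠ 0) (hv : v ≠ 0) :
    MemLocalIdeal M ((u : ℂ) / (v : ℂ)) ↔ v.factorization p < u.factorization p := by
  have hp := hM.1
  set i := u.factorization p with hi
  set j := v.factorization p with hj
  set u' := ordCompl[p] u with hu'
  set v' := ordCompl[p] v with hv'
  have hu'' : ¬ p ∣ u' := Nat.not_dvd_ordCompl hp hu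
  have hv'' : ¬ p ∣ v' := Nat.not_dvd_ordCompl hp hv
  have hue : (u : ℂ) = (p : ℂ) ^ i * u' := by exact_mod_cast (Nat.ordProj_mul_ordCompl_eq_self u p).symm
  have hve : (v : ℂ) = (p : ℂ) ^ j * v' := by exact_mod_cast (Nat.ordProj_mul_ordCompl_eq_self v p).symm
  have hv0 : (v' : ℂ) ≠ 0 := by exact_mod_cast (Nat.ordCompl_pos p hv).ne'
  have hp0 : (p : ℂ) ≠ 0 := by exact_mod_cast hp.ne_zero
  constructor
  · intro h
    by_contra hlt
    apply natCast_not_li hM hu''
    have := li_mul (isIntegral_mem_locRing (z := ((p ^ (j - i) * v' : ℕ) : ℂ)) (isIntegral_natCast _)) h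
    rw [hue, hve, show (p : ℂ) ^ j = (p : ℂ) ^ (j - i) * (p : ℂ) ^ i by
      rw [← pow_add, Nat.sub_add_cancel (not_lt.mp hlt)]] at this
    convert this using 1
    push_cast
    field_simp
  · intro h
    have hpLI : MemLocalIdeal M (p : ℂ) := by
      simpa using (memLocalIdeal_algInt_iff (p : AlgInt)).mpr hM.2.2
    have := li_mul (x := ((p ^ (i - j - 1) * u' : ℕ) : ℂ) * (v' : ℂ)⁻¹)
      (mul_mem (isIntegral_mem_locRing (isIntegral_natCast _)) (inv_natCast_mem hM hv'')) hpLI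
    convert this using 1
    rw [hue, hve, show (p : ℂ) ^ i = (p : ℂ) ^ j * ((p : ℂ) ^ (i - j - 1) * p) by
      rw [← pow_succ, ← pow_add]; congr 1; omega]
    push_cast
    field_simp

end CfsgLib.Blk83
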