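/-
The `p`-regular multiplicities `a_ψ = p^a |G|⁻¹ ∑_{p-regular g} ψ g`: integers, nonzero on the principal
block, and the resulting bound on the number of characters in the principal block.
-/
import Cfsg.Agent.Lib.Blk83.LocalFacts
import Cfsg.Agent.Lib.Blk83.Irr
import Cfsg.Prelude.Def_BlockRank
import Cfsg.Agent.Lib.Char.Induced
import Cfsg.Agent.Lib.Char.Virtual
import Cfsg.Agent.Lib.Char.Linear
import Cfsg.Agent.Lib.CharDeep.Induction
import Mathlib.GroupTheory.Transfer
import Mathlib.GroupTheory.PGroup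
import Mathlib.Data.Int.GCD

set_option autoImplicit false
open Cfsg
open scoped ComplexConjugate

namespace CfsgLib.Blk83

/-- If `N` is a normal `p'`-subgroup of `p`-power index, the `p`-regular elements form `N`. -/
theorem isPRegular_iff_mem {E : Type*} [Group E] [Finite E] {p : ℕ} [Fact p.Prime] (N : Subgroup E)
    [N.Normal] (hN : ¬ p ∣ Nat.card N) {k : ℕ} (hk : N.index = p ^ k) (g : E) :
    Cfsg.IsPRegular p g ↔ g ∈ N := by
  constructor
  · intro hg
    have h1 : (QuotientGroup.mk' N g) ^ orderOf g = 1 := by rw [← map_pow, pow_orderOf_eq_one, map_one]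
    have h2 : (QuotientGroup.mk' N g) ^ p ^ k = 1 := by
      rw [← hk, Subgroup.index]
      exact pow_card_eq_one'
    have h3 := pow_gcd_eq_one.mpr ⟨h1, h2⟩
    rw [(((Fact.out : p.Prime).coprime_iff_not_dvd.mpr hg).symm.pow_right k).gcd_eq_one, pow_one] at h3
    exact (QuotientGroup.eq_one_iff g).mp h3
  · intro hg h
    exact hN (h.trans (by simpa using orderOf_dvd_natCard (⟨g, hg⟩ : N)))

/-- With a central Sylow `p`-subgroup the `p`-regular elements form a normal complement. -/
theorem exists_regular_subgroup_of_central_sylow {E : Type*} [Group E] [Finite E] {p : ℕ} [Fact p.Prime]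
    (P : Sylow p E) (hP : (P : Subgroup E) ≤ Subgroup.center E) :
    ∃ N : Subgroup E, ¬ p ∣ Nat.card N ∧ N.index = Nat.card P ∧ ∀ g : E, Cfsg.IsPRegular p g ↔ g ∈ N := by
  have hN : Subgroup.normalizer ((P : Subgroup E) : Set E) ≤ Subgroup.centralizer ((P : Subgroup E) : Set E) :=
    fun g _ => Subgroup.mem_centralizer_iff.mpr fun y hy => (Subgroup.mem_center_iff.mp (hP hy) g).symm
  have hc := MonoidHom.ker_transferSylow_isComplement' P hN
  have hnd := MonoidHom.not_dvd_card_ker_transferSylow P hN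
  obtain ⟨k, hk⟩ := IsPGroup.iff_card.mp P.isPGroup'
  have hidx : (MonoidHom.transferSylow P hN).ker.index = Nat.card P := hc.symm.index_eq_card
  exact ⟨_, hnd, hidx, isPRegular_iff_mem _ hnd (hidx.trans hk)⟩

/-- In an elementary group the `p`-regular elements form a subgroup whose index divides the `p`-part. -/
theorem exists_regular_subgroup_of_elementary {E : Type*} [Group E] [Finite E] {p q : ℕ} [Fact p.Prime]
    (hq : q.Prime) (hE : Cfsg.IsElementary q E) :
    ∃ N : Subgroup E, (∃ k : ℕ, N.index = p ^ k) ∧ ∀ g : E, Cfsg.IsPRegular p g ↔ g ∈ N := by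
  obtain ⟨x, hx, hcop, k, hk⟩ := hE
  haveI : (Subgroup.zpowers x).Normal := ⟨fun y hy g => by
    have hc : y ∈ Subgroup.center E := Subgroup.zpowers_le.mpr hx hy
    rwa [(Subgroup.mem_center_iff.mp hc g), mul_inv_cancel_right]⟩
  rcases eq_or_ne p q with rfl | hpq
  · refine ⟨Subgroup.zpowers x, ⟨k, hk⟩, isPRegular_iff_mem _ ?_ hk⟩
    rw [Nat.card_zpowers]
    exact (Fact.out : p.Prime).coprime_iff_not_dvd.mp hcop.symm
  · obtain ⟨P⟩ := (inferInstance : Nonempty (Sylow p E))
    obtain ⟨l, hl⟩ := IsPGroup.iff_card.mp P.isPGroup'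
    have hP : (P : Subgroup E) ≤ Subgroup.center E := by
      intro y hy
      obtain ⟨j, hj⟩ := IsPGroup.iff_orderOf.mp P.isPGroup' ⟨y, hy⟩
      rw [← Subgroup.orderOf_coe] at hj
      have h1 : (QuotientGroup.mk' (Subgroup.zpowers x) y) ^ p ^ j = 1 := by
        rw [← map_pow, ← hj, pow_orderOf_eq_one, map_one]
      have h2 : (QuotientGroup.mk' (Subgroup.zpowers x) y) ^ q ^ k = 1 := by
        rw [← hk, Subgroup.index]
        exact pow_card_eq_one'
      have h3 := pow_gcd_eq_one.mpr ⟨h1, h2⟩
      rw [((((Nat.coprime_primes Fact.out hq).mpr hpq).pow_left j).pow_right k).gcd_eq_one, pow_one] at h3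
      exact Subgroup.zpowers_le.mpr hx ((QuotientGroup.eq_one_iff y).mp h3)
    obtain ⟨N, -, hidx, h⟩ := exists_regular_subgroup_of_central_sylow P hP
    exact ⟨N, ⟨l, hidx.trans hl⟩, h⟩

variable {G : Type*} [Group G] [Finite G]

/-- The number of `p`-regular elements is prime to `p`. -/
theorem not_dvd_card_regular (p : ℕ) [Fact p.Prime] :
    ¬ p ∣ Nat.card {g : G // Cfsg.IsPRegular p g} := by
  classical
  obtain ⟨P⟩ := (inferInstance : Nonempty (Sylow p G))
  let act : MulAction P {g : G // Cfsg.IsPRegular p g} :=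
    { smul := fun u g => ⟨(u : G) * g * (u : G)⁻¹, fun h => g.2 (by
        have h' : orderOf ((MulAut.conj (u : G)).toMonoidHom g) = orderOf (g : G) :=
          orderOf_injective _ (MulAut.conj (u : G)).injective _
        exact h' ▸ h)⟩
      one_smul := fun g => Subtype.ext (by
        change ((1 : P) : G) * g * ((1 : P) : G)⁻¹ = g
        simp)
      mul_smul := fun u v g => Subtype.ext (by
        change ((u * v : P) : G) * g * ((u * v : P) : G)⁻¹ = (u : G) * ((v : G) * g * (v : G)⁻¹) * (u : G)⁻¹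
        rw [Subgroup.coe_mul]; group) }
  letI := act
  have hmod := P.isPGroup'.card_modEq_card_fixedPoints {g : G // Cfsg.IsPRegular p g}
  set C := Subgroup.centralizer ((P : Subgroup G) : Set G)
  have hfix : Nat.card (MulAction.fixedPoints P {g : G // Cfsg.IsPRegular p g}) =
      Nat.card {c : C // Cfsg.IsPRegular p c} := by
    refine Nat.card_congr
      { toFun := fun g => ⟨⟨g.1.1, Subgroup.mem_centralizer_iff.mpr fun u hu =>
            mul_inv_eq_iff_eq_mul.mp (congrArg Subtype.val (g.2 ⟨u, hu⟩))⟩, fun h => g.1.2 ?_⟩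
        invFun := fun c => ⟨⟨c.1.1, fun h => c.2 ?_⟩, fun u => Subtype.ext
          (mul_inv_eq_iff_eq_mul.mpr (Subgroup.mem_centralizer_iff.mp c.1.2 u.1 u.2))⟩
        left_inv := fun g => rfl
        right_inv := fun c => rfl }
    · rwa [← Subgroup.orderOf_coe] at h
    · rwa [← Subgroup.orderOf_coe]
  intro hdvd
  have h0 : p ∣ Nat.card {c : C // Cfsg.IsPRegular p c} := by
    rw [← hfix]
    exact (hmod.dvd_iff (dvd_refl p)).mp hdvd
  obtain ⟨S⟩ := (inferInstance : Nonempty (Sylow p C))
  have hS : (S : Subgroup C) ≤ Subgroup.center C := by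
    intro c hc
    have hcP : (c : G) ∈ (P : Subgroup G) := by
      have hnorm : (S : Subgroup C).map C.subtype ≤ Subgroup.normalizer ((P : Subgroup G) : Set G) :=
        (Subgroup.map_subtype_le _).trans (Subgroup.centralizer_le_normalizer _)
      have hp2 : IsPGroup p ↥(((S : Subgroup C).map C.subtype) ⊔ (P : Subgroup G)) :=
        (S.isPGroup'.map _).to_sup_of_normal_right' P.isPGroup' hnorm
      exact (P.3 hp2 le_sup_right) ▸ (le_sup_left : _ ≤ (S : Subgroup C).map C.subtype ⊔ _)
        (Subgroup.mem_map.mpr ⟨c, hc, rfl⟩)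
    rw [Subgroup.mem_center_iff]
    intro d
    exact Subtype.ext (Subgroup.mem_centralizer_iff.mp d.2 _ hcP).symm
  obtain ⟨N, hN, -, hreg⟩ := exists_regular_subgroup_of_central_sylow S hS
  exact hN (h0.trans (dvd_of_eq (Nat.card_congr (Equiv.subtypeEquivRight hreg))))

/-- `p^a |G|⁻¹ ∑_{p-regular g} ψ g`. -/
noncomputable def regMult [Fintype G] (p : ℕ) (ψ : G → ℂ) : ℂ :=
  (p : ℂ) ^ (Nat.card G).factorization p * (Nat.card G : ℂ)⁻¹ *
    ∑ g : G, Cfsg.pRegularPart p ψ g

/-- `p^a` times the indicator of the `p`-regular elements. -/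
noncomputable def regFun (p : ℕ) : G → ℂ :=
  Cfsg.pRegularPart p fun _ : G => (p : ℂ) ^ (Nat.card G).factorization p

theorem isClassFunction_regFun (p : ℕ) : Cfsg.IsClassFunction G (regFun (G := G) p) := by
  classical
  intro g h
  have : orderOf (h * g * h⁻¹) = orderOf g :=
    orderOf_injective (MulAut.conj h).toMonoidHom (MulAut.conj h).injective g
  have hiff : Cfsg.IsPRegular p (h * g * h⁻¹) ↔ Cfsg.IsPRegular p g := by
    rw [Cfsg.IsPRegular, Cfsg.IsPRegular, this]
  simp only [regFun, Cfsg.pRegularPart]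
  exact if_congr hiff rfl rfl

omit [Finite G] in
theorem classInner_eq_regMult [Fintype G] (p : ℕ) (ψ : G → ℂ) (hψ : ∀ g, conj (ψ g) = ψ g⁻¹) :
    Cfsg.classInner (regFun (G := G) p) ψ = regMult p ψ := by
  classical
  rw [Cfsg.classInner, regMult, mul_comm ((p : ℂ) ^ _), mul_assoc, Finset.mul_sum _ _ ((p : ℂ) ^ _)]
  congr 1
  refine Fintype.sum_equiv (Equiv.inv G) _ _ fun g => ?_
  have hiff : Cfsg.IsPRegular p g⁻¹ ↔ Cfsg.IsPRegular p g := by
    rw [Cfsg.IsPRegular, Cfsg.IsPRegular, orderOf_inv]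
  simp only [regFun, Cfsg.pRegularPart, Equiv.inv_apply, hψ, if_congr hiff rfl rfl]
  split_ifs <;> simp

/-- `regMult` is an integer on irreducible characters. -/
theorem exists_int_regMult [Fintype G] (p : ℕ) [Fact p.Prime] (ψ : Cfsg.IrrCharacter G) :
    ∃ z : ℤ, regMult p (ψ : G → ℂ) = z := by
  classical
  have hp : p.Prime := Fact.out
  set a := (Nat.card G).factorization p with ha
  let I : Ideal ℤ :=
    { carrier := {n : ℤ | ∃ z : ℤ, (n : ℂ) * regMult p (ψ : G → ℂ) = z}
      add_mem' := by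
        rintro x y ⟨z, hz⟩ ⟨w, hw⟩
        exact ⟨z + w, by push_cast; rw [add_mul, hz, hw]⟩
      zero_mem' := ⟨0, by simp⟩
      smul_mem' := by
        rintro c x ⟨z, hz⟩
        exact ⟨c * z, by rw [smul_eq_mul]; push_cast; rw [mul_assoc, hz]⟩ }
  have hloc : ∀ q : ℕ, q.Prime → ∃ m ∈ I, ¬ (q : ℤ) ∣ m := by
    intro q hq
    obtain ⟨m, l, hm, hl, heq⟩ := CfsgLib.CharDeep.Ind.brauer_local G q hq
    refine ⟨m, ?_, hm⟩
    -- integrality of each induced contribution
    have hterm : ∀ t ∈ l, ∃ z : ℤ,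
        Cfsg.classInner ((t.2.2 : ℂ) • Cfsg.indFun t.1 t.2.1 * regFun p) (ψ : G → ℂ) = z := by
      rintro ⟨E, φ, c⟩ ht
      obtain ⟨hE, hφ⟩ := hl _ ht
      obtain ⟨N, ⟨k, hk⟩, hN⟩ := exists_regular_subgroup_of_elementary (p := p) hq hE
      haveI : Fintype N := Fintype.ofFinite N
      -- the character `φ * conj ψ|E` and its average over `N`
      have hψc : Cfsg.IsCharacter E (fun e : E => (ψ : G → ℂ) ((e : G))⁻¹) := by
        obtain ⟨f, n, ρ, hirr, rfl⟩ := ψ
        have h1 := CfsgLib.Char.isCharacter_character (G := E)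
          (Representation.dual (ρ.comp E.subtype) : Representation ℂ E (Module.Dual ℂ (Fin n → ℂ)))
        have h2 : (Representation.dual (ρ.comp E.subtype) :
            Representation ℂ E (Module.Dual ℂ (Fin n → ℂ))).character = fun e : E => ρ.character ((e : G))⁻¹ := by
          funext e
          rw [Representation.char_dual]
          rfl
        rwa [h2] at h1
      obtain ⟨n, σ, hσ⟩ := CfsgLib.Char.IsCharacter.mul hφ hψc
      haveI : Invertible (Nat.card N : ℂ) := invertibleOfNonzero (by simp [Nat.card_pos.ne'])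
      set m' := Module.finrank ℂ (Representation.invariants (σ.comp N.subtype : Representation ℂ N (Fin n → ℂ)))
      have havg : ∑ w : N, σ.character (w : E) = (Nat.card N : ℂ) * m' := by
        rw [← Representation.card_inv_mul_sum_char_eq_finrank, ← mul_assoc,
          mul_inv_cancel₀ (by simp [Nat.card_pos.ne']), one_mul]
        rfl
      have hka : k ≤ a := by
        refine (hp.pow_dvd_iff_le_factorization Nat.card_pos.ne').mp ?_
        rw [← hk]
        exact N.index_dvd_card.trans E.card_subgroup_dvd_card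
      refine ⟨c * ((p : ℤ) ^ (a - k) * m'), ?_⟩
      change Cfsg.classInner (((c : ℤ) : ℂ) • Cfsg.indFun E φ * regFun p) (ψ : G → ℂ) = _
      rw [smul_mul_assoc, CfsgLib.Char.classInner_smul_left,
        ← CfsgLib.Char.indFun_mul_res (θ := φ) (χ := regFun p) (hχ := isClassFunction_regFun p),
        CfsgLib.Char.classInner_indFun (hχ := CfsgLib.Char.IsIrrCharacter.isClassFunction ψ.2)]
      push_cast
      congr 1
      rw [Cfsg.classInner]
      have hsum : ∑ e : E, φ e * regFun (G := G) p (e : G) * conj ((ψ : G → ℂ) (e : G)) =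
          (p : ℂ) ^ a * ∑ w : N, σ.character (w : E) := by
        rw [Finset.mul_sum, ← Finset.sum_subtype (Finset.univ.filter fun e : E => e ∈ N) (by simp)
          (fun e => (p : ℂ) ^ a * σ.character e), Finset.sum_filter]
        refine Finset.sum_congr rfl fun e _ => ?_
        have : Cfsg.IsPRegular p (e : G) ↔ e ∈ N := by
          rw [← hN, Cfsg.IsPRegular, Cfsg.IsPRegular, Subgroup.orderOf_coe]
        simp only [regFun, Cfsg.pRegularPart, this, hσ, Pi.mul_apply, conj_char, ← ha]
        split_ifs <;> ring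
      rw [hsum, havg]
      have hE0 : (Nat.card E : ℂ) = (p : ℂ) ^ k * Nat.card N := by
        rw [← N.index_mul_card, hk]; push_cast; rfl
      rw [hE0, show (p : ℂ) ^ a = (p : ℂ) ^ (a - k) * (p : ℂ) ^ k by rw [← pow_add, Nat.sub_add_cancel hka]]
      have hp0 : (p : ℂ) ≠ 0 := by exact_mod_cast hp.ne_zero
      have hN0 : (Nat.card N : ℂ) ≠ 0 := by simp [Nat.card_pos.ne']
      field_simp
    have hmul : (m : ℂ) * regMult p (ψ : G → ℂ) =
        (l.map fun t => Cfsg.classInner ((t.2.2 : ℂ) • Cfsg.indFun t.1 t.2.1 * regFun p) (ψ : G → ℂ)).sum := by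
      rw [← classInner_eq_regMult p _ (fun g => conj_char ψ g), ← CfsgLib.Char.classInner_smul_left,
        show (m : ℂ) • regFun (G := G) p = (fun _ : G => (m : ℂ)) * regFun p from rfl, heq]
      clear heq hterm hl
      induction l with
      | nil => simp [CfsgLib.Char.classInner_zero_left]
      | cons t l ih =>
        simp only [List.map_cons, List.sum_cons, add_mul, CfsgLib.Char.classInner_add_left, ih]
    show ∃ z : ℤ, _
    rw [hmul]
    clear hmul heq hl
    induction l with
    | nil => exact ⟨0, by simp⟩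
    | cons t l ih =>
      obtain ⟨z, hz⟩ := hterm t (List.mem_cons_self ..)
      obtain ⟨w, hw⟩ := ih fun s hs => hterm s (List.mem_cons_of_mem _ hs)
      exact ⟨z + w, by rw [List.map_cons, List.sum_cons, hz, hw, Int.cast_add]⟩
  obtain ⟨d, hd⟩ := (IsPrincipalIdealRing.principal I).principal
  have hd1 : d.natAbs = 1 := by
    by_contra hne
    obtain ⟨q, hq, hqd⟩ := Nat.exists_prime_and_dvd hne
    obtain ⟨m, hmI, hm⟩ := hloc q hq
    rw [hd, Ideal.submodule_span_eq, Ideal.mem_span_singleton] at hmI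
    exact hm ((Int.natCast_dvd.mpr hqd).trans hmI)
  have h1 : (1 : ℤ) ∈ I := by
    rw [hd, Ideal.submodule_span_eq, Ideal.mem_span_singleton]
    exact Int.natAbs_dvd_natAbs.mp (by rw [hd1]; exact one_dvd _)
  obtain ⟨z, hz⟩ := h1
  exact ⟨z, by simpa using hz⟩

/-- `regMult` does not vanish on the principal block. -/
theorem regMult_ne_zero [Fintype G] (p : ℕ) [Fact p.Prime] {M : Ideal Cfsg.AlgInt}
    (hM : Cfsg.IsPModular p M) (ψ : Cfsg.IrrCharacter G) (hψ : ψ ∈ Cfsg.principalBlock M G) :
    regMult p (ψ : G → ℂ) ≠ 0 := by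
  classical
  haveI := hM.2.1
  intro h0
  have hp : p.Prime := Fact.out
  have hsum : ∑ g : G, Cfsg.pRegularPart p (ψ : G → ℂ) g = 0 := by
    simpa [regMult, hp.ne_zero, Nat.card_pos.ne'] using h0
  have : Fintype (ConjClasses G) := Fintype.ofFinite _
  -- split the sum over classes
  have hsplit : ∀ f : G → ℂ, ∑ g : G, f g =
      ∑ c : ConjClasses G, ∑ g ∈ Finset.univ.filter (fun g => ConjClasses.mk g = c), f g :=
    fun f => (Finset.sum_fiberwise Finset.univ ConjClasses.mk f).symm
  have hli : MemLocalIdeal M ((Nat.card {g : G // Cfsg.IsPRegular p g} : ℂ)) := by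
    have h1 : (Nat.card {g : G // Cfsg.IsPRegular p g} : ℂ) =
        ∑ g : G, ((if Cfsg.IsPRegular p g then (1 : ℂ) else 0) -
          Cfsg.pRegularPart p (ψ : G → ℂ) g / (ψ : G → ℂ) 1) := by
      rw [Finset.sum_sub_distrib, ← Finset.sum_div, hsum, zero_div, sub_zero, Finset.sum_boole,
        Nat.card_eq_fintype_card, Fintype.card_subtype]
    rw [h1, hsplit]
    refine li_sum _ fun c _ => ?_
    obtain ⟨u, rfl⟩ := ConjClasses.mk_surjective c
    have hconst : ∀ g ∈ Finset.univ.filter (fun g => ConjClasses.mk g = ConjClasses.mk u),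
        ((if Cfsg.IsPRegular p g then (1 : ℂ) else 0) - Cfsg.pRegularPart p (ψ : G → ℂ) g / (ψ : G → ℂ) 1) =
        (if Cfsg.IsPRegular p u then (1 : ℂ) - (ψ : G → ℂ) u / (ψ : G → ℂ) 1 else 0) := by
      intro g hg
      have hc : IsConj u g := (ConjClasses.mk_eq_mk_iff_isConj.mp (Finset.mem_filter.mp hg).2).symm
      have hv : (ψ : G → ℂ) g = (ψ : G → ℂ) u :=
        (CfsgLib.Char.IsClassFunction.eq_of_isConj (CfsgLib.Char.IsIrrCharacter.isClassFunction ψ.2) hc).symm
      have ho : orderOf g = orderOf u := by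
        obtain ⟨d, rfl⟩ := isConj_iff.mp hc
        exact orderOf_injective (MulAut.conj d).toMonoidHom (MulAut.conj d).injective u
      have hiff : Cfsg.IsPRegular p g ↔ Cfsg.IsPRegular p u := by
        rw [Cfsg.IsPRegular, Cfsg.IsPRegular, ho]
      simp only [Cfsg.pRegularPart, hv, if_congr hiff rfl rfl]
      split_ifs <;> simp
    rw [Finset.sum_congr rfl hconst, Finset.sum_const, nsmul_eq_mul]
    split_ifs
    · have hcard : (Finset.univ.filter fun g : G => ConjClasses.mk g = ConjClasses.mk u).card =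
          (Subgroup.centralizer ({u} : Set G)).index := by
        rw [CfsgLib.Char.index_centralizer_eq_card_isConj, Nat.card_eq_fintype_card, Fintype.card_subtype]
        congr 1
        ext g
        simp only [Finset.mem_filter, Finset.mem_univ, true_and, ConjClasses.mk_eq_mk_iff_isConj]
        exact ⟨IsConj.symm, IsConj.symm⟩
      have := hψ u
      simp only [Cfsg.centralChar, mul_one, div_one, mul_div_assoc] at this
      rw [hcard, mul_sub, mul_one]
      exact this
    · simpa using li_zero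
  exact natCast_not_li hM (not_dvd_card_regular p) hli

/-- The principal block has at most `p^{2a}` members. -/
theorem card_principalBlock_le (p : ℕ) [Fact p.Prime] (M : Ideal Cfsg.AlgInt) (hM : Cfsg.IsPModular p M) :
    Nat.card (Cfsg.principalBlock M G) ≤ p ^ (2 * (Nat.card G).factorization p) := by
  classical
  have := Fintype.ofFinite G
  set a := (Nat.card G).factorization p
  choose z hz using fun ψ : Cfsg.IrrCharacter G => exists_int_regMult p ψ
  have hpars : ∑ ψ : Cfsg.IrrCharacter G, ((z ψ : ℂ)) ^ 2 =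
      Cfsg.classInner (regFun (G := G) p) (regFun p) := by
    rw [CfsgLib.Char.classInner_eq_sum (isClassFunction_regFun p) (isClassFunction_regFun p)]
    refine Finset.sum_congr rfl fun ψ _ => ?_
    rw [classInner_eq_regMult p _ (fun g => conj_char ψ g), hz ψ, map_intCast, sq]
  have hval : Cfsg.classInner (regFun (G := G) p) (regFun p) =
      ((p ^ (2 * a) * Nat.card {g : G // Cfsg.IsPRegular p g} : ℕ) : ℂ) / Nat.card G := by
    rw [Cfsg.classInner, div_eq_inv_mul]
    congr 1
    rw [Nat.card_eq_fintype_card, Fintype.card_subtype, Nat.cast_mul, ← Finset.sum_boole, Finset.mul_sum]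
    refine Finset.sum_congr rfl fun g _ => ?_
    simp only [regFun, Cfsg.pRegularPart]
    split_ifs
    · simp [a, two_mul, pow_add, Nat.card_eq_fintype_card]
    · simp
  rw [hval, eq_div_iff (by simp [Nat.card_pos.ne'])] at hpars
  have hint : (∑ ψ : Cfsg.IrrCharacter G, z ψ ^ 2) * (Nat.card G : ℤ) =
      ((p ^ (2 * a) * Nat.card {g : G // Cfsg.IsPRegular p g} : ℕ) : ℤ) := by exact_mod_cast hpars
  have hle : ((p ^ (2 * a) * Nat.card {g : G // Cfsg.IsPRegular p g} : ℕ) : ℤ) ≤
      ((p ^ (2 * a) : ℕ) : ℤ) * Nat.card G := by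
    rw [Nat.cast_mul]
    exact mul_le_mul_of_nonneg_left
      (by exact_mod_cast Nat.card_le_card_of_injective _ Subtype.val_injective) (Int.natCast_nonneg _)
  rw [← hint] at hle
  have hle' := le_of_mul_le_mul_right hle (by exact_mod_cast Nat.card_pos)
  have hB : (Nat.card (Cfsg.principalBlock M G) : ℤ) ≤ ∑ ψ : Cfsg.IrrCharacter G, z ψ ^ 2 := by
    rw [Nat.card_eq_fintype_card, ← Set.toFinset_card, Finset.card_eq_sum_ones, Nat.cast_sum]
    refine (Finset.sum_le_sum fun ψ hψ => ?_).trans
      (Finset.sum_le_sum_of_subset_of_nonneg (Finset.subset_univ _) fun ψ _ _ => sq_nonneg _)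
    rw [Set.mem_toFinset] at hψ
    have hne : z ψ ≠ 0 := fun h => regMult_ne_zero p hM ψ hψ (by rw [hz, h, Int.cast_zero])
    have : 0 < z ψ ^ 2 := pow_two_pos_of_ne_zero hne
    push_cast; omega
  exact_mod_cast hB.trans hle'

end CfsgLib.Blk83
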