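/-
The principal block through `p`-regular multiplicities: membership, kernel, passage to quotients by `p'`-groups.
-/
import Cfsg.Agent.Lib.Blk83.PrincipalBound
import Cfsg.Agent.Lib.Blk83.PrincipalPairs
import Cfsg.Agent.Lib.BlockReg.Height
import Cfsg.Agent.Lib.Char.Twist
import Cfsg.Agent.Lib.Char.GaloisConj

set_option autoImplicit false
open Cfsg
open scoped ComplexConjugate

namespace CfsgLib.Blk83

variable {G : Type*} [Group G] [Finite G]

/-- A character is in the principal block iff its sum over the `p`-regular elements is nonzero. -/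
theorem mem_principalBlock_iff [Fintype G] (p : ℕ) [Fact p.Prime] {M : Ideal Cfsg.AlgInt}
    (hM : Cfsg.IsPModular p M) (ψ : Cfsg.IrrCharacter G) :
    ψ ∈ Cfsg.principalBlock M G ↔ regMult p (ψ : G → ℂ) ≠ 0 := by
  classical
  refine ⟨regMult_ne_zero p hM ψ, fun h => ?_⟩
  by_contra hψ
  apply h
  have heq : CfsgLib.BlockReg.tilde p ((CfsgLib.Char.principalIrr : Cfsg.IrrCharacter G) : G → ℂ) =
      regFun (G := G) p := by
    funext g
    simp only [CfsgLib.BlockReg.tilde, regFun, Cfsg.pRegularPart]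
    by_cases hg : p ∣ orderOf g
    · rw [if_pos hg, if_neg (fun h' : Cfsg.IsPRegular p g => h' hg)]
    · rw [if_neg hg, if_pos (show Cfsg.IsPRegular p g from hg)]
      simp
  have h0 := CfsgLib.BlockReg.classInner_tilde_eq_zero hM principalBlock_isPBlock (principal_mem hM) hψ
  rw [heq, classInner_eq_regMult p _ (fun g => conj_char ψ g)] at h0
  exact h0

/-- An irreducible character, summed over a coset of a normal subgroup outside its kernel, vanishes. -/
theorem sum_coset_eq_zero (ψ : Cfsg.IrrCharacter G) (N : Subgroup G) [N.Normal] [Fintype N]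
    (hN : ¬ ∀ n ∈ N, (ψ : G → ℂ) n = (ψ : G → ℂ) 1) (g : G) :
    ∑ n : N, (ψ : G → ℂ) (g * (n : G)) = 0 := by
  obtain ⟨f, d, ρ, hirr, rfl⟩ := ψ
  haveI := hirr
  set A : (Fin d → ℂ) →ₗ[ℂ] (Fin d → ℂ) := ∑ n : N, ρ (n : G) with hA
  have hcomm : ∀ x : G, A * ρ x = ρ x * A := by
    intro x
    simp only [hA, Finset.sum_mul, Finset.mul_sum, ← map_mul]
    refine Fintype.sum_equiv ((MulAut.conjNormal (H := N) x⁻¹).toEquiv) _ _ fun n => ?_
    simp [mul_assoc]
  obtain ⟨c, hc⟩ := CfsgLib.Char.exists_scalar_of_commute ρ A hcomm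
  have hc0 : c = 0 := by
    by_contra hc0
    refine hN fun m hm => ?_
    have h1 : ρ m * A = A := by
      simp only [hA, Finset.mul_sum, ← map_mul]
      exact Fintype.sum_equiv (Equiv.mulLeft (⟨m, hm⟩ : N)) _ _ fun n => by simp
    rw [hc, mul_smul_one] at h1
    have h2 : ρ m = 1 := smul_right_injective _ hc0 h1
    change LinearMap.trace ℂ _ (ρ m) = LinearMap.trace ℂ _ (ρ 1)
    rw [h2, map_one ρ]
  have h3 : ∑ n : N, LinearMap.trace ℂ (Fin d → ℂ) (ρ (g * (n : G))) =
      LinearMap.trace ℂ (Fin d → ℂ) (ρ g * A) := by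
    rw [hA, Finset.mul_sum, map_sum]
    simp only [← map_mul]
  change ∑ n : N, LinearMap.trace ℂ (Fin d → ℂ) (ρ (g * (n : G))) = 0
  rw [h3, hc, hc0]
  simp

/-- Modulo a normal `p'`-subgroup, `p`-regularity is unchanged. -/
theorem isPRegular_mk_iff {p : ℕ} [Fact p.Prime] (N : Subgroup G) [N.Normal] (hN : ¬ p ∣ Nat.card N) (g : G) :
    Cfsg.IsPRegular p g ↔ Cfsg.IsPRegular p (QuotientGroup.mk g : G ⧸ N) := by
  refine not_congr ⟨fun h => ?_, fun h => dvd_trans h (orderOf_map_dvd (QuotientGroup.mk' N) g)⟩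
  set k := orderOf (QuotientGroup.mk g : G ⧸ N) with hk
  have hmem : g ^ k ∈ N := by
    rw [← QuotientGroup.eq_one_iff, QuotientGroup.mk_pow, hk, pow_orderOf_eq_one]
  have h1 : orderOf g ∣ k * Nat.card N := by
    rw [orderOf_dvd_iff_pow_eq_one, pow_mul]
    exact congrArg Subtype.val (pow_card_eq_one' (x := (⟨g ^ k, hmem⟩ : N)))
  exact ((Fact.out : p.Prime).dvd_mul.mp (h.trans h1)).resolve_right hN

/-- Members of the principal block are trivial on normal `p'`-subgroups. -/
theorem principal_trivial_on [Fintype G] {p : ℕ} [Fact p.Prime] {M : Ideal Cfsg.AlgInt}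
    (hM : Cfsg.IsPModular p M) (N : Subgroup G) [N.Normal] (hN : ¬ p ∣ Nat.card N)
    {ψ : Cfsg.IrrCharacter G} (hψ : ψ ∈ Cfsg.principalBlock M G) :
    ∀ n ∈ N, (ψ : G → ℂ) n = (ψ : G → ℂ) 1 := by
  classical
  by_contra hne
  apply (mem_principalBlock_iff p hM ψ).mp hψ
  have hN0 : (Nat.card N : ℂ) ≠ 0 := by exact_mod_cast Nat.card_pos.ne'
  have hsum : (Nat.card N : ℂ) * ∑ g : G, Cfsg.pRegularPart p (ψ : G → ℂ) g = 0 := by
    have hshift : ∀ n : N, ∑ g : G, Cfsg.pRegularPart p (ψ : G → ℂ) g =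
        ∑ g : G, Cfsg.pRegularPart p (ψ : G → ℂ) (g * (n : G)) := fun n =>
      (Fintype.sum_equiv (Equiv.mulRight (n : G)) _ _ fun g => rfl).symm
    calc (Nat.card N : ℂ) * ∑ g : G, Cfsg.pRegularPart p (ψ : G → ℂ) g
        = ∑ n : N, ∑ g : G, Cfsg.pRegularPart p (ψ : G → ℂ) (g * (n : G)) := by
          rw [← Finset.sum_congr rfl (fun n _ => hshift n), Finset.sum_const, nsmul_eq_mul,
            Finset.card_univ, Nat.card_eq_fintype_card]
      _ = 0 := by
          rw [Finset.sum_comm]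
          refine Finset.sum_eq_zero fun g _ => ?_
          have hiff : ∀ n : N, Cfsg.IsPRegular p (g * (n : G)) ↔ Cfsg.IsPRegular p g := fun n => by
            rw [isPRegular_mk_iff N hN, isPRegular_mk_iff N hN g, QuotientGroup.mk_mul,
              (QuotientGroup.eq_one_iff _).mpr n.2, mul_one]
          simp only [Cfsg.pRegularPart]
          by_cases hg : Cfsg.IsPRegular p g
          · simp only [hiff, hg, if_true]
            exact sum_coset_eq_zero ψ N hne g
          · exact Finset.sum_eq_zero fun n _ => if_neg fun h => hg ((hiff n).mp h)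
  rw [mul_eq_zero] at hsum
  simp [regMult, hsum.resolve_left hN0]

/-- Inflation of irreducible characters from a quotient. -/
def inflIrr (N : Subgroup G) [N.Normal] (η : Cfsg.IrrCharacter (G ⧸ N)) : Cfsg.IrrCharacter G :=
  ⟨(η : G ⧸ N → ℂ) ∘ QuotientGroup.mk' N,
    CfsgLib.CharTwist.isIrrCharacter_comp η.2 (QuotientGroup.mk' N) (QuotientGroup.mk'_surjective N)⟩

omit [Finite G] in
@[simp] theorem inflIrr_apply (N : Subgroup G) [N.Normal] (η : Cfsg.IrrCharacter (G ⧸ N)) (g : G) :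
    (inflIrr N η : G → ℂ) g = (η : G ⧸ N → ℂ) (QuotientGroup.mk g) := rfl

omit [Finite G] in
theorem inflIrr_injective (N : Subgroup G) [N.Normal] : Function.Injective (inflIrr N) := by
  intro η η' h
  refine Subtype.ext (funext fun x => ?_)
  obtain ⟨g, rfl⟩ := QuotientGroup.mk_surjective x
  simpa using congrArg (fun t : Cfsg.IrrCharacter G => (t : G → ℂ) g) h

theorem sum_quotient (N : Subgroup G) [Fintype G] [Fintype (G ⧸ N)] (F : G ⧸ N → ℂ) :
    ∑ g : G, F (QuotientGroup.mk g) = (Nat.card N : ℂ) * ∑ x : G ⧸ N, F x := by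
  classical
  rw [← Finset.sum_fiberwise Finset.univ (fun g : G => (QuotientGroup.mk g : G ⧸ N)), Finset.mul_sum]
  refine Finset.sum_congr rfl fun x _ => ?_
  rw [Finset.sum_congr rfl (fun g hg => congrArg F (Finset.mem_filter.mp hg).2), Finset.sum_const,
    nsmul_eq_mul]
  congr 1
  obtain ⟨g₀, rfl⟩ := QuotientGroup.mk_surjective x
  rw [Nat.cast_inj, Nat.card_eq_fintype_card, ← Finset.card_univ]
  refine (Finset.card_bij (s := (Finset.univ : Finset N)) (fun n _ => g₀ * (n : G)) ?_ ?_ ?_).symm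
  · intro n _
    rw [Finset.mem_filter]
    exact ⟨Finset.mem_univ _, QuotientGroup.eq.mpr (by simp)⟩
  · intro a _ b _ h
    exact Subtype.ext (mul_left_cancel h)
  · intro g hg
    exact ⟨⟨g₀⁻¹ * g, QuotientGroup.eq.mp (Finset.mem_filter.mp hg).2.symm⟩, Finset.mem_univ _, by simp⟩

theorem regMult_inflIrr [Fintype G] {p : ℕ} [Fact p.Prime] (N : Subgroup G) [N.Normal] [Fintype (G ⧸ N)]
    (hN : ¬ p ∣ Nat.card N) (η : Cfsg.IrrCharacter (G ⧸ N)) :
    regMult p (inflIrr N η : G → ℂ) = regMult p (η : G ⧸ N → ℂ) := by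
  classical
  have hp : p.Prime := Fact.out
  have hc : Nat.card G = Nat.card (G ⧸ N) * Nat.card N := Subgroup.card_eq_card_quotient_mul_card_subgroup N
  have hf : (Nat.card G).factorization p = (Nat.card (G ⧸ N)).factorization p := by
    rw [hc, Nat.factorization_mul Nat.card_pos.ne' Nat.card_pos.ne']
    rw [Finsupp.add_apply, Nat.factorization_eq_zero_of_not_dvd hN, add_zero]
  have hval : ∀ g : G, Cfsg.pRegularPart p (inflIrr N η : G → ℂ) g =
      Cfsg.pRegularPart p (η : G ⧸ N → ℂ) (QuotientGroup.mk g) := fun g => by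
    simp only [Cfsg.pRegularPart, inflIrr_apply]
    exact if_congr (isPRegular_mk_iff N hN g) rfl rfl
  have hN0 : (Nat.card N : ℂ) ≠ 0 := by exact_mod_cast Nat.card_pos.ne'
  have hQ0 : (Nat.card (G ⧸ N) : ℂ) ≠ 0 := by exact_mod_cast Nat.card_pos.ne'
  simp only [regMult, hval, sum_quotient N, hf]
  rw [hc]
  push_cast
  field_simp

/-- Inflation is a bijection between the principal blocks. -/
theorem inflIrr_bijOn {p : ℕ} [Fact p.Prime] {M : Ideal Cfsg.AlgInt} (hM : Cfsg.IsPModular p M)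
    (N : Subgroup G) [N.Normal] (hN : ¬ p ∣ Nat.card N) :
    Set.BijOn (inflIrr N) (Cfsg.principalBlock M (G ⧸ N)) (Cfsg.principalBlock M G) := by
  classical
  have := Fintype.ofFinite G
  have := Fintype.ofFinite (G ⧸ N)
  refine ⟨fun η hη => ?_, fun a _ b _ h => inflIrr_injective N h, fun ψ hψ => ?_⟩
  · rw [mem_principalBlock_iff p hM, regMult_inflIrr N hN]
    exact (mem_principalBlock_iff p hM η).mp hη
  · obtain ⟨η, hη, heq⟩ := CfsgLib.CharTwist.exists_irr_quotient ψ.2 N (principal_trivial_on hM N hN hψ)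
    have hinf : inflIrr N ⟨η, hη⟩ = ψ := Subtype.ext heq.symm
    refine ⟨⟨η, hη⟩, ?_, hinf⟩
    rw [mem_principalBlock_iff p hM, ← regMult_inflIrr N hN, hinf]
    exact (mem_principalBlock_iff p hM ψ).mp hψ

/-- Galois conjugation by power maps preserves the principal block. -/
theorem powIrr_mem {p : ℕ} [Fact p.Prime] {M : Ideal Cfsg.AlgInt} (hM : Cfsg.IsPModular p M) {k : ℕ}
    (hk : k.Coprime (Nat.card G)) {ψ : Cfsg.IrrCharacter G} (hψ : ψ ∈ Cfsg.principalBlock M G) :
    CfsgLib.CharGalois.powIrr hk ψ ∈ Cfsg.principalBlock M G := by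
  classical
  have := Fintype.ofFinite G
  rw [mem_principalBlock_iff p hM] at hψ ⊢
  have : ∑ g : G, Cfsg.pRegularPart p (CfsgLib.CharGalois.powIrr hk ψ : G → ℂ) g =
      ∑ g : G, Cfsg.pRegularPart p (ψ : G → ℂ) g := by
    refine Fintype.sum_equiv (Equiv.ofBijective _ (CfsgLib.CharGalois.pow_bijective hk)) _ _ fun g => ?_
    have ho : orderOf (g ^ k) = orderOf g := by
      rw [orderOf_pow, Nat.Coprime.gcd_eq_one, Nat.div_one]
      exact Nat.Coprime.coprime_dvd_left (orderOf_dvd_natCard g) hk.symm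
    have hiff : Cfsg.IsPRegular p (g ^ k) ↔ Cfsg.IsPRegular p g := by
      rw [Cfsg.IsPRegular, Cfsg.IsPRegular, ho]
    simp only [Cfsg.pRegularPart, Equiv.ofBijective_apply, CfsgLib.CharGalois.powIrr_apply]
    exact (if_congr hiff rfl rfl).symm
  simpa [regMult, this] using hψ

end CfsgLib.Blk83
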