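import Cfsg.Agent.Lib.Blk83.AbelianExceptional

/-!
The map from non-principal linear characters to exceptional characters.
-/

set_option autoImplicit false
open Cfsg
open scoped IsMulCommutative

namespace CfsgLib.Blk83

open FreeOrbit

universe u

variable {G : Type u} [Group G] [Finite G] {p : ℕ} [Fact p.Prime] {M : Ideal Cfsg.AlgInt}
variable {P : Sylow p G} [IsMulCommutative (P : Subgroup G)]
variable [Fintype (autGroup P)] [Fintype (Orb (autGroup P))]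

namespace ExceptionalData

variable (E : ExceptionalData P M)

open scoped Classical in
/-- The exceptional character attached to a linear character. -/
noncomputable def zeta (ψ : ↥(P : Subgroup G) →* ℂˣ) : Cfsg.IrrCharacter G :=
  if h : ψ = 1 then CfsgLib.Char.principalIrr else E.μ (orbOf (autGroup P) ψ h)

theorem zeta_of_ne {ψ : ↥(P : Subgroup G) →* ℂˣ} (h : ψ ≠ 1) :
    E.zeta ψ = E.μ (orbOf (autGroup P) ψ h) := by
  rw [zeta, dif_neg h]

theorem zeta_mem {ψ : ↥(P : Subgroup G) →* ℂˣ} (h : ψ ≠ 1) : E.zeta ψ ∈ Set.range E.μ :=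
  ⟨_, (E.zeta_of_ne h).symm⟩

theorem exists_zeta_eq {η : Cfsg.IrrCharacter G} (h : η ∈ Set.range E.μ) :
    ∃ ψ : ↥(P : Subgroup G) →* ℂˣ, ψ ≠ 1 ∧ E.zeta ψ = η := by
  obtain ⟨q, rfl⟩ := h
  exact ⟨rep (autGroup P) q, rep_ne_one _ q,
    (E.zeta_of_ne (rep_ne_one _ q)).trans (by rw [orbOf_rep])⟩

theorem zeta_const {ψ ψ' : ↥(P : Subgroup G) →* ℂˣ} (h : ψ ≠ 1)
    (h' : ∃ n : G, n ∈ Subgroup.normalizer ((P : Subgroup G) : Set G) ∧
      ∀ w w' : ↥(P : Subgroup G), (w' : G) = n * w * n⁻¹ → ψ' w' = ψ w) :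
    E.zeta ψ' = E.zeta ψ := by
  have hm : ψ' ∈ Set.range fun a : autGroup P => act ψ (a : MulAut (P : Subgroup G)) := by
    rw [← orbit_eq_range P ψ]
    exact h'
  obtain ⟨a, rfl⟩ := hm
  rw [E.zeta_of_ne (act_ne_one h _), E.zeta_of_ne h, orbOf_act]

theorem zeta_apply
    (hfix : ∀ y ∈ (P : Subgroup G), y ≠ 1 →
      Subgroup.centralizer ({y} : Set G) ⊓ Subgroup.normalizer ((P : Subgroup G) : Set G) ≤
        Subgroup.centralizer ((P : Subgroup G) : Set G))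
    (hM : Cfsg.IsPModular p M) {ψ : ↥(P : Subgroup G) →* ℂˣ} (h : ψ ≠ 1) (z : G)
    (y : ↥(P : Subgroup G)) (hzy : Cfsg.IsPPart p z (y : G)) (hy : (y : G) ≠ 1) :
    (E.zeta ψ : G → ℂ) z = (E.d : ℂ) + (E.ε : ℂ) *
      ∑ᶠ ψ' ∈ {ψ' : ↥(P : Subgroup G) →* ℂˣ | ∃ n : G,
        n ∈ Subgroup.normalizer ((P : Subgroup G) : Set G) ∧
          ∀ w w' : ↥(P : Subgroup G), (w' : G) = n * w * n⁻¹ → ψ' w' = ψ w},
        ((ψ' y : ℂˣ) : ℂ) := by
  rw [apply_of_isPPart P hfix hM (by rw [E.zeta_of_ne h]; exact E.μ_mem _) hzy y.2 hy,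
    orbit_eq_range P ψ, finsum_orbit (autGroup P) (autGroup_free P hfix) h y, E.zeta_of_ne h,
    E.apply_exc _ y (fun e => hy (congrArg Subtype.val e))]
  obtain ⟨a, ha⟩ := exists_act_rep (autGroup P) ψ h
  conv_rhs => rw [← ha, orbSum_act]

theorem apply_nonexc_section
    (hfix : ∀ y ∈ (P : Subgroup G), y ≠ 1 →
      Subgroup.centralizer ({y} : Set G) ⊓ Subgroup.normalizer ((P : Subgroup G) : Set G) ≤
        Subgroup.centralizer ((P : Subgroup G) : Set G))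
    (hM : Cfsg.IsPModular p M) {χ : Cfsg.IrrCharacter G}
    (hχ : χ ∈ Cfsg.principalBlock M G \ Set.range E.μ) (z y : G) (hzy : Cfsg.IsPPart p z y)
    (hy : y ∈ (P : Subgroup G)) (hy1 : y ≠ 1) : (χ : G → ℂ) z = (E.a χ : ℂ) := by
  rw [apply_of_isPPart P hfix hM hχ.1 hzy hy hy1]
  exact (E.apply_nonexc χ hχ).2 ⟨y, hy⟩ fun e => hy1 (congrArg Subtype.val e)

end ExceptionalData

end CfsgLib.Blk83
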