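import Mathlib

/-!
An arithmetic lemma on three signed degrees.
-/

set_option autoImplicit false

namespace CfsgLib.Blk83

/-- One sign against two is impossible. -/
theorem no_single_sign {xa xb xc ua ub uc : ℤ} (hxa : 0 < xa) (hxb : 0 < xb) (hua : 0 < ua)
    (h1 : xc = xa + xb + 1) (hu : uc = ua + ub)
    (hq : ua ^ 2 * xb * xc + ub ^ 2 * xa * xc = uc ^ 2 * xa * xb) : False := by
  subst h1 hu
  have h : (ua * xb - ub * xa) ^ 2 + (ua ^ 2 * xb + ub ^ 2 * xa) = 0 := by linear_combination hq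
  nlinarith [sq_nonneg (ua * xb - ub * xa), mul_pos (mul_pos hua hua) hxb,
    mul_nonneg (sq_nonneg ub) hxa.le]

/-- Two negative signs against one positive make the product of the three degrees a square. -/
theorem isSquare_of_two_signs {xa xb xc ua ub uc : ℤ} (huc : uc ≠ 0)
    (h1 : xc = xa + xb - 1) (hu : uc = ua + ub)
    (hq : ua ^ 2 * xb * xc + ub ^ 2 * xa * xc = uc ^ 2 * xa * xb) :
    IsSquare (xa * xb * xc) := by
  have h : (xc * (ua * xb - ub * xa)) ^ 2 = uc ^ 2 * (xa * xb * xc) := by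
    have hD : (ua * xb - ub * xa) ^ 2 = ua ^ 2 * xb + ub ^ 2 * xa := by
      subst h1 hu; linear_combination hq
    linear_combination xc ^ 2 * hD + xc * hq
  obtain ⟨k, hk⟩ := (Int.pow_dvd_pow_iff two_ne_zero).1 (⟨_, h⟩ : uc ^ 2 ∣ (xc * (ua * xb - ub * xa)) ^ 2)
  refine ⟨k, mul_left_cancel₀ (pow_ne_zero 2 huc) ?_⟩
  rw [← h, hk]
  ring

/-- Three signed degrees with vanishing weighted deficits: exactly two signs are negative and the
product of the degrees is a square. -/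
theorem signed_triple {s₁ s₂ s₃ : ℤ} {x₁ x₂ x₃ : ℕ} {u₁ u₂ u₃ : ℤ}
    (hs₁ : s₁ = 1 ∨ s₁ = -1) (hs₂ : s₂ = 1 ∨ s₂ = -1) (hs₃ : s₃ = 1 ∨ s₃ = -1)
    (hx₁ : 0 < x₁) (hx₂ : 0 < x₂) (hx₃ : 0 < x₃) (hu₁ : 0 < u₁) (hu₂ : 0 < u₂) (hu₃ : 0 < u₃)
    (h1 : 1 + s₁ * x₁ + s₂ * x₂ + s₃ * x₃ = 0) (hu : s₁ * u₁ + s₂ * u₂ + s₃ * u₃ = 0)
    (hq : s₁ * u₁ ^ 2 * x₂ * x₃ + s₂ * u₂ ^ 2 * x₁ * x₃ + s₃ * u₃ ^ 2 * x₁ * x₂ = 0) :
    ((if s₁ = -1 then 1 else 0) + (if s₂ = -1 then 1 else 0) + (if s₃ = -1 then 1 else 0) = 2) ∧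
      IsSquare (x₁ * x₂ * x₃) := by
  have hX₁ : (0 : ℤ) < x₁ := by exact_mod_cast hx₁
  have hX₂ : (0 : ℤ) < x₂ := by exact_mod_cast hx₂
  have hX₃ : (0 : ℤ) < x₃ := by exact_mod_cast hx₃
  have key : IsSquare ((x₁ : ℤ) * x₂ * x₃) → IsSquare (x₁ * x₂ * x₃) := fun ⟨k, hk⟩ =>
    ⟨k.natAbs, by rw [← Int.natAbs_mul, ← hk]; norm_cast⟩
  rcases hs₁ with rfl | rfl <;> rcases hs₂ with rfl | rfl <;> rcases hs₃ with rfl | rfl
  · exfalso; linarith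
  · exact (no_single_sign hX₁ hX₂ hu₁ (by linarith : (x₃ : ℤ) = x₁ + x₂ + 1) (by linarith : u₃ = u₁ + u₂)
      (by linear_combination hq)).elim
  · exact (no_single_sign hX₁ hX₃ hu₁ (by linarith : (x₂ : ℤ) = x₁ + x₃ + 1) (by linarith : u₂ = u₁ + u₃)
      (by linear_combination hq)).elim
  · refine ⟨rfl, key ?_⟩
    have h := isSquare_of_two_signs hu₁.ne' (by linarith : (x₁ : ℤ) = x₂ + x₃ - 1)
      (by linarith : u₁ = u₂ + u₃) (by linear_combination -hq)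
    exact (by ring : (x₁ : ℤ) * x₂ * x₃ = x₂ * x₃ * x₁) ▸ h
  · exact (no_single_sign hX₂ hX₃ hu₂ (by linarith : (x₁ : ℤ) = x₂ + x₃ + 1) (by linarith : u₁ = u₂ + u₃)
      (by linear_combination hq)).elim
  · refine ⟨rfl, key ?_⟩
    have h := isSquare_of_two_signs hu₂.ne' (by linarith : (x₂ : ℤ) = x₁ + x₃ - 1)
      (by linarith : u₂ = u₁ + u₃) (by linear_combination -hq)
    exact (by ring : (x₁ : ℤ) * x₂ * x₃ = x₁ * x₃ * x₂) ▸ h
  · refine ⟨rfl, key ?_⟩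
    have h := isSquare_of_two_signs hu₃.ne' (by linarith : (x₃ : ℤ) = x₁ + x₂ - 1)
      (by linarith : u₃ = u₁ + u₂) (by linear_combination -hq)
    exact h
  · exfalso; linarith

end CfsgLib.Blk83
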