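import Cfsg.Agent.Lib.Blk83.AbelianExceptionalApi
import Cfsg.Agent.Lib.Blk83.InvolutionColumn
import Cfsg.Agent.Lib.Blk83.SquareTriple

/-!
Inertial index three: the exceptional constant can be taken zero, and with an involution outside
all proper normal subgroups the signs and degrees are constrained.
-/

set_option autoImplicit false
open Cfsg
open scoped ComplexConjugate IsMulCommutative

namespace CfsgLib.Blk83

open FreeOrbit

universe u

section Orbits

variable {A : Type*} [CommGroup A] [Finite A] (T : Subgroup (MulAut A))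
variable [Fintype T] [Fintype (Orb T)]
variable (hT : ∀ a : T, a ≠ 1 → ∀ y : A, (a : MulAut A) y = y → y = 1)

include hT in
theorem prod_orbit_eq_one (h3 : Nat.card T = 3) (t : A) : ∏ c : T, (c : MulAut A) t = 1 := by
  haveI : Nontrivial T := Finite.one_lt_card_iff_nontrivial.1 (by omega)
  obtain ⟨b, hb⟩ := exists_ne (1 : T)
  refine hT b hb _ ?_
  rw [map_prod]
  exact Fintype.prod_equiv (Equiv.mulLeft b) _ _ fun c => rfl

include hT in
theorem eq_one_of_mul_self (h3 : Nat.card T = 3) {y : A} {a : T}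
    (ha : (a : MulAut A) y = y⁻¹) : y * y = 1 := by
  by_cases h : a = 1
  · subst h
    exact mul_eq_one_iff_eq_inv.2 ha
  · have h3' : (a * a) * a = 1 := by
      have := pow_card_eq_one' (x := a)
      rw [h3] at this
      exact (pow_three' a).symm.trans this
    have hne : a * a ≠ 1 := fun h2 => h (by rwa [h2, one_mul] at h3')
    have : y = 1 := by
      refine hT (a * a) hne y ?_
      simp [MulAut.mul_apply, ha]
    simp [this]

include hT in
theorem sum_orbSum_mul {y z : A} (h : ∀ c : T, y * (c : MulAut A) z ≠ 1) :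
    ∑ q : Orb T, orbSum T (rep T q) y * orbSum T (rep T q) z = -(Nat.card T : ℂ) := by
  classical
  haveI := finite_dual (A := A)
  haveI := Fintype.ofFinite (A →* ℂˣ)
  have key : ∀ q : Orb T, orbSum T (rep T q) y * orbSum T (rep T q) z =
      ∑ c : T, ∑ a : T, (act (rep T q) a (y * (c : MulAut A) z) : ℂ) := by
    intro q
    rw [orbSum, orbSum, Finset.sum_mul_sum]
    conv_rhs => rw [Finset.sum_comm]
    refine Finset.sum_congr rfl fun a _ => ?_
    refine Fintype.sum_equiv (Equiv.mulLeft a⁻¹) _ _ fun b => ?_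
    rw [← Units.val_mul, ← map_mul, act_apply, map_mul]
    simp [MulAut.mul_apply]
  simp only [key]
  rw [Finset.sum_comm, Finset.sum_congr rfl (g := fun _ => (-1 : ℂ)) fun c _ => ?_]
  · simp [Nat.card_eq_fintype_card]
  · rw [sum_orb_act T hT fun ψ => (ψ (y * (c : MulAut A) z) : ℂ), sum_dual, if_neg (h c)]
    simp

include hT in
theorem orbSum_involution (h3 : Nat.card T = 3) {t : A} (ht : t * t = 1) (ψ : A →* ℂˣ) :
    (orbSum T ψ t = 3 ∨ orbSum T ψ t = -1) ∧
      orbSum T ψ t * orbSum T ψ t = 3 + 2 * orbSum T ψ t := by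
  classical
  obtain ⟨a, b, c, hab, hac, hbc, huniv⟩ := Finset.card_eq_three.1
    (show (Finset.univ : Finset T).card = 3 by rw [Finset.card_univ, ← Nat.card_eq_fintype_card, h3])
  set f : T → ℂ := fun x => (ψ ((x : MulAut A) t) : ℂ) with hf
  have hsq : ∀ x, f x * f x = 1 := fun x => by
    rw [hf, ← Units.val_mul, ← map_mul, ← map_mul, ht, map_one, map_one, Units.val_one]
  have hprod : f a * f b * f c = 1 := by
    have h := congrArg (fun z => (ψ z : ℂ)) (prod_orbit_eq_one T hT h3 t)
    simp only [map_prod, Units.coe_prod, map_one, Units.val_one, huniv] at h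
    rw [Finset.prod_insert (by simp [hab, hac]), Finset.prod_insert (by simp [hbc]),
      Finset.prod_singleton] at h
    rw [mul_assoc]
    exact h
  have hO : orbSum T ψ t = f a + (f b + f c) := by
    rw [orbSum, huniv, Finset.sum_insert (by simp [hab, hac]), Finset.sum_insert (by simp [hbc]),
      Finset.sum_singleton]
  have hc : f c = f a * f b := by
    linear_combination (f a * f b) * hprod - (f c * (f b * f b)) * hsq a - f c * hsq b
  rw [hO, hc]
  have ha := hsq a
  have hb := hsq b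
  rcases mul_self_eq_one_iff.1 ha with h1 | h1 <;> rcases mul_self_eq_one_iff.1 hb with h2 | h2 <;>
    rw [h1, h2] <;> norm_num

include hT in
theorem exists_orbSum_eq_three (h3 : Nat.card T = 3) (hlt : 3 + 1 < Nat.card A) {t : A}
    (ht : t * t = 1) (ht1 : t ≠ 1) : ∃ q : Orb T, orbSum T (rep T q) t = 3 := by
  classical
  by_contra hc
  push Not at hc
  have h : ∀ q : Orb T, orbSum T (rep T q) t = -1 := fun q =>
    ((orbSum_involution T hT h3 ht (rep T q)).1).resolve_left (hc q)
  have hsum := sum_orbSum T hT t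
  rw [if_neg ht1, Finset.sum_congr rfl fun q _ => h q, Finset.sum_const, Finset.card_univ,
    nsmul_eq_mul, ← Nat.card_eq_fintype_card] at hsum
  have h1 : Nat.card (Orb T) = 1 := by
    have : ((Nat.card (Orb T) : ℕ) : ℂ) = ((1 : ℕ) : ℂ) := by push_cast; linear_combination -hsum
    exact_mod_cast this
  have h2 := card_orb_mul T hT
  rw [h1, h3] at h2
  omega

end Orbits

variable {G : Type u} [Group G] [Finite G] {p : ℕ} [Fact p.Prime] {M : Ideal Cfsg.AlgInt}
variable {P : Sylow p G} [IsMulCommutative (P : Subgroup G)]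
variable [Fintype (autGroup P)] [Fintype (Orb (autGroup P))]

/-- With inertial index three there is a choice of data with vanishing exceptional constant, and
then there are exactly three non-exceptional characters, with values signs. -/
theorem exists_exceptional_three (hM : Cfsg.IsPModular p M)
    (hfix : ∀ y ∈ (P : Subgroup G), y ≠ 1 →
      Subgroup.centralizer ({y} : Set G) ⊓ Subgroup.normalizer ((P : Subgroup G) : Set G) ≤
        Subgroup.centralizer ((P : Subgroup G) : Set G))
    (h3 : Nat.card (autGroup P) = 3) (hlt : 3 + 1 < Nat.card (P : Subgroup G)) :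
    ∃ E : ExceptionalData P M, E.d = 0 ∧
      Nat.card ↥(Cfsg.principalBlock M G \ Set.range E.μ) = 3 ∧
      ∀ χ ∈ Cfsg.principalBlock M G \ Set.range E.μ, E.a χ = 1 ∨ E.a χ = -1 := by
  classical
  obtain ⟨E⟩ := exists_exceptional (M := M) P hM hfix (by rw [h3]; exact hlt)
  have fin : ∀ (E : ExceptionalData P M), E.d = 0 →
      Nat.card ↥(Cfsg.principalBlock M G \ Set.range E.μ) = 3 ∧
      ∀ χ ∈ Cfsg.principalBlock M G \ Set.range E.μ, E.a χ = 1 ∨ E.a χ = -1 := by
    intro E hd
    have hn := E.norm_eq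
    rw [hd, h3, finsum_mem_eq_finite_toFinset_sum _ (Set.toFinite _)] at hn
    set Xf := (Set.toFinite (Cfsg.principalBlock M G \ Set.range E.μ)).toFinset with hX
    have he : E.ε ^ 2 = 1 := by rcases E.hε with h | h <;> rw [h] <;> norm_num
    have hsum : ∑ χ ∈ Xf, E.a χ ^ 2 = 3 := by push_cast at hn; linarith [he]
    have hge : ∀ χ ∈ Xf, 1 ≤ E.a χ ^ 2 := fun χ hχ => by
      have h := (E.apply_nonexc χ ((Set.Finite.mem_toFinset _).1 hχ)).1
      have : 0 < E.a χ ^ 2 := by positivity
      omega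
    have hp : (CfsgLib.Char.principalIrr : Cfsg.IrrCharacter G) ∈ Xf :=
      (Set.Finite.mem_toFinset _).2 ⟨principal_mem hM, fun ⟨q, hq⟩ => E.μ_ne_principal q hq⟩
    have hone : ∀ χ ∈ Xf, E.a χ ^ 2 = 1 := by
      intro χ hχ
      by_cases h : χ = CfsgLib.Char.principalIrr
      · rw [h, E.a_principal]; norm_num
      · have h2 := Finset.sum_le_sum_of_subset_of_nonneg (f := fun χ => E.a χ ^ 2)
          (s := {CfsgLib.Char.principalIrr, χ}) (t := Xf)
          (by intro x hx; simp only [Finset.mem_insert, Finset.mem_singleton] at hx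
              rcases hx with rfl | rfl <;> assumption) (fun i _ _ => sq_nonneg _)
        rw [Finset.sum_pair (Ne.symm h), hsum, E.a_principal] at h2
        have hb : |E.a χ| ≤ 1 := by
          by_contra hcn
          push Not at hcn
          nlinarith [sq_abs (E.a χ)]
        have := hge χ hχ
        nlinarith [sq_abs (E.a χ), abs_nonneg (E.a χ)]
    refine ⟨?_, fun χ hχ => sq_eq_one_iff.1 (hone χ ((Set.Finite.mem_toFinset _).2 hχ))⟩
    rw [Finset.sum_congr rfl hone, Finset.sum_const, nsmul_eq_mul, mul_one] at hsum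
    rw [Nat.card_eq_card_finite_toFinset (Set.toFinite (Cfsg.principalBlock M G \ Set.range E.μ))]
    exact_mod_cast hsum
  by_cases hd : E.d = 0
  · exact ⟨E, hd, fin E hd⟩
  have hr' := card_orb_mul (autGroup P) (autGroup_free P hfix)
  rw [h3] at hr'
  set r := Nat.card (Orb (autGroup P)) with hr
  have hn := E.norm_eq
  rw [h3, finsum_mem_eq_finite_toFinset_sum _ (Set.toFinite _), ← hr] at hn
  set Xf := (Set.toFinite (Cfsg.principalBlock M G \ Set.range E.μ)).toFinset with hX
  have hp : (CfsgLib.Char.principalIrr : Cfsg.IrrCharacter G) ∈ Xf :=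
    (Set.Finite.mem_toFinset _).2 ⟨principal_mem hM, fun ⟨q, hq⟩ => E.μ_ne_principal q hq⟩
  have h1 : 1 ≤ ∑ χ ∈ Xf, E.a χ ^ 2 := by
    have := Finset.single_le_sum (f := fun χ => E.a χ ^ 2) (fun i _ => sq_nonneg _) hp
    rw [E.a_principal] at this
    simpa using this
  have hr2 : 2 ≤ r := by omega
  have hr2' : (2 : ℤ) ≤ r := by exact_mod_cast hr2
  have hd1 : 1 ≤ E.d ^ 2 := by have : 0 < E.d ^ 2 := by positivity
                               omega
  have hde : E.d = E.ε := by
    have hub : E.d ^ 2 ≤ 3 := by push_cast at hn; nlinarith [sq_nonneg (E.d - E.ε)]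
    have : E.d = 1 ∨ E.d = -1 := by
      have : -2 < E.d ∧ E.d < 2 := ⟨by nlinarith, by nlinarith⟩
      omega
    by_contra hne
    push_cast at hn
    rcases E.hε with h | h <;> rcases this with h' | h' <;> rw [h, h'] at hn <;>
      first | exact hne (h'.trans h.symm) | nlinarith
  have he : E.ε ^ 2 = 1 := by rcases E.hε with h | h <;> rw [h] <;> norm_num
  rw [hde, sub_self, he] at hn
  push_cast at hn
  have hr4 : r ≤ 4 := by
    have : (r : ℤ) ≤ 4 := by linarith [hn, h1]
    exact_mod_cast this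
  have hne3 : r ≠ 3 := by
    intro h
    obtain ⟨k, hk⟩ := IsPGroup.iff_card.mp P.isPGroup'
    have h10 : p ^ k = 10 := by rw [← hk, ← hr', h]
    have hp' : p.Prime := Fact.out
    rcases k with _ | k
    · simp at h10
    have h2d : (2 : ℕ) ∣ p ^ (k + 1) := h10 ▸ by norm_num
    have h5d : (5 : ℕ) ∣ p ^ (k + 1) := h10 ▸ by norm_num
    have e2 := (Nat.prime_dvd_prime_iff_eq Nat.prime_two hp').1 (Nat.prime_two.dvd_of_dvd_pow h2d)
    have e5 := (Nat.prime_dvd_prime_iff_eq (by norm_num) hp').1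
      ((by norm_num : Nat.Prime 5).dvd_of_dvd_pow h5d)
    omega
  haveI : Nontrivial (Orb (autGroup P)) := Finite.one_lt_card_iff_nontrivial.1 (by omega)
  have hne4 : r ≠ 4 := by
    intro h
    rw [h] at hn
    have hall : Xf = {CfsgLib.Char.principalIrr} := by
      refine Finset.eq_singleton_iff_unique_mem.2 ⟨hp, fun χ hχ => ?_⟩
      by_contra hc
      have h2 := Finset.sum_le_sum_of_subset_of_nonneg (f := fun χ => E.a χ ^ 2)
        (s := {CfsgLib.Char.principalIrr, χ}) (t := Xf)
        (by intro x hx; simp only [Finset.mem_insert, Finset.mem_singleton] at hx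
            rcases hx with rfl | rfl <;> assumption) (fun i _ _ => sq_nonneg _)
      rw [Finset.sum_pair (Ne.symm hc), E.a_principal] at h2
      have h0 := (E.apply_nonexc χ ((Set.Finite.mem_toFinset _).1 hχ)).1
      have : 0 < E.a χ ^ 2 := by positivity
      push_cast at hn
      linarith
    obtain ⟨q⟩ : Nonempty (Orb (autGroup P)) := inferInstance
    have hrel := E.relation q 1 (by simp [(Fact.out : p.Prime).ne_one])
    rw [finsum_mem_eq_finite_toFinset_sum _ (Set.toFinite _), ← hX, hall, Finset.sum_singleton,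
      E.a_principal, CfsgLib.Char.principalIrr_apply, one_eq, ← hr, h, hde] at hrel
    have : 3 * E.ε * (Cfsg.charDegree (E.μ q : G → ℂ) : ℤ) + 1 = 0 := by
      have hc : (((3 * E.ε * (Cfsg.charDegree (E.μ q : G → ℂ) : ℤ) + 1 : ℤ)) : ℂ) = ((0 : ℤ) : ℂ) := by
        push_cast at hrel ⊢
        linear_combination hrel
      exact_mod_cast hc
    rcases E.hε with h' | h' <;> rw [h'] at this <;> omega
  have hr2e : r = 2 := by omega
  -- interchange the two exceptional characters
  obtain ⟨q₁, q₂, h12⟩ := exists_pair_ne (Orb (autGroup P))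
  let σ : Equiv.Perm (Orb (autGroup P)) := Equiv.swap q₁ q₂
  have hu : (Finset.univ : Finset (Orb (autGroup P))) = {q₁, q₂} :=
    (Finset.eq_univ_of_card _ (by rw [Finset.card_pair h12, ← Nat.card_eq_fintype_card, ← hr, hr2e])).symm
  have hσ : ∀ q y, y ≠ 1 → orbSum (autGroup P) (rep (autGroup P) q) y +
      orbSum (autGroup P) (rep (autGroup P) (σ q)) y = -1 := by
    intro q y hy
    have h := sum_orbSum (autGroup P) (autGroup_free P hfix) y
    rw [if_neg hy, hu, Finset.sum_pair h12, zero_sub] at h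
    have hq : q = q₁ ∨ q = q₂ := by
      have := Finset.mem_univ q
      rw [hu] at this
      simpa using this
    rcases hq with rfl | rfl
    · rw [show σ q = q₂ from Equiv.swap_apply_left _ _]; exact h
    · rw [show σ q = q₁ from Equiv.swap_apply_right _ _, add_comm]; exact h
  have hrange : Set.range (E.μ ∘ σ) = Set.range E.μ := σ.surjective.range_comp _
  let E' : ExceptionalData P M :=
    { ε := -E.ε
      hε := by rcases E.hε with h | h <;> rw [h] <;> norm_num
      μ := E.μ ∘ σ
      μ_injective := E.μ_injective.comp σ.injective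
      μ_mem := fun q => E.μ_mem _
      μ_ne_principal := fun q => E.μ_ne_principal _
      a := E.a
      d := 0
      apply_nonexc := by rw [hrange]; exact E.apply_nonexc
      apply_exc := fun q y hy => by
        rw [Function.comp_apply, E.apply_exc _ y hy, hde]
        push_cast
        linear_combination (E.ε : ℂ) * hσ q y hy
      a_principal := E.a_principal
      norm_eq := by
        rw [hrange, h3, finsum_mem_eq_finite_toFinset_sum _ (Set.toFinite _), ← hr, hr2e]
        rw [hr2e] at hn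
        push_cast at hn ⊢
        linear_combination hn + he
      card_le := by rw [hrange]; exact E.card_le
      regular_eq := fun q q' g hg => E.regular_eq _ _ g hg
      relation := fun q g hg => by
        rw [hrange]
        have h := E.relation (σ q) g hg
        rw [← hr, hr2e, hde] at h
        rw [← hr, hr2e, Function.comp_apply]
        push_cast at h ⊢
        linear_combination h }
  exact ⟨E', rfl, fin E' rfl⟩

/-- The signs and degrees when an involution lies in no proper normal subgroup. -/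
theorem exceptional_three_involution (hM : Cfsg.IsPModular p M)
    (hfix : ∀ y ∈ (P : Subgroup G), y ≠ 1 →
      Subgroup.centralizer ({y} : Set G) ⊓ Subgroup.normalizer ((P : Subgroup G) : Set G) ≤
        Subgroup.centralizer ((P : Subgroup G) : Set G))
    (h3 : Nat.card (autGroup P) = 3) (hlt : 3 + 1 < Nat.card (P : Subgroup G))
    (E : ExceptionalData P M) (hd : E.d = 0)
    (hX3 : Nat.card ↥(Cfsg.principalBlock M G \ Set.range E.μ) = 3)
    (ha : ∀ χ ∈ Cfsg.principalBlock M G \ Set.range E.μ, E.a χ = 1 ∨ E.a χ = -1)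
    {t : G} (ht : orderOf t = 2) (hgen : ∀ K : Subgroup G, K.Normal → t ∈ K → K = ⊤) :
    ∃ χ₂ χ₃ : Cfsg.IrrCharacter G, χ₂ ≠ χ₃ ∧ χ₂ ≠ CfsgLib.Char.principalIrr ∧
      χ₃ ≠ CfsgLib.Char.principalIrr ∧
      Cfsg.principalBlock M G \ Set.range E.μ = {CfsgLib.Char.principalIrr, χ₂, χ₃} ∧
      ((if E.a χ₂ = -1 then 1 else 0) + (if E.a χ₃ = -1 then 1 else 0) +
        (if -E.ε = -1 then 1 else 0) = 2) ∧
      ∀ q, IsSquare (Cfsg.charDegree (χ₂ : G → ℂ) * Cfsg.charDegree (χ₃ : G → ℂ) *
        Cfsg.charDegree (E.μ q : G → ℂ)) := by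
  classical
  haveI := Fintype.ofFinite G
  set T := Nat.card (autGroup P) with hTdef
  have hfree := autGroup_free P hfix
  set Xs := Cfsg.principalBlock M G \ Set.range E.μ with hXs
  have hpX : (CfsgLib.Char.principalIrr : Cfsg.IrrCharacter G) ∈ Xs :=
    ⟨principal_mem hM, fun ⟨q, hq⟩ => E.μ_ne_principal q hq⟩
  set Xf := (Set.toFinite Xs).toFinset with hXf
  have hpXf : (CfsgLib.Char.principalIrr : Cfsg.IrrCharacter G) ∈ Xf :=
    (Set.Finite.mem_toFinset _).2 hpX
  have hcard : (Xf.erase CfsgLib.Char.principalIrr).card = 2 := by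
    rw [Finset.card_erase_of_mem hpXf, ← Nat.card_eq_card_finite_toFinset, hX3]
  obtain ⟨χ₂, χ₃, h23, hX23⟩ := Finset.card_eq_two.1 hcard
  have h2 : χ₂ ∈ Xf.erase CfsgLib.Char.principalIrr := by simp [hX23]
  have h3' : χ₃ ∈ Xf.erase CfsgLib.Char.principalIrr := by simp [hX23]
  have hne2 := (Finset.mem_erase.1 h2).1
  have hne3 := (Finset.mem_erase.1 h3').1
  have hXeq : Xf = {CfsgLib.Char.principalIrr, χ₂, χ₃} := by
    rw [← Finset.insert_erase hpXf, hX23]
  have hsumX : ∀ f : Cfsg.IrrCharacter G → ℂ,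
      ∑ᶠ χ ∈ Xs, f χ = f CfsgLib.Char.principalIrr + (f χ₂ + f χ₃) := by
    intro f
    rw [finsum_mem_eq_finite_toFinset_sum _ (Set.toFinite _), ← hXf, hXeq,
      Finset.sum_insert (by simp [Ne.symm hne2, Ne.symm hne3]), Finset.sum_insert (by simp [h23]),
      Finset.sum_singleton]
  have h2X : χ₂ ∈ Xs := (Set.Finite.mem_toFinset _).1 (Finset.mem_erase.1 h2).2
  have h3X : χ₃ ∈ Xs := (Set.Finite.mem_toFinset _).1 (Finset.mem_erase.1 h3').2
  haveI : Nontrivial (Orb (autGroup P)) := by
    refine Finite.one_lt_card_iff_nontrivial.1 ?_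
    have := card_orb_mul (autGroup P) hfree
    rw [← hTdef, h3] at this
    omega
  set Bf : Finset (Cfsg.IrrCharacter G) := (Set.toFinite (Cfsg.principalBlock M G)).toFinset with hBf
  have hsumB : ∀ f : Cfsg.IrrCharacter G → ℂ, ∑ᶠ χ ∈ Cfsg.principalBlock M G, f χ =
      ∑ᶠ χ ∈ Xs, f χ + ∑ q, f (E.μ q) := by
    intro f
    rw [← Set.sdiff_union_of_subset (show Set.range E.μ ⊆ Cfsg.principalBlock M G by
        rintro _ ⟨q, rfl⟩; exact E.μ_mem q),
      finsum_mem_union Set.disjoint_sdiff_left (Set.toFinite _) (Set.toFinite _),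
      finsum_mem_range E.μ_injective]
    congr 1
    exact finsum_eq_sum_of_fintype _
  -- the choice of the element of `P`
  obtain ⟨y, hy1, hno, q₀, β, hβ, hlin, hquad⟩ :
      ∃ y : ↥(P : Subgroup G), y ≠ 1 ∧
        (∀ a c : G, c ∈ Subgroup.centralizer ({(y : G)} : Set G) → ¬ p ∣ orderOf c →
          ¬ IsConj (a * t * a⁻¹ * t) ((y : G) * c)⁻¹) ∧
        ∃ (q₀ : Orb (autGroup P)) (β : ℂ), (E.μ q₀ : G → ℂ) t = β ∧
          (1 + ((E.a χ₂ : ℂ) * (χ₂ : G → ℂ) t + (E.a χ₃ : ℂ) * (χ₃ : G → ℂ) t)) - E.ε * β = 0 ∧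
          ∑ q, (E.μ q : G → ℂ) y * ((E.μ q : G → ℂ) t * (E.μ q : G → ℂ) t / (E.μ q : G → ℂ) 1) =
            -(E.ε : ℂ) * β * β / (E.μ q₀ : G → ℂ) 1 := by
    by_cases hp2 : p = 2
    · -- the prime two
      obtain ⟨Q, hQ⟩ := (IsPGroup.of_card (p := p) (n := 1)
        (by rw [Nat.card_zpowers, ht, hp2, pow_one]) : IsPGroup p (Subgroup.zpowers t)).exists_le_sylow
      obtain ⟨g, hg⟩ := MulAction.exists_smul_eq G Q P
      have hmem : g * t * g⁻¹ ∈ ((g • Q : Sylow p G) : Subgroup G) :=
        ⟨t, hQ (Subgroup.mem_zpowers t), rfl⟩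
      rw [hg] at hmem
      set t₀ : ↥(P : Subgroup G) := ⟨g * t * g⁻¹, hmem⟩ with ht₀
      have hconj : IsConj t (t₀ : G) := isConj_iff.2 ⟨g, rfl⟩
      have htt : t * t = 1 := by rw [← sq, ← ht, pow_orderOf_eq_one]
      have ht₀2 : t₀ * t₀ = 1 := Subtype.ext (by
        show g * t * g⁻¹ * (g * t * g⁻¹) = 1
        rw [conj_mul, htt, mul_one, mul_inv_cancel])
      have ht₀1 : t₀ ≠ 1 := fun h => by
        have : t = 1 := by
          have := congrArg Subtype.val h
          simpa [ht₀] using this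
        rw [this] at ht; simp at ht
      obtain ⟨y, hy⟩ : ∃ y : ↥(P : Subgroup G), y ∉ insert 1
          (Finset.univ.image fun c : autGroup P => (c : MulAut (P : Subgroup G)) t₀) := by
        haveI : Fintype ↥(P : Subgroup G) := Fintype.ofFinite _
        by_contra hcn
        push Not at hcn
        have := Finset.card_le_card (fun x _ => hcn x : (Finset.univ : Finset ↥(P : Subgroup G)) ⊆ _)
        have hle := (Finset.card_insert_le (1 : ↥(P : Subgroup G))
          (Finset.univ.image fun c : autGroup P => (c : MulAut (P : Subgroup G)) t₀)).trans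
            (Nat.add_le_add_right (Finset.card_image_le) 1)
        rw [Finset.card_univ, ← Nat.card_eq_fintype_card] at this hle
        rw [← hTdef, h3] at hle
        omega
      simp only [Finset.mem_insert, Finset.mem_image, Finset.mem_univ, true_and, not_or,
        not_exists] at hy
      have hyne : ∀ c : autGroup P, y * (c : MulAut (P : Subgroup G)) t₀ ≠ 1 := by
        intro c h
        refine hy.2 c ?_
        rw [mul_eq_one_iff_eq_inv] at h
        rw [h, ← map_inv, inv_eq_of_mul_eq_one_right ht₀2]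
      obtain ⟨q₀, hq₀⟩ := exists_orbSum_eq_three (autGroup P) hfree h3 hlt ht₀2 ht₀1
      have hμt : ∀ q, (E.μ q : G → ℂ) t =
          (E.ε : ℂ) * orbSum (autGroup P) (rep (autGroup P) q) t₀ := fun q => by
        rw [CfsgLib.Char.IsClassFunction.eq_of_isConj (CfsgLib.Char.IsIrrCharacter.isClassFunction (E.μ q).2) hconj, E.apply_exc q t₀ ht₀1, hd, Int.cast_zero, zero_add]
      have hXt : ∀ χ ∈ Xs, (χ : G → ℂ) t = (E.a χ : ℂ) := fun χ hχ => by
        rw [CfsgLib.Char.IsClassFunction.eq_of_isConj (CfsgLib.Char.IsIrrCharacter.isClassFunction χ.2) hconj]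
        exact (E.apply_nonexc χ hχ).2 t₀ ht₀1
      have hεC : (E.ε : ℂ) * E.ε = 1 := by rcases E.hε with h | h <;> rw [h] <;> norm_num
      refine ⟨y, hy.1, ?_, q₀, E.ε * 3, by rw [hμt, hq₀], ?_, ?_⟩
      · intro a c hc hreg hconj'
        obtain ⟨u, v, hu, hv, huv, hinv⟩ :=
          exists_inverter (p := p) (pElement_of_mem_sylow P y.2) hc hreg htt hconj'
        obtain ⟨a', ha'⟩ := (isConj_iff_autGroup P y y⁻¹).1 (isConj_iff.2 ⟨v, hinv⟩)
        have hyy := eq_one_of_mul_self (autGroup P) hfree h3 ha'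
        have hyi : (y : G)⁻¹ = y := inv_eq_of_mul_eq_one_right (congrArg Subtype.val hyy)
        have hle := sylow_le_centralizer_singleton P y.2
        have hvC : v ∈ Subgroup.centralizer ({(y : G)} : Set G) := by
          refine Subgroup.mem_centralizer_singleton_iff.2 ?_
          rw [hyi, mul_inv_eq_iff_eq_mul] at hinv
          exact hinv
        have huC : u ∈ Subgroup.centralizer ({(y : G)} : Set G) := by
          have : u = ((y : G) * c)⁻¹ * v⁻¹ := by rw [← huv, mul_inv_cancel_right]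
          rw [this]
          exact mul_mem (inv_mem (mul_mem (hle y.2) hc)) (inv_mem hvC)
        have hpel : ∀ w : G, IsConj t w → ∃ k : ℕ, orderOf w = p ^ k := by
          intro w hw
          obtain ⟨h, rfl⟩ := isConj_iff.1 hw
          exact ⟨1, by rw [show orderOf (h * t * h⁻¹) = orderOf t from
            MulEquiv.orderOf_eq (MulAut.conj h) t, ht, hp2, pow_one]⟩
        obtain ⟨K, hidx, hK, -⟩ := exists_local_complement P hM y.2
          (hfix y y.2 fun e => hy.1 (Subtype.ext e))
        haveI : K.Normal := ⟨fun x hx h => (hK _).1 (fun hd' => (hK x).2 hx (by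
          rwa [show orderOf (h * x * h⁻¹) = orderOf x from
            MulEquiv.orderOf_eq (MulAut.conj h) x] at hd'))⟩
        let φ : ↥(P : Subgroup G) →* ↥(Subgroup.centralizer ({(y : G)} : Set G)) ⧸ K :=
          (QuotientGroup.mk' K).comp (Subgroup.inclusion hle)
        have hφinj : Function.Injective φ := (injective_iff_map_eq_one φ).2 fun x hx => by
          have hxK : Subgroup.inclusion hle x ∈ K := (QuotientGroup.eq_one_iff _).1 hx
          obtain ⟨k, hk⟩ := pElement_of_mem_sylow P x.2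
          have hr := (hK _).2 hxK
          rw [Cfsg.IsPRegular, ← Subgroup.orderOf_coe] at hr
          rcases k with _ | k
          · exact Subtype.ext (orderOf_eq_one_iff.1 (by simpa using hk))
          · exact absurd (hk ▸ dvd_pow_self p k.succ_ne_zero) hr
        have hφsurj : Function.Surjective φ := (Function.Injective.bijective_of_nat_card_le hφinj
          (le_of_eq (by rw [← Subgroup.index, hidx]))).2
        have hcomm : ∀ a b : ↥(Subgroup.centralizer ({(y : G)} : Set G)) ⧸ K, a * b = b * a := by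
          intro a b
          obtain ⟨a₁, rfl⟩ := hφsurj a
          obtain ⟨b₁, rfl⟩ := hφsurj b
          rw [← map_mul, ← map_mul, mul_comm]
        obtain ⟨wu, hwu, heu⟩ := exists_mem_sylow_congr P hle K hcomm ⟨u, huC⟩ (hpel u hu)
        obtain ⟨wv, hwv, hev⟩ := exists_mem_sylow_congr P hle K hcomm ⟨v, hvC⟩ (hpel v hv)
        have hprod : φ (wu * wv) = φ y := by
          rw [map_mul]
          show QuotientGroup.mk' K ⟨(wu : G), hle wu.2⟩ * QuotientGroup.mk' K ⟨(wv : G), hle wv.2⟩ =
            QuotientGroup.mk' K ⟨(y : G), hle y.2⟩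
          rw [heu, hev, ← map_mul]
          have hcK : (⟨c, hc⟩ : ↥(Subgroup.centralizer ({(y : G)} : Set G))) ∈ K :=
            (hK _).1 (by rw [Cfsg.IsPRegular, ← Subgroup.orderOf_coe]; exact hreg)
          refine (QuotientGroup.eq (s := K)).2 ?_
          have e : ((⟨u, huC⟩ * ⟨v, hvC⟩ :
              ↥(Subgroup.centralizer ({(y : G)} : Set G))))⁻¹ * ⟨(y : G), hle y.2⟩ =
              ⟨(y : G), hle y.2⟩ * ⟨c, hc⟩ * (⟨(y : G), hle y.2⟩)⁻¹ := by
            refine Subtype.ext ?_
            show (u * v)⁻¹ * (y : G) = (y : G) * c * (y : G)⁻¹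
            rw [huv, inv_inv, hyi]
          rw [e]
          exact Subgroup.Normal.conj_mem inferInstance _ hcK _
        have hyw : wu * wv = y := hφinj hprod
        obtain ⟨au, hau⟩ := (isConj_iff_autGroup P t₀ wu).1 (hconj.symm.trans (hu.trans hwu))
        obtain ⟨av, hav⟩ := (isConj_iff_autGroup P t₀ wv).1 (hconj.symm.trans (hv.trans hwv))
        rw [← hau, ← hav] at hyw
        by_cases hab : au = av
        · subst hab
          rw [← map_mul, ht₀2, map_one] at hyw
          exact hy.1 hyw.symm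
        · haveI : Fintype ↥(P : Subgroup G) := Fintype.ofFinite _
          obtain ⟨cc, hcc⟩ : ∃ cc : autGroup P, cc ∉ ({au, av} : Finset (autGroup P)) := by
            by_contra hcn
            push Not at hcn
            have := Finset.card_le_card (fun x _ => hcn x : (Finset.univ : Finset (autGroup P)) ⊆ _)
            rw [Finset.card_pair hab, Finset.card_univ, ← Nat.card_eq_fintype_card, ← hTdef, h3] at this
            omega
          have huniv : (Finset.univ : Finset (autGroup P)) = insert cc {au, av} :=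
            (Finset.eq_univ_of_card _ (by
              rw [Finset.card_insert_of_notMem hcc, Finset.card_pair hab,
                ← Nat.card_eq_fintype_card, ← hTdef, h3])).symm
          have hN := prod_orbit_eq_one (autGroup P) hfree h3 t₀
          rw [huniv, Finset.prod_insert hcc, Finset.prod_pair hab, hyw, mul_eq_one_iff_eq_inv] at hN
          refine hy.2 cc ?_
          rw [hN]
          exact inv_eq_of_mul_eq_one_right hyy
      · rw [hXt χ₂ h2X, hXt χ₃ h3X]
        rcases ha χ₂ h2X with e2 | e2 <;> rcases ha χ₃ h3X with e3 | e3 <;> rw [e2, e3] <;>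
          push_cast <;> linear_combination -3 * hεC
      · have hf : ∀ q, (E.μ q : G → ℂ) 1 = (E.μ q₀ : G → ℂ) 1 := fun q =>
          E.regular_eq q q₀ 1 (by simp [(Fact.out : p.Prime).ne_one])
        have e : ∀ q, (E.μ q : G → ℂ) y *
            ((E.μ q : G → ℂ) t * (E.μ q : G → ℂ) t / (E.μ q : G → ℂ) 1) =
            (E.ε : ℂ) / (E.μ q₀ : G → ℂ) 1 *
              (3 * orbSum (autGroup P) (rep (autGroup P) q) y +
                2 * (orbSum (autGroup P) (rep (autGroup P) q) y *
                  orbSum (autGroup P) (rep (autGroup P) q) t₀)) := by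
          intro q
          have hsq := (orbSum_involution (autGroup P) hfree h3 ht₀2 (rep (autGroup P) q)).2
          rw [hμt, hf, E.apply_exc q y hy.1, hd, Int.cast_zero, zero_add]
          rw [show (E.ε : ℂ) * orbSum (autGroup P) (rep (autGroup P) q) y *
              ((E.ε : ℂ) * orbSum (autGroup P) (rep (autGroup P) q) t₀ *
                ((E.ε : ℂ) * orbSum (autGroup P) (rep (autGroup P) q) t₀) / (E.μ q₀ : G → ℂ) 1) =
              ((E.ε : ℂ) * E.ε) * ((E.ε : ℂ) / (E.μ q₀ : G → ℂ) 1 *
                (orbSum (autGroup P) (rep (autGroup P) q) y *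
                  (orbSum (autGroup P) (rep (autGroup P) q) t₀ *
                    orbSum (autGroup P) (rep (autGroup P) q) t₀))) by ring, hεC, hsq]
          ring
        rw [Finset.sum_congr rfl fun q _ => e q, ← Finset.mul_sum, Finset.sum_add_distrib,
          ← Finset.mul_sum, ← Finset.mul_sum, sum_orbSum (autGroup P) hfree y, if_neg hy.1,
          sum_orbSum_mul (autGroup P) hfree hyne, ← hTdef, h3]
        rw [show -(E.ε : ℂ) * ((E.ε : ℂ) * 3) * ((E.ε : ℂ) * 3) / (E.μ q₀ : G → ℂ) 1 =
          ((E.ε : ℂ) * E.ε) * (-9 * ((E.ε : ℂ) / (E.μ q₀ : G → ℂ) 1)) by ring, hεC]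
        push_cast
        ring
    · -- odd primes: the involution is regular
      haveI : Nontrivial ↥(P : Subgroup G) := Finite.one_lt_card_iff_nontrivial.1 (by omega)
      obtain ⟨y, hy1⟩ := exists_ne (1 : ↥(P : Subgroup G))
      obtain ⟨q₀⟩ : Nonempty (Orb (autGroup P)) := inferInstance
      have htreg : ¬ p ∣ orderOf t := by
        rw [ht]
        exact fun h => hp2 ((Nat.prime_dvd_prime_iff_eq Fact.out Nat.prime_two).1 h)
      have htt : t * t = 1 := by rw [← sq, ← ht, pow_orderOf_eq_one]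
      refine ⟨y, hy1, ?_, q₀, _, rfl, ?_, ?_⟩
      · intro a c hc hreg hconj'
        obtain ⟨u, v, -, -, -, hinv⟩ :=
          exists_inverter (p := p) (pElement_of_mem_sylow P y.2) hc hreg htt hconj'
        obtain ⟨a', ha'⟩ := (isConj_iff_autGroup P y y⁻¹).1 (isConj_iff.2 ⟨v, hinv⟩)
        have hyy := eq_one_of_mul_self (autGroup P) hfree h3 ha'
        have h2' : orderOf (y : G) ∣ 2 := orderOf_dvd_of_pow_eq_one (by
          rw [sq]; exact congrArg Subtype.val hyy)
        obtain ⟨k, hk⟩ := pElement_of_mem_sylow P y.2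
        rcases k with _ | k
        · exact hy1 (Subtype.ext (orderOf_eq_one_iff.1 (by simpa using hk)))
        · exact hp2 ((Nat.prime_dvd_prime_iff_eq Fact.out Nat.prime_two).1
            ((hk ▸ dvd_pow_self p k.succ_ne_zero : p ∣ orderOf (y : G)).trans h2'))
      · have h := E.relation q₀ t htreg
        rw [hd, hsumX, E.a_principal, CfsgLib.Char.principalIrr_apply] at h
        push_cast at h
        linear_combination h
      · have e : ∀ q, (E.μ q : G → ℂ) y *
            ((E.μ q : G → ℂ) t * (E.μ q : G → ℂ) t / (E.μ q : G → ℂ) 1) =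
            (E.ε : ℂ) * ((E.μ q₀ : G → ℂ) t * (E.μ q₀ : G → ℂ) t / (E.μ q₀ : G → ℂ) 1) *
              orbSum (autGroup P) (rep (autGroup P) q) y := by
          intro q
          rw [E.apply_exc q y hy1, hd, Int.cast_zero, zero_add, E.regular_eq q q₀ t htreg,
            E.regular_eq q q₀ 1 (by simp [(Fact.out : p.Prime).ne_one])]
          ring
        rw [Finset.sum_congr rfl fun q _ => e q, ← Finset.mul_sum,
          sum_orbSum (autGroup P) hfree y, if_neg hy1]
        ring
  have hcol := sum_sq_column_eq_zero hM (pElement_of_mem_sylow P y.2) t hno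
  rw [hsumB, hsumX, hquad] at hcol
  rw [(E.apply_nonexc _ hpX).2 y hy1, (E.apply_nonexc _ h2X).2 y hy1,
    (E.apply_nonexc _ h3X).2 y hy1, E.a_principal, CfsgLib.Char.principalIrr_apply,
    CfsgLib.Char.principalIrr_apply] at hcol
  obtain ⟨u₂, hu₂, hv₂⟩ := exists_deficit ht hgen χ₂ hne2
  obtain ⟨u₃, hu₃, hv₃⟩ := exists_deficit ht hgen χ₃ hne3
  obtain ⟨u₄, hu₄, hv₄⟩ := exists_deficit ht hgen (E.μ q₀) (E.μ_ne_principal q₀)
  rw [hv₂, hv₃, one_eq χ₂, one_eq χ₃, one_eq (E.μ q₀), ← hβ, hv₄] at hcol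
  rw [hv₂, hv₃, ← hβ, hv₄] at hlin
  have hrel := E.relation q₀ 1 (by simp [(Fact.out : p.Prime).ne_one])
  rw [hd, hsumX, E.a_principal, CfsgLib.Char.principalIrr_apply, one_eq χ₂, one_eq χ₃,
    one_eq (E.μ q₀)] at hrel
  push_cast at hcol hlin hrel
  set x₂ := Cfsg.charDegree (χ₂ : G → ℂ) with hx₂
  set x₃ := Cfsg.charDegree (χ₃ : G → ℂ) with hx₃
  set x₄ := Cfsg.charDegree (E.μ q₀ : G → ℂ) with hx₄
  have hp₂ := deg_pos χ₂
  have hp₃ := deg_pos χ₃
  have hp₄ := deg_pos (E.μ q₀)
  rw [← hx₂] at hp₂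
  rw [← hx₃] at hp₃
  rw [← hx₄] at hp₄
  have n₂ : (x₂ : ℂ) ≠ 0 := Nat.cast_ne_zero.2 hp₂.ne'
  have n₃ : (x₃ : ℂ) ≠ 0 := Nat.cast_ne_zero.2 hp₃.ne'
  have n₄ : (x₄ : ℂ) ≠ 0 := Nat.cast_ne_zero.2 hp₄.ne'
  have he1 : 1 + E.a χ₂ * (x₂ : ℤ) + E.a χ₃ * (x₃ : ℤ) + -E.ε * (x₄ : ℤ) = 0 := by
    have : ((1 + E.a χ₂ * (x₂ : ℤ) + E.a χ₃ * (x₃ : ℤ) + -E.ε * (x₄ : ℤ) : ℤ) : ℂ) = ((0 : ℤ) : ℂ) := by
      push_cast; linear_combination hrel
    exact_mod_cast this
  have he2 : E.a χ₂ * u₂ + E.a χ₃ * u₃ + -E.ε * u₄ = 0 := by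
    have : ((E.a χ₂ * u₂ + E.a χ₃ * u₃ + -E.ε * u₄ : ℤ) : ℂ) = ((0 : ℤ) : ℂ) := by
      push_cast; linear_combination hrel - hlin
    exact_mod_cast this
  have he3 : E.a χ₂ * u₂ ^ 2 * x₃ * x₄ + E.a χ₃ * u₃ ^ 2 * x₂ * x₄ +
      -E.ε * u₄ ^ 2 * x₂ * x₃ = 0 := by
    have : ((E.a χ₂ * u₂ ^ 2 * x₃ * x₄ + E.a χ₃ * u₃ ^ 2 * x₂ * x₄ +
        -E.ε * u₄ ^ 2 * x₂ * x₃ : ℤ) : ℂ) = ((0 : ℤ) : ℂ) := by
      push_cast
      field_simp at hcol
      linear_combination hcol + (x₂ : ℂ) * x₃ * x₄ * hrel - 2 * (x₂ : ℂ) * x₃ * x₄ * hlin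
    exact_mod_cast this
  have hε' : -E.ε = 1 ∨ -E.ε = -1 := by rcases E.hε with h | h <;> rw [h] <;> norm_num
  obtain ⟨hsign, hsq⟩ := signed_triple (ha _ h2X) (ha _ h3X) hε' hp₂ hp₃ hp₄ hu₂ hu₃ hu₄
    he1 he2 he3
  refine ⟨χ₂, χ₃, h23, hne2, hne3, ?_, hsign, fun q => ?_⟩
  · rw [← Set.Finite.coe_toFinset (Set.toFinite Xs), ← hXf, hXeq]
    simp
  · have hdeg : Cfsg.charDegree (E.μ q : G → ℂ) = x₄ := by
      rw [hx₄, Cfsg.charDegree, Cfsg.charDegree,
        E.regular_eq q q₀ 1 (by simp [(Fact.out : p.Prime).ne_one])]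
    rw [hdeg]
    exact hsq

end CfsgLib.Blk83
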