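import Cfsg.Agent.Lib.Blocks.Local
import Mathlib.RingTheory.SimpleModule.Basic
import Mathlib.FieldTheory.IsAlgClosed.Basic
import Mathlib.LinearAlgebra.Eigenspace.Triangularizable
import Mathlib.LinearAlgebra.Trace
import Mathlib.Algebra.MonoidAlgebra.Basic
import Mathlib.Analysis.Complex.Polynomial.Basic

/-!
Irreducible actions of a finite dimensional algebra over an algebraically closed field, in the form
used for the cyclic defect theory: Schur, density, kernels, traces.
-/

set_option autoImplicit false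

open scoped Classical

namespace CfsgLib.Blk83.Cyc

universe v

open Cfsg CfsgLib.Blocks

/-- The residue field of the algebraic integers is algebraically closed. -/
theorem isAlgClosed_resField {M : Ideal AlgInt} [M.IsMaximal] : IsAlgClosed (ResField M) := by
  refine IsAlgClosed.of_exists_root _ fun f hf hirr => ?_
  obtain ⟨F, hF, hdeg, hFm⟩ := Polynomial.lifts_and_degree_eq_and_monic
    (f := Ideal.Quotient.mk M) (p := f)
    ((Polynomial.lifts_iff_coeff_lifts f).2 fun n => Ideal.Quotient.mk_surjective _) hf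
  have h0 : (F.map (algebraMap AlgInt ℂ)).degree ≠ 0 := by
    rw [hFm.degree_map, hdeg]
    exact (Polynomial.degree_pos_of_irreducible hirr).ne'
  obtain ⟨z, hz⟩ := IsAlgClosed.exists_root _ h0
  have hint : IsIntegral AlgInt z := ⟨F, hFm, by
    rwa [Polynomial.IsRoot, Polynomial.eval_map] at hz⟩
  have hZ : IsIntegral ℤ z := isIntegral_trans z hint
  refine ⟨Ideal.Quotient.mk M ⟨z, hZ⟩, ?_⟩
  show f.eval _ = 0
  rw [← hF, Polynomial.eval_map, Polynomial.eval₂_hom,
    show Polynomial.eval (⟨z, hZ⟩ : AlgInt) F = 0 from ?_, map_zero]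
  have h1 : algebraMap AlgInt ℂ (Polynomial.eval (⟨z, hZ⟩ : AlgInt) F) = 0 := by
    rw [← Polynomial.eval₂_hom, ← Polynomial.eval_map]
    exact hz
  exact Subtype.ext h1

variable {k : Type*} [Field k] {A : Type*} [Ring A] [Algebra k A]
variable {V : Type*} [AddCommGroup V] [Module k V]

/-- `W` is stable under the action. -/
def Stable (ρ : A →ₐ[k] Module.End k V) (W : Submodule k V) : Prop := ∀ a, ∀ w ∈ W, ρ a w ∈ W

/-- The action is irreducible. -/
structure Simp (ρ : A →ₐ[k] Module.End k V) : Prop where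
  nontriv : ∃ v : V, v ≠ 0
  simple : ∀ W : Submodule k V, Stable ρ W → W = ⊥ ∨ W = ⊤

/-- The action on a stable subspace. -/
noncomputable def subAct (ρ : A →ₐ[k] Module.End k V) {W : Submodule k V} (hW : Stable ρ W) :
    A →ₐ[k] Module.End k W :=
  AlgHom.ofLinearMap
    { toFun := fun a => (ρ a).restrict (hW a)
      map_add' := fun a b => LinearMap.ext fun w => Subtype.ext (by simp)
      map_smul' := fun c a => LinearMap.ext fun w => Subtype.ext (by simp) }
    (LinearMap.ext fun w => Subtype.ext (by simp))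
    (fun a b => LinearMap.ext fun w => Subtype.ext (by simp))

@[simp] theorem subAct_apply (ρ : A →ₐ[k] Module.End k V) {W : Submodule k V} (hW : Stable ρ W)
    (a : A) (w : W) : (subAct ρ hW a w : V) = ρ a w := rfl

/-- The action on the quotient by a stable subspace. -/
noncomputable def quotAct (ρ : A →ₐ[k] Module.End k V) {W : Submodule k V} (hW : Stable ρ W) :
    A →ₐ[k] Module.End k (V ⧸ W) :=
  AlgHom.ofLinearMap
    { toFun := fun a => W.mapQ W (ρ a) (hW a)
      map_add' := fun a b => Submodule.linearMap_qext _ (LinearMap.ext fun v => by simp)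
      map_smul' := fun c a => Submodule.linearMap_qext _ (LinearMap.ext fun v => by simp) }
    (Submodule.linearMap_qext _ (LinearMap.ext fun v => by simp))
    (fun a b => Submodule.linearMap_qext _ (LinearMap.ext fun v => by simp))

@[simp] theorem quotAct_mk (ρ : A →ₐ[k] Module.End k V) {W : Submodule k V} (hW : Stable ρ W)
    (a : A) (v : V) :
    quotAct ρ hW a (Submodule.Quotient.mk v) = Submodule.Quotient.mk (ρ a v) := rfl

/-- A nonzero finite dimensional action has an irreducible stable subspace. -/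
theorem exists_simp_sub [FiniteDimensional k V] (ρ : A →ₐ[k] Module.End k V)
    {v : V} (hv : v ≠ 0) : ∃ (W : Submodule k V) (hW : Stable ρ W), Simp (subAct ρ hW) := by
  have hex : ∃ n, ∃ W : Submodule k V, Stable ρ W ∧ W ≠ ⊥ ∧ Module.finrank k W = n :=
    ⟨_, ⊤, fun _ _ _ => Submodule.mem_top, fun h => hv (by
      have : v ∈ (⊥ : Submodule k V) := h ▸ Submodule.mem_top
      simpa using this), rfl⟩
  obtain ⟨W, hW, hW0, hn⟩ := Nat.find_spec hex
  refine ⟨W, hW, ⟨?_, fun U hU => ?_⟩⟩
  · obtain ⟨w, hw, hw0⟩ := Submodule.exists_mem_ne_zero_of_ne_bot hW0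
    exact ⟨⟨w, hw⟩, fun h => hw0 (congrArg Subtype.val h)⟩
  · by_contra hc
    push Not at hc
    have hst : Stable ρ (U.map W.subtype) := by
      rintro a _ ⟨u, hu, rfl⟩
      exact ⟨subAct ρ hW a u, hU a u hu, rfl⟩
    have hne : U.map W.subtype ≠ ⊥ := fun h => hc.1
      (Submodule.map_injective_of_injective W.injective_subtype (by simpa using h))
    have hlt : Module.finrank k (U.map W.subtype) < Nat.find hex := by
      rw [← hn, Submodule.finrank_map_subtype_eq]
      exact Submodule.finrank_lt hc.2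
    exact Nat.find_min hex hlt ⟨_, hst, hne, rfl⟩

theorem Simp.stable_cases {ρ : A →ₐ[k] Module.End k V} (h : Simp ρ) {W : Submodule k V}
    (hW : Stable ρ W) {w : V} (hw : w ∈ W) (hw0 : w ≠ 0) : W = ⊤ :=
  (h.simple W hW).resolve_left fun e => hw0 (by simpa [e] using hw)

/-- The span of an orbit. -/
theorem Simp.exists_apply {ρ : A →ₐ[k] Module.End k V} (h : Simp ρ) {v : V} (hv : v ≠ 0) (w : V) :
    ∃ a, ρ a v = w := by
  let L : A →ₗ[k] V := (LinearMap.applyₗ v).comp ρ.toLinearMap
  have hL : Stable ρ L.range := by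
    rintro a _ ⟨b, rfl⟩
    exact ⟨a * b, by simp [L]⟩
  have := h.stable_cases hL ⟨1, by simp [L]⟩ hv
  obtain ⟨a, ha⟩ : w ∈ L.range := this ▸ Submodule.mem_top
  exact ⟨a, ha⟩

variable [IsAlgClosed k] [FiniteDimensional k V]

/-- Schur. -/
theorem Simp.schur {ρ : A →ₐ[k] Module.End k V} (h : Simp ρ) (f : Module.End k V)
    (hf : ∀ a, Commute (ρ a) f) : ∃ c : k, f = c • (1 : Module.End k V) := by
  haveI : Nontrivial V := let ⟨v, hv⟩ := h.nontriv; ⟨v, 0, hv⟩
  obtain ⟨c, hc⟩ := Module.End.exists_eigenvalue f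
  obtain ⟨v, hv⟩ := hc.exists_hasEigenvector
  refine ⟨c, ?_⟩
  have hst : Stable ρ (f - c • (1 : Module.End k V)).ker := by
    intro a w hw
    rw [LinearMap.mem_ker] at hw ⊢
    simp only [LinearMap.sub_apply, LinearMap.smul_apply, Module.End.one_apply] at hw ⊢
    rw [sub_eq_zero] at hw ⊢
    rw [show f (ρ a w) = ρ a (f w) from (LinearMap.congr_fun (hf a).eq w).symm, hw, map_smul]
  have := h.stable_cases hst (w := v)
    (by simp [LinearMap.mem_ker, hv.apply_eq_smul]) hv.2
  rw [LinearMap.ker_eq_top] at this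
  exact sub_eq_zero.1 this

/-- Burnside: an irreducible action is onto all endomorphisms. -/
theorem Simp.surjective {ρ : A →ₐ[k] Module.End k V} (h : Simp ρ) : Function.Surjective ρ := by
  intro f
  letI : Module A V := Module.compHom V ρ.toRingHom
  have hsm : ∀ (a : A) (v : V), a • v = ρ a v := fun _ _ => rfl
  haveI : IsScalarTower k A V := ⟨fun c a v => by simp [hsm]⟩
  haveI : IsSimpleModule A V := by
    rw [isSimpleModule_iff]
    haveI : Nontrivial (Submodule A V) := by
      obtain ⟨v, hv⟩ := h.nontriv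
      exact ⟨⊥, ⊤, fun e => hv (by
        have : v ∈ (⊥ : Submodule A V) := e ▸ Submodule.mem_top
        simpa using this)⟩
    refine ⟨fun W => ?_⟩
    rcases h.simple (W.restrictScalars k) (fun a w hw => W.smul_mem a hw) with e | e
    · exact Or.inl (Submodule.restrictScalars_eq_bot_iff k A V |>.1 e)
    · exact Or.inr (Submodule.restrictScalars_eq_top_iff k A V |>.1 e)
  let g : Module.End (Module.End A V) V :=
    { toFun := f
      map_add' := map_add f
      map_smul' := fun φ v => by
        obtain ⟨c, hc⟩ := h.schur (φ.restrictScalars k) fun a => LinearMap.ext fun w => by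
          show ρ a (φ w) = φ (ρ a w)
          rw [← hsm, ← hsm, map_smul]
        have hφ : ∀ w, φ w = c • w := fun w => LinearMap.congr_fun hc w
        show f (φ v) = φ (f v)
        rw [hφ, hφ, map_smul] }
  obtain ⟨s, hs⟩ := Module.Finite.fg_top (R := k) (M := V)
  obtain ⟨r, hr⟩ := jacobson_density g s
  exact ⟨r, LinearMap.ext_on hs fun m hm => (hr m hm).symm⟩

omit [IsAlgClosed k] [FiniteDimensional k V] in
/-- Two irreducible actions where one kills the kernel of the other are isomorphic. -/
theorem Simp.exists_equiv [IsAlgClosed k] {W : Type*} [AddCommGroup W] [Module k W]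
    [FiniteDimensional k V] [FiniteDimensional k W]
    {ρ : A →ₐ[k] Module.End k V} {σ : A →ₐ[k] Module.End k W} (hρ : Simp ρ) (hσ : Simp σ)
    (hker : ∀ a, ρ a = 0 → σ a = 0) :
    ∃ φ : V ≃ₗ[k] W, ∀ a v, φ (ρ a v) = σ a (φ v) := by
  obtain ⟨v, hv⟩ := hρ.nontriv
  obtain ⟨ψ, hψ⟩ := Module.Projective.exists_dual_eq_one k hv
  obtain ⟨e, he⟩ := hρ.surjective (ψ.smulRight v)
  have hev : ρ e v = v := by simp [he, hψ]
  obtain ⟨w, hw⟩ : ∃ w, σ e w ≠ 0 := by
    by_contra hc
    push Not at hc
    obtain ⟨u, hu⟩ := hσ.nontriv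
    obtain ⟨a, ha⟩ := hρ.surjective 1
    obtain ⟨b, hb⟩ := hρ.exists_apply hv v
    -- every `ρ a` is a sum of elements `x * e * y`
    have hall : ∀ z : Module.End k V, ∃ c, ρ c = z ∧ σ c = 0 := by
      intro z
      obtain ⟨T, hT⟩ := Module.Finite.fg_top (R := k) (M := V)
      let N : Submodule k (Module.End k V) :=
        Submodule.map ρ.toLinearMap (LinearMap.ker σ.toLinearMap)
      suffices hN : z ∈ N by
        obtain ⟨c, hc1, hc2⟩ := hN
        exact ⟨c, hc2, hc1⟩
      have hrank1 : ∀ (φ : Module.Dual k V) (u : V), φ.smulRight u ∈ N := by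
        intro φ u
        obtain ⟨x, hx⟩ := hρ.exists_apply hv u
        obtain ⟨y, hy⟩ := hρ.surjective (φ.smulRight v)
        refine ⟨x * e * y, ?_, ?_⟩
        · show σ (x * e * y) = 0
          ext m
          simp [hc]
        · show ρ (x * e * y) = _
          ext m
          simp [hy, hev, hx]
      let B := Module.finBasis k V
      have : z = ∑ i, (B.coord i).smulRight (z (B i)) := by
        refine B.ext fun j => ?_
        simp [Finsupp.single_apply]
      rw [this]
      exact N.sum_mem fun i _ => hrank1 _ _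
    obtain ⟨c, hc1, hc2⟩ := hall 1
    have h0 := hker (1 - c) (by rw [map_sub, hc1, map_one, sub_self])
    rw [map_sub, hc2, map_one, sub_zero] at h0
    exact hu (LinearMap.congr_fun h0 u)
  let w₀ := σ e w
  let L : A →ₗ[k] V := (LinearMap.applyₗ v).comp ρ.toLinearMap
  let L' : A →ₗ[k] W := (LinearMap.applyₗ w₀).comp σ.toLinearMap
  have hle : L.ker ≤ L'.ker := by
    intro a ha
    have ha' : ρ a v = 0 := ha
    have : σ (a * e) = 0 := hker _ (LinearMap.ext fun m => by simp [he, ha'])
    show σ a (σ e w) = 0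
    exact (LinearMap.congr_fun (map_mul σ a e) w).symm.trans (LinearMap.congr_fun this w)
  have hsurj : L.range = ⊤ := LinearMap.range_eq_top.2 fun u => hρ.exists_apply hv u
  let f : V →ₗ[k] W := (L.ker.liftQ L' hle).comp
    ((LinearMap.quotKerEquivRange L).trans (LinearEquiv.ofTop _ hsurj)).symm.toLinearMap
  have hf : ∀ a, f (ρ a v) = σ a w₀ := by
    intro a
    have : ((LinearMap.quotKerEquivRange L).trans (LinearEquiv.ofTop _ hsurj)).symm (L a) =
        Submodule.Quotient.mk a := by
      rw [LinearEquiv.symm_apply_eq]; rfl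
    show L.ker.liftQ L' hle (((LinearMap.quotKerEquivRange L).trans
      (LinearEquiv.ofTop _ hsurj)).symm (L a)) = L' a
    rw [this]
    rfl
  have hcomm : ∀ a u, f (ρ a u) = σ a (f u) := by
    intro a u
    obtain ⟨b, rfl⟩ := hρ.exists_apply hv u
    rw [hf, show ρ a (ρ b v) = ρ (a * b) v by simp, hf]
    simp
  refine ⟨LinearEquiv.ofBijective f ⟨?_, ?_⟩, fun a u => hcomm a u⟩
  · rw [← LinearMap.ker_eq_bot]
    refine (hρ.simple _ fun a u hu => ?_).resolve_right fun htop => ?_
    · rw [LinearMap.mem_ker] at hu ⊢; rw [hcomm, hu, map_zero]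
    · have h1 : f v = w₀ := by simpa using hf 1
      have : f v = 0 := LinearMap.mem_ker.1 (htop ▸ Submodule.mem_top : v ∈ f.ker)
      exact hw (h1.symm.trans this)
  · rw [← LinearMap.range_eq_top]
    refine hσ.stable_cases (w := w₀) ?_ ⟨v, by simpa using hf 1⟩ hw
    rintro a _ ⟨u, rfl⟩
    exact ⟨ρ a u, hcomm a u⟩

/-- Elements killing all irreducible constituents multiply to zero. -/
theorem prod_eq_zero {k : Type*} [Field k] {A : Type*} [Ring A] [Algebra k A] (ε : A)
    (P : A → Prop)
    (hP : ∀ (W : Type v) [AddCommGroup W] [Module k W] [FiniteDimensional k W]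
      (σ : A →ₐ[k] Module.End k W), Simp σ → σ ε = 1 → ∀ a, P a → σ a = 0) :
    ∀ (n : ℕ) (V : Type v) [AddCommGroup V] [Module k V] [FiniteDimensional k V]
      (ρ : A →ₐ[k] Module.End k V), ρ ε = 1 → Module.finrank k V ≤ n →
      ∀ l : List A, (∀ a ∈ l, P a) → n ≤ l.length → ρ l.prod = 0 := by
  intro n
  induction n with
  | zero =>
    intro V _ _ _ ρ _ hn l _ _
    haveI : Subsingleton V := Module.finrank_zero_iff.1 (Nat.le_zero.1 hn)
    exact LinearMap.ext fun v => Subsingleton.elim _ _
  | succ n ih =>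
    intro V _ _ _ ρ hε hn l hl hlen
    by_cases htriv : ∀ v : V, v = 0
    · exact LinearMap.ext fun v => (htriv _).trans (htriv _).symm
    push Not at htriv
    obtain ⟨v₀, hv₀⟩ := htriv
    obtain ⟨W, hW, hsimp⟩ := exists_simp_sub ρ hv₀
    match l, hlen with
    | a :: l', hlen =>
      have hWpos : 0 < Module.finrank k W := by
        obtain ⟨w, hw⟩ := hsimp.nontriv
        exact Module.finrank_pos_iff_exists_ne_zero.2 ⟨w, hw⟩
      have hq := ih (V ⧸ W) (quotAct ρ hW)
        (Submodule.linearMap_qext _ (LinearMap.ext fun v => by simp [hε]))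
        (by have := W.finrank_quotient_add_finrank; omega) l'
        (fun b hb => hl b (List.mem_cons_of_mem _ hb)) (by simpa using hlen)
      refine LinearMap.ext fun v => ?_
      have hmem : ρ l'.prod v ∈ W := by
        rw [← Submodule.Quotient.mk_eq_zero W, ← quotAct_mk ρ hW, hq]
        rfl
      have h0 := hP W (subAct ρ hW) hsimp
        (LinearMap.ext fun w => Subtype.ext (by simp [hε])) a (hl a (List.mem_cons_self ..))
      have := congrArg Subtype.val (LinearMap.congr_fun h0 ⟨_, hmem⟩)
      simpa using this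

section Family

variable {k : Type*} [Field k] [IsAlgClosed k] {A : Type*} [Ring A] [Algebra k A] {ι : Type*}
  [Fintype ι] {Vs : ι → Type*} [∀ i, AddCommGroup (Vs i)] [∀ i, Module k (Vs i)]
  [∀ i, FiniteDimensional k (Vs i)] {σ : ∀ i, A →ₐ[k] Module.End k (Vs i)}

/-- Pairwise non-isomorphic irreducible actions are separated. -/
theorem exists_separating (hs : ∀ i, Simp (σ i))
    (hne : ∀ i j, i ≠ j → IsEmpty {φ : Vs i ≃ₗ[k] Vs j // ∀ a v, φ (σ i a v) = σ j a (φ v)})
    (i : ι) : ∃ c, σ i c = 1 ∧ ∀ j, j ≠ i → σ j c = 0 := by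
  have hsep : ∀ j, j ≠ i → ∃ c, σ i c = 1 ∧ σ j c = 0 := by
    intro j hj
    obtain ⟨a, haj, hai⟩ : ∃ a, σ j a = 0 ∧ σ i a ≠ 0 := by
      by_contra hc
      push Not at hc
      obtain ⟨φ, hφ⟩ := (hs j).exists_equiv (hs i) hc
      exact (hne j i hj).false ⟨φ, hφ⟩
    let N : Submodule k (Module.End k (Vs i)) :=
      Submodule.map (σ i).toLinearMap (LinearMap.ker (σ j).toLinearMap)
    suffices h1 : (1 : Module.End k (Vs i)) ∈ N by
      obtain ⟨c, hc1, hc2⟩ := h1
      exact ⟨c, hc2, hc1⟩
    obtain ⟨u, hu⟩ : ∃ u, σ i a u ≠ 0 := by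
      by_contra hc
      push Not at hc
      exact hai (LinearMap.ext hc)
    have hrank1 : ∀ (φ : Module.Dual k (Vs i)) (w : Vs i), φ.smulRight w ∈ N := by
      intro φ w
      obtain ⟨x, hx⟩ := (hs i).exists_apply hu w
      obtain ⟨y, hy⟩ := (hs i).surjective (φ.smulRight u)
      refine ⟨x * a * y, ?_, ?_⟩
      · show σ j (x * a * y) = 0
        rw [map_mul, map_mul, haj, mul_zero, zero_mul]
      · show σ i (x * a * y) = _
        ext m
        simp [hy, hx]
    let B := Module.finBasis k (Vs i)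
    have : (1 : Module.End k (Vs i)) = ∑ l, (B.coord l).smulRight (B l) := by
      refine B.ext fun m => ?_
      simp [Finsupp.single_apply]
    rw [this]
    exact N.sum_mem fun l _ => hrank1 _ _
  have key : ∀ s : Finset ι, i ∉ s → ∃ c, σ i c = 1 ∧ ∀ j ∈ s, σ j c = 0 := by
    intro s
    induction s using Finset.induction with
    | empty => exact fun _ => ⟨1, map_one _, by simp⟩
    | insert j s hjs ih =>
      intro his
      rw [Finset.mem_insert, not_or] at his
      obtain ⟨c, hc1, hc2⟩ := ih his.2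
      obtain ⟨d, hd1, hd2⟩ := hsep j (Ne.symm his.1)
      refine ⟨c * d, by rw [map_mul, hc1, hd1, one_mul], fun m hm => ?_⟩
      rcases Finset.mem_insert.1 hm with rfl | hm
      · rw [map_mul, hd2, mul_zero]
      · rw [map_mul, hc2 m hm, zero_mul]
  obtain ⟨c, hc1, hc2⟩ := key (Finset.univ.erase i) (Finset.notMem_erase i _)
  exact ⟨c, hc1, fun j hj => hc2 j (Finset.mem_erase.2 ⟨hj, Finset.mem_univ _⟩)⟩

/-- Trace functions of pairwise non-isomorphic irreducible actions are independent. -/
theorem linearIndependent_traces (hs : ∀ i, Simp (σ i))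
    (hne : ∀ i j, i ≠ j → IsEmpty {φ : Vs i ≃ₗ[k] Vs j // ∀ a v, φ (σ i a v) = σ j a (φ v)}) :
    LinearIndependent k fun i => fun a : A => LinearMap.trace k (Vs i) (σ i a) := by
  rw [Fintype.linearIndependent_iff]
  intro g hg i
  obtain ⟨c, hc1, hc2⟩ := exists_separating hs hne i
  obtain ⟨v, hv⟩ := (hs i).nontriv
  obtain ⟨φ, hφ⟩ := Module.Projective.exists_dual_eq_one k hv
  obtain ⟨e, he⟩ := (hs i).surjective (φ.smulRight v)
  have h := congrFun hg (c * e)
  rw [Finset.sum_apply, Finset.sum_eq_single i] at h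
  · simpa [Pi.smul_apply, map_mul, hc1, he, LinearMap.trace_smulRight, hφ] using h
  · intro j _ hj
    simp [Pi.smul_apply, map_mul, hc2 j hj]
  · exact fun h' => absurd (Finset.mem_univ i) h'

end Family

/-- A commuting unipotent factor does not change the trace. -/
theorem trace_mul_of_unipotent {k : Type*} [Field k] {V : Type*} [AddCommGroup V] [Module k V]
    [FiniteDimensional k V] {u s : Module.End k V} (h : Commute u s) (hu : IsNilpotent (u - 1)) :
    LinearMap.trace k V (u * s) = LinearMap.trace k V s := by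
  have h1 : IsNilpotent ((u - 1) * s) :=
    (Commute.sub_left h (Commute.one_left s)).isNilpotent_mul_right hu
  have h2 := (LinearMap.isNilpotent_trace_of_isNilpotent h1).eq_zero
  rwa [sub_mul, one_mul, map_sub, sub_eq_zero] at h2

end CfsgLib.Blk83.Cyc
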