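import Cfsg.Agent.Lib.Blk83.CyclicAlg
import Cfsg.Agent.Lib.Blocks.Pairs.Bridge
import Cfsg.Agent.Lib.Blocks.Green
import Cfsg.Agent.Lib.Blocks.PPart
import Cfsg.Agent.Lib.BlockRank.Basic
import Mathlib.LinearAlgebra.Matrix.NonsingularInverse

/-!
The centre of a block algebra has dimension at most the number of characters, and there are at most
as many irreducible modules as the rank of the block.
-/

set_option autoImplicit false

open scoped Classical

namespace CfsgLib.Blk83.Cyc

open Cfsg CfsgLib.Blocks CfsgLib.Blocks.Pairs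

universe u v

variable {G : Type u} [Group G] [Finite G] {p : ℕ} {M : Ideal AlgInt} [M.IsMaximal]

local notation "k" => ResField M

/-- Vectors over the local ring with independent reductions are independent over `ℂ`. -/
theorem linearIndependent_of_red {n ι : Type*} [Fintype n] [Fintype ι]
    (v : n → ι → locRing M) (h : LinearIndependent k fun j i => red M (v j i)) :
    LinearIndependent ℂ fun j i => (v j i : ℂ) := by
  obtain ⟨L, hL⟩ := (Fintype.linearCombination k fun j i => red M (v j i)).exists_leftInverse_of_injective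
    (LinearMap.ker_eq_bot.2 (by
      exact linearIndependent_iff_injective_fintypeLinearCombination.1 h))
  choose U hU using fun (l : n) (i : ι) => red_surjective (M := M) (L (Pi.single i 1) l)
  let P : Matrix n n (locRing M) := fun j l => ∑ i, v j i * U l i
  have hP : P.map (red M) = 1 := by
    ext j l
    have h1 := congrFun (LinearMap.congr_fun hL (Pi.single j 1)) l
    simp only [LinearMap.comp_apply, Fintype.linearCombination_apply_single, one_smul,
      LinearMap.id_apply] at h1
    rw [Matrix.map_apply, Matrix.one_apply]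
    rw [show (if j = l then (1 : k) else 0) = (Pi.single j (1 : k) : n → k) l by
      simp [Pi.single_apply, eq_comm]]
    rw [← h1]
    have hsum : (fun i => red M (v j i)) = ∑ i, red M (v j i) • (Pi.single i (1 : k) : ι → k) := by
      funext x
      simp [Finset.sum_apply, Pi.single_apply]
    rw [hsum]
    simp [P, map_sum, hU, Finset.sum_apply]
  have hdet : IsUnit P.det := by
    refine isUnit_of_red_ne_zero ?_
    rw [RingHom.map_det, RingHom.mapMatrix_apply, hP, Matrix.det_one]
    exact one_ne_zero
  obtain ⟨P', hP'⟩ := (P.isUnit_iff_isUnit_det.2 hdet).exists_right_inv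
  rw [Fintype.linearIndependent_iff]
  intro c hc l
  have h0 : ∀ i, ∑ j, c j * (v j i : ℂ) = 0 := fun i => by
    simpa [Finset.sum_apply] using congrFun hc i
  have h1 : ∀ m, ∑ j, c j * (P j m : ℂ) = 0 := fun m => by
    simp only [P, AddSubmonoidClass.coe_finsetSum, Subring.coe_mul, Finset.mul_sum, ← mul_assoc]
    rw [Finset.sum_comm]
    exact Finset.sum_eq_zero fun i _ => by rw [← Finset.sum_mul, h0, zero_mul]
  have h2 : ∀ j, ∑ m, (P j m : ℂ) * (P' m l : ℂ) = if j = l then 1 else 0 := fun j => by
    have := congrArg Subtype.val (congrFun (congrFun hP' j) l)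
    rw [Matrix.mul_apply, AddSubmonoidClass.coe_finsetSum, Matrix.one_apply] at this
    simp only [Subring.coe_mul] at this
    rw [this]
    split_ifs <;> rfl
  calc c l = ∑ j, c j * ∑ m, (P j m : ℂ) * (P' m l : ℂ) := by simp [h2]
    _ = ∑ m, (∑ j, c j * (P j m : ℂ)) * (P' m l : ℂ) := by
        simp only [Finset.mul_sum, Finset.sum_mul, mul_assoc]; rw [Finset.sum_comm]
    _ = 0 := by simp [h1]

/-- The central elements of the block algebra. -/
def blockCentre {B : Set (IrrCharacter G)} (hB : IsPBlock M B) :
    Submodule k (MonoidAlgebra k G) where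
  carrier := {z | z ∈ Subalgebra.center k (MonoidAlgebra k G) ∧ ebar hB * z = z}
  zero_mem' := ⟨Subalgebra.zero_mem _, mul_zero _⟩
  add_mem' := fun ha hb => ⟨add_mem ha.1 hb.1, by rw [mul_add, ha.2, hb.2]⟩
  smul_mem' := fun c z hz => ⟨Subalgebra.smul_mem _ hz.1 c, by rw [mul_smul_comm, hz.2]⟩

theorem finrank_blockCentre_le {B : Set (IrrCharacter G)} (hB : IsPBlock M B) :
    Module.finrank k (blockCentre hB) ≤ Nat.card B := by
  haveI := Fintype.ofFinite G
  let β := Module.finBasis k (blockCentre hB)
  choose zl hzl using fun j => mapCenter_surjective (G := G) red_surjective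
    ⟨(β j : MonoidAlgebra k G), (β j).2.1⟩
  let w := fun j => blockIdemR hB * zl j
  have hw : ∀ j, (mapCenter (red M) (w j) : MonoidAlgebra k G) = (β j : MonoidAlgebra k G) := by
    intro j
    rw [map_mul, hzl]
    exact (β j).2.2
  let v : Fin (Module.finrank k (blockCentre hB)) → G → locRing M :=
    fun j g => (w j : MonoidAlgebra (locRing M) G).coeff g
  have hli : LinearIndependent k fun j g => red M (v j g) := by
    let C : MonoidAlgebra k G →ₗ[k] (G → k) :=
      { toFun := fun a g => a.coeff g
        map_add' := fun a b => by funext g; simp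
        map_smul' := fun c a => by funext g; simp }
    have hC : LinearMap.ker C = ⊥ := LinearMap.ker_eq_bot.2 fun a b h =>
      MonoidAlgebra.ext (Finsupp.ext fun g => congrFun h g)
    have hC' : LinearMap.ker (C.comp (blockCentre hB).subtype) = ⊥ := by
      rw [LinearMap.ker_comp, hC, Submodule.comap_bot, Submodule.ker_subtype]
    have h1 := β.linearIndependent.map' _ hC'
    refine (?_ : (fun j g => red M (v j g)) = (C.comp (blockCentre hB).subtype) ∘ β) ▸ h1
    funext j g
    rw [Function.comp_apply, LinearMap.comp_apply, Submodule.subtype_apply, ← hw j]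
    simp [C, v, coe_mapCenter]
  have hC := linearIndependent_of_red v hli
  let Ω : (G → ℂ) →ₗ[ℂ] (B → ℂ) :=
    { toFun := fun a χ => (∑ g, a g * ((χ : IrrCharacter G) : G → ℂ) g) /
        ((χ : IrrCharacter G) : G → ℂ) 1
      map_add' := fun a b => by
        funext χ; simp [add_mul, Finset.sum_add_distrib, add_div]
      map_smul' := fun c a => by
        funext χ; simp [mul_assoc, ← Finset.mul_sum, mul_div_assoc] }
  let wC := fun j => mapCenter (locRing M).subtype (w j)
  have hΩ : ∀ j (χ : B), Ω (fun g => (v j g : ℂ)) χ = omega (χ : IrrCharacter G) (wC j) := by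
    intro j χ
    rw [omega_eq_sum]
    simp [Ω, wC, v, coe_mapCenter]
  have hout : ∀ j (χ : IrrCharacter G), χ ∉ B → omega χ (wC j) = 0 := by
    intro j χ hχ
    have h1 := congrArg (fun z => ((z : locRing M) : ℂ)) (lamR_blockIdemR hB χ)
    simp only [coe_lamR] at h1
    rw [show wC j = mapCenter (locRing M).subtype (blockIdemR hB) *
      mapCenter (locRing M).subtype (zl j) from map_mul _ _ _, map_mul, h1]
    simp [blockInd, hχ]
  have hli2 : LinearIndependent ℂ fun j => Ω (fun g => (v j g : ℂ)) := by
    rw [Fintype.linearIndependent_iff] at hC ⊢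
    intro c hc
    apply hC
    have h0 : ∑ j, c j • wC j = 0 := omega_ext fun χ => by
      rw [map_sum, map_zero]
      by_cases hχ : χ ∈ B
      · have := congrFun hc ⟨χ, hχ⟩
        simpa [hΩ] using this
      · exact Finset.sum_eq_zero fun j _ => by rw [map_smul, hout j χ hχ, smul_zero]
    funext g
    have := congrArg (fun z : Subalgebra.center ℂ (MonoidAlgebra ℂ G) =>
      (z : MonoidAlgebra ℂ G).coeff g) h0
    simpa [wC, v, coe_mapCenter, Finset.sum_apply] using this
  haveI := Fintype.ofFinite B
  have := hli2.fintype_card_le_finrank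
  rwa [Fintype.card_fin, Module.finrank_fintype_fun_eq_card, ← Nat.card_eq_fintype_card] at this

theorem sum_blockCoeff_translate_of_notMem [Fintype G] {B : Set (IrrCharacter G)}
    {χ : IrrCharacter G} (hχ : χ ∉ B) (y : G) :
    ∑ z : G, blockCoeff B z * (χ : G → ℂ) (z * y) = 0 := by
  have h1 : idemC B + idemC Bᶜ = (1 : Subalgebra.center ℂ (MonoidAlgebra ℂ G)) := omega_ext fun ξ => by
    rw [map_add, omega_idemC, omega_idemC, map_one]
    by_cases h : ξ ∈ B <;> simp [blockInd, h]
  have h2 : ∀ z, blockCoeff B z + blockCoeff Bᶜ z = if z = 1 then 1 else 0 := fun z => by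
    have := congrArg (fun a : Subalgebra.center ℂ (MonoidAlgebra ℂ G) =>
      (a : MonoidAlgebra ℂ G).coeff z) h1
    simpa [MonoidAlgebra.one_def, Finsupp.single_apply, eq_comm] using this
  have h3 := sum_blockCoeff_mul_apply Bᶜ (χ := χ) hχ y
  calc _ = ∑ z, ((if z = 1 then 1 else 0) - blockCoeff Bᶜ z) * (χ : G → ℂ) (z * y) :=
        Finset.sum_congr rfl fun z _ => by rw [← h2, add_sub_cancel_right]
    _ = 0 := by simp [sub_mul, Finset.sum_sub_distrib, h3]

/-- Traces only depend on the regular part. -/
theorem trace_single_eq_regular {V : Type v} [AddCommGroup V] [Module k V] [FiniteDimensional k V]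
    [Fact p.Prime] (hM : IsPModular p M) (σ : MonoidAlgebra k G →ₐ[k] Module.End k V) {u s : G}
    (h : Commute u s) (hu : ∃ j : ℕ, orderOf u = p ^ j) :
    LinearMap.trace k V (σ (MonoidAlgebra.single (u * s) 1)) =
      LinearMap.trace k V (σ (MonoidAlgebra.single s 1)) := by
  rcases subsingleton_or_nontrivial V with hV | hV
  · congr 1; exact LinearMap.ext fun x => Subsingleton.elim _ _
  haveI : CharP k p := charP_resField hM.1 (natCast_mem_of_isPModular hM)
  haveI : CharP (Module.End k V) p := charP_of_injective_algebraMap (algebraMap k _).injective p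
  obtain ⟨j, hj⟩ := hu
  rw [show MonoidAlgebra.single (u * s) (1 : k) =
    MonoidAlgebra.single u 1 * MonoidAlgebra.single s 1 by simp, map_mul]
  refine trace_mul_of_unipotent (Commute.map ?_ σ) ⟨p ^ j, ?_⟩
  · show _ * _ = _ * _
    simp [h.eq]
  · rw [sub_pow_char_pow_of_commute p j (Commute.one_right _), one_pow, ← map_pow,
      MonoidAlgebra.single_pow, ← hj, pow_orderOf_eq_one, one_pow, ← MonoidAlgebra.one_def,
      map_one, sub_self]

/-- A block has at most `blockRank` irreducible modules. -/
theorem card_simples_le [Fact p.Prime] (hM : IsPModular p M) {B : Set (IrrCharacter G)}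
    (hB : IsPBlock M B) {ι : Type*} [Fintype ι] {Vs : ι → Type v} [∀ i, AddCommGroup (Vs i)]
    [∀ i, Module k (Vs i)] [∀ i, FiniteDimensional k (Vs i)]
    (σ : ∀ i, MonoidAlgebra k G →ₐ[k] Module.End k (Vs i)) (hs : ∀ i, Simp (σ i))
    (hne : ∀ i j, i ≠ j → IsEmpty {φ : Vs i ≃ₗ[k] Vs j // ∀ a v, φ (σ i a v) = σ j a (φ v)})
    (hB1 : ∀ i, σ i (ebar hB) = 1) : Fintype.card ι ≤ Cfsg.blockRank p B := by
  haveI := Fintype.ofFinite G
  haveI := isAlgClosed_resField (M := M)
  let τ : ι → G → k := fun i g => LinearMap.trace k (Vs i) (σ i (MonoidAlgebra.single g 1))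
  choose sec hsec using red_surjective (M := M)
  let β : ι → G → locRing M := fun i g =>
    ∑ h, ⟨blockCoeff B h, blockCoeff_mem hB h⟩ * sec (τ i (h * g))
  have hdec : ∀ a : MonoidAlgebra k G, a = ∑ g : G, a.coeff g • MonoidAlgebra.single g 1 := by
    intro a
    ext x
    simp [Finsupp.single_apply]
  have hβ : ∀ i g, red M (β i g) = τ i g := by
    intro i g
    simp only [β, map_sum, map_mul, hsec]
    have : MonoidAlgebra.single g (1 : k) = MonoidAlgebra.single g 1 := rfl
    calc _ = LinearMap.trace k (Vs i) (σ i (ebar hB * MonoidAlgebra.single g 1)) := by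
          conv_rhs => rw [hdec (ebar hB)]
          rw [Finset.sum_mul, map_sum, map_sum]
          refine Finset.sum_congr rfl fun h _ => ?_
          rw [smul_mul_assoc, map_smul, map_smul, MonoidAlgebra.single_mul_single, mul_one,
            coeff_ebar]
          rfl
      _ = τ i g := by rw [map_mul, hB1, one_mul]
  have hli : LinearIndependent k τ := by
    have h1 := linearIndependent_traces hs hne
    rw [Fintype.linearIndependent_iff] at h1 ⊢
    intro c hc
    apply h1
    funext a
    simp only [Finset.sum_apply, Pi.smul_apply, Pi.zero_apply, smul_eq_mul]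
    conv_lhs => arg 2; ext i; rw [hdec a]
    simp only [map_sum, map_smul, smul_eq_mul, Finset.mul_sum]
    rw [Finset.sum_comm]
    refine Finset.sum_eq_zero fun g _ => ?_
    have hg : ∑ i, c i * τ i g = 0 := by simpa [Finset.sum_apply] using congrFun hc g
    calc ∑ i, c i * (a.coeff g * τ i g) = a.coeff g * ∑ i, c i * τ i g := by
          rw [Finset.mul_sum]; exact Finset.sum_congr rfl fun i _ => by ring
      _ = 0 := by rw [hg, mul_zero]
  let v : ι → G → locRing M := fun i g => if Cfsg.IsPRegular p g then β i g else 0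
  have hli' : LinearIndependent k fun i g => red M (v i g) := by
    rw [Fintype.linearIndependent_iff] at hli ⊢
    intro c hc
    apply hli
    funext g
    obtain ⟨u, hu⟩ := exists_isPPart hM.1 g
    obtain ⟨s, hus, hcomm, hord, hs'⟩ := hu
    have hg : ∀ i, τ i g = τ i s := fun i => by
      show LinearMap.trace k _ _ = LinearMap.trace k _ _
      rw [← hus]
      exact trace_single_eq_regular hM (σ i) hcomm hord
    have := congrFun hc s
    simp only [Finset.sum_apply, Pi.smul_apply, Pi.zero_apply, v] at this ⊢
    rw [← this]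
    refine Finset.sum_congr rfl fun i _ => ?_
    rw [if_pos (show Cfsg.IsPRegular p s from hs'), hβ, hg]
  have hC := linearIndependent_of_red v hli'
  have hmem : ∀ i, (fun g => (v i g : ℂ)) ∈ Submodule.span ℂ
      ((fun χ : IrrCharacter G => Cfsg.pRegularPart p (χ : G → ℂ)) '' B) := by
    intro i
    have hf : Cfsg.IsClassFunction G (fun g => ((sec (τ i g) : locRing M) : ℂ)) := by
      intro g h
      have e : τ i (h * g * h⁻¹) = τ i g := by
        show LinearMap.trace k _ _ = LinearMap.trace k _ _
        rw [show MonoidAlgebra.single (h * g * h⁻¹) (1 : k) =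
          MonoidAlgebra.single h 1 * (MonoidAlgebra.single g 1 * MonoidAlgebra.single h⁻¹ 1) by
            simp [mul_assoc],
          map_mul, LinearMap.trace_mul_comm, ← map_mul]
        simp
      simp only [e]
    set f := fun g => ((sec (τ i g) : locRing M) : ℂ) with hfdef
    have hexp := CfsgLib.Char.IsClassFunction.eq_sum_classInner hf
    have key : (fun g => (v i g : ℂ)) = ∑ χ : IrrCharacter G,
        (if χ ∈ B then Cfsg.classInner f (χ : G → ℂ) else 0) •
          Cfsg.pRegularPart p (χ : G → ℂ) := by
      funext g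
      simp only [Finset.sum_apply, Pi.smul_apply, smul_eq_mul, Cfsg.pRegularPart, v]
      by_cases hg : Cfsg.IsPRegular p g
      · simp only [if_pos hg, β, AddSubmonoidClass.coe_finsetSum, Subring.coe_mul]
        change ∑ h, blockCoeff B h * f (h * g) = _
        conv_lhs => arg 2; ext h; rw [congrFun hexp (h * g)]
        simp only [Finset.sum_apply, Pi.smul_apply, smul_eq_mul, Finset.mul_sum]
        rw [Finset.sum_comm]
        refine Finset.sum_congr rfl fun χ _ => ?_
        calc ∑ h, blockCoeff B h * (Cfsg.classInner f (χ : G → ℂ) * (χ : G → ℂ) (h * g))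
            = Cfsg.classInner f (χ : G → ℂ) * ∑ h, blockCoeff B h * (χ : G → ℂ) (h * g) := by
              rw [Finset.mul_sum]; exact Finset.sum_congr rfl fun h _ => by ring
          _ = _ := by
              by_cases hχ : χ ∈ B
              · rw [if_pos hχ, sum_blockCoeff_mul_apply B hχ]
              · rw [if_neg hχ, sum_blockCoeff_translate_of_notMem hχ]; simp
      · simp [if_neg hg]
    rw [key]
    refine Submodule.sum_mem _ fun χ _ => ?_
    by_cases hχ : χ ∈ B
    · exact Submodule.smul_mem _ _ (Submodule.subset_span ⟨χ, hχ, rfl⟩)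
    · simp [hχ]
  have h2 : LinearIndependent ℂ fun i => (⟨_, hmem i⟩ : Submodule.span ℂ
      ((fun χ : IrrCharacter G => Cfsg.pRegularPart p (χ : G → ℂ)) '' B)) :=
    LinearIndependent.of_comp (Submodule.subtype _) hC
  exact h2.fintype_card_le_finrank

end CfsgLib.Blk83.Cyc
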