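import Cfsg.Agent.Lib.Blk83.CyclicLinear

/-!
The columns of a block with cyclic defect group from those of the block of the centralizer of the
subgroup of order `p`, and the signs that make them generalized characters of the defect group.
-/

set_option autoImplicit false
set_option maxHeartbeats 800000
set_option synthInstance.maxHeartbeats 400000

open Cfsg CfsgLib.Blocks CfsgLib.Blocks.Pairs CfsgLib.BlockRank CfsgLib.BlockReg
open scoped Classical ComplexConjugate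

namespace CfsgLib.Blk83.Cyc

universe u

variable {G : Type u} [Group G] [Finite G] {p : ℕ} [Fact p.Prime] {M : Ideal AlgInt} [M.IsMaximal]
  [CharP (ResField M) p]
variable {B : Set (IrrCharacter G)} {hB : IsPBlock M B} {D : Subgroup G}
  {eD : MonoidAlgebra (ResField M) G} {a e : ℕ}

/-- The local data at a nontrivial subgroup of the defect group. -/
theorem CycData.exists_cycData_below (h : CycData p hB D eD a e) {Q : Subgroup G} (hQ : Q ≤ D)
    (hQ1 : Q ≠ ⊥) {f : MonoidAlgebra (ResField M) G} (hf : SLE p Q f D eD) :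
    ∃ (b : Set (IrrCharacter (Subgroup.centralizer (Q : Set G)))) (hb : IsPBlock M b),
      eIn hb = f ∧ CycData p hb (D.subgroupOf (Subgroup.centralizer (Q : Set G)))
        (down (Subgroup.centralizer (Q : Set G)) eD) a 1 := by
  obtain ⟨b, hb, hbe, hP', hno', -⟩ := h.local_below hQ hQ1 hf
  obtain ⟨-, -, hst⟩ := CfsgLib.BlockRank.local_pair rfl h.pair h.noExt h.comm hf
  have hDQ : D ≤ Subgroup.centralizer (Q : Set G) := h.le_centralizer.trans (centralizer_anti hQ)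
  refine ⟨b, hb, by rw [eIn, hbe, up_down (hf.pair_left h.pair.pair).block.mem.supp],
    ⟨h.hM, hP', hno', ?_, ?_, h.pos, Subgroup.relIndex_eq_one.2 ?_⟩⟩
  · haveI := h.cyc
    exact isCyclic_of_surjective (Subgroup.subgroupOfEquivOfLe hDQ).symm.toMonoidHom
      (Subgroup.subgroupOfEquivOfLe hDQ).symm.surjective
  · rw [Nat.card_congr (Subgroup.subgroupOfEquivOfLe hDQ).toEquiv, h.card]
  · intro y hy
    refine Subgroup.mem_centralizer_iff.2 fun x hx => Subtype.ext ?_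
    exact Subgroup.mem_centralizer_iff.1
      ((h.stab_below hQ hQ1 hf).2.2 _ (hst y hy) y.2) (x : G) hx

variable {H : Subgroup G} {b₁ : Set (IrrCharacter H)} {hb₁ : IsPBlock M b₁}

/-- The two centralizers of an element whose centralizer lies in `H`. -/
theorem exists_centralizerEquiv (y : H) (hC : Subgroup.centralizer ({(y : G)} : Set G) ≤ H) :
    ∃ ψ : Subgroup.centralizer ({y} : Set H) ≃* Subgroup.centralizer ({(y : G)} : Set G),
      ∀ c : Subgroup.centralizer ({y} : Set H), (ψ c : G) = ((c : H) : G) := by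
  refine ⟨{ toFun := fun c => ⟨((c : H) : G), Subgroup.mem_centralizer_singleton_iff.2
              (congrArg Subtype.val (Subgroup.mem_centralizer_singleton_iff.1 c.2))⟩
            invFun := fun c => ⟨⟨(c : G), hC c.2⟩, Subgroup.mem_centralizer_singleton_iff.2
              (Subtype.ext (Subgroup.mem_centralizer_singleton_iff.1 c.2))⟩
            left_inv := fun c => rfl
            right_inv := fun c => rfl
            map_mul' := fun c d => rfl }, fun c => rfl⟩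

/-- The local block seen in `H` and in `G`. -/
theorem CycData.subBlk_eq (h : CycData p hB D eD a e) (hDH : D ≤ H)
    (hCH : Subgroup.centralizer (D : Set G) ≤ H) {y : H}
    (hC : Subgroup.centralizer ({(y : G)} : Set G) ≤ H)
    {b : Set (IrrCharacter (Subgroup.centralizer ({(y : G)} : Set G)))}
    (hb : SubBlk p D eD (y : G) b) {b' : Set (IrrCharacter (Subgroup.centralizer ({y} : Set H)))}
    (hb' : SubBlk p (D.subgroupOf H) (down H eD) y b')
    (ψ : Subgroup.centralizer ({y} : Set H) ≃* Subgroup.centralizer ({(y : G)} : Set G))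
    (hψ : ∀ c : Subgroup.centralizer ({y} : Set H), (ψ c : G) = ((c : H) : G)) :
    b' = pullSet ψ b := by
  obtain ⟨-, hb1, hs⟩ := hb
  obtain ⟨-, hb1', hs'⟩ := hb'
  have hmap : (Subgroup.zpowers y).map H.subtype = Subgroup.zpowers (y : G) :=
    MonoidHom.map_zpowers _ _
  have h1 := hs'.up_of_le (by rwa [hmap, ← centralizer_singleton_zpowers])
  rw [hmap, Subgroup.map_subgroupOf_eq_of_le hDH,
    up_down (h.pair.pair.block.mem.supp.mono hCH)] at h1
  have h2 := SLE.unique h.pair.pair h1 hs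
  refine eIn_injective hb1' (isPBlock_pullSet ψ hb1) (up_injective H ?_)
  rw [h2]
  ext x
  by_cases hx : x ∈ Subgroup.centralizer ({(y : G)} : Set G)
  · obtain ⟨c, hc⟩ := ψ.surjective ⟨x, hx⟩
    have hxc : x = ((c : H) : G) := by rw [← hψ c, hc]
    subst hxc
    rw [coeff_up_coe, eIn, eIn, coeff_up_coe, coeff_ebar,
      show ((c : H) : G) = ((ψ c : Subgroup.centralizer ({(y : G)} : Set G)) : G) from (hψ c).symm,
      coeff_up_coe, coeff_ebar]
    congr 1
    exact Subtype.ext (blockCoeff_pullSet ψ b c).symm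
  · rw [show (eIn hb1).coeff x = 0 from up_suppIn _ _ x hx]
    by_cases hxH : x ∈ H
    · rw [show x = ((⟨x, hxH⟩ : H) : G) from rfl, coeff_up_coe]
      refine (up_suppIn _ _ _ fun hc => hx ?_).symm
      exact Subgroup.mem_centralizer_singleton_iff.2
        (congrArg Subtype.val (Subgroup.mem_centralizer_singleton_iff.1 hc))
    · exact (up_suppIn H _ x hxH).symm

/-- The column of `χ` is the combination of the columns of the constituents in the local block. -/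
theorem CycData.exists_col_restrict (h : CycData p hB D eD a e) (hDH : D ≤ H)
    (hCH : Subgroup.centralizer (D : Set G) ≤ H)
    (hH : CycData p hb₁ (D.subgroupOf H) (down H eD) a 1) (χ : IrrCharacter G) :
    ∃ m : IrrCharacter H → ℕ, ∀ y : H, (y : G) ∈ D → y ≠ 1 →
      Subgroup.centralizer ({(y : G)} : Set G) ≤ H →
      col p D eD (y : G) χ =
        ∑ᶠ θ ∈ b₁, (m θ : ℂ) * col p (D.subgroupOf H) (down H eD) y θ := by
  haveI := Fintype.ofFinite H
  haveI := Fintype.ofFinite b₁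
  have hres := CfsgLib.Char.IsCharacter.restrict (CfsgLib.Char.IsIrrCharacter.isCharacter χ.2) H
  choose m hm using fun θ : IrrCharacter H =>
    CfsgLib.Char.IsCharacter.exists_nat_classInner hres θ.2
  have hexp : ∀ c : H, (χ : G → ℂ) c = ∑ θ : IrrCharacter H, (m θ : ℂ) * (θ : H → ℂ) c := by
    intro c
    have h1 := congrFun (CfsgLib.Char.IsCharacter.eq_sum_classInner hres) c
    simpa [Finset.sum_apply, hm] using h1
  refine ⟨m, fun y hy hy1 hC => ?_⟩
  have hyG : (y : G) ≠ 1 := fun e0 => hy1 (Subtype.ext e0)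
  have hyH : y ∈ D.subgroupOf H := hy
  obtain ⟨b, hb, -⟩ := h.exists_subBlk hy hyG rfl
  obtain ⟨b', hb', -⟩ := hH.exists_subBlk hyH hy1 rfl
  obtain ⟨ψ, hψ⟩ := exists_centralizerEquiv y hC
  obtain rfl := h.subBlk_eq hDH hCH hC hb hb' ψ hψ
  obtain ⟨η, hη⟩ := block_nonempty h.hM (hb.induced h).1
  have hη' : pull ψ η ∈ pullSet ψ b := ⟨η, hη, rfl⟩
  haveI := Fintype.ofFinite G
  haveI := Fintype.ofFinite (Subgroup.centralizer ({y} : Set H))
  haveI := Fintype.ofFinite (pullSet ψ b)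
  obtain ⟨k, -, hk⟩ := hH.orderOf_dvd hyH
  have h1reg : Cfsg.IsPRegular p (1 : Subgroup.centralizer ({y} : Set H)) :=
    CfsgLib.PerfIso.isPRegular_one
  have hv : ∀ θ : IrrCharacter H, Cfsg.blockPart (pullSet ψ b)
      (fun c : Subgroup.centralizer ({y} : Set H) => (θ : H → ℂ) (y * c)) 1 =
      col p (D.subgroupOf H) (down H eD) y θ *
        (η : Subgroup.centralizer ({(y : G)} : Set G) → ℂ) 1 := fun θ => by
    have h1 := hb'.value hH hyH hy1 hη' θ h1reg
    rwa [pull_apply, map_one] at h1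
  refine mul_right_cancel₀ (deg_ne_zero η) ?_
  rw [← hb.value h hy hyG hη χ CfsgLib.PerfIso.isPRegular_one, ← map_one ψ,
    ← CfsgLib.Blk83.blockPart_pullSet ψ b (isClassFunction_translate rfl χ) 1, map_one]
  calc Cfsg.blockPart (pullSet ψ b)
        (fun x => (χ : G → ℂ) ((y : G) * ((ψ x : Subgroup.centralizer ({(y : G)} : Set G)) : G))) 1
      = ∑ θ : IrrCharacter H, (m θ : ℂ) * Cfsg.blockPart (pullSet ψ b)
          (fun c : Subgroup.centralizer ({y} : Set H) => (θ : H → ℂ) (y * c)) 1 := by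
        simp only [blockPart_eq_projKer, Finset.mul_sum]
        rw [Finset.sum_comm]
        refine Finset.sum_congr rfl fun c _ => ?_
        rw [hψ, ← Subgroup.coe_mul, hexp, Finset.mul_sum]
        exact Finset.sum_congr rfl fun θ _ => by ring
    _ = ∑ θ ∈ b₁.toFinset, (m θ : ℂ) * Cfsg.blockPart (pullSet ψ b)
          (fun c : Subgroup.centralizer ({y} : Set H) => (θ : H → ℂ) (y * c)) 1 := by
        refine (Finset.sum_subset (Finset.subset_univ _) fun θ _ hθ => ?_).symm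
        rw [CfsgLib.PerfIso.blockPart_eq_zero_of_not_mem h.hM ⟨k, hk⟩ (hb'.induced hH)
          (fun hh => hθ (Set.mem_toFinset.2 hh)) 1 h1reg, mul_zero]
    _ = (∑ᶠ θ ∈ b₁, (m θ : ℂ) * col p (D.subgroupOf H) (down H eD) y θ) *
          (η : Subgroup.centralizer ({(y : G)} : Set G) → ℂ) 1 := by
        rw [finsum_mem_eq_toFinset_sum, Finset.sum_mul]
        exact Finset.sum_congr rfl fun θ _ => by rw [hv, mul_assoc]

/-- Conjugation by an element of the inertial group permutes the local columns. -/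
theorem CycData.exists_col_conj (h : CycData p hB D eD a e) (hDH : D ≤ H)
    (hCH : Subgroup.centralizer (D : Set G) ≤ H)
    (hH : CycData p hb₁ (D.subgroupOf H) (down H eD) a 1) {t : G} (ht : t ∈ pairStab D eD)
    (htH : t ∈ Subgroup.normalizer (H : Set G)) (htb : conjA t (eIn hb₁) = eIn hb₁)
    (hC : ∀ y ∈ D, y ≠ 1 → Subgroup.centralizer ({y} : Set G) ≤ H)
    {θ : IrrCharacter H} (hθ : θ ∈ b₁) :
    ∃ θ' ∈ b₁, ∀ y y' : H, (y : G) ∈ D → y ≠ 1 → (y' : G) = t * y * t⁻¹ →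
      col p (D.subgroupOf H) (down H eD) y θ' = col p (D.subgroupOf H) (down H eD) y' θ := by
  let σ : H ≃* H :=
    { toFun := fun q => ⟨t * q * t⁻¹, (Subgroup.mem_normalizer_iff.mp htH q).mp q.2⟩
      invFun := fun q => ⟨t⁻¹ * q * t, (Subgroup.mem_normalizer_iff''.mp htH q).mp q.2⟩
      left_inv := fun q => Subtype.ext (by simp [mul_assoc])
      right_inv := fun q => Subtype.ext (by simp [mul_assoc])
      map_mul' := fun a b => Subtype.ext (by simp [mul_assoc]) }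
  have hconjH : H = conjSub t⁻¹ H := (conjSub_eq_of_mem_normalizer (inv_mem htH)).symm
  have hpull : pullSet σ b₁ = b₁ := by
    refine eIn_injective (isPBlock_pullSet σ hb₁) hb₁ ?_
    rw [eIn_conj σ t⁻¹ (fun q => by show t * (q : G) * t⁻¹ = _; rw [inv_inv]) hconjH hb₁]
    conv_lhs => rw [← htb]
    rw [conjA_inv_conjA]
  refine ⟨pull σ θ, hpull ▸ ⟨θ, hθ, rfl⟩, fun y y' hy hy1 hyy' => ?_⟩
  have hyG : (y : G) ≠ 1 := fun e0 => hy1 (Subtype.ext e0)
  have hy'D : (y' : G) ∈ D := hyy' ▸ (Subgroup.mem_normalizer_iff.1 ht.1 _).1 hy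
  have hy'G : (y' : G) ≠ 1 := fun e0 => hyG (conj_eq_one_iff.1 (hyy' ▸ e0))
  have hy'1 : y' ≠ 1 := fun e0 => hy'G (by rw [e0]; rfl)
  have hyH : y ∈ D.subgroupOf H := hy
  have hy'H : y' ∈ D.subgroupOf H := hy'D
  obtain ⟨b, hb, -⟩ := h.exists_subBlk hy hyG rfl
  obtain ⟨bb, hbb, -⟩ := h.exists_subBlk hy'D hy'G rfl
  obtain ⟨b', hb', -⟩ := hH.exists_subBlk hyH hy1 rfl
  obtain ⟨bb', hbb', -⟩ := hH.exists_subBlk hy'H hy'1 rfl
  obtain ⟨ψ, hψ⟩ := exists_centralizerEquiv y (hC _ hy hyG)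
  obtain ⟨ψ', hψ'⟩ := exists_centralizerEquiv y' (hC _ hy'D hy'G)
  obtain rfl := h.subBlk_eq hDH hCH (hC _ hy hyG) hb hb' ψ hψ
  obtain rfl := h.subBlk_eq hDH hCH (hC _ hy'D hy'G) hbb hbb' ψ' hψ'
  -- the conjugation between the centralizers in `G`
  have hmemG : ∀ x : G, x ∈ Subgroup.centralizer ({(y : G)} : Set G) ↔
      t * x * t⁻¹ ∈ Subgroup.centralizer ({(y' : G)} : Set G) := by
    intro x
    rw [Subgroup.mem_centralizer_singleton_iff, Subgroup.mem_centralizer_singleton_iff, hyy']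
    constructor <;> intro hx
    · calc t * x * t⁻¹ * (t * y * t⁻¹) = t * (x * y) * t⁻¹ := by group
        _ = _ := by rw [hx]; group
    · calc x * (y : G) = t⁻¹ * (t * x * t⁻¹ * (t * y * t⁻¹)) * t := by group
        _ = _ := by rw [hx]; group
  let φ : Subgroup.centralizer ({(y : G)} : Set G) ≃* Subgroup.centralizer ({(y' : G)} : Set G) :=
    { toFun := fun x => ⟨t * x * t⁻¹, (hmemG x).1 x.2⟩
      invFun := fun x => ⟨t⁻¹ * x * t, (hmemG _).2 (by simp [mul_assoc])⟩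
      left_inv := fun x => Subtype.ext (by simp [mul_assoc])
      right_inv := fun x => Subtype.ext (by simp [mul_assoc])
      map_mul' := fun x z => Subtype.ext (by simp [mul_assoc]) }
  obtain ⟨-, hbb1, hs⟩ := id hbb
  have hφb : pullSet φ bb = b := by
    refine SubBlk.unique h ⟨rfl, isPBlock_pullSet φ hbb1, ?_⟩ hb
    have h1 := hs.conj t⁻¹
    rw [CfsgLib.BlockRank.conjSub_zpowers, conjSub_eq_of_mem_normalizer (inv_mem ht).1,
      (inv_mem ht).2, show t⁻¹ * (y' : G) * t⁻¹⁻¹ = (y : G) by rw [hyy']; group] at h1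
    rwa [eIn_conj φ t⁻¹ (fun x => by show t * (x : G) * t⁻¹ = _; rw [inv_inv]) (by
      ext x; rw [mem_conjSub, inv_inv]; exact hmemG x) hbb1]
  have hmemH : ∀ x : H, x ∈ Subgroup.centralizer ({y} : Set H) ↔
      σ x ∈ Subgroup.centralizer ({y'} : Set H) := by
    intro x
    rw [Subgroup.mem_centralizer_singleton_iff, Subgroup.mem_centralizer_singleton_iff]
    have hσy : y' = σ y := Subtype.ext hyy'
    rw [hσy, ← map_mul, ← map_mul, σ.injective.eq_iff]
  let φH : Subgroup.centralizer ({y} : Set H) ≃* Subgroup.centralizer ({y'} : Set H) :=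
    { toFun := fun x => ⟨σ x, (hmemH x).1 x.2⟩
      invFun := fun x => ⟨σ.symm x, (hmemH _).2 (by simp)⟩
      left_inv := fun x => Subtype.ext (by simp)
      right_inv := fun x => Subtype.ext (by simp)
      map_mul' := fun x z => Subtype.ext (by simp) }
  have hcomm : ∀ x, φ (ψ x) = ψ' (φH x) := fun x => Subtype.ext (by
    rw [hψ']
    show t * ((ψ x : Subgroup.centralizer ({(y : G)} : Set G)) : G) * t⁻¹ = _
    rw [hψ]
    rfl)
  have hset : pullSet φH (pullSet ψ' bb) = pullSet ψ b := by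
    rw [← hφb, pullSet, pullSet, pullSet, pullSet, Set.image_image, Set.image_image]
    exact Set.image_congr fun η _ => Subtype.ext (funext fun x => by
      simp only [pull_apply, hcomm])
  obtain ⟨η', hη'⟩ := block_nonempty h.hM (hbb'.induced hH).1
  have hη : pull φH η' ∈ pullSet ψ b := hset ▸ ⟨η', hη', rfl⟩
  refine mul_right_cancel₀ (deg_ne_zero η') ?_
  have h1 := hb'.value hH hyH hy1 hη (pull σ θ) (s := 1) CfsgLib.PerfIso.isPRegular_one
  rw [pull_apply, map_one] at h1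
  rw [← h1, ← hbb'.value hH hy'H hy'1 hη' θ CfsgLib.PerfIso.isPRegular_one, ← hset,
    ← map_one φH]
  haveI := Fintype.ofFinite H
  refine Eq.trans ?_ (CfsgLib.Blk83.blockPart_pullSet φH (pullSet ψ' bb)
    (isClassFunction_translate rfl θ) 1)
  congr 1
  · funext x
    rw [pull_apply, map_mul, show σ y = y' from Subtype.ext hyy'.symm]
    rfl

/-- **The normalising function.** It is invariant, of absolute value one, and turns the columns
into integral combinations of linear characters of the defect group. -/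
theorem CycData.exists_normalizer (h : CycData p hB D eD a e) {y₀ : G}
    (hgen : Subgroup.zpowers y₀ = D) (ho : orderOf y₀ = p ^ a) {ζ : ℂ}
    (hζ : IsPrimitiveRoot ζ (p ^ a)) (he : 2 ≤ e) :
    ∃ ω : G → ℂ, (∀ y ∈ D, y ≠ 1 → ω y * conj (ω y) = 1) ∧
      (∀ t ∈ pairStab D eD, ∀ y ∈ D, y ≠ 1 → ω (t * y * t⁻¹) = ω y) ∧
      ∀ χ : IrrCharacter G, ∃ c : ℕ → ℤ, ∀ m : ℕ, ¬ p ^ a ∣ m →
        ω (y₀ ^ m) * col p D eD (y₀ ^ m) χ =
          ∑ j ∈ Finset.range (p ^ a), (c j : ℂ) * ζ ^ (j * m) := by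
  have hp : p.Prime := Fact.out
  set n := p ^ a with hn
  have hn0 : 0 < n := pow_pos hp.pos a
  have hy₀ : y₀ ∈ D := hgen ▸ Subgroup.mem_zpowers y₀
  obtain ⟨D₁, hD₁D, hD₁c, hD₁u⟩ := h.exists_order_p
  have hD₁1 : D₁ ≠ ⊥ := fun hb => hp.ne_one (by rw [← hD₁c, hb, Subgroup.card_bot])
  obtain ⟨e₁, hns⟩ := h.exists_below hD₁D
  have hsle := hns.sle
  obtain ⟨b₁, hb₁, he₁, hH⟩ := h.exists_cycData_below hD₁D hD₁1 hsle
  obtain ⟨H, hHdef⟩ : ∃ H, H = Subgroup.centralizer (D₁ : Set G) := ⟨_, rfl⟩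
  subst hHdef
  have hCH : Subgroup.centralizer (D : Set G) ≤ Subgroup.centralizer (D₁ : Set G) :=
    centralizer_anti hD₁D
  have hDH : D ≤ Subgroup.centralizer (D₁ : Set G) := h.le_centralizer.trans hCH
  have hC : ∀ y ∈ D, y ≠ 1 →
      Subgroup.centralizer ({y} : Set G) ≤ Subgroup.centralizer (D₁ : Set G) := by
    intro y hy hy1
    obtain ⟨k, -, hk⟩ := h.orderOf_dvd hy
    have hk0 : k ≠ 0 := fun e0 => hy1 (orderOf_eq_one_iff.1 (by rw [hk, e0, pow_zero]))
    have ho' : orderOf (y ^ p ^ (k - 1)) = p := by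
      rw [orderOf_pow_of_dvd (pow_ne_zero _ hp.ne_zero)
        (by rw [hk]; exact pow_dvd_pow p (Nat.sub_le k 1)), hk,
        Nat.pow_div (Nat.sub_le k 1) hp.pos, show k - (k - 1) = 1 by omega, pow_one]
    rw [← hD₁u _ (pow_mem hy _) ho', centralizer_singleton_zpowers]
    exact centralizer_anti (Subgroup.zpowers_le.2 (pow_mem (Subgroup.mem_zpowers y) _))
  obtain ⟨hle, -, -⟩ := h.stab_below hD₁D hD₁1 hsle
  obtain ⟨Y, hY⟩ : ∃ Y : Subgroup.centralizer (D₁ : Set G), (Y : G) = y₀ := ⟨⟨_, hDH hy₀⟩, rfl⟩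
  have hgenY : Subgroup.zpowers Y = D.subgroupOf (Subgroup.centralizer (D₁ : Set G)) := by
    ext x
    rw [Subgroup.mem_subgroupOf, ← hgen, Subgroup.mem_zpowers_iff, Subgroup.mem_zpowers_iff]
    exact ⟨fun ⟨i, hi⟩ => ⟨i, by rw [← hY, ← hi]; rfl⟩,
      fun ⟨i, hi⟩ => ⟨i, Subtype.ext (by push_cast; rw [hY, hi])⟩⟩
  have hoY : orderOf Y = n := by rw [← Subgroup.orderOf_coe, hY, ho]
  obtain ⟨θ₀, hθ₀, hone, hfwd, hbwd⟩ := hH.exists_linear hgenY hoY hζ
  set K := fun (m : ℕ) (θ : IrrCharacter (Subgroup.centralizer (D₁ : Set G))) =>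
    col p (D.subgroupOf (Subgroup.centralizer (D₁ : Set G)))
      (down (Subgroup.centralizer (D₁ : Set G)) eD) (Y ^ m) θ with hK
  have hYm : ∀ m : ℕ, ((Y ^ m : Subgroup.centralizer (D₁ : Set G)) : G) = y₀ ^ m := fun m => by
    push_cast; rw [hY]
  have hYne : ∀ {m : ℕ}, ¬ n ∣ m → Y ^ m ≠ 1 := fun hm => hH.gen_pow_ne_one hoY hm
  obtain ⟨-, ⟨t₀, ht₀, hgenT, hpow⟩, hdvd, hfree⟩ := h.inertial
  -- `t₀` raises to a power `k` with `k - 1` prime to `p`
  obtain ⟨k, hk⟩ : ∃ k : ℕ, t₀ * y₀ * t₀⁻¹ = y₀ ^ k := by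
    have h1 := (Subgroup.mem_normalizer_iff.1 ht₀.1 y₀).1 hy₀
    rw [← hgen] at h1
    obtain ⟨k, hk⟩ := (Submonoid.mem_powers_iff _ _).1 (mem_powers_iff_mem_zpowers.2 h1)
    exact ⟨k, hk.symm⟩
  have hconjm : ∀ m : ℕ, t₀ * y₀ ^ m * t₀⁻¹ = y₀ ^ (m * k) := fun m => by
    rw [← conj_pow, hk, ← pow_mul, mul_comm]
  have ht₀C : t₀ ∉ Subgroup.centralizer (D : Set G) := fun hh => by
    have h1 := (hpow 1).1 (by simpa using hh)
    have := Nat.le_of_dvd one_pos h1
    omega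
  obtain ⟨k', hk'⟩ : ∃ k' : ℕ, (k : ℤ) - 1 ≡ (k' : ℤ) [ZMOD n] :=
    ⟨(((k : ℤ) - 1) % n).toNat, by
      rw [Int.toNat_of_nonneg (Int.emod_nonneg _ (by exact_mod_cast hn0.ne'))]
      exact (Int.mod_modEq _ _).symm⟩
  have hkp : ¬ p ∣ k' := by
    intro hpk
    obtain ⟨c, hc⟩ := hpk
    have hw : y₀ ^ p ^ (a - 1) ≠ 1 := h.gen_pow_ne_one ho
      (fun hd => by
        have := Nat.le_of_dvd (pow_pos hp.pos _) hd
        have h2 := Nat.pow_lt_pow_right hp.one_lt (show a - 1 < a by have := h.pos; omega)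
        omega)
    refine ht₀C (hfree t₀ ht₀ _ (pow_mem hy₀ _) hw ?_)
    rw [hconjm, pow_eq_pow_iff_modEq, ho]
    have h1 : ((p : ℤ) ^ (a - 1)) * k - (p : ℤ) ^ (a - 1) ≡ 0 [ZMOD n] := by
      have h2 := (hk'.mul_left ((p : ℤ) ^ (a - 1))).trans (show (p : ℤ) ^ (a - 1) * (k' : ℤ) ≡ 0
        [ZMOD n] from Int.modEq_zero_iff_dvd.2 ⟨c, by
          rw [hc, hn]; push_cast
          rw [← mul_assoc, ← pow_succ, Nat.sub_add_cancel h.pos]⟩)
      rwa [mul_sub, mul_one] at h2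
    rw [← Int.natCast_modEq_iff]
    push_cast
    exact Int.modEq_iff_dvd.2 (dvd_sub_comm.1 (Int.modEq_zero_iff_dvd.1 h1))
  obtain ⟨θ₁, hθ₁, hθ₁v⟩ := h.exists_col_conj hDH hCH hH ht₀
    (normalizer_le_normalizer_centralizer D₁ (hle ht₀).1) (by rw [he₁]; exact (hle ht₀).2) hC hθ₀
  obtain ⟨j₁, hj₁⟩ := hbwd θ₁ hθ₁
  -- `K (m * k) θ₀ = ζ ^ (j₁ * m) * K m θ₀`
  have hshift : ∀ m : ℕ, ¬ n ∣ m → K (m * k) θ₀ = ζ ^ (j₁ * m) * K m θ₀ := by
    intro m hm
    rw [← hj₁ m hm]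
    exact (hθ₁v (Y ^ m) (Y ^ (m * k)) (by rw [hYm]; exact pow_mem hy₀ m) (hYne hm)
      (by rw [hYm, hYm, hconjm])).symm
  -- the fixed character
  obtain ⟨j, hj⟩ : ∃ j : ℕ, (n : ℤ) ∣ (j₁ : ℤ) + (j : ℤ) * k' := by
    obtain ⟨u, v, huv⟩ : IsCoprime (k' : ℤ) (n : ℤ) := by
      rw [Int.isCoprime_iff_nat_coprime, hn]
      exact ((Nat.Prime.coprime_iff_not_dvd hp).2 hkp).symm.pow_right a
    refine ⟨((-(j₁ : ℤ) * u) % n).toNat, ?_⟩
    rw [Int.toNat_of_nonneg (Int.emod_nonneg _ (by exact_mod_cast hn0.ne'))]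
    have h1 : (j₁ : ℤ) + (-(j₁ : ℤ) * u % n) * k' ≡ (j₁ : ℤ) + (-(j₁ : ℤ) * u) * k' [ZMOD n] :=
      ((Int.mod_modEq _ _).mul_right _).add_left _
    refine Int.modEq_zero_iff_dvd.1 (h1.trans (Int.modEq_zero_iff_dvd.2 ⟨(j₁ : ℤ) * v, ?_⟩))
    linear_combination -(j₁ : ℤ) * huv
  obtain ⟨θ₂, hθ₂, hθ₂v⟩ := hfwd j
  -- the normalising function
  obtain ⟨ω, hω⟩ : ∃ ω : G → ℂ, ∀ y ∈ D, ∀ hy : y ∈ Subgroup.centralizer (D₁ : Set G),
      ω y = conj (col p (D.subgroupOf (Subgroup.centralizer (D₁ : Set G)))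
        (down (Subgroup.centralizer (D₁ : Set G)) eD) ⟨y, hy⟩ θ₂) :=
    ⟨fun y => if hy : y ∈ Subgroup.centralizer (D₁ : Set G) then
        conj (col p (D.subgroupOf (Subgroup.centralizer (D₁ : Set G)))
          (down (Subgroup.centralizer (D₁ : Set G)) eD) ⟨y, hy⟩ θ₂) else 0,
      fun y _ hy => dif_pos hy⟩
  have hωm : ∀ m : ℕ, ω (y₀ ^ m) = conj (K m θ₂) := fun m => by
    have heq : (⟨y₀ ^ m, hDH (pow_mem hy₀ m)⟩ : Subgroup.centralizer (D₁ : Set G)) = Y ^ m :=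
      Subtype.ext (hYm m).symm
    rw [hω _ (pow_mem hy₀ m) (hDH (pow_mem hy₀ m)), heq]
  have hnorm : ∀ m : ℕ, ¬ n ∣ m → K m θ₂ * conj (K m θ₂) = 1 := by
    intro m hm
    have h1 := hone (Y ^ m) (hgenY ▸ pow_mem (Subgroup.mem_zpowers Y) m) (hYne hm)
    have h2 : ζ ^ (j * m) * conj (ζ ^ (j * m)) = 1 := by
      rw [Complex.mul_conj, Complex.normSq_eq_norm_sq, norm_pow,
        Complex.norm_eq_one_of_pow_eq_one hζ.pow_eq_one hn0.ne', one_pow, one_pow,
        Complex.ofReal_one]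
    have h1' : K m θ₀ * conj (K m θ₀) = 1 := h1
    rw [show K m θ₂ = ζ ^ (j * m) * K m θ₀ from hθ₂v m hm, map_mul]
    linear_combination K m θ₀ * conj (K m θ₀) * h2 + h1'
  have hnmk : ∀ m : ℕ, ¬ n ∣ m → ¬ n ∣ m * k := fun m hm hd => by
    have h1 : y₀ ^ (m * k) = 1 := orderOf_dvd_iff_pow_eq_one.1 (ho ▸ hd)
    rw [← hconjm, conj_eq_one_iff] at h1
    exact h.gen_pow_ne_one ho hm h1
  have hinv₀ : ∀ y ∈ D, y ≠ 1 → ω (t₀ * y * t₀⁻¹) = ω y := by
    intro y hy hy1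
    obtain ⟨m, hm, rfl⟩ := h.exists_gen_pow hgen ho hy hy1
    rw [hconjm, hωm, hωm]
    congr 1
    have e1 := hθ₂v (m * k) (hnmk m hm)
    have e2 := hθ₂v m hm
    show K (m * k) θ₂ = K m θ₂
    rw [show K (m * k) θ₂ = ζ ^ (j * (m * k)) * K (m * k) θ₀ from e1, hshift m hm,
      show K m θ₂ = ζ ^ (j * m) * K m θ₀ from e2, ← mul_assoc, ← pow_add]
    congr 1
    refine pow_eq_pow_of_modEq ?_ hζ.pow_eq_one
    rw [← Int.natCast_modEq_iff, Int.modEq_iff_dvd]
    obtain ⟨q, hq⟩ := hj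
    obtain ⟨q', hq'⟩ := Int.modEq_iff_dvd.1 hk'
    refine ⟨-(m : ℤ) * q + (j : ℤ) * m * q', ?_⟩
    push_cast
    linear_combination (-(m : ℤ)) * hq + (j : ℤ) * (m : ℤ) * hq'
  refine ⟨ω, fun y hy hy1 => ?_, fun t ht y hy hy1 => ?_, fun χ => ?_⟩
  · obtain ⟨m, hm, rfl⟩ := h.exists_gen_pow hgen ho hy hy1
    rw [hωm, Complex.conj_conj, mul_comm]
    exact hnorm m hm
  · obtain ⟨i, c, hc, rfl⟩ := hgenT t ht
    have hcy : c * y * c⁻¹ = y := by
      rw [← Subgroup.mem_centralizer_iff.1 hc y hy, mul_inv_cancel_right]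
    rw [show t₀ ^ i * c * y * (t₀ ^ i * c)⁻¹ = t₀ ^ i * (c * y * c⁻¹) * (t₀ ^ i)⁻¹ by group, hcy]
    clear hc hcy ht c
    induction i with
    | zero => simp
    | succ i ih =>
      rw [pow_succ', show t₀ * t₀ ^ i * y * (t₀ * t₀ ^ i)⁻¹ =
        t₀ * (t₀ ^ i * y * (t₀ ^ i)⁻¹) * t₀⁻¹ by group,
        hinv₀ _ ((Subgroup.mem_normalizer_iff.1 (pow_mem ht₀ i).1 y).1 hy)
          (fun e0 => hy1 (conj_eq_one_iff.1 e0)), ih]
  · obtain ⟨mult, hmult⟩ := h.exists_col_restrict hDH hCH hH χ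
    haveI := Fintype.ofFinite b₁
    choose! J hJ using hbwd
    refine ⟨fun l => ∑ θ ∈ b₁.toFinset,
      if (((J θ : ℤ) - j) % n).toNat = l then (mult θ : ℤ) else 0, fun m hm => ?_⟩
    have hval : ∀ θ ∈ b₁, conj (K m θ₂) * K m θ = ζ ^ ((((J θ : ℤ) - j) % n).toNat * m) := by
      intro θ hθ
      have h0 : K m θ₀ * conj (K m θ₀) = 1 :=
        hone (Y ^ m) (hgenY ▸ pow_mem (Subgroup.mem_zpowers Y) m) (hYne hm)
      have h2 : conj (ζ ^ (j * m)) * ζ ^ (j * m) = 1 := by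
        rw [mul_comm, Complex.mul_conj, Complex.normSq_eq_norm_sq, norm_pow,
          Complex.norm_eq_one_of_pow_eq_one hζ.pow_eq_one hn0.ne', one_pow, one_pow,
          Complex.ofReal_one]
      have h3 : ζ ^ (J θ * m) = ζ ^ (j * m) * ζ ^ ((((J θ : ℤ) - j) % n).toNat * m) := by
        rw [← pow_add]
        refine pow_eq_pow_of_modEq ?_ hζ.pow_eq_one
        rw [← add_mul, ← Int.natCast_modEq_iff]
        push_cast
        rw [Int.toNat_of_nonneg (Int.emod_nonneg _ (by exact_mod_cast hn0.ne'))]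
        refine Int.ModEq.mul_right _ ?_
        have := ((Int.mod_modEq ((J θ : ℤ) - j) n).add_left (j : ℤ)).symm
        rwa [add_sub_cancel] at this
      rw [show K m θ = ζ ^ (J θ * m) * K m θ₀ from hJ θ hθ m hm,
        show K m θ₂ = ζ ^ (j * m) * K m θ₀ from hθ₂v m hm, map_mul, h3]
      linear_combination conj (K m θ₀) * K m θ₀ * ζ ^ ((((J θ : ℤ) - j) % n).toNat * m) * h2 +
        ζ ^ ((((J θ : ℤ) - j) % n).toNat * m) * h0
    have hcol : col p D eD (y₀ ^ m) χ = ∑ θ ∈ b₁.toFinset, (mult θ : ℂ) * K m θ := by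
      rw [← hYm, hmult (Y ^ m) (by rw [hYm]; exact pow_mem hy₀ m) (hYne hm)
        (by rw [hYm]; exact hC _ (pow_mem hy₀ m) (h.gen_pow_ne_one ho hm)),
        finsum_mem_eq_toFinset_sum]
    rw [hωm, hcol, Finset.mul_sum]
    push_cast
    simp only [Finset.sum_mul]
    rw [Finset.sum_comm]
    refine Finset.sum_congr rfl fun θ hθ => ?_
    rw [Finset.sum_eq_single (((J θ : ℤ) - j) % n).toNat]
    · rw [if_pos rfl, ← hval θ (Set.mem_toFinset.1 hθ)]
      ring
    · intro l _ hl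
      rw [if_neg (Ne.symm hl), zero_mul]
    · intro hl
      refine absurd (Finset.mem_range.2 ?_) hl
      have h1 := Int.emod_lt_of_pos ((J θ : ℤ) - j) (show (0 : ℤ) < n by exact_mod_cast hn0)
      have h2 := Int.toNat_of_nonneg (Int.emod_nonneg ((J θ : ℤ) - j)
        (show (n : ℤ) ≠ 0 by exact_mod_cast hn0.ne'))
      omega

end CfsgLib.Blk83.Cyc
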