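import Cfsg.Agent.Lib.BlockRank.MajorDivisible
import Cfsg.Agent.Lib.BlockRank.RankOneMajor
import Cfsg.Agent.Lib.Blocks.Pairs.Transport

/-!
The weight of a character at a subsection, its transport, and the lower bound on its average over
the generators of a cyclic subgroup.
-/

set_option autoImplicit false
open Cfsg
open scoped ComplexConjugate

namespace CfsgLib.Blk83

open CfsgLib.BlockRank CfsgLib.BlockReg

universe u

variable {G : Type u} [Group G] [Finite G] {p : ℕ}

/-- The norm on the regular elements of `C` of the `e`-part of the translate by `z`, over `|C|`. -/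
noncomputable def subWeight (p : ℕ) (z : G) (C : Subgroup G) (e : Set (Cfsg.IrrCharacter C))
    (χ : Cfsg.IrrCharacter G) : ℝ :=
  haveI := Fintype.ofFinite C
  (Nat.card C : ℝ)⁻¹ * ∑ s ∈ regSet (G := C) p,
    Complex.normSq (Cfsg.blockPart e (fun c : C => (χ : G → ℂ) (z * c)) s)

theorem subWeight_nonneg (z : G) (C : Subgroup G) (e : Set (Cfsg.IrrCharacter C))
    (χ : Cfsg.IrrCharacter G) : 0 ≤ subWeight p z C e χ :=
  mul_nonneg (inv_nonneg.2 (Nat.cast_nonneg _))
    (Finset.sum_nonneg fun _ _ => Complex.normSq_nonneg _)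

theorem subWeight_eq_regPair (z : G) (C : Subgroup G) [Fintype C]
    (e : Set (Cfsg.IrrCharacter C)) (χ : Cfsg.IrrCharacter G) :
    (subWeight p z C e χ : ℂ) = (Nat.card C : ℂ)⁻¹ *
      regPair p (Cfsg.blockPart e (fun c : C => (χ : G → ℂ) (z * c)))
        (Cfsg.blockPart e (fun c : C => (χ : G → ℂ) (z * c))) := by
  rw [subWeight, regPair]
  push_cast
  refine congrArg _ (Finset.sum_congr (by congr; exact Subsingleton.elim _ _) fun s _ => ?_)
  rw [Complex.mul_conj]

theorem contrib_self_eq [Fintype G] (d : ℕ) (z : G) (C : Subgroup G) [Fintype C]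
    (e : Set (Cfsg.IrrCharacter C)) (χ : Cfsg.IrrCharacter G) :
    contrib p d z e χ χ = (((p : ℝ) ^ d * subWeight p z C e χ : ℝ) : ℂ) := by
  rw [contrib]
  push_cast
  rw [subWeight_eq_regPair]

theorem blockPart_pullSet {H K : Type*} [Group H] [Finite H] [Group K] [Finite K] (φ : K ≃* H)
    (e : Set (Cfsg.IrrCharacter H)) {θ : H → ℂ} (hθ : Cfsg.IsClassFunction H θ) (k : K) :
    Cfsg.blockPart (CfsgLib.Blocks.Pairs.pullSet φ e) (fun x => θ (φ x)) k =
      Cfsg.blockPart e θ (φ k) := by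
  have hθ' : Cfsg.IsClassFunction K (fun x => θ (φ x)) := fun g h => by
    simp only [map_mul, map_inv]
    exact hθ (φ g) (φ h)
  rw [Cfsg.Agent.S0923.blockPart_eq _ k hθ', Cfsg.Agent.S0923.blockPart_eq _ (φ k) hθ]
  refine finsum_eq_of_bijective φ φ.bijective fun c => ?_
  rw [CfsgLib.Blocks.Pairs.blockCoeff_pullSet, map_mul]

/-- Conjugation carries subsection weights to subsection weights. -/
theorem subWeight_conj (g z : G) {C C' : Subgroup G} (hC : C = Subgroup.centralizer {z})
    (φ : C' ≃* C) (hφ : ∀ k : C', (φ k : G) = g⁻¹ * (k : G) * g)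
    (e : Set (Cfsg.IrrCharacter C)) (χ : Cfsg.IrrCharacter G) :
    subWeight p (g * z * g⁻¹) C' (CfsgLib.Blocks.Pairs.pullSet φ e) χ = subWeight p z C e χ := by
  classical
  letI := Fintype.ofFinite G
  letI := Fintype.ofFinite C
  letI := Fintype.ofFinite C'
  have hfun : (fun c : C' => (χ : G → ℂ) (g * z * g⁻¹ * c)) =
      fun c => (fun x : C => (χ : G → ℂ) (z * x)) (φ c) := by
    funext c
    show _ = (χ : G → ℂ) (z * (φ c : G))
    rw [hφ, ← CfsgLib.Char.IsIrrCharacter.isClassFunction χ.2 (z * (g⁻¹ * (c : G) * g)) g]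
    congr 1
    group
  unfold subWeight
  rw [Nat.card_congr φ.toEquiv]
  congr 1
  refine Finset.sum_equiv φ.toEquiv (fun s => ?_) fun s _ => ?_
  · show s ∈ regSet p ↔ φ s ∈ regSet p
    have hmem : ∀ (H : Subgroup G) [Fintype H] (x : H),
        x ∈ regSet (G := H) p ↔ ¬ p ∣ orderOf x := fun H _ x => by
      unfold regSet Cfsg.IsPRegular
      exact (@Finset.mem_filter _ _ (_) Finset.univ x).trans (and_iff_right (Finset.mem_univ x))
    rw [hmem, hmem, MulEquiv.orderOf_eq]
  · rw [hfun, blockPart_pullSet φ e (isClassFunction_translate hC χ)]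
    rfl

theorem natAbs_pos_of_pos {z : ℤ} (h : (0 : ℝ) < (z : ℝ)) : (1 : ℝ) ≤ (z : ℝ) := by
  exact_mod_cast (show (1 : ℤ) ≤ z from by exact_mod_cast h)

/-- Over the generators of a cyclic subgroup of a major subsection the weights are, on average,
at least `p ^ (h - d)`. -/
theorem subWeight_sum_ge [Fintype G] [Fact p.Prime] {M : Ideal Cfsg.AlgInt}
    (hM : Cfsg.IsPModular p M) {C : Subgroup G} [Fintype C] {z : G}
    (hC : C = Subgroup.centralizer {z}) (hz : ∃ k : ℕ, orderOf z = p ^ k)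
    {e : Set (Cfsg.IrrCharacter C)} {B : Set (Cfsg.IrrCharacter G)}
    (hind : Cfsg.IsInducedBlock M C e B)
    (hdef : Cfsg.blockDefect p e = Cfsg.blockDefect p B) {χ : Cfsg.IrrCharacter G} (hχ : χ ∈ B)
    {N : ℕ} (hN : 0 < N) (hzN : z ^ N = 1) (hcop : ∀ k : ℕ, k.Coprime N → k.Coprime (orderOf z)) :
    (((Finset.range N).filter fun k => k.Coprime N).card : ℝ) *
        (p : ℝ) ^ Cfsg.blockHeight p B (χ : G → ℂ) ≤
      (p : ℝ) ^ Cfsg.blockDefect p B *
        ∑ k ∈ (Finset.range N).filter (fun k => k.Coprime N), subWeight p (z ^ k) C e χ := by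
  classical
  have hp : p.Prime := Fact.out
  have := Fintype.ofFinite e
  set d := Cfsg.blockDefect p B with hd'
  set h := Cfsg.blockHeight p B (χ : G → ℂ) with hh'
  have hd : d + minExp p e = (Nat.card C).factorization p := by
    obtain ⟨φ, hφ⟩ := block_nonempty hM hind.1
    have h1 := minExp_le (p := p) hφ
    have h2 := factorization_deg_le (p := p) φ
    rw [← hdef, blockDefect_eq]
    omega
  have hdB : d + minExp p B = (Nat.card G).factorization p := by
    obtain ⟨φ, hφ⟩ := block_nonempty hM hind.2.1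
    have h1 := minExp_le (p := p) hφ
    have h2 := factorization_deg_le (p := p) φ
    rw [hd', blockDefect_eq]
    omega
  let ω := Complex.exp (2 * Real.pi * Complex.I / N)
  have hω : IsPrimitiveRoot ω N := Complex.isPrimitiveRoot_exp N hN.ne'
  set S := (Finset.range N).filter fun k => k.Coprime N with hS
  have hzC : z ∈ C := by rw [hC, Subgroup.mem_centralizer_singleton_iff]
  have hcen : (⟨z, hzC⟩ : C) ∈ Subgroup.center C := by
    rw [Subgroup.mem_center_iff]
    exact fun g => Subtype.ext (Subgroup.mem_centralizer_singleton_iff.mp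
      (hC ▸ g.2 : (g : G) ∈ Subgroup.centralizer {z}))
  choose i hi using exists_central_root (G := C) hN hω hcen (Subtype.ext (by simp [hzN]))
  have hres := CfsgLib.Char.IsCharacter.restrict (CfsgLib.Char.IsIrrCharacter.isCharacter χ.2) C
  choose m hm using fun φ : Cfsg.IrrCharacter C =>
    CfsgLib.Char.IsCharacter.exists_nat_classInner hres φ.2
  -- the translates by the powers
  have hpart : ∀ (k : ℕ) (s : C), Cfsg.blockPart e (fun c : C => (χ : G → ℂ) (z ^ k * c)) s =
      ∑ φ ∈ e.toFinset, (m φ : ℂ) * (ω ^ k) ^ i φ * (φ : C → ℂ) s := by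
    intro k s
    have hk : ∀ (φ : Cfsg.IrrCharacter C) (c : C),
        (φ : C → ℂ) (⟨z, hzC⟩ ^ k * c) = (ω ^ k) ^ i φ * (φ : C → ℂ) c := by
      intro φ c
      induction k with
      | zero => simp
      | succ k ih =>
        rw [pow_succ', mul_assoc, hi, ih, pow_succ' ω k, mul_pow]
        ring
    have hF : (fun c : C => (χ : G → ℂ) (z ^ k * c)) =
        ∑ φ : Cfsg.IrrCharacter C, ((m φ : ℂ) * (ω ^ k) ^ i φ) • (φ : C → ℂ) := by
      funext c
      rw [Finset.sum_apply]
      have h1 := congrFun (CfsgLib.Char.IsCharacter.eq_sum_classInner hres) (⟨z, hzC⟩ ^ k * c)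
      simp only [Finset.sum_apply, Pi.smul_apply, smul_eq_mul, hm, Subgroup.coe_mul,
        SubmonoidClass.coe_pow] at h1
      rw [h1]
      refine Finset.sum_congr rfl fun φ _ => ?_
      rw [hk, Pi.smul_apply, smul_eq_mul, mul_assoc]
    rw [blockPart_apply, hF]
    exact Finset.sum_congr rfl fun φ _ => by rw [CfsgLib.Char.classInner_sum_smul_irr]
  -- the integral matrix
  choose Z hZ using fun φ θ : Cfsg.IrrCharacter C =>
    exists_int_classInner_tilde (p := p) (G := C) hp φ θ
  let Q : Polynomial ℤ := cycloPoly N e.toFinset Z m m i i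
  have hcyclo : ∀ k : ℕ, Polynomial.aeval (ω ^ k) Q =
      ((p ^ (Nat.card C).factorization p : ℕ) : ℂ) * (subWeight p (z ^ k) C e χ : ℂ) := by
    intro k
    rw [aeval_cycloPoly hN (by rw [← pow_mul, mul_comm, pow_mul, hω.pow_eq_one, one_pow]),
      subWeight_eq_regPair, cycloForm, regPair]
    simp only [hpart, map_sum, map_mul, map_natCast, Finset.sum_mul, Finset.mul_sum]
    symm
    rw [Finset.sum_comm]
    conv_lhs => rw [Finset.sum_congr rfl fun _ _ => Finset.sum_comm]
    rw [Finset.sum_comm]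
    refine Finset.sum_congr rfl fun φ _ => Finset.sum_congr rfl fun θ _ => ?_
    rw [← hZ φ θ, classInner_tilde_eq, regPair]
    push_cast
    simp only [Finset.mul_sum, Finset.sum_mul]
    exact Finset.sum_congr rfl fun s _ => by ring
  -- the quotients
  have hY : ∀ k ∈ S, ∃ Y : ℂ, IsIntegral ℤ Y ∧
      (((p : ℝ) ^ d * subWeight p (z ^ k) C e χ : ℝ) : ℂ) = ((p ^ h : ℕ) : ℂ) * Y := by
    intro k hk
    have hk' := hcop k (Finset.mem_filter.1 hk).2
    have hord : orderOf (z ^ k) = orderOf z := Nat.Coprime.orderOf_pow hk'.symm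
    obtain ⟨j, hj⟩ := hz
    have hCk : C = Subgroup.centralizer {z ^ k} := by
      have hzp : Subgroup.zpowers (z ^ k) = Subgroup.zpowers z :=
        Subgroup.eq_of_le_of_card_ge (Subgroup.zpowers_le.2 (pow_mem (Subgroup.mem_zpowers z) k))
          (le_of_eq (by rw [Nat.card_zpowers, Nat.card_zpowers, hord]))
      rw [hC, ← Subgroup.centralizer_closure ({z} : Set G),
        ← Subgroup.centralizer_closure ({z ^ k} : Set G), ← Subgroup.zpowers_eq_closure,
        ← Subgroup.zpowers_eq_closure, hzp]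
    obtain ⟨Y, hY, -⟩ := exists_contrib_divisible hM hCk (k := j) (hord.trans hj)
      (Complex.isPrimitiveRoot_exp (orderOf (z ^ k)) (orderOf_pos _).ne') hind.2.1 hind hd hdB
    refine ⟨Y χ χ, (hY χ hχ χ).1, ?_⟩
    rw [← contrib_self_eq, (hY χ hχ χ).2, hh', blockHeight_eq]
  choose! Y hYint hYeq using hY
  have hpos : ∀ k ∈ S, 0 < subWeight p (z ^ k) C e χ := by
    intro k hk
    refine lt_of_le_of_ne (subWeight_nonneg _ _ _ _) fun h0 => ?_
    have hk' := hcop k (Finset.mem_filter.1 hk).2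
    have hord : orderOf (z ^ k) = orderOf z := Nat.Coprime.orderOf_pow hk'.symm
    have hCk : C = Subgroup.centralizer {z ^ k} := by
      have hzp : Subgroup.zpowers (z ^ k) = Subgroup.zpowers z :=
        Subgroup.eq_of_le_of_card_ge (Subgroup.zpowers_le.2 (pow_mem (Subgroup.mem_zpowers z) k))
          (le_of_eq (by rw [Nat.card_zpowers, Nat.card_zpowers, hord]))
      rw [hC, ← Subgroup.centralizer_closure ({z} : Set G),
        ← Subgroup.centralizer_closure ({z ^ k} : Set G), ← Subgroup.zpowers_eq_closure,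
        ← Subgroup.zpowers_eq_closure, hzp]
    obtain ⟨ψ, hψ, hψh⟩ := exists_minExp (p := p) (block_nonempty hM hind.2.1)
    refine contrib_ne_zero hM hCk (hord ▸ hz) hind hdef hχ hψ hψh ?_
    have hzero : ∀ s ∈ regSet (G := C) p,
        Cfsg.blockPart e (fun c : C => (χ : G → ℂ) (z ^ k * c)) s = 0 := by
      have h1 := subWeight_eq_regPair (p := p) (z ^ k) C e χ
      rw [← h0] at h1
      unfold subWeight at h0
      have h2 := (mul_eq_zero.1 h0.symm).resolve_left
        (inv_ne_zero (Nat.cast_ne_zero.2 Nat.card_pos.ne'))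
      intro s hs
      refine Complex.normSq_eq_zero.1 ?_
      exact (Finset.sum_eq_zero_iff_of_nonneg fun _ _ => Complex.normSq_nonneg _).1 h2 s
        (by convert hs using 2)
    rw [contrib, regPair, Finset.sum_eq_zero fun s hs => by rw [hzero s hs, zero_mul]]
    simp
  -- the product of the conjugates is an integer
  obtain ⟨n, hn⟩ := prod_primitiveRoots_aeval_int hN hω Q
  have hprod : ∏ w ∈ primitiveRoots N ℂ, Polynomial.aeval w Q =
      ∏ k ∈ S, Polynomial.aeval (ω ^ k) Q := by
    symm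
    refine Finset.prod_bij (fun k _ => ω ^ k) (fun k hk => ?_) (fun k hk l hl he => ?_)
      (fun w hw => ?_) fun k _ => rfl
    · exact (mem_primitiveRoots hN).mpr (hω.pow_of_coprime k (Finset.mem_filter.mp hk).2)
    · exact hω.pow_inj (Finset.mem_range.mp (Finset.mem_filter.mp hk).1)
        (Finset.mem_range.mp (Finset.mem_filter.mp hl).1) he
    · haveI : NeZero N := ⟨hN.ne'⟩
      have hw' := (mem_primitiveRoots hN).mp hw
      obtain ⟨k, hk, hkw⟩ := hω.eq_pow_of_pow_eq_one hw'.pow_eq_one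
      exact ⟨k, Finset.mem_filter.mpr ⟨Finset.mem_range.mpr hk,
        (hω.pow_iff_coprime hN k).mp (hkw ▸ hw')⟩, hkw⟩
  set a := (Nat.card C).factorization p with ha
  set y : ℕ → ℝ := fun k => (p : ℝ) ^ d * subWeight p (z ^ k) C e χ / (p : ℝ) ^ h with hy
  have hp0 : (0 : ℝ) < (p : ℝ) := by exact_mod_cast hp.pos
  have hy0 : ∀ k ∈ S, 0 < y k := fun k hk =>
    div_pos (mul_pos (pow_pos hp0 _) (hpos k hk)) (pow_pos hp0 _)
  have hyY : ∀ k ∈ S, (y k : ℂ) = Y k := by
    intro k hk
    have h1 := hYeq k hk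
    have hp' : ((p ^ h : ℕ) : ℂ) ≠ 0 := Nat.cast_ne_zero.2 (pow_ne_zero _ hp.ne_zero)
    simp only [hy, Complex.ofReal_div]
    rw [h1]
    push_cast at hp' ⊢
    rw [mul_div_cancel_left₀ _ hp']
  obtain ⟨q, hq⟩ : ∃ q : ℚ, ((∏ k ∈ S, y k : ℝ) : ℂ) = (q : ℂ) := by
    refine ⟨(n : ℚ) * ((p : ℚ) ^ d / ((p : ℚ) ^ h * (p : ℚ) ^ a)) ^ S.card, ?_⟩
    push_cast
    rw [← hn, hprod, Finset.prod_congr rfl fun k _ => hcyclo k]
    rw [Finset.prod_mul_distrib, Finset.prod_const]
    simp only [hy, Complex.ofReal_div, Complex.ofReal_mul, Complex.ofReal_pow,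
      Complex.ofReal_natCast]
    rw [Finset.prod_div_distrib, Finset.prod_mul_distrib, Finset.prod_const, Finset.prod_const]
    have hpC : (p : ℂ) ≠ 0 := Nat.cast_ne_zero.2 hp.ne_zero
    push_cast
    simp only [div_pow, mul_pow, ← ha]
    field_simp
  have hint : IsIntegral ℤ (q : ℂ) := by
    rw [← hq, Complex.ofReal_prod, Finset.prod_congr rfl hyY]
    exact IsIntegral.prod _ hYint
  obtain ⟨w, hw⟩ := CfsgLib.Char.exists_int_of_isIntegral_ratCast hint
  have hge : (1 : ℝ) ≤ ∏ k ∈ S, y k := by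
    have h1 : ((∏ k ∈ S, y k : ℝ) : ℂ) = ((w : ℝ) : ℂ) := by rw [hq, ← hw]; push_cast; rfl
    have h2 := Complex.ofReal_inj.1 h1
    rw [h2]
    exact natAbs_pos_of_pos (h2 ▸ Finset.prod_pos hy0)
  have hlog := Real.log_nonneg hge
  rw [Real.log_prod (fun k hk => (hy0 k hk).ne')] at hlog
  have h3 := Finset.sum_le_sum (s := S) fun k hk => Real.log_le_sub_one_of_pos (hy0 k hk)
  rw [Finset.sum_sub_distrib, Finset.sum_const, nsmul_eq_mul, mul_one] at h3
  have h4 : (S.card : ℝ) ≤ ∑ k ∈ S, y k := by linarith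
  simp only [hy, ← Finset.sum_div, ← Finset.mul_sum] at h4
  exact (le_div_iff₀ (pow_pos hp0 _)).1 h4

end CfsgLib.Blk83
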