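import Cfsg.Agent.Lib.Fusion.Saturation

/-!
A saturated fusion system all of whose automorphism groups are `p`-groups is inner.
-/

set_option autoImplicit false

namespace CfsgLib.Blk83

open Cfsg Cfsg.FusionSystem CfsgLib.Fusion

variable {Ω : Type*} [Group Ω] {S : Subgroup Ω} [Finite S] {p : ℕ} [Fact p.Prime]
  {F : Cfsg.FusionSystem S}

theorem fusion_ext {E : Cfsg.FusionSystem S} (h : ∀ Q : Subgroup Ω, F.Hom Q = E.Hom Q) : F = E := by
  cases F; cases E
  congr
  funext Q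
  exact h Q

/-- If all automorphism groups are `p`-groups, every map of a saturated system is conjugation by an
element of `S`. -/
theorem exists_conj_of_pgroup_aut (hS : IsPGroup p S) (hsat : F.IsSaturated p)
    (hA : ∀ Q : Subgroup Ω, Q ≤ S → IsPGroup p (F.autGroup Q)) {Q : Subgroup Ω} {φ : Q →* Ω}
    (hφ : φ ∈ F.Hom Q) : ∃ u ∈ S, ∀ x : Q, φ x = u * (x : Ω) * u⁻¹ := by
  generalize hn : Nat.card S - Nat.card Q = n
  induction n using Nat.strong_induction_on generalizing Q φ with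
  | _ n ih =>
    have hQ : Q ≤ S := (F.le_of_mem hφ).1
    -- automorphism groups at well-placed subgroups
    have hfa : ∀ R : Subgroup Ω, F.IsFullyAutomized p R → F.autGroup R = autInducedBy S R := by
      rintro R ⟨hR, T, hT⟩
      refine le_antisymm ?_ (autInducedBy_le_autGroup F hR)
      have htop : (T : Subgroup (F.autGroup R)) = ⊤ :=
        (T.3 (Q := ⊤) ((hA R hR).to_subgroup ⊤) le_top).symm
      rw [hT, Subgroup.subgroupOf_eq_top] at htop
      exact htop
    -- maps onto well-placed subgroups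
    have stepA : ∀ (Q₀ R : Subgroup Ω) (χ : Q₀ →* Ω), Nat.card Q₀ = Nat.card Q → χ ∈ F.Hom Q₀ →
        χ.range = R → F.IsFullyAutomized p R → F.IsReceptive R →
        ∃ u ∈ S, ∀ x : Q₀, χ x = u * (x : Ω) * u⁻¹ := by
      intro Q₀ R χ hcard hχ hr hR1 hR2
      have hQ₀ : Q₀ ≤ S := (F.le_of_mem hχ).1
      obtain ⟨e, he, hee⟩ := exists_iso hχ hr
      rcases eq_or_ne Q₀ S with hQS | hne
      · subst hQS
        have hRS : R = Q₀ := isConj_top_eq (show F.IsConj Q₀ R from ⟨χ, hχ, hr⟩)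
        subst hRS
        obtain ⟨g, hg, hgS, heq⟩ := exists_eq_conjAut
          (hfa R hR1 ▸ (mem_autGroup_iff le_rfl).2 he : (e : MulAut R) ∈ autInducedBy R R)
        refine ⟨g, hgS, fun x => ?_⟩
        rw [← hee x]
        exact (congrArg (fun α : MulAut R => ((α x : R) : Ω)) heq).trans (conjAut_apply hg x)
      · have hN : normalizerIn S Q₀ ≤ extender S Q₀ χ := by
          rintro y ⟨hyS, hyN⟩
          refine (mem_extender_iff_congr e (fun x => (hee x).symm) hyS hyN).2 ?_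
          rw [← hfa R hR1]
          exact he.congr_mem (autInducedBy_le_autGroup F hQ₀ (conjAut_mem_autInducedBy hyS hyN))
        obtain ⟨ψ, hψ, hext⟩ := hR2.2 Q₀ χ hχ hr
        have hlt : Q₀ < extender S Q₀ χ :=
          lt_of_lt_of_le (lt_normalizerIn hS (lt_of_le_of_ne hQ₀ hne)) hN
        have hES : extender S Q₀ χ ≤ S := (extender_le_normalizerIn χ).trans inf_le_left
        haveI : Finite (extender S Q₀ χ) := finite_of_le hES
        have hc1 : Nat.card Q₀ < Nat.card (extender S Q₀ χ) :=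
          lt_of_le_of_ne (Subgroup.card_le_of_le hlt.le) fun hc =>
            hlt.ne (Subgroup.eq_of_le_of_card_ge hlt.le hc.ge)
        have hc2 : Nat.card (extender S Q₀ χ) ≤ Nat.card S := Subgroup.card_le_of_le hES
        obtain ⟨u, hu, hux⟩ := ih (Nat.card S - Nat.card (extender S Q₀ χ)) (by omega) hψ rfl
        refine ⟨u, hu, fun x => ?_⟩
        rw [← hext x x.2 (hlt.le x.2), hux]
    obtain ⟨R, hQR, hR1, hR2⟩ := hsat Q hQ
    have hQ' : F.IsConj Q φ.range := isConj_of_mem hφ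
    obtain ⟨σ, hσ, hσr⟩ := isConj_trans (isConj_symm hQ') hQR
    obtain ⟨v, hv, hvx⟩ := stepA _ R σ (isConj_card_eq hQ').symm hσ hσr hR1 hR2
    have hcomp : σ.comp (φ.codRestrict φ.range fun x => ⟨x, rfl⟩) ∈ F.Hom Q :=
      F.comp_mem hφ hσ fun x => ⟨x, rfl⟩
    have hrange : (σ.comp (φ.codRestrict φ.range fun x => ⟨x, rfl⟩)).range = R := by
      rw [← hσr]
      ext y
      constructor
      · rintro ⟨x, rfl⟩; exact ⟨_, rfl⟩
      · rintro ⟨⟨_, x, rfl⟩, rfl⟩; exact ⟨x, rfl⟩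
    obtain ⟨w, hw, hwx⟩ := stepA Q R _ rfl hcomp hrange hR1 hR2
    refine ⟨v⁻¹ * w, S.mul_mem (S.inv_mem hv) hw, fun x => ?_⟩
    have h1 : σ ⟨φ x, x, rfl⟩ = w * (x : Ω) * w⁻¹ := hwx x
    rw [hvx] at h1
    calc φ x = v⁻¹ * (v * φ x * v⁻¹) * v := by group
      _ = v⁻¹ * (w * (x : Ω) * w⁻¹) * v := by rw [show v * φ x * v⁻¹ = _ from h1]
      _ = v⁻¹ * w * (x : Ω) * (v⁻¹ * w)⁻¹ := by group

end CfsgLib.Blk83
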