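import Cfsg.Agent.Lib.Blocks.Pairs.Saturation
import Cfsg.Agent.Lib.Blk83.InnerFusion

/-!
Fully centralized and fully normalized subgroups, centric subgroups and nilpotent blocks, in the
language of Brauer pairs.
-/

set_option autoImplicit false

namespace CfsgLib.Blk83

open Cfsg CfsgLib.Blocks CfsgLib.Blocks.Pairs
open scoped Classical

universe u

variable {G : Type u} [Group G] [Finite G] {p : ℕ}

section Pure

variable {F : Type*} [Field F]

omit [Finite G] in
theorem conjSub_le_iff {x : G} {A B : Subgroup G} :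
    conjSub x A ≤ B ↔ ∀ a ∈ A, x * a * x⁻¹ ∈ B :=
  ⟨fun h a ha => h ⟨a, ha, rfl⟩, fun h => by rintro _ ⟨a, ha, rfl⟩; exact h a ha⟩

theorem centralizer_sup (Q R : Subgroup G) :
    Subgroup.centralizer ((Q ⊔ R : Subgroup G) : Set G) =
      Subgroup.centralizer (R : Set G) ⊓ Subgroup.centralizer (Q : Set G) := by
  refine le_antisymm (le_inf (centralizer_anti le_sup_right) (centralizer_anti le_sup_left)) ?_
  intro x hx
  obtain ⟨hxR, hxQ⟩ := Subgroup.mem_inf.mp hx
  rw [← CfsgLib.Blocks.le_centralizer_singleton_iff] at hxR hxQ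
  rw [← CfsgLib.Blocks.le_centralizer_singleton_iff]
  exact sup_le hxQ hxR

theorem trunc_ne_zero_of_le {D D' : Subgroup G} {a : MonoidAlgebra F G} (h : D' ≤ D)
    (hne : trunc D a ≠ 0) : trunc D' a ≠ 0 := fun h0 =>
  hne (by rw [← trunc_trunc h a, h0, trunc_zero])

/-- A subgroup with nonzero image and of the largest order is a largest subgroup. -/
theorem maxIn_of_card {K D E : Subgroup G} {a : MonoidAlgebra F G} (hE : MaxIn p K a E)
    (hDK : D ≤ K) (hDp : IsPGroup p D) (hne : trunc D a ≠ 0) (hcard : Nat.card E ≤ Nat.card D) :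
    MaxIn p K a D := by
  obtain ⟨y, hy, hyle⟩ := hE.max D hDK hDp hne
  have heq : conjSub y D = E :=
    Subgroup.eq_of_le_of_card_ge hyle (hcard.trans (card_map_conj y D).symm.le)
  refine ⟨hDK, hDp, hne, fun X hX hXp hX0 => ?_⟩
  obtain ⟨w, hw, hwle⟩ := hE.max X hX hXp hX0
  refine ⟨y⁻¹ * w, K.mul_mem (K.inv_mem hy) hw, ?_⟩
  have := conjSub_mono y⁻¹ hwle
  rwa [← heq, conjSub_conjSub, conjSub_conjSub, inv_mul_cancel, conjSub_one] at this

theorem maxIn_card_le {K D R : Subgroup G} {a : MonoidAlgebra F G} (hD : MaxIn p K a D)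
    (hR : R ≤ K) (hRp : IsPGroup p R) (hne : trunc R a ≠ 0) : Nat.card R ≤ Nat.card D := by
  obtain ⟨y, -, hy⟩ := hD.max R hR hRp hne
  exact (card_map_conj y R).symm.le.trans (Subgroup.card_le_of_le hy)

variable [Fact p.Prime] [CharP F p]

/-- The bound on the intersections with the conjugates. -/
theorem card_inf_conjSub_le {P Q K E : Subgroup G} {f e : MonoidAlgebra F G} (hP : IsPair p P e)
    (hKN : K ≤ Subgroup.normalizer (Q : Set G)) (hE : MaxIn p K f E) {g : G}
    (hg : SLE p (conjSub g Q) (conjA g f) P e) :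
    Nat.card (P ⊓ conjSub g K : Subgroup G) ≤ Nat.card E := by
  have hN : conjSub g K ≤ Subgroup.normalizer (conjSub g Q : Set G) := fun y hy =>
    mem_normalizer_conjSub.mpr (hKN (mem_conjSub.mp hy))
  refine (maxIn_card_le (hE.conj g) inf_le_right (hP.pgroup.to_le inf_le_left)
    (trunc_inf_ne_zero hP hg hN)).trans ?_
  exact (card_map_conj g E).le

/-- `P ⊓ K` is a largest subgroup exactly when no conjugate meets `P` in more. -/
theorem maxIn_inf_iff {B f e : MonoidAlgebra F G} {P Q K : Subgroup G} (hP : PairOf p B P e)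
    (hno : NoExt p P e) (hle : SLE p Q f P e) (hKN : K ≤ Subgroup.normalizer (Q : Set G))
    (hCK : Subgroup.centralizer (Q : Set G) ≤ K) (hKf : ConjFixed K f)
    (hmax : ∃ E, MaxIn p K f E) :
    MaxIn p K f (P ⊓ K) ↔ ∀ g : G, SLE p (conjSub g Q) (conjA g f) P e →
      Nat.card (P ⊓ conjSub g K : Subgroup G) ≤ Nat.card (P ⊓ K : Subgroup G) := by
  constructor
  · exact fun h g hg => card_inf_conjSub_le hP.pair hKN h hg
  · intro h
    obtain ⟨E, hE⟩ := hmax
    obtain ⟨x, hx, hmx⟩ := exists_conj_maxIn hP hno hle hKN hCK hKf hE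
    refine maxIn_of_card hE inf_le_right (hP.pair.pgroup.to_le inf_le_left)
      (trunc_inf_ne_zero hP.pair hle hKN) ?_
    refine le_trans ?_ (h x hx)
    rw [← card_map_conj x E]
    have hE' := hE.conj x
    exact maxIn_card_le hmx hE'.le hE'.pgroup hE'.ne_zero

/-- A nilpotent block, in idempotent form. -/
def NilPairs (p : ℕ) (B : MonoidAlgebra F G) : Prop :=
  ∀ (Q : Subgroup G) (f : MonoidAlgebra F G), PairOf p B Q f →
    ∀ x ∈ pairStab Q f, Cfsg.IsPRegular p x → x ∈ Subgroup.centralizer (Q : Set G)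

/-- It is enough to look below a maximal pair. -/
theorem nilPairs_of_below {B e : MonoidAlgebra F G} {P : Subgroup G} (hP : PairOf p B P e)
    (hno : NoExt p P e)
    (h : ∀ (Q : Subgroup G) (f : MonoidAlgebra F G), SLE p Q f P e →
      ∀ x ∈ pairStab Q f, Cfsg.IsPRegular p x → x ∈ Subgroup.centralizer (Q : Set G)) :
    NilPairs p B := by
  intro Q f hQ x hx hreg
  obtain ⟨z, hz⟩ := exists_conj_sle hP hno hQ
  have h1 : z * x * z⁻¹ ∈ pairStab (conjSub z Q) (conjA z f) := by
    rw [← conjSub_pairStab]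
    exact ⟨x, hx, rfl⟩
  have h2 : Cfsg.IsPRegular p (z * x * z⁻¹) := by
    unfold Cfsg.IsPRegular
    rw [show z * x * z⁻¹ = MulAut.conj z x from rfl, MulEquiv.orderOf_eq]
    exact hreg
  have h3 := mem_centralizer_conjSub.mp (h _ _ hz _ h1 h2)
  simpa [mul_assoc] using h3

omit [CharP F p] in
/-- An element acting like a `p`-element, of order prime to `p`, acts trivially. -/
theorem mem_centralizer_of_regular {Q : Subgroup G} {x u : G}
    (hx : x ∈ Subgroup.normalizer (Q : Set G)) (hu : u ∈ Subgroup.normalizer (Q : Set G))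
    (hreg : Cfsg.IsPRegular p x) {k : ℕ} (huk : u ^ p ^ k = 1)
    (hc : u⁻¹ * x ∈ Subgroup.centralizer (Q : Set G)) : x ∈ Subgroup.centralizer (Q : Set G) := by
  set ψ := Q.normalizerMonoidHom
  have hker : ∀ y : Subgroup.normalizer (Q : Set G),
      ψ y = 1 ↔ (y : G) ∈ Subgroup.centralizer (Q : Set G) := fun y => by
    rw [← MonoidHom.mem_ker, Subgroup.normalizerMonoidHom_ker, Subgroup.mem_subgroupOf]
  rw [← hker ⟨x, hx⟩]
  have h1 : ψ ⟨u, hu⟩ = ψ ⟨x, hx⟩ := by
    rw [← inv_mul_eq_one, ← map_inv, ← map_mul, hker]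
    exact hc
  rw [← orderOf_eq_one_iff]
  have d1 : orderOf (ψ ⟨x, hx⟩) ∣ orderOf x := by
    rw [← Subgroup.orderOf_mk x hx]
    exact orderOf_map_dvd ψ _
  have d2 : orderOf (ψ ⟨x, hx⟩) ∣ p ^ k := by
    rw [← h1]
    refine orderOf_dvd_of_pow_eq_one ?_
    rw [← map_pow, show (⟨u, hu⟩ : Subgroup.normalizer (Q : Set G)) ^ p ^ k = 1 from
      Subtype.ext huk, map_one]
  exact Nat.eq_one_of_dvd_coprimes
    (((Fact.out : p.Prime).coprime_iff_not_dvd.mpr hreg).symm.pow_right k) d1 d2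

/-- The automorphism groups of the fusion system of a nilpotent block are `p`-groups. -/
theorem isPGroup_autGroup {B e : MonoidAlgebra F G} {P Q : Subgroup G} (hP : PairOf p B P e)
    (hnil : NilPairs p B) (hQ : Q ≤ P) :
    IsPGroup p ((pairFusion p P e hP.pair).autGroup Q) := by
  obtain ⟨f, hf⟩ := (existsUnique_sle hP.pair hQ).1
  intro α
  obtain ⟨g, hgN, hgS, hα⟩ := CfsgLib.Fusion.exists_eq_conjAut
    (autGroup_pairFusion hP.pair hf ▸ α.2 : (α : MulAut Q) ∈ autInducedBy (pairStab Q f) Q)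
  refine ⟨(orderOf g).factorization p, Subtype.ext ?_⟩
  set m := p ^ (orderOf g).factorization p with hm
  have hreg : Cfsg.IsPRegular p (g ^ m) := by
    unfold Cfsg.IsPRegular
    rw [orderOf_pow_of_dvd (pow_ne_zero _ (Fact.out : p.Prime).ne_zero) (Nat.ordProj_dvd _ p)]
    exact Nat.not_dvd_ordCompl Fact.out (orderOf_pos g).ne'
  have hc := hnil Q f (hf.pairOf_iff.mp hP) _ (pow_mem hgS m) hreg
  rw [SubgroupClass.coe_pow, OneMemClass.coe_one, hα, CfsgLib.Fusion.conjAut, ← map_pow,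
    ← MonoidHom.mem_ker, Subgroup.normalizerMonoidHom_ker, Subgroup.mem_subgroupOf]
  simpa using hc

theorem pairFusion_isConj_iff {B f e : MonoidAlgebra F G} {P Q R : Subgroup G}
    (hP : PairOf p B P e) (hle : SLE p Q f P e) :
    (pairFusion p P e hP.pair).IsConj Q R ↔
      ∃ g : G, conjSub g Q = R ∧ SLE p (conjSub g Q) (conjA g f) P e := by
  constructor
  · rintro ⟨φ, ⟨g, hg, f', h1, h2⟩, hr⟩
    rw [SLE.unique hP.pair h1 hle] at h2
    exact ⟨g, (range_eq_conjSub hg).symm.trans hr, h2⟩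
  · rintro ⟨g, rfl, h2⟩
    exact ⟨Cfsg.conjHom Q g, ⟨g, fun u => rfl, f, hle, h2⟩, range_eq_conjSub fun u => rfl⟩

/-- Inner fusion gives a nilpotent block. -/
theorem nilPairs_of_inner {B e : MonoidAlgebra F G} {P : Subgroup G} (hP : PairOf p B P e)
    (hno : NoExt p P e)
    (hinn : ∀ (Q : Subgroup G) (φ : Q →* G), φ ∈ pairHom p P e Q →
      ∃ u ∈ P, ∀ y : Q, φ y = u * (y : G) * u⁻¹) : NilPairs p B := by
  refine nilPairs_of_below hP hno fun Q f hle x hx hreg => ?_
  obtain ⟨hxN, hxf⟩ := hx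
  obtain ⟨u, hu, hux⟩ := hinn Q (Cfsg.conjHom Q x) ⟨x, fun y => rfl, f, hle, by
    rw [conjSub_eq_of_mem_normalizer hxN, hxf]; exact hle⟩
  have hq : ∀ q ∈ Q, x * q * x⁻¹ = u * q * u⁻¹ := fun q hq => hux ⟨q, hq⟩
  have hc : u⁻¹ * x ∈ Subgroup.centralizer (Q : Set G) := by
    rw [Subgroup.mem_centralizer_iff]
    intro q hq'
    calc q * (u⁻¹ * x) = u⁻¹ * (u * q * u⁻¹) * x := by group
      _ = u⁻¹ * (x * q * x⁻¹) * x := by rw [hq q hq']
      _ = u⁻¹ * x * q := by group
  have hu' : u ∈ Subgroup.normalizer (Q : Set G) := by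
    have h1 := Subgroup.mul_mem _ hxN
      (Subgroup.inv_mem _ (Subgroup.centralizer_le_normalizer _ hc))
    simpa [mul_assoc] using h1
  obtain ⟨k, hk⟩ := hP.pair.pgroup ⟨u, hu⟩
  exact mem_centralizer_of_regular hxN hu' hreg (congrArg Subtype.val hk) hc

/-- Stabilizers of pairs below a pair with abelian group. -/
theorem exists_mul_of_comm {B f e : MonoidAlgebra F G} {P Q : Subgroup G} (hP : PairOf p B P e)
    (hno : NoExt p P e) (hab : ∀ a ∈ P, ∀ b ∈ P, a * b = b * a) (hle : SLE p Q f P e)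
    (hmax : ∃ E, MaxIn p (Subgroup.centralizer (Q : Set G)) f E) {x : G} (hx : x ∈ pairStab Q f) :
    ∃ y ∈ pairStab P e, y ∈ Subgroup.normalizer (Q : Set G) ∧
      ∃ c ∈ Subgroup.centralizer (Q : Set G), x = y * c := by
  obtain ⟨hxN, hxf⟩ := hx
  have hQp := hle.pair_left hP.pair
  set C := Subgroup.centralizer (Q : Set G)
  have hPC : P ≤ C := fun a ha =>
    Subgroup.mem_centralizer_iff.mpr fun q hq => hab q (hle.le hq) a ha
  have hmx : MaxIn p C f P := by
    have := (maxIn_inf_iff hP hno hle (Subgroup.centralizer_le_normalizer _) le_rfl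
      hQp.block.mem.fixed hmax).2 fun g _ => by
        rw [inf_eq_left.mpr hPC]; exact Subgroup.card_le_of_le inf_le_left
    rwa [inf_eq_left.mpr hPC] at this
  obtain ⟨g, hg, hgle⟩ := ns_sle_of_sle hP.pair hle hle.le le_rfl
    (hPC.trans (Subgroup.centralizer_le_normalizer _))
  rw [SLE.unique hP.pair hgle (SLE.refl P e)] at hg
  have hh := hg.conj x
  rw [conjSub_eq_of_mem_normalizer hxN, hxf] at hh
  have hXL : conjSub x P ≤ C := fun y hy => by
    have h1 : y ∈ Subgroup.centralizer (conjSub x Q : Set G) :=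
      mem_centralizer_conjSub.mpr (hPC (mem_conjSub.mp hy))
    rwa [conjSub_eq_of_mem_normalizer hxN] at h1
  obtain ⟨c, hc, hcle⟩ := exists_conj_sle_local (hle.le.trans hPC) le_rfl
    (Subgroup.centralizer_le_normalizer _) hQp.block.mem.fixed hmx hg hh hXL
  rw [conjSub_conjSub, conjA_conjA] at hcle
  have heq : conjSub (c * x) P = P :=
    Subgroup.eq_of_le_of_card_ge hcle.le (card_map_conj _ P).symm.le
  rw [heq] at hcle
  have hyN : c * x ∈ Subgroup.normalizer (Q : Set G) :=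
    Subgroup.mul_mem _ (Subgroup.centralizer_le_normalizer _ hc) hxN
  refine ⟨c * x, ⟨mem_normalizer_of_conjSub_eq heq, SLE.unique hP.pair hcle (SLE.refl P e)⟩,
    hyN, (c * x)⁻¹ * c⁻¹ * (c * x), ?_, by group⟩
  have h1 : (c * x) * ((c * x)⁻¹ * c⁻¹ * (c * x)) * (c * x)⁻¹ ∈ C := by
    simpa [mul_assoc] using C.inv_mem hc
  exact (Subgroup.mem_normalizer_iff.mp (normalizer_le_normalizer_centralizer Q hyN) _).mpr h1

end Pure

variable [Fact p.Prime] {M : Ideal AlgInt} [M.IsMaximal] [CharP (ResField M) p]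

/-- The fusion system of a block is the fusion system of its maximal pair. -/
theorem exists_pairFusion_eq (hM : IsPModular p M) {B : Set (IrrCharacter G)} {P : Subgroup G}
    {e : Set (IrrCharacter (Subgroup.centralizer (P : Set G)))} {F : Cfsg.FusionSystem P}
    (hF : Cfsg.IsBlockFusionSystemOn p M B P e F) :
    ∃ (hB : IsPBlock M B) (he : IsPBlock M e) (hP : PairOf p (ebar hB) P (eIn he)),
      NoExt p P (eIn he) ∧ F = pairFusion p P (eIn he) hP.pair := by
  obtain ⟨hB, he, hP, hno⟩ := noExt_of_isMaximalBrauerPair hM hF.1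
  refine ⟨hB, he, hP, hno, fusion_ext fun Q => ?_⟩
  ext φ
  rw [hF.2 Q φ]
  constructor
  · rintro ⟨hQ, g, hg, hmap, f₀, h1, h2⟩
    have hf₀ : IsPBlock M f₀ := by
      rcases Relation.ReflTransGen.cases_head h1 with h | ⟨c, hc, -⟩
      · obtain ⟨rfl, h⟩ := Sigma.mk.inj_iff.mp h
        exact eq_of_heq h ▸ he
      · exact hc.1.2
    obtain ⟨hc, hce⟩ := conjBlock_spec Q g hf₀
    obtain ⟨_, h1'⟩ := sle_of_subpairLE hM hf₀ h1
    obtain ⟨_, h2'⟩ := sle_of_subpairLE hM hc h2
    rw [hce] at h2'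
    exact ⟨g, hg, eIn hf₀, h1', h2'⟩
  · rintro ⟨g, hg, f, h1, h2⟩
    obtain ⟨f₀, hf₀, rfl⟩ := exists_eIn_eq (h1.pair_left hP.pair).block
    obtain ⟨hc, hce⟩ := conjBlock_spec Q g hf₀
    rw [← hce] at h2
    exact ⟨h1.le, g, hg, h2.le, f₀, subpairLE_of_sle hM hf₀ he h1,
      subpairLE_of_sle hM hc he h2⟩

/-- A nilpotent block has inner fusion. -/
theorem inner_of_nilPairs (hM : IsPModular p M) {P : Subgroup G}
    {B e : MonoidAlgebra (ResField M) G} (hP : PairOf p B P e) (hno : NoExt p P e)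
    (hnil : NilPairs p B) {Q : Subgroup G} {φ : Q →* G} (hφ : φ ∈ pairHom p P e Q) :
    ∃ u ∈ P, ∀ y : Q, φ y = u * (y : G) * u⁻¹ :=
  exists_conj_of_pgroup_aut (F := pairFusion p P e hP.pair) hP.pair.pgroup
    (isSaturated_pairFusion hM hP hno) (fun _ hQ => isPGroup_autGroup hP hnil hQ) hφ

theorem isNilpotentBlock_iff (hM : IsPModular p M) {B : Set (IrrCharacter G)}
    (hB : IsPBlock M B) : Cfsg.IsNilpotentBlock p M B ↔ NilPairs p (ebar hB) := by
  constructor
  · intro h Q f hQ x hx hreg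
    obtain ⟨f₀, hf₀, rfl⟩ := exists_eIn_eq hQ.pair.block
    exact h.2 Q f₀ ((isBrauerPairOf_iff hM hB hf₀).mpr hQ) x hx.1
      ((stabilizesBlock_iff hf₀ (normalizer_le_normalizer_centralizer Q hx.1)).mpr hx.2) hreg
  · intro h
    refine ⟨hB, fun Q f hQ x hxN hst hreg => ?_⟩
    have hf : IsPBlock M f := hQ.1.2
    exact h Q (eIn hf) ((isBrauerPairOf_iff hM hB hf).mp hQ) x
      ⟨hxN, (stabilizesBlock_iff hf (normalizer_le_normalizer_centralizer Q hxN)).mp hst⟩ hreg

omit [Fact p.Prime] [CharP (ResField M) p] in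
/-- A block of a larger group with the same coefficients has the same idempotent. -/
theorem eIn_eq_of_coeff {K T : Subgroup G} (hKT : K ≤ T) {e : Set (IrrCharacter K)}
    (he : IsPBlock M e) {F' : Set (IrrCharacter T)} (hF' : IsPBlock M F')
    (h : ∀ t : T, blockCoeff F' t = subgroupBlockCoeff K e (t : G)) : eIn hF' = eIn he := by
  ext g
  rw [coeff_eIn, coeff_eIn]
  congr 1
  apply Subtype.ext
  show subgroupBlockCoeff T F' g = subgroupBlockCoeff K e g
  by_cases hg : g ∈ T
  · rw [← h ⟨g, hg⟩]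
    simp [subgroupBlockCoeff, hg]
  · simp [subgroupBlockCoeff, hg, show g ∉ K from fun hk => hg (hKT hk)]

omit [Fact p.Prime] [CharP (ResField M) p] in
theorem mem_pairStab_iff {Q : Subgroup G}
    {f : Set (IrrCharacter (Subgroup.centralizer (Q : Set G)))} (hf : IsPBlock M f) {y : G} :
    y ∈ pairStab Q (eIn hf) ↔ y ∈ Subgroup.normalizer (Q : Set G) ∧
      StabilizesBlock (Subgroup.centralizer (Q : Set G)) f y :=
  and_congr_right fun hy => (stabilizesBlock_iff hf (normalizer_le_normalizer_centralizer Q hy)).symm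

/-- The centric criterion. -/
theorem isCentric_iff (hM : IsPModular p M) {P Q : Subgroup G}
    {B f e : MonoidAlgebra (ResField M) G} (hP : PairOf p B P e) (hno : NoExt p P e)
    (hle : SLE p Q f P e) :
    (pairFusion p P e hP.pair).IsCentric Q ↔
      MaxIn p (Subgroup.centralizer (Q : Set G)) f
        (Q ⊓ Subgroup.centralizer (Q : Set G)) := by
  set C := Subgroup.centralizer (Q : Set G) with hC
  have hQp := hle.pair_left hP.pair
  obtain ⟨E, hE⟩ := exists_maxIn_of_isBlockIdem hM hQp.block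
  constructor
  · rintro ⟨-, hcen⟩
    obtain ⟨x, hx, hmx⟩ := exists_conj_maxIn hP hno hle (Subgroup.centralizer_le_normalizer _)
      le_rfl hQp.block.mem.fixed hE
    have h1 := hcen _ ((pairFusion_isConj_iff hP hle).2 ⟨x, rfl, hx⟩)
    refine maxIn_of_card hE inf_le_right (hQp.pgroup.to_le inf_le_left)
      (trunc_ne_zero_of_le (inf_le_inf_right _ hle.le)
        (trunc_inf_ne_zero hP.pair hle (Subgroup.centralizer_le_normalizer _))) ?_
    have hE' := hE.conj x
    rw [← card_map_conj x E, ← card_map_conj x (Q ⊓ C)]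
    refine (maxIn_card_le hmx hE'.le hE'.pgroup hE'.ne_zero).trans (Subgroup.card_le_of_le ?_)
    intro y hy
    have hyQ : y ∈ conjSub x Q := h1 ⟨hy.1, by rw [centralizer_conjSub]; exact hy.2⟩
    exact mem_conjSub.mpr ⟨mem_conjSub.mp hyQ, mem_conjSub.mp hy.2⟩
  · intro hmx
    refine ⟨hle.le, fun R hR => ?_⟩
    obtain ⟨g, rfl, hg⟩ := (pairFusion_isConj_iff hP hle).1 hR
    have h1 := card_inf_conjSub_le hP.pair (Subgroup.centralizer_le_normalizer _) hmx hg
    rw [← card_map_conj g (Q ⊓ C)] at h1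
    have hsub : conjSub g (Q ⊓ C) ≤ P ⊓ conjSub g C := fun y hy =>
      ⟨hg.le (conjSub_mono g inf_le_left hy), conjSub_mono g inf_le_right hy⟩
    have h2 := Subgroup.eq_of_le_of_card_ge hsub h1
    show P ⊓ Subgroup.centralizer (conjSub g Q : Set G) ≤ conjSub g Q
    rw [centralizer_conjSub, ← hC, ← h2]
    exact conjSub_mono g inf_le_left

end CfsgLib.Blk83
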