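import Cfsg.Agent.Lib.Blk83.CyclicRank
import Cfsg.Agent.Lib.BlockRank.NilpotentAbelian
import Cfsg.Agent.Lib.PerfIso.Column
import Cfsg.Agent.Lib.Blk83.SubsectionWeight

/-!
The columns of the generalized decomposition numbers of a block with cyclic defect group.
-/

set_option autoImplicit false
set_option maxHeartbeats 800000
set_option synthInstance.maxHeartbeats 400000

open Cfsg CfsgLib.Blocks CfsgLib.Blocks.Pairs CfsgLib.BlockRank CfsgLib.BlockReg
open scoped Classical ComplexConjugate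
open Polynomial

namespace CfsgLib.Blk83.Cyc

universe u

variable {G : Type u} [Group G] [Finite G] {p : ℕ} [Fact p.Prime] {M : Ideal AlgInt} [M.IsMaximal]
  [CharP (ResField M) p]

variable (p) in
/-- The block of the centralizer of `y` under the maximal pair. -/
def SubBlk (D : Subgroup G) (eD : MonoidAlgebra (ResField M) G) {C : Subgroup G} (y : G)
    (b : Set (IrrCharacter C)) : Prop :=
  C = Subgroup.centralizer {y} ∧ ∃ hb : IsPBlock M b, SLE p (Subgroup.zpowers y) (eIn hb) D eD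

/-- The entry of the column of `y`, over the degree of a member of `b`. -/
noncomputable def colAt {C : Subgroup G} (b : Set (IrrCharacter C)) (y : G) (χ : IrrCharacter G) :
    ℂ :=
  (Nat.card b : ℂ) * Cfsg.blockPart b (fun c : C => (χ : G → ℂ) (y * c)) 1 /
    ∑ᶠ θ ∈ b, (θ : C → ℂ) 1

variable (p) in
/-- The column of the block at an element of the defect group. -/
noncomputable def col (D : Subgroup G) (eD : MonoidAlgebra (ResField M) G) (y : G)
    (χ : IrrCharacter G) : ℂ :=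
  if h : ∃ b : Set (IrrCharacter (Subgroup.centralizer ({y} : Set G))), SubBlk p D eD y b
  then colAt h.choose y χ else 0

/-- Translates by the powers of a central element. -/
theorem exists_translate_pow {C : Subgroup G} {z : G} (hC : C = Subgroup.centralizer {z}) {n : ℕ}
    (hn : 0 < n) (hzn : z ^ n = 1) {ω : ℂ} (hω : IsPrimitiveRoot ω n) [Fintype C]
    (χ : IrrCharacter G) :
    ∃ (m i : IrrCharacter C → ℕ), ∀ (k : ℕ) (b : Set (IrrCharacter C)) [Fintype b] (s : C),
      Cfsg.blockPart b (fun c : C => (χ : G → ℂ) (z ^ k * c)) s =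
        ∑ φ ∈ b.toFinset, (m φ : ℂ) * (ω ^ k) ^ i φ * (φ : C → ℂ) s := by
  have hzC : z ∈ C := by rw [hC, Subgroup.mem_centralizer_singleton_iff]
  have hcen : (⟨z, hzC⟩ : C) ∈ Subgroup.center C := by
    rw [Subgroup.mem_center_iff]
    exact fun g => Subtype.ext (Subgroup.mem_centralizer_singleton_iff.mp
      (hC ▸ g.2 : (g : G) ∈ Subgroup.centralizer {z}))
  choose i hi using exists_central_root (G := C) hn hω hcen (Subtype.ext (by simp [hzn]))
  have hres := CfsgLib.Char.IsCharacter.restrict (CfsgLib.Char.IsIrrCharacter.isCharacter χ.2) C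
  choose m hm using fun φ : Cfsg.IrrCharacter C =>
    CfsgLib.Char.IsCharacter.exists_nat_classInner hres φ.2
  refine ⟨m, i, fun k b _ s => ?_⟩
  have hk : ∀ (φ : Cfsg.IrrCharacter C) (c : C),
      (φ : C → ℂ) (⟨z, hzC⟩ ^ k * c) = (ω ^ k) ^ i φ * (φ : C → ℂ) c := by
    intro φ c
    induction k with
    | zero => simp
    | succ k ih =>
      rw [pow_succ', mul_assoc, hi, ih, pow_succ' ω k, mul_pow]
      ring
  have hF : (fun c : C => (χ : G → ℂ) (z ^ k * c)) =
      ∑ φ : Cfsg.IrrCharacter C, ((m φ : ℂ) * (ω ^ k) ^ i φ) • (φ : C → ℂ) := by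
    funext c
    rw [Finset.sum_apply]
    have h1 := congrFun (CfsgLib.Char.IsCharacter.eq_sum_classInner hres) (⟨z, hzC⟩ ^ k * c)
    simp only [Finset.sum_apply, Pi.smul_apply, smul_eq_mul, hm, Subgroup.coe_mul,
      SubmonoidClass.coe_pow] at h1
    rw [h1]
    refine Finset.sum_congr rfl fun φ _ => ?_
    rw [hk, Pi.smul_apply, smul_eq_mul, mul_assoc]
  haveI := Fintype.ofFinite G
  rw [blockPart_apply, hF]
  exact Finset.sum_congr rfl fun φ _ => by rw [CfsgLib.Char.classInner_sum_smul_irr]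

omit [Fact p.Prime] in
/-- A centralizer only depends on the subgroup generated. -/
theorem centralizer_singleton_eq {y z : G} (h : Subgroup.zpowers y = Subgroup.zpowers z) :
    Subgroup.centralizer ({y} : Set G) = Subgroup.centralizer {z} := by
  rw [← Subgroup.centralizer_closure ({y} : Set G), ← Subgroup.centralizer_closure ({z} : Set G),
    ← Subgroup.zpowers_eq_closure, ← Subgroup.zpowers_eq_closure, h]

omit [Finite G] [Fact p.Prime] in
theorem centralizer_singleton_zpowers (y : G) :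
    Subgroup.centralizer ({y} : Set G) = Subgroup.centralizer (Subgroup.zpowers y : Set G) := by
  rw [Subgroup.zpowers_eq_closure, Subgroup.centralizer_closure]

variable {B : Set (IrrCharacter G)} {hB : IsPBlock M B} {D : Subgroup G}
  {eD : MonoidAlgebra (ResField M) G} {a e : ℕ}

theorem CycData.defect (h : CycData p hB D eD a e) : Cfsg.blockDefect p B = a :=
  Nat.pow_right_injective (Fact.out : p.Prime).two_le <| show p ^ Cfsg.blockDefect p B = p ^ a by
    rw [← h.card, card_defectGroup h.hM hB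
      ((isDefectGroup_iff_maxR h.hM hB).2 (maxR_of_noExt h.pair h.noExt))]

theorem CycData.orderOf_dvd (h : CycData p hB D eD a e) {y : G} (hy : y ∈ D) :
    ∃ k, k ≤ a ∧ orderOf y = p ^ k := by
  have h1 : orderOf (⟨y, hy⟩ : D) ∣ p ^ a := h.card ▸ orderOf_dvd_natCard _
  obtain ⟨k, hk, hk'⟩ := (Nat.dvd_prime_pow Fact.out).1 h1
  exact ⟨k, hk, by rw [← hk', Subgroup.orderOf_mk]⟩

theorem CycData.pow_eq_one (h : CycData p hB D eD a e) {y : G} (hy : y ∈ D) : y ^ p ^ a = 1 := by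
  have h1 := congrArg Subtype.val (pow_card_eq_one' (x := (⟨y, hy⟩ : D)))
  rw [h.card] at h1
  simpa using h1

theorem SubBlk.unique (h : CycData p hB D eD a e) {C : Subgroup G} {y : G}
    {b b' : Set (IrrCharacter C)} (hb : SubBlk p D eD y b) (hb' : SubBlk p D eD y b') : b = b' := by
  obtain ⟨-, h1, h1'⟩ := hb
  obtain ⟨-, h2, h2'⟩ := hb'
  exact eIn_injective h1 h2 (SLE.unique h.pair.pair h1' h2')

theorem SubBlk.induced (h : CycData p hB D eD a e) {C : Subgroup G} {y : G}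
    {b : Set (IrrCharacter C)} (hb : SubBlk p D eD y b) : IsInducedBlock M C b B := by
  obtain ⟨rfl, hb, hs⟩ := hb
  exact (isInducedBlock_singleton_iff h.hM (hs.pair_left h.pair.pair).pgroup hB hb).2
    ((SLE.pairOf_iff hs).1 h.pair)

/-- The local block at a nontrivial element of the defect group. -/
theorem CycData.exists_subBlk (h : CycData p hB D eD a e) {y : G} (hy : y ∈ D) (hy1 : y ≠ 1)
    {C : Subgroup G} (hC : C = Subgroup.centralizer {y}) :
    ∃ b : Set (IrrCharacter C), SubBlk p D eD y b ∧ Cfsg.blockDefect p b = a ∧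
      Nat.card b = p ^ a ∧ Cfsg.blockRank p b = 1 := by
  rw [centralizer_singleton_zpowers] at hC
  subst hC
  have hQ : Subgroup.zpowers y ≤ D := Subgroup.zpowers_le.2 hy
  have hQ1 : Subgroup.zpowers y ≠ ⊥ := by rwa [Ne, Subgroup.zpowers_eq_bot]
  obtain ⟨f, hns⟩ := h.exists_below hQ
  obtain ⟨b, hb, hbe, hP', hno', hl, hk, -⟩ := h.local_below hQ hQ1 hns.sle
  refine ⟨b, ⟨(centralizer_singleton_zpowers y).symm, hb, ?_⟩, ?_, hk, hl⟩
  · rw [eIn, hbe, up_down hns.pairQ.block.mem.supp]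
    exact hns.sle
  · refine Nat.pow_right_injective (Fact.out : p.Prime).two_le ?_
    show p ^ Cfsg.blockDefect p b = p ^ a
    rw [← card_defectGroup h.hM hb ((isDefectGroup_iff_maxR h.hM hb).2 (maxR_of_noExt hP' hno')),
      Nat.card_congr (Subgroup.subgroupOfEquivOfLe
        (h.le_centralizer.trans (centralizer_anti hQ))).toEquiv, h.card]

theorem SubBlk.props (h : CycData p hB D eD a e) {C : Subgroup G} {y : G} (hy : y ∈ D)
    (hy1 : y ≠ 1) {b : Set (IrrCharacter C)} (hb : SubBlk p D eD y b) :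
    Cfsg.blockDefect p b = a ∧ Nat.card b = p ^ a ∧ Cfsg.blockRank p b = 1 ∧
      ∀ θ ∈ b, ∀ θ' ∈ b, ∀ s : C, Cfsg.IsPRegular p s → (θ : C → ℂ) s = (θ' : C → ℂ) s := by
  obtain ⟨b', hb', hd, hk, hl⟩ := h.exists_subBlk hy hy1 hb.1
  obtain rfl := hb.unique h hb'
  obtain ⟨-, hb1, -⟩ := hb
  haveI := Fintype.ofFinite C
  haveI := Fintype.ofFinite b
  obtain ⟨φ, n, d, -, hφ, hsum⟩ := exists_rankOne_data h.hM hb1 hl
  have hpos : ∀ θ ∈ b.toFinset, 1 ≤ d θ ^ 2 := by
    intro θ hθ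
    have h1 := hφ θ (Set.mem_toFinset.1 hθ) 1 (CfsgLib.PerfIso.isPRegular_one (H := C))
    have : d θ ≠ 0 := fun e0 => deg_ne_zero θ (by rw [h1, e0, Nat.cast_zero, zero_mul])
    exact Nat.one_le_pow _ _ (Nat.pos_of_ne_zero this)
  have heq : ∀ θ ∈ b.toFinset, d θ ^ 2 = 1 := by
    intro θ hθ
    have hz : ∑ θ ∈ b.toFinset, (d θ ^ 2 - 1) = 0 := by
      rw [Finset.sum_tsub_distrib _ hpos, hsum, hd, Finset.sum_const, smul_eq_mul, mul_one,
        Set.toFinset_card, ← Nat.card_eq_fintype_card, hk, Nat.sub_self]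
    have := (Finset.sum_eq_zero_iff.1 hz) θ hθ
    have := hpos θ hθ
    omega
  refine ⟨hd, hk, hl, fun θ hθ θ' hθ' s hs => ?_⟩
  rw [hφ θ hθ s hs, hφ θ' hθ' s hs]
  have h1 := heq θ (Set.mem_toFinset.2 hθ)
  have h2 := heq θ' (Set.mem_toFinset.2 hθ')
  rw [Nat.pow_eq_one.1 h1 |>.resolve_right two_ne_zero, Nat.pow_eq_one.1 h2 |>.resolve_right two_ne_zero]

theorem SubBlk.sum_deg (h : CycData p hB D eD a e) {C : Subgroup G} {y : G} (hy : y ∈ D)
    (hy1 : y ≠ 1) {b : Set (IrrCharacter C)} (hb : SubBlk p D eD y b) {θ : IrrCharacter C}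
    (hθ : θ ∈ b) : ∑ᶠ η ∈ b, (η : C → ℂ) 1 = (Nat.card b : ℂ) * (θ : C → ℂ) 1 := by
  haveI := Fintype.ofFinite b
  rw [finsum_mem_eq_toFinset_sum, Finset.sum_congr rfl fun η hη =>
    (hb.props h hy hy1).2.2.2 η (Set.mem_toFinset.1 hη) θ hθ 1
      (CfsgLib.PerfIso.isPRegular_one (H := C)),
    Finset.sum_const, Set.toFinset_card, Nat.card_eq_fintype_card, nsmul_eq_mul]

/-- The column read in any copy of the centralizer. -/
theorem CycData.col_eq (h : CycData p hB D eD a e) {C : Subgroup G} {y : G}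
    {b : Set (IrrCharacter C)} (hb : SubBlk p D eD y b) (χ : IrrCharacter G) :
    col p D eD y χ = colAt b y χ := by
  obtain ⟨rfl, hb'⟩ := id hb
  have hex : ∃ b : Set (IrrCharacter (Subgroup.centralizer ({y} : Set G))), SubBlk p D eD y b :=
    ⟨b, hb⟩
  rw [col, dif_pos hex, hex.choose_spec.unique h hb]

/-- The block part of a translate is the column times the regular function. -/
theorem SubBlk.value (h : CycData p hB D eD a e) {C : Subgroup G} {y : G} (hy : y ∈ D)
    (hy1 : y ≠ 1) {b : Set (IrrCharacter C)} (hb : SubBlk p D eD y b) {θ : IrrCharacter C}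
    (hθ : θ ∈ b) (χ : IrrCharacter G) {s : C} (hs : Cfsg.IsPRegular p s) :
    Cfsg.blockPart b (fun c : C => (χ : G → ℂ) (y * c)) s = col p D eD y χ * (θ : C → ℂ) s := by
  haveI := Fintype.ofFinite C
  haveI := Fintype.ofFinite b
  have hn0 : 0 < orderOf y := orderOf_pos y
  obtain ⟨m, i, hmi⟩ := exists_translate_pow hb.1 hn0 (pow_orderOf_eq_one y)
    (Complex.isPrimitiveRoot_exp _ hn0.ne') χ
  have key : ∀ t : C, Cfsg.IsPRegular p t →
      Cfsg.blockPart b (fun c : C => (χ : G → ℂ) (y * c)) t =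
        (∑ φ ∈ b.toFinset, (m φ : ℂ) *
          (Complex.exp (2 * Real.pi * Complex.I / (orderOf y : ℕ)) ^ 1) ^ i φ) * (θ : C → ℂ) t := by
    intro t ht
    have := hmi 1 b t
    rw [pow_one y] at this
    rw [this, Finset.sum_mul]
    exact Finset.sum_congr rfl fun φ hφ => by
      rw [(hb.props h hy hy1).2.2.2 φ (Set.mem_toFinset.1 hφ) θ hθ t ht]
  have hθ1 : (θ : C → ℂ) 1 ≠ 0 := deg_ne_zero θ
  have hk : (Nat.card b : ℂ) ≠ 0 := by
    rw [(hb.props h hy hy1).2.1]
    exact Nat.cast_ne_zero.2 (pow_ne_zero _ (Fact.out : p.Prime).ne_zero)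
  rw [key s hs, h.col_eq hb, colAt, hb.sum_deg h hy hy1 hθ,
    key 1 (CfsgLib.PerfIso.isPRegular_one (H := C))]
  field_simp

/-- The column on the powers of an element is a polynomial in a root of unity. -/
theorem CycData.col_poly (h : CycData p hB D eD a e) {y : G} (hy : y ∈ D) (hy1 : y ≠ 1) {ζ : ℂ}
    (hζ : IsPrimitiveRoot ζ (p ^ a)) (χ : IrrCharacter G) :
    ∃ P : ℤ[X], ∀ k : ℕ, ¬ p ∣ k → col p D eD (y ^ k) χ = aeval (ζ ^ k) P := by
  obtain ⟨b, hb, -⟩ := h.exists_subBlk hy hy1 rfl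
  obtain ⟨θ, hθ⟩ := block_nonempty h.hM (hb.induced h).1
  haveI := Fintype.ofFinite (Subgroup.centralizer ({y} : Set G))
  haveI := Fintype.ofFinite b
  obtain ⟨m, i, hmi⟩ := exists_translate_pow (C := Subgroup.centralizer ({y} : Set G)) rfl
    (pow_pos (Fact.out : p.Prime).pos a) (h.pow_eq_one hy) hζ χ
  refine ⟨∑ φ ∈ b.toFinset, Polynomial.C (m φ : ℤ) * X ^ i φ, fun k hk => ?_⟩
  obtain ⟨n, -, hn⟩ := h.orderOf_dvd hy
  have hcop : (orderOf y).Coprime k := by
    rw [hn]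
    exact Nat.Coprime.pow_left _ ((Nat.Prime.coprime_iff_not_dvd Fact.out).2 hk)
  have hzp : Subgroup.zpowers (y ^ k) = Subgroup.zpowers y :=
    Subgroup.eq_of_le_of_card_ge (Subgroup.zpowers_le.2 (pow_mem (Subgroup.mem_zpowers y) k))
      (le_of_eq (by rw [Nat.card_zpowers, Nat.card_zpowers, hcop.orderOf_pow]))
  have hbk : SubBlk p D eD (y ^ k) b := by
    obtain ⟨-, hb', hs⟩ := hb
    exact ⟨(centralizer_singleton_eq hzp).symm, hb', hzp.symm ▸ hs⟩
  have hyk1 : y ^ k ≠ 1 := fun e0 => hy1 (by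
    rw [← Subgroup.zpowers_eq_bot, ← hzp, e0, Subgroup.zpowers_one_eq_bot])
  have hθ1 := deg_ne_zero θ
  have hv := hbk.value h (pow_mem hy k) hyk1 hθ χ (CfsgLib.PerfIso.isPRegular_one (p := p))
  refine mul_right_cancel₀ hθ1 ?_
  rw [← hv, hmi k b 1, map_sum, Finset.sum_mul]
  refine Finset.sum_congr rfl fun φ hφ => ?_
  rw [(hb.props h hy hy1).2.2.2 φ (Set.mem_toFinset.1 hφ) θ hθ 1
    (CfsgLib.PerfIso.isPRegular_one (p := p))]
  simp

theorem CycData.isIntegral_col (h : CycData p hB D eD a e) {y : G} (hy : y ∈ D) (hy1 : y ≠ 1)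
    (χ : IrrCharacter G) : IsIntegral ℤ (col p D eD y χ) := by
  have hN := pow_pos (Fact.out : p.Prime).pos a
  have hζ := Complex.isPrimitiveRoot_exp _ hN.ne'
  obtain ⟨P, hP⟩ := h.col_poly hy hy1 hζ χ
  have h1 := hP 1 (Fact.out : p.Prime).not_dvd_one
  rw [pow_one, pow_one] at h1
  rw [h1]
  have h2 := (aeval (⟨_, hζ.isIntegral hN⟩ : integralClosure ℤ ℂ) P).2
  rwa [← Subalgebra.coe_val, ← Polynomial.aeval_algHom_apply] at h2

/-- The columns in the sense of subsections of rank one. -/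
theorem SubBlk.isColumn (h : CycData p hB D eD a e) {y : G} (hy : y ∈ D) (hy1 : y ≠ 1)
    {b : Set (IrrCharacter (Subgroup.centralizer ({y} : Set G)))} (hb : SubBlk p D eD y b)
    {θ : IrrCharacter (Subgroup.centralizer ({y} : Set G))} (hθ : θ ∈ b) :
    CfsgLib.PerfIso.IsColumn p M B y b (col p D eD y)
      (θ : Subgroup.centralizer ({y} : Set G) → ℂ) := by
  haveI := Fintype.ofFinite G
  haveI := Fintype.ofFinite (Subgroup.centralizer ({y} : Set G))
  haveI := Fintype.ofFinite b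
  haveI := Fintype.ofFinite B
  obtain ⟨hd, hk, -, hreg⟩ := hb.props h hy hy1
  have h1 : Cfsg.IsPRegular p (1 : Subgroup.centralizer ({y} : Set G)) :=
    CfsgLib.PerfIso.isPRegular_one
  refine ⟨fun χ s hs => hb.value h hy hy1 hθ χ hs, h.isIntegral_col hy hy1, deg_ne_zero θ,
    fun s => CfsgLib.Char.IsGeneralizedCharacter.isIntegral_apply
      (CfsgLib.Char.IsIrrCharacter.isGeneralizedCharacter θ.2) s, fun s hs => ?_, ?_⟩
  · rw [h.defect, ← hd]
    exact CfsgLib.PerfIso.memRing_rankOne h.hM (hb.induced h).1 (d := fun _ => 1)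
      (fun η hη t ht => by rw [hreg η hη θ hθ t ht, Nat.cast_one, one_mul])
      (by rw [one_pow, Finset.sum_const, smul_eq_mul, mul_one, Set.toFinset_card,
        ← Nat.card_eq_fintype_card, hk, hd]) hs
  · obtain ⟨k, -, hk'⟩ := h.orderOf_dvd hy
    have hsum := sum_blockPart_translate_mul_conj h.hM
      (C := Subgroup.centralizer ({y} : Set G)) rfl ⟨k, hk'⟩ (hb.induced h) h1 h1
    rw [Finset.sum_congr (s₁ := B.toFinset) rfl fun χ _ => by rw [hb.value h hy hy1 hθ χ h1],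
      Finset.sum_congr (s₁ := b.toFinset) rfl fun φ hφ => by rw [hreg φ (Set.mem_toFinset.1 hφ) θ hθ 1 h1],
      Finset.sum_const, Set.toFinset_card, ← Nat.card_eq_fintype_card, hk, nsmul_eq_mul] at hsum
    rw [finsum_mem_eq_toFinset_sum, h.defect]
    refine mul_right_cancel₀ (mul_ne_zero (deg_ne_zero θ)
      ((map_ne_zero (starRingEnd ℂ)).2 (deg_ne_zero θ))) ?_
    rw [← hsum, Finset.sum_mul]
    exact Finset.sum_congr rfl fun χ _ => by rw [map_mul]; ring

/-- The column at a nontrivial element has no zero entries on the block. -/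
theorem CycData.col_ne_zero (h : CycData p hB D eD a e) {y : G} (hy : y ∈ D) (hy1 : y ≠ 1)
    {χ : IrrCharacter G} (hχ : χ ∈ B) : col p D eD y χ ≠ 0 := by
  obtain ⟨b, hb, hd, -⟩ := h.exists_subBlk hy hy1 rfl
  obtain ⟨θ, hθ⟩ := block_nonempty h.hM (hb.induced h).1
  obtain ⟨k, -, hk⟩ := h.orderOf_dvd hy
  exact (hb.isColumn h hy hy1 hθ).ne_zero h.hM ⟨k, hk⟩ (hb.induced h) (hd.trans h.defect.symm) hχ

/-- The columns are orthogonal to the values at regular elements. -/
theorem CycData.col_orth_regular (h : CycData p hB D eD a e) {y : G} (hy : y ∈ D) (hy1 : y ≠ 1)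
    {r : G} (hr : Cfsg.IsPRegular p r) :
    ∑ᶠ χ ∈ B, (χ : G → ℂ) r * conj (col p D eD y χ) = 0 := by
  obtain ⟨b, hb, -⟩ := h.exists_subBlk hy hy1 rfl
  obtain ⟨θ, hθ⟩ := block_nonempty h.hM (hb.induced h).1
  obtain ⟨k, -, hk⟩ := h.orderOf_dvd hy
  exact (hb.isColumn h hy hy1 hθ).orth_regular h.hM hB (hb.induced h).1 ⟨k, hk⟩ hy1 hr

/-- Transport of a subsection by conjugation. -/
theorem exists_conj_block {y g : G}
    (b : Set (IrrCharacter (Subgroup.centralizer ({y} : Set G)))) (hb : IsPBlock M b) :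
    ∃ (φ : Subgroup.centralizer ({g * y * g⁻¹} : Set G) ≃* Subgroup.centralizer ({y} : Set G))
      (hb' : IsPBlock M (pullSet φ b)), eIn hb' = conjA g (eIn hb) ∧
      ∀ (χ : IrrCharacter G) (s : Subgroup.centralizer ({g * y * g⁻¹} : Set G)),
        Cfsg.blockPart (pullSet φ b)
            (fun c : Subgroup.centralizer ({g * y * g⁻¹} : Set G) =>
              (χ : G → ℂ) (g * y * g⁻¹ * c)) s =
          Cfsg.blockPart b
            (fun c : Subgroup.centralizer ({y} : Set G) => (χ : G → ℂ) (y * c)) (φ s) := by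
  have hmem : ∀ x : G, x ∈ Subgroup.centralizer ({g * y * g⁻¹} : Set G) ↔
      g⁻¹ * x * g ∈ Subgroup.centralizer ({y} : Set G) := by
    intro x
    rw [Subgroup.mem_centralizer_singleton_iff, Subgroup.mem_centralizer_singleton_iff]
    constructor <;> intro hx
    · calc g⁻¹ * x * g * y = g⁻¹ * (x * (g * y * g⁻¹)) * g := by group
        _ = _ := by rw [hx]; group
    · calc x * (g * y * g⁻¹) = g * (g⁻¹ * x * g * y) * g⁻¹ := by group
        _ = _ := by rw [hx]; group
  let φ : Subgroup.centralizer ({g * y * g⁻¹} : Set G) ≃* Subgroup.centralizer ({y} : Set G) :=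
    { toFun := fun x => ⟨g⁻¹ * x * g, (hmem x).1 x.2⟩
      invFun := fun x => ⟨g * x * g⁻¹, (hmem _).2 (by simp [mul_assoc])⟩
      left_inv := fun x => Subtype.ext (by simp [mul_assoc])
      right_inv := fun x => Subtype.ext (by simp [mul_assoc])
      map_mul' := fun x z => Subtype.ext (by simp [mul_assoc]) }
  refine ⟨φ, isPBlock_pullSet φ hb, eIn_conj φ g (fun _ => rfl) ?_ hb, fun χ s => ?_⟩
  · ext x
    rw [hmem x, mem_conjSub]
  · haveI := Fintype.ofFinite G
    refine Eq.trans ?_ (CfsgLib.Blk83.blockPart_pullSet φ b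
      (isClassFunction_translate rfl χ) s)
    congr 1
    funext c
    show _ = (χ : G → ℂ) (y * (g⁻¹ * (c : G) * g))
    rw [← CfsgLib.Char.IsIrrCharacter.isClassFunction χ.2 (y * (g⁻¹ * (c : G) * g)) g]
    congr 1
    group

theorem isPRegular_map {H K : Type*} [Group H] [Group K] (φ : K ≃* H) {s : K}
    (hs : Cfsg.IsPRegular p s) : Cfsg.IsPRegular p (φ s) := by
  unfold Cfsg.IsPRegular at hs ⊢
  rwa [MulEquiv.orderOf_eq]

/-- The column is invariant under the inertial group. -/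
theorem CycData.col_conj (h : CycData p hB D eD a e) {y t : G} (hy : y ∈ D) (hy1 : y ≠ 1)
    (ht : t ∈ pairStab D eD) (χ : IrrCharacter G) :
    col p D eD (t * y * t⁻¹) χ = col p D eD y χ := by
  obtain ⟨b, hb, -⟩ := h.exists_subBlk hy hy1 rfl
  obtain ⟨θ, hθ⟩ := block_nonempty h.hM (hb.induced h).1
  obtain ⟨-, hb1, hs⟩ := id hb
  obtain ⟨φ, hb', he', hval⟩ := exists_conj_block (g := t) b hb1
  have hty : t * y * t⁻¹ ∈ D := (Subgroup.mem_normalizer_iff.1 ht.1 y).1 hy
  have hty1 : t * y * t⁻¹ ≠ 1 := fun e0 => hy1 (conj_eq_one_iff.1 e0)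
  have hsb : SubBlk p D eD (t * y * t⁻¹) (pullSet φ b) := by
    refine ⟨rfl, hb', ?_⟩
    have := hs.conj t
    rwa [conjSub_zpowers, conjSub_eq_of_mem_normalizer ht.1, ht.2, ← he'] at this
  have hθ' : pull φ θ ∈ pullSet φ b := ⟨θ, hθ, rfl⟩
  refine mul_right_cancel₀ (deg_ne_zero θ) ?_
  have h1 := hsb.value h hty hty1 hθ' χ (s := 1) CfsgLib.PerfIso.isPRegular_one
  rw [pull_apply, map_one] at h1
  rw [← h1, hval, map_one]
  exact hb.value h hy hy1 hθ χ CfsgLib.PerfIso.isPRegular_one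

/-- The columns at elements in different orbits are orthogonal. -/
theorem CycData.col_orth (h : CycData p hB D eD a e) {y y' : G} (hy : y ∈ D) (hy1 : y ≠ 1)
    (hy' : y' ∈ D) (hy'1 : y' ≠ 1) (hne : ∀ t ∈ pairStab D eD, t * y * t⁻¹ ≠ y') :
    ∑ᶠ χ ∈ B, col p D eD y χ * conj (col p D eD y' χ) = 0 := by
  obtain ⟨b, hb, -⟩ := h.exists_subBlk hy hy1 rfl
  obtain ⟨θ, hθ⟩ := block_nonempty h.hM (hb.induced h).1
  obtain ⟨b', hb', -⟩ := h.exists_subBlk hy' hy'1 rfl
  obtain ⟨θ', hθ'⟩ := block_nonempty h.hM (hb'.induced h).1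
  obtain ⟨k, -, hk⟩ := h.orderOf_dvd hy
  obtain ⟨k', -, hk'⟩ := h.orderOf_dvd hy'
  by_cases hcj : IsConj y y'
  swap
  · exact (hb.isColumn h hy hy1 hθ).orth_of_not_isConj h.hM ⟨k, hk⟩ (hb.induced h)
      (hb'.isColumn h hy' hy'1 hθ') ⟨k', hk'⟩ (hb'.induced h) hcj
  obtain ⟨g, rfl⟩ := isConj_iff.1 hcj
  obtain ⟨-, hb1, hs⟩ := id hb
  obtain ⟨φ, hb₂, he₂, hval⟩ := exists_conj_block (g := g) b hb1
  have hne2 : pullSet φ b ≠ b' := by
    rintro rfl
    obtain ⟨-, hb3, hs'⟩ := hb'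
    rw [show eIn hb3 = conjA g (eIn hb1) from he₂] at hs'
    obtain ⟨t, ht, htu⟩ := exists_stab_of_fusion h.pair h.noExt h.comm hs hs'
    exact hne t ht htu
  have hind₂ : IsInducedBlock M (Subgroup.centralizer ({g * y * g⁻¹} : Set G)) (pullSet φ b) B := by
    have hp1 := ((SLE.pairOf_iff hs).1 h.pair).conj g
    rw [conjSub_zpowers, ← he₂] at hp1
    exact (isInducedBlock_singleton_iff h.hM hp1.pair.pgroup hB hb₂).2 hp1
  have hb'c := hb'.isColumn h hy' hy'1 hθ'
  have hc := hb.isColumn h hy hy1 hθ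
  have hord : orderOf (g * y * g⁻¹) = orderOf y := (MulEquiv.orderOf_eq (MulAut.conj g) y)
  have hc₂ : CfsgLib.PerfIso.IsColumn p M B (g * y * g⁻¹) (pullSet φ b) (col p D eD y)
      (pull φ θ : Subgroup.centralizer ({g * y * g⁻¹} : Set G) → ℂ) := by
    refine ⟨fun χ s hs => ?_, hc.integral, ?_, fun s => hc.phi_integral _, fun s hs => ?_, hc.norm⟩
    · rw [hval, hc.value χ _ (isPRegular_map φ hs)]
      rfl
    · rw [pull_apply, map_one]; exact hc.phi_one
    · have := hc.phi_dvd (φ s) (isPRegular_map φ hs)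
      rwa [pull_apply, Nat.card_congr (α := Subgroup.centralizer ({s} :
        Set (Subgroup.centralizer ({g * y * g⁻¹} : Set G))))
        (β := Subgroup.centralizer ({φ s} : Set (Subgroup.centralizer ({y} : Set G))))
        (φ.toEquiv.subtypeEquiv fun x => by
          simp only [Subgroup.mem_centralizer_singleton_iff, MulEquiv.toEquiv_eq_coe,
            EquivLike.coe_coe]
          rw [← map_mul, ← map_mul, φ.injective.eq_iff])]
  exact hc₂.orth_of_ne h.hM ⟨k, hord.trans hk⟩ hind₂ hb'c (hb'.induced h) hne2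

/-- A combination killed by all the columns vanishes at the singular elements. -/
theorem CycData.sum_eq_zero_of_singular (h : CycData p hB D eD a e) {c : IrrCharacter G → ℂ}
    (hc : ∀ y ∈ D, y ≠ 1 → ∑ᶠ χ ∈ B, c χ * col p D eD y χ = 0) {u : G}
    (hu : ¬ Cfsg.IsPRegular p u) : ∑ᶠ χ ∈ B, c χ * (χ : G → ℂ) u = 0 := by
  haveI := Fintype.ofFinite G
  haveI := Fintype.ofFinite B
  have hp : p.Prime := Fact.out
  obtain ⟨x, hpart⟩ := CfsgLib.Blocks.exists_isPPart hp u
  obtain ⟨s, hsx, hsreg, rfl, hk⟩ : ∃ s : G, Commute s x ∧ Cfsg.IsPRegular p s ∧ x * s = u ∧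
      ∃ k : ℕ, orderOf x = p ^ k := by
    obtain ⟨s, h1, h2, h3, h4⟩ := hpart
    exact ⟨s, h2.symm, h4, h1, h3⟩
  obtain ⟨k, hk⟩ := hk
  have hx1 : x ≠ 1 := by
    rintro rfl
    rw [one_mul] at hu
    exact hu hsreg
  rw [finsum_mem_eq_toFinset_sum]
  have hsC : s ∈ Subgroup.centralizer ({x} : Set G) :=
    Subgroup.mem_centralizer_singleton_iff.2 hsx
  have hreg : Cfsg.IsPRegular p (⟨s, hsC⟩ : Subgroup.centralizer ({x} : Set G)) := by
    unfold Cfsg.IsPRegular at hsreg ⊢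
    rwa [Subgroup.orderOf_mk]
  rw [Finset.sum_congr rfl fun χ hχ => by
    rw [CfsgLib.PerfIso.apply_translate h.hM hB ⟨k, hk⟩ (Set.mem_toFinset.1 hχ) ⟨s, hsC⟩ hreg,
      finsum_mem_eq_toFinset_sum, Finset.mul_sum]]
  rw [Finset.sum_comm]
  refine Finset.sum_eq_zero fun b hb => ?_
  have hind : IsInducedBlock M (Subgroup.centralizer ({x} : Set G)) b B := by
    simpa using Set.mem_toFinset.1 hb
  have hpair := (isInducedBlock_singleton_iff h.hM (CfsgLib.BlockRank.isPGroup_zpowers ⟨k, hk⟩) hB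
    hind.1).1 hind
  obtain ⟨g, hg⟩ := exists_conj_sle h.pair h.noExt hpair
  obtain ⟨φ, hb', he', hval⟩ := exists_conj_block (g := g) b hind.1
  rw [conjSub_zpowers, ← he'] at hg
  have hyD : g * x * g⁻¹ ∈ D := hg.le (Subgroup.mem_zpowers _)
  have hy1 : g * x * g⁻¹ ≠ 1 := fun e0 => hx1 (conj_eq_one_iff.1 e0)
  have hsb : SubBlk p D eD (g * x * g⁻¹) (pullSet φ b) := ⟨rfl, hb', hg⟩
  obtain ⟨η, hη⟩ := block_nonempty h.hM hb'
  have hterm : ∀ χ : IrrCharacter G, Cfsg.blockPart b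
      (fun c : Subgroup.centralizer ({x} : Set G) => (χ : G → ℂ) (x * c)) ⟨s, hsC⟩ =
      col p D eD (g * x * g⁻¹) χ *
        (η : Subgroup.centralizer ({g * x * g⁻¹} : Set G) → ℂ) (φ.symm ⟨s, hsC⟩) := by
    intro χ
    have h1 := hval χ (φ.symm ⟨s, hsC⟩)
    rw [φ.apply_symm_apply] at h1
    rw [← h1]
    exact hsb.value h hyD hy1 hη χ (isPRegular_map φ.symm hreg)
  rw [Finset.sum_congr rfl fun χ _ => by rw [hterm χ, ← mul_assoc], ← Finset.sum_mul,
    ← finsum_mem_eq_toFinset_sum, hc _ hyD hy1, zero_mul]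

end CfsgLib.Blk83.Cyc
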