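import Cfsg.Agent.Lib.Blk83.CyclicAlg
import Cfsg.Agent.Lib.Blocks.ClassSum
import Mathlib.Algebra.Algebra.Operations

/-!
A block algebra with one irreducible module and centre a truncated polynomial ring: every corner at
a primitive idempotent is that polynomial ring.
-/

set_option autoImplicit false

open scoped Classical

namespace CfsgLib.Blk83.Cyc

open CfsgLib.Blocks

set_option maxSynthPendingDepth 4

universe u

variable {k : Type} [Field k] [IsAlgClosed k] {H : Type u} [Group H] [Finite H]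

/-- A central idempotent `ε` with one irreducible module and centre `k[π]`, `π ^ N = 0`. -/
structure Local (ε π : MonoidAlgebra k H) (N : ℕ) : Prop where
  hN : 0 < N
  ε_central : ∀ a, Commute a ε
  π_central : ∀ a, Commute a π
  ε_idem : ε * ε = ε
  επ : ε * π = π
  π_pow : π ^ N = 0
  π_top : ε * π ^ (N - 1) ≠ 0
  centre : ∀ z, (∀ a, Commute a z) → ε * z = z → ∃ c : Fin N → k, z = ∑ j, c j • (ε * π ^ (j : ℕ))
  uniq : ∀ (V W : Type u) [AddCommGroup V] [Module k V] [FiniteDimensional k V] [AddCommGroup W]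
    [Module k W] [FiniteDimensional k W] (σ : MonoidAlgebra k H →ₐ[k] Module.End k V)
    (τ : MonoidAlgebra k H →ₐ[k] Module.End k W), Simp σ → Simp τ → σ ε = 1 → τ ε = 1 →
    ∀ a, σ a = 0 → τ a = 0

variable {ε π : MonoidAlgebra k H} {N : ℕ}

theorem Local.π_pow_eq_zero (L : Local ε π N) {j : ℕ} (hj : N ≤ j) : π ^ j = 0 := by
  rw [← Nat.sub_add_cancel hj, pow_add, L.π_pow, mul_zero]

/-- The powers of `π` are independent. -/
theorem Local.coeff_eq_zero (L : Local ε π N) {x : MonoidAlgebra k H}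
    (hx : ε * π ^ (N - 1) * x ≠ 0) {c : Fin N → k}
    (h : ∑ j, c j • (ε * π ^ (j : ℕ) * x) = 0) (j : Fin N) : c j = 0 := by
  by_contra hne
  obtain ⟨j₀, hj₀, hmin⟩ : ∃ j₀ : Fin N, c j₀ ≠ 0 ∧ ∀ l : Fin N, c l ≠ 0 → j₀ ≤ l := by
    have hS : (Finset.univ.filter fun l : Fin N => c l ≠ 0).Nonempty :=
      ⟨j, Finset.mem_filter.2 ⟨Finset.mem_univ _, hne⟩⟩
    obtain ⟨j₀, hj₀, hmin⟩ := Finset.exists_min_image _ id hS
    exact ⟨j₀, (Finset.mem_filter.1 hj₀).2,
      fun l hl => hmin l (Finset.mem_filter.2 ⟨Finset.mem_univ _, hl⟩)⟩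
  have h' := congrArg (fun z => π ^ (N - 1 - (j₀ : ℕ)) * z) h
  simp only [Finset.mul_sum, mul_zero, mul_smul_comm] at h'
  have e : ∀ l : Fin N, π ^ (N - 1 - (j₀ : ℕ)) * (ε * π ^ (l : ℕ) * x) =
      ε * π ^ (N - 1 - (j₀ : ℕ) + (l : ℕ)) * x := fun l => by
    rw [← mul_assoc, ← mul_assoc, ((L.ε_central π).pow_left _).eq, mul_assoc ε, ← pow_add]
  rw [Finset.sum_congr rfl fun l _ => by rw [e l], Finset.sum_eq_single j₀] at h'
  · rw [Nat.sub_add_cancel (by omega)] at h'
    exact hx ((smul_eq_zero.1 h').resolve_left hj₀)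
  · intro l _ hl
    by_cases hc : c l = 0
    · rw [hc, zero_smul]
    · have : (j₀ : ℕ) < l := lt_of_le_of_ne (hmin l hc) fun e => hl (Fin.ext e.symm)
      rw [L.π_pow_eq_zero (by omega), mul_zero, zero_mul, smul_zero]
  · exact fun hh => absurd (Finset.mem_univ _) hh

/-- A primitive idempotent generating the block, with polynomial corner. -/
structure Corner (ε π : MonoidAlgebra k H) (N : ℕ) where
  /-- the idempotent -/
  i : MonoidAlgebra k H
  idem : i * i = i
  εi : ε * i = i
  /-- the number of summands -/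
  m : ℕ
  /-- left factors -/
  x : Fin m → MonoidAlgebra k H
  /-- right factors -/
  y : Fin m → MonoidAlgebra k H
  sum_eq : ∑ l, x l * i * y l = ε
  top_ne : π ^ (N - 1) * i ≠ 0
  corner : ∀ a, ∃ c : Fin N → k, i * a * i = ∑ j, c j • (π ^ (j : ℕ) * i)

theorem Local.exists_corner (L : Local ε π N) : Nonempty (Corner ε π N) := by
  haveI := Fintype.ofFinite H
  haveI : Module.Finite k (MonoidAlgebra k H) := inferInstance
  have hε0 : ε ≠ 0 := fun h => L.π_top (by rw [h, zero_mul])
  -- the block as a module over itself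
  let W : Submodule k (MonoidAlgebra k H) := (LinearMap.mulLeft k ε).range
  have hWst : Stable (Algebra.lmul k (MonoidAlgebra k H)) W := by
    rintro a _ ⟨b, rfl⟩
    refine ⟨a * b, ?_⟩
    show ε * (a * b) = a * (ε * b)
    rw [← mul_assoc, ← mul_assoc, (L.ε_central a).eq]
  set ρW := subAct (Algebra.lmul k (MonoidAlgebra k H)) hWst with hρW
  have hρWε : ρW ε = 1 := by
    refine LinearMap.ext fun w => Subtype.ext ?_
    obtain ⟨b, hb⟩ := w.2
    show ε * (w : (MonoidAlgebra k H)) = (w : (MonoidAlgebra k H))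
    rw [← hb]
    show ε * (ε * b) = ε * b
    rw [← mul_assoc, L.ε_idem]
  obtain ⟨S, hSst, hS⟩ := exists_simp_sub ρW (v := ⟨ε, 1, mul_one _⟩)
    (fun h => hε0 (congrArg Subtype.val h))
  set σ := subAct ρW hSst with hσ
  have hσε : σ ε = 1 := LinearMap.ext fun w => Subtype.ext (by
    simp [σ, subAct_apply, hρWε])
  -- elements killing the irreducible module
  set n := Module.finrank k W
  have hnil : ∀ l : List (MonoidAlgebra k H), (∀ a ∈ l, σ a = 0) → n ≤ l.length → l.prod * ε = 0 := by
    intro l hl hlen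
    have h := prod_eq_zero ε (fun a => σ a = 0)
      (fun V _ _ _ τ hτ hτε a ha => L.uniq S V σ τ hS hτ hσε hτε a ha) n W ρW hρWε le_rfl l hl hlen
    exact congrArg Subtype.val (LinearMap.congr_fun h ⟨ε, 1, mul_one _⟩)
  have hn0 : 0 < n := Module.finrank_pos_iff_exists_ne_zero.2
    ⟨⟨ε, 1, mul_one _⟩, fun h => hε0 (congrArg Subtype.val h)⟩
  have hpow : ∀ a : (MonoidAlgebra k H), ε * a = a → σ a = 0 → a ^ n = 0 := by
    intro a ha hσa
    have h := hnil (List.replicate n a) (fun b hb => by rw [List.eq_of_mem_replicate hb, hσa])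
      (by simp)
    rw [List.prod_replicate] at h
    rw [← h, ((L.ε_central a).pow_left n).eq]
    obtain ⟨n', hn'⟩ := Nat.exists_eq_succ_of_ne_zero hn0.ne'
    rw [hn', pow_succ', ← mul_assoc, ha]
  have hσπ : σ π = 0 := by
    obtain ⟨c, hc⟩ := hS.schur (σ π) fun a => (L.π_central a).map σ
    have h1 : σ (π ^ N) = 0 := by rw [L.π_pow, map_zero]
    rw [map_pow, hc, smul_pow, one_pow] at h1
    obtain ⟨v, hv⟩ := hS.nontriv
    have := LinearMap.congr_fun h1 v
    simp only [LinearMap.smul_apply, Module.End.one_apply, LinearMap.zero_apply, smul_eq_zero,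
      hv, or_false, pow_eq_zero_iff L.hN.ne'] at this
    rw [hc, this, zero_smul]
  -- the idempotent
  obtain ⟨v, hv⟩ := hS.nontriv
  haveI : Module.Free k S := Module.Free.of_divisionRing k S
  obtain ⟨φ, hφ⟩ := Module.Projective.exists_dual_eq_one k hv
  set P : Module.End k S := φ.smulRight v
  have hPP : P * P = P := LinearMap.ext fun w => by simp [P, hφ]
  obtain ⟨e₀, he₀⟩ := hS.surjective P
  obtain ⟨e₁, he₁⟩ : ∃ e, e = ε * e₀ := ⟨_, rfl⟩
  have hσe₁ : σ e₁ = P := by rw [he₁, map_mul, hσε, one_mul, he₀]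
  have hεe₁ : ε * e₁ = e₁ := by rw [he₁, ← mul_assoc, L.ε_idem]
  have hr : (e₁ - e₁ * e₁) ^ n = 0 := hpow _ (by rw [mul_sub, hεe₁, ← mul_assoc, hεe₁])
    (by rw [map_sub, map_mul, hσe₁, hPP, sub_self])
  obtain ⟨q, hq⟩ : ∃ q : Polynomial k, q = (1 - (1 - Polynomial.X) ^ n) ^ n := ⟨_, rfl⟩
  obtain ⟨i, hi⟩ : ∃ i, i = Polynomial.aeval e₁ q := ⟨_, rfl⟩
  obtain ⟨q₁, hq₁⟩ : Polynomial.X ^ n ∣ q := by
    rw [hq]
    refine pow_dvd_pow_of_dvd ?_ n
    have h := sub_dvd_pow_sub_pow (1 : Polynomial k) (1 - Polynomial.X) n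
    rwa [sub_sub_cancel, one_pow] at h
  obtain ⟨q₂, hq₂⟩ : (1 - Polynomial.X) ^ n ∣ 1 - q := by
    have h := sub_dvd_pow_sub_pow (1 : Polynomial k) (1 - (1 - Polynomial.X) ^ n) n
    rwa [sub_sub_cancel, one_pow, ← hq] at h
  have hii : i * i = i := by
    have hP : q - q * q = (Polynomial.X - Polynomial.X * Polynomial.X) ^ n * (q₁ * q₂) := by
      calc q - q * q = q * (1 - q) := by ring
        _ = Polynomial.X ^ n * q₁ * ((1 - Polynomial.X) ^ n * q₂) := by rw [← hq₁, ← hq₂]
        _ = (Polynomial.X ^ n * (1 - Polynomial.X) ^ n) * (q₁ * q₂) := by ring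
        _ = _ := by rw [← mul_pow]; ring
    have h1 := congrArg (Polynomial.aeval e₁) hP
    simp only [map_sub, map_mul, map_pow, Polynomial.aeval_X, hr, zero_mul, sub_eq_zero,
      ← hi] at h1
    exact h1.symm
  have hεi : ε * i = i := by
    obtain ⟨n', hn'⟩ := Nat.exists_eq_succ_of_ne_zero hn0.ne'
    rw [hi, hq₁, map_mul, map_pow, Polynomial.aeval_X, hn', pow_succ', ← mul_assoc, ← mul_assoc,
      hεe₁]
  have hσi : σ i = P := by
    have hpw : ∀ (T : Module.End k S), T * T = T → ∀ m, 0 < m → T ^ m = T := fun T hT m hm => by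
      induction m with
      | zero => omega
      | succ m ih =>
        rcases Nat.eq_zero_or_pos m with rfl | hm'
        · simp
        · rw [pow_succ, ih hm', hT]
    rw [hi, ← Polynomial.aeval_algHom_apply, hσe₁, hq, map_pow, map_sub, map_pow, map_sub,
      map_one, Polynomial.aeval_X, hpw (1 - P) (by simp [mul_sub, sub_mul, hPP]) n hn0,
      sub_sub_cancel, hpw P hPP n hn0]
  -- the idempotent generates
  have hspan : ε ∈ Submodule.span k {z : (MonoidAlgebra k H) | ∃ a b, z = a * i * b} := by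
    set I := Submodule.span k {z : (MonoidAlgebra k H) | ∃ a b, z = a * i * b}
    have hIr : ∀ z ∈ I, ∀ c, z * c ∈ I := by
      intro z hz c
      induction hz using Submodule.span_induction with
      | mem z hz =>
        obtain ⟨a, b, rfl⟩ := hz
        exact Submodule.subset_span ⟨a, b * c, by simp [mul_assoc]⟩
      | zero => simp
      | add _ _ _ _ h1 h2 => rw [add_mul]; exact I.add_mem h1 h2
      | smul r _ _ h => rw [smul_mul_assoc]; exact I.smul_mem r h
    have hrank : ∀ (ψ : Module.Dual k S) (w : S), ∃ c ∈ I, σ c = ψ.smulRight w := by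
      intro ψ w
      obtain ⟨a, ha⟩ := hS.exists_apply hv w
      obtain ⟨b, hb⟩ := hS.surjective (ψ.smulRight v)
      refine ⟨a * i * b, Submodule.subset_span ⟨a, b, rfl⟩, LinearMap.ext fun s => ?_⟩
      simp [hσi, hb, P, hφ, ha]
    have h1 : ∃ c ∈ I, σ c = 1 := by
      let B := Module.finBasis k S
      choose c hc hcσ using fun l => hrank (B.coord l) (B l)
      refine ⟨∑ l, c l, I.sum_mem fun l _ => hc l, B.ext fun m => ?_⟩
      rw [map_sum, Finset.sum_congr rfl fun l _ => hcσ l]
      simp [Finsupp.single_apply]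
    obtain ⟨c, hc, hσc⟩ := h1
    have hεc : ε * c ∈ I := (L.ε_central c).eq ▸ hIr c hc ε
    obtain ⟨ν, hν⟩ : ∃ ν, ν = ε - ε * c := ⟨_, rfl⟩
    have hνn : ν ^ n = 0 := hpow ν (by rw [hν, mul_sub, ← mul_assoc, L.ε_idem])
      (by rw [hν, map_sub, map_mul, hσc, hσε, one_mul, sub_self])
    have hkey : ε = ε * c * ∑ j ∈ Finset.range n, ν ^ j := by
      have h2 : (1 - ν) * ∑ j ∈ Finset.range n, ν ^ j = 1 := by
        rw [mul_neg_geom_sum, hνn, sub_zero]
      have h3 : ε * (1 - ν) = ε * c := by
        rw [hν, mul_sub, mul_one, mul_sub, ← mul_assoc, L.ε_idem, sub_sub_cancel]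
      calc ε = ε * ((1 - ν) * ∑ j ∈ Finset.range n, ν ^ j) := by rw [h2, mul_one]
        _ = _ := by rw [← mul_assoc, h3]
    rw [hkey]
    exact hIr _ hεc _
  obtain ⟨m, f, g, hfg⟩ := Submodule.mem_span_set'.1 hspan
  choose a b hab using fun l => (g l).2
  have hsum : ∑ l, (f l • a l) * i * b l = ε := by
    rw [← hfg]
    exact Finset.sum_congr rfl fun l _ => by rw [hab, smul_mul_assoc, smul_mul_assoc]
  obtain ⟨x, hx⟩ : ∃ x, x = fun l => f l • a l := ⟨_, rfl⟩
  have hsum : ∑ l, x l * i * b l = ε := by rw [hx]; exact hsum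
  have htop : π ^ (N - 1) * i ≠ 0 := fun h => L.π_top <| by
    calc ε * π ^ (N - 1) = π ^ (N - 1) * ε := ((L.π_central ε).pow_right _).eq
      _ = ∑ l, π ^ (N - 1) * (x l * i * b l) := by rw [← Finset.mul_sum, hsum]
      _ = ∑ l, x l * (π ^ (N - 1) * i) * b l := Finset.sum_congr rfl fun l _ => by
          rw [← mul_assoc, ← mul_assoc, ← ((L.π_central (x l)).pow_right _).eq, mul_assoc (x l)]
      _ = 0 := by simp [h]
  refine ⟨⟨i, hii, hεi, m, x, b, hsum, htop, ?_⟩⟩
  -- the corner
  let Λ : Submodule k (MonoidAlgebra k H) := LinearMap.range ((LinearMap.mulLeft k i).comp (LinearMap.mulRight k i))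
  have hΛ : ∀ z, z ∈ Λ ↔ ∃ c, z = i * c * i := fun z => by
    constructor
    · rintro ⟨c, rfl⟩
      exact ⟨c, show i * (c * i) = i * c * i by rw [mul_assoc]⟩
    · rintro ⟨c, rfl⟩
      exact ⟨c, show i * (c * i) = i * c * i by rw [mul_assoc]⟩
  have hiΛ : i ∈ Λ := (hΛ i).2 ⟨1, by rw [mul_one, hii]⟩
  have hΛmul : ∀ u ∈ Λ, ∀ w ∈ Λ, u * w ∈ Λ := by
    intro u hu w hw
    obtain ⟨c, rfl⟩ := (hΛ u).1 hu
    obtain ⟨d, rfl⟩ := (hΛ w).1 hw
    exact (hΛ _).2 ⟨c * (i * i) * d, by simp [mul_assoc]⟩
  have hΛi : ∀ u ∈ Λ, i * u = u ∧ u * i = u := by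
    intro u hu
    obtain ⟨c, rfl⟩ := (hΛ u).1 hu
    exact ⟨by rw [← mul_assoc, ← mul_assoc, hii], by rw [mul_assoc, hii]⟩
  let g₀ : (MonoidAlgebra k H) →ₗ[k] k := φ.comp ((LinearMap.applyₗ v).comp σ.toLinearMap)
  have hg₀ : ∀ u ∈ Λ, σ u = g₀ u • P := by
    intro u hu
    obtain ⟨c, rfl⟩ := (hΛ u).1 hu
    refine LinearMap.ext fun w => ?_
    show σ (i * c * i) w = φ (σ (i * c * i) v) • P w
    simp [hσi, P, hφ, smul_smul, mul_comm]
  let J : Submodule k (MonoidAlgebra k H) := Λ ⊓ LinearMap.ker σ.toLinearMap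
  have hJsplit : ∀ u ∈ Λ, u - g₀ u • i ∈ J := fun u hu =>
    ⟨Λ.sub_mem hu (Λ.smul_mem _ hiΛ), by
      show σ (u - g₀ u • i) = 0
      rw [map_sub, map_smul, hσi, ← hg₀ u hu, sub_self]⟩
  let Q : Submodule k (MonoidAlgebra k H) := Λ.map (LinearMap.mulLeft k π)
  have hJJ : J ≤ Q ⊔ J * J := by
    by_contra hc
    obtain ⟨j, hj, hjK⟩ := SetLike.not_le_iff_exists.1 hc
    obtain ⟨g, hgj, hgK⟩ := Submodule.exists_dual_map_eq_bot_of_notMem hjK inferInstance
    have hgK' : ∀ z ∈ Q ⊔ J * J, g z = 0 := fun z hz => by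
      have : g z ∈ (Q ⊔ J * J).map g := ⟨z, hz, rfl⟩
      simpa [hgK] using this
    -- every functional killing `Q ⊔ J * J` is a multiple of one of them
    have key : ∀ g : (MonoidAlgebra k H) →ₗ[k] k, (∀ z ∈ Q ⊔ J * J, g z = 0) →
        ∃ c : k, ∀ u ∈ Λ, g u = c * (ε * π ^ (N - 1) * u).coeff 1 := by
      intro g hg
      have hsymm : ∀ u ∈ Λ, ∀ w ∈ Λ, g (u * w) = g (w * u) := by
        intro u hu w hw
        rw [← sub_eq_zero, ← map_sub]
        have e : u * w - w * u = (u - g₀ u • i) * (w - g₀ w • i) -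
            (w - g₀ w • i) * (u - g₀ u • i) := by
          simp only [sub_mul, mul_sub, smul_mul_assoc, mul_smul_comm, (hΛi u hu).1, (hΛi u hu).2,
            (hΛi w hw).1, (hΛi w hw).2, hii, smul_sub, smul_smul, mul_comm (g₀ w) (g₀ u)]
          abel
        rw [e]
        exact hg _ (Submodule.mem_sup_right (Submodule.sub_mem _
          (Submodule.mul_mem_mul (hJsplit u hu) (hJsplit w hw))
          (Submodule.mul_mem_mul (hJsplit w hw) (hJsplit u hu))))
      let f : (MonoidAlgebra k H) →ₗ[k] k := ∑ l, g.comp ((LinearMap.mulLeft k (i * b l)).comp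
        (LinearMap.mulRight k (x l * i)))
      have hf : ∀ c, f c = ∑ l, g (i * b l * c * (x l * i)) := fun c => by
        simp [f, mul_assoc]
      have hmemΛ : ∀ (l l' : Fin m) (c : (MonoidAlgebra k H)), i * b l * c * (x l' * i) ∈ Λ := fun l l' c =>
        (hΛ _).2 ⟨b l * c * x l', by simp [mul_assoc]⟩
      have hεfix : ∀ (c : (MonoidAlgebra k H)), c * i = c * (ε * i) := fun c => by rw [hεi]
      have hfsymm : ∀ c d, f (c * d) = f (d * c) := by
        have expand : ∀ c d, f (c * d) = ∑ l, ∑ l',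
            g ((i * b l * c * (x l' * i)) * (i * b l' * d * (x l * i))) := by
          intro c d
          rw [hf]
          refine Finset.sum_congr rfl fun l _ => ?_
          rw [← map_sum]
          congr 1
          calc i * b l * (c * d) * (x l * i) = i * b l * c * (ε * (d * (x l * i))) := by
                rw [← mul_assoc ε, ← (L.ε_central d).eq, mul_assoc d, ← mul_assoc ε,
                  ← (L.ε_central (x l)).eq, mul_assoc (x l), hεi]
                simp [mul_assoc]
            _ = _ := by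
                rw [← hsum, Finset.sum_mul, Finset.mul_sum]
                refine Finset.sum_congr rfl fun l' _ => ?_
                simp only [mul_assoc]
                simp only [← mul_assoc i i, hii]
        intro c d
        rw [expand, expand, Finset.sum_comm]
        exact Finset.sum_congr rfl fun l _ => Finset.sum_congr rfl fun l' _ =>
          hsymm _ (hmemΛ _ _ _) _ (hmemΛ _ _ _)
      set z₀ : (MonoidAlgebra k H) := ofFun fun h => f (MonoidAlgebra.single h⁻¹ 1)
      have hz₀ : ∀ c, (z₀ * c).coeff 1 = f c := by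
        intro c
        rw [coeff_mul_group]
        have hc : c = ∑ h : H, c.coeff h • MonoidAlgebra.single h 1 := by
          ext h; simp [Finsupp.single_apply]
        conv_rhs => rw [hc, map_sum]
        refine Fintype.sum_equiv (Equiv.inv H) _ _ fun h => ?_
        simp only [z₀, coeff_ofFun, Equiv.inv_apply, map_smul, smul_eq_mul, inv_inv, mul_one]
        exact mul_comm _ _
      have hz₀c : ∀ a, Commute a z₀ := fun a => Subalgebra.mem_center_iff.1
        (mem_center_iff_conjFixed z₀ |>.2 fun u _ h => by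
          simp only [z₀, coeff_ofFun]
          rw [show MonoidAlgebra.single (u * h * u⁻¹)⁻¹ (1 : k) =
            MonoidAlgebra.single u 1 * (MonoidAlgebra.single h⁻¹ 1 * MonoidAlgebra.single u⁻¹ 1) by
              simp [mul_assoc], hfsymm, mul_assoc]
          simp) a
      have hπz : π * z₀ = 0 := by
        refine MonoidAlgebra.ext (Finsupp.ext fun h => ?_)
        have : (π * z₀).coeff h = f (π * MonoidAlgebra.single h⁻¹ 1) := by
          rw [← hz₀, ← mul_assoc, ← (hz₀c π).eq, coeff_mul_single_group]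
          simp
        rw [this, hf]
        simp only [MonoidAlgebra.coeff_zero, Finsupp.coe_zero, Pi.zero_apply]
        refine Finset.sum_eq_zero fun l _ => hg _ (Submodule.mem_sup_left ?_)
        refine ⟨i * b l * MonoidAlgebra.single h⁻¹ 1 * (x l * i), hmemΛ _ _ _, ?_⟩
        show π * _ = _
        simp only [← mul_assoc]
        rw [← (L.π_central i).eq, mul_assoc i π, ← (L.π_central (b l)).eq, ← mul_assoc]
      obtain ⟨c, hc⟩ := L.centre (ε * z₀)
        (fun a => (L.ε_central a).mul_right (hz₀c a)) (by rw [← mul_assoc, L.ε_idem])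
      have hlast : ε * z₀ = c ⟨N - 1, by have := L.hN; omega⟩ • (ε * π ^ (N - 1)) := by
        rw [hc]
        refine Finset.sum_eq_single (⟨N - 1, by have := L.hN; omega⟩ : Fin N) (fun j _ hj => ?_)
          (fun h => absurd (Finset.mem_univ _) h)
        have hjN : (j : ℕ) + 1 < N := by
          have := j.2
          have : (j : ℕ) ≠ N - 1 := fun e => hj (Fin.ext e)
          omega
        have h0 : ∑ j : Fin N, c j • (ε * π ^ ((j : ℕ) + 1) * 1) = 0 := by
          have h1 : π * (ε * z₀) = 0 := by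
            rw [← mul_assoc, (L.ε_central π).eq, mul_assoc, hπz, mul_zero]
          rw [hc, Finset.mul_sum] at h1
          rw [← h1]
          refine Finset.sum_congr rfl fun j _ => ?_
          rw [mul_smul_comm, mul_one, pow_succ', ← mul_assoc π, (L.ε_central π).eq, mul_assoc]
        -- shift the coefficients
        let c' : Fin N → k := fun l => if hl : 0 < (l : ℕ) then c ⟨(l : ℕ) - 1, by omega⟩ else 0
        have h2 : ∑ l : Fin N, c' l • (ε * π ^ (l : ℕ) * 1) = 0 := by
          rw [← h0]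
          refine Finset.sum_bij_ne_zero (fun l _ hl => (⟨(l : ℕ) - 1, by omega⟩ : Fin N))
            (fun _ _ _ => Finset.mem_univ _) ?_ ?_ ?_
          · intro l₁ _ h₁ l₂ _ h₂ he
            have e := congrArg Fin.val he
            simp only at e
            have p₁ : 0 < (l₁ : ℕ) := Nat.pos_of_ne_zero fun e0 => h₁ (by simp [c', e0])
            have p₂ : 0 < (l₂ : ℕ) := Nat.pos_of_ne_zero fun e0 => h₂ (by simp [c', e0])
            exact Fin.ext (by omega)
          · intro l' _ hl'
            have : (l' : ℕ) + 1 < N := by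
              by_contra hge
              exact hl' (by rw [L.π_pow_eq_zero (by omega), mul_zero, zero_mul, smul_zero])
            refine ⟨⟨(l' : ℕ) + 1, this⟩, Finset.mem_univ _, ?_, Fin.ext (by simp)⟩
            simpa [c'] using hl'
          · intro l _ hl
            have p₁ : 0 < (l : ℕ) := Nat.pos_of_ne_zero fun e0 => hl (by simp [c', e0])
            simp [c', p₁, Nat.sub_add_cancel p₁]
        have := L.coeff_eq_zero (x := 1) (by simpa using L.π_top) h2 ⟨(j : ℕ) + 1, hjN⟩
        simp only [c', Nat.zero_lt_succ, dif_pos] at this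
        rw [show j = (⟨(j : ℕ) + 1 - 1, by omega⟩ : Fin N) from Fin.ext (by simp), this, zero_smul]
      refine ⟨c ⟨N - 1, by have := L.hN; omega⟩, fun u hu => ?_⟩
      have hfu : f u = g u := by
        rw [hf]
        have e : ∀ l, g (i * b l * u * (x l * i)) = g (u * (i * x l * i * (i * b l * i))) := by
          intro l
          rw [show i * b l * u * (x l * i) = (i * b l * i) * (u * (i * x l * i)) by
            conv_lhs => rw [← (hΛi u hu).1, ← (hΛi u hu).2]
            simp [mul_assoc]]
          rw [hsymm _ ((hΛ _).2 ⟨b l, rfl⟩) _ (hΛmul _ hu _ ((hΛ _).2 ⟨x l, rfl⟩)), mul_assoc]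
        rw [Finset.sum_congr rfl fun l _ => e l, ← map_sum, ← Finset.mul_sum]
        congr 1
        have : ∑ l, i * x l * i * (i * b l * i) = i * ε * i := by
          rw [← hsum, Finset.mul_sum, Finset.sum_mul]
          refine Finset.sum_congr rfl fun l _ => ?_
          simp only [mul_assoc]
          rw [← mul_assoc i i, hii]
        rw [this, mul_assoc, hεi, hii, (hΛi u hu).2]
      have hεu : ε * u = u := by
        obtain ⟨d, rfl⟩ := (hΛ u).1 hu
        rw [← mul_assoc, ← mul_assoc, hεi]
      rw [← hfu, ← hz₀]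
      calc (z₀ * u).coeff 1 = (ε * z₀ * u).coeff 1 := by
            rw [← (L.ε_central z₀).eq, mul_assoc, hεu]
        _ = _ := by rw [hlast, smul_mul_assoc]; simp
    obtain ⟨c₀, hc₀⟩ := key g₀ (by
      intro z hz
      obtain ⟨z₁, hz₁, z₂, hz₂, rfl⟩ := Submodule.mem_sup.1 hz
      obtain ⟨u, -, rfl⟩ := hz₁
      have h2 : σ z₂ = 0 := by
        refine Submodule.mul_induction_on hz₂ (fun y hy w _ => ?_) (fun y w h h' => ?_)
        · rw [map_mul, show σ y = 0 from hy.2, zero_mul]
        · rw [map_add, h, h', add_zero]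
      show φ (σ (π * u + z₂) v) = 0
      simp [map_mul, hσπ, h2])
    obtain ⟨c₁, hc₁⟩ := key g hgK'
    have hc₀0 : c₀ ≠ 0 := fun e => by
      have h := hc₀ i hiΛ
      rw [e, zero_mul] at h
      exact one_ne_zero (α := k) (by simpa [g₀, hσi, P, hφ] using h)
    have h1 : g₀ j = 0 := by
      show φ (σ j v) = 0
      rw [show σ j = 0 from hj.2]
      simp
    rw [hc₀ j hj.1, mul_eq_zero] at h1
    rw [hc₁ j hj.1, h1.resolve_left hc₀0, mul_zero] at hgj
    exact hgj rfl
  have hQJ : ∀ m : ℕ, 0 < m → Q * J ^ m ≤ Q := by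
    intro m hm
    rw [Submodule.mul_le]
    rintro _ ⟨u, hu, rfl⟩ w hw
    refine ⟨u * w, hΛmul u hu w ?_, by simp [mul_assoc]⟩
    have : ∀ m : ℕ, 0 < m → J ^ m ≤ Λ := by
      intro m hm
      induction m with
      | zero => omega
      | succ m ih =>
        rcases Nat.eq_zero_or_pos m with rfl | hm'
        · rw [pow_one]; exact inf_le_left
        · rw [pow_succ, Submodule.mul_le]
          exact fun y hy w hw => hΛmul y (ih hm' hy) w hw.1
    exact this m hm hw
  have hJQ : ∀ m : ℕ, 2 ≤ m → J ≤ Q ⊔ J ^ m := by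
    intro m hm
    induction m, hm using Nat.le_induction with
    | base => rwa [pow_two]
    | succ m hm ih =>
      refine ih.trans (sup_le le_sup_left ?_)
      obtain ⟨m', rfl⟩ : ∃ m', m = m' + 1 := ⟨m - 1, by omega⟩
      calc J ^ (m' + 1) = J * J ^ m' := pow_succ' J m'
        _ ≤ (Q ⊔ J * J) * J ^ m' := Submodule.mul_le.2 fun y hy w hw => Submodule.mul_mem_mul (hJJ hy) hw
        _ = Q * J ^ m' ⊔ J * J * J ^ m' := Submodule.sup_mul _ _ _
        _ ≤ _ := sup_le_sup (hQJ m' (by omega)) (le_of_eq (by rw [mul_assoc, ← pow_succ', ← pow_succ']))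
  have hJn : ∀ m, ∀ z ∈ J ^ m, ∀ l : List (MonoidAlgebra k H), (∀ a ∈ l, σ a = 0) → n ≤ m + l.length →
      z * l.prod * ε = 0 := by
    intro m
    induction m with
    | zero =>
      intro z hz l hl hlen
      rw [pow_zero, Submodule.one_eq_range] at hz
      obtain ⟨c, rfl⟩ := hz
      rw [mul_assoc, hnil l hl (by simpa using hlen), mul_zero]
    | succ m ih =>
      intro z hz
      rw [pow_succ] at hz
      induction hz using Submodule.mul_induction_on' with
      | mem_mul_mem y hy w hw =>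
        intro l hl hlen
        have := ih y hy (w :: l) (fun a ha => by
          rcases List.mem_cons.1 ha with rfl | ha
          · exact hw.2
          · exact hl a ha) (by simp only [List.length_cons]; omega)
        rw [List.prod_cons, ← mul_assoc] at this
        exact this
      | add _ _ _ _ h h' =>
        intro l hl hlen
        rw [add_mul, add_mul, h l hl hlen, h' l hl hlen, add_zero]
  have hJle : J ≤ Q := by
    refine (hJQ (n + 2) (by omega)).trans (sup_le le_rfl fun z hz => ?_)
    have h0 := hJn _ z hz [] (by simp) (by simp)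
    rw [List.prod_nil, mul_one] at h0
    have hzε : z * ε = z := by
      have hle : J ^ (n + 2) ≤ Λ := by
        rw [pow_succ, Submodule.mul_le]
        intro y hy w hw
        have : ∀ m, 0 < m → J ^ m ≤ Λ := by
          intro m hm
          induction m with
          | zero => omega
          | succ m ih =>
            rcases Nat.eq_zero_or_pos m with rfl | hm'
            · rw [pow_one]; exact inf_le_left
            · rw [pow_succ, Submodule.mul_le]
              exact fun y hy w hw => hΛmul y (ih hm' hy) w hw.1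
        exact hΛmul y (this _ (by omega) hy) w hw.1
      obtain ⟨d, hd⟩ := (hΛ z).1 (hle hz)
      rw [hd, mul_assoc, (L.ε_central i).eq, hεi]
    rw [hzε] at h0
    rw [h0]
    exact Q.zero_mem
  -- iterate
  have hiter : ∀ (j : ℕ) (u : (MonoidAlgebra k H)), u ∈ Λ → ∃ c : ℕ → k, ∃ w ∈ Λ,
      u = (∑ l ∈ Finset.range j, c l • (π ^ l * i)) + π ^ j * w := by
    intro j
    induction j with
    | zero => exact fun u hu => ⟨0, u, hu, by simp⟩
    | succ j ih =>
      intro u hu
      obtain ⟨c, w, hw, rfl⟩ := ih u hu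
      obtain ⟨w', hw', hww⟩ := hJle (hJsplit w hw)
      refine ⟨Function.update c j (g₀ w), w', hw', ?_⟩
      have hw2 : w = g₀ w • i + π * w' := by
        rw [show π * w' = w - g₀ w • i from hww]; abel
      have hupd : ∀ l ∈ Finset.range j, Function.update c j (g₀ w) l • (π ^ l * i) =
          c l • (π ^ l * i) := fun l hl => by
        rw [Function.update_of_ne (Finset.mem_range.1 hl).ne]
      rw [Finset.sum_range_succ, Function.update_self, Finset.sum_congr rfl hupd]
      conv_lhs => rw [hw2]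
      rw [mul_add, mul_smul_comm, ← mul_assoc, ← pow_succ]
      abel
  intro a
  obtain ⟨c, w, -, hc⟩ := hiter N (i * a * i) ((hΛ _).2 ⟨a, rfl⟩)
  refine ⟨fun j => c j, ?_⟩
  rw [hc, L.π_pow, zero_mul, add_zero]
  exact (Fin.sum_univ_eq_sum_range (fun l => c l • (π ^ l * i)) N).symm

/-- An element of the block killed by `π` is a multiple of the top power. -/
theorem Corner.ann_eq (C : Corner ε π N) (L : Local ε π N) {a : MonoidAlgebra k H}
    (hεa : ε * a = a) (hπa : π * a = 0) : ∃ b, a = π ^ (N - 1) * b := by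
  haveI := Fintype.ofFinite H
  have key : ∀ l l', ∃ c : k, C.i * (C.y l * a * C.x l') * C.i = c • (π ^ (N - 1) * C.i) := by
    intro l l'
    obtain ⟨c, hc⟩ := C.corner (C.y l * a * C.x l')
    have hlast : ∀ j : Fin N, (j : ℕ) ≠ N - 1 → c j = 0 := by
      intro j hj
      have h0 : π * (C.i * (C.y l * a * C.x l') * C.i) = 0 := by
        simp only [← mul_assoc]
        rw [← (L.π_central C.i).eq, mul_assoc C.i π, ← (L.π_central (C.y l)).eq,
          mul_assoc C.i, mul_assoc (C.y l), hπa]
        simp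
      rw [hc, Finset.mul_sum] at h0
      induction hjn : (j : ℕ) using Nat.strong_induction_on generalizing j with
      | _ jn ih =>
        have h1 := congrArg (fun z => π ^ (N - 2 - (j : ℕ)) * z) h0
        simp only [Finset.mul_sum, mul_zero, mul_smul_comm] at h1
        rw [Finset.sum_eq_single j] at h1
        · rw [← mul_assoc, ← mul_assoc, ← pow_succ, ← pow_add,
            show N - 2 - (j : ℕ) + 1 + (j : ℕ) = N - 1 by have := j.2; omega] at h1
          exact (smul_eq_zero.1 h1).resolve_right C.top_ne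
        · intro q _ hq
          rcases lt_or_gt_of_ne (fun e => hq (Fin.ext e) : (q : ℕ) ≠ j) with hlt | hgt
          · rw [ih q (hjn ▸ hlt) q (by have := j.2; omega) rfl, zero_smul]
          · rw [← mul_assoc, ← mul_assoc, ← pow_succ, ← pow_add,
              L.π_pow_eq_zero (by have := q.2; omega), zero_mul, smul_zero]
        · exact fun h => absurd (Finset.mem_univ _) h
    refine ⟨c ⟨N - 1, by have := L.hN; omega⟩, ?_⟩
    rw [hc]
    exact Finset.sum_eq_single (⟨N - 1, by have := L.hN; omega⟩ : Fin N)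
      (fun j _ hj => by rw [hlast j fun e => hj (Fin.ext e), zero_smul])
      (fun h => absurd (Finset.mem_univ _) h)
  choose c hc using key
  refine ⟨∑ l, ∑ l', c l l' • (C.x l * C.i * C.y l'), ?_⟩
  calc a = (∑ l, C.x l * C.i * C.y l) * a * ∑ l, C.x l * C.i * C.y l := by
        rw [C.sum_eq, hεa, (L.ε_central a).eq, hεa]
    _ = ∑ l, ∑ l', C.x l * (C.i * (C.y l * a * C.x l') * C.i) * C.y l' := by
        simp only [Finset.sum_mul, Finset.mul_sum, mul_assoc]
        rw [Finset.sum_comm]
    _ = _ := by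
        simp only [Finset.mul_sum]
        refine Finset.sum_congr rfl fun l _ => Finset.sum_congr rfl fun l' _ => ?_
        rw [hc, mul_smul_comm, smul_mul_assoc, mul_smul_comm, ← mul_assoc (C.x l),
          ((L.π_central (C.x l)).pow_right _).eq, mul_assoc, mul_assoc, mul_assoc]

end CfsgLib.Blk83.Cyc
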