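import Cfsg.Agent.Lib.Blk83.CyclicBound
import Cfsg.Agent.Lib.Blk83.CyclicModel
import Cfsg.Agent.Lib.BlockRank.NilpotentAbelian
import Cfsg.Agent.Lib.Blocks.Pairs.PPrimeKernel

/-!
The centre of a block with cyclic defect group and trivial inertial quotient is a truncated
polynomial ring, and the block has one irreducible module.
-/

set_option autoImplicit false

open scoped Classical

namespace CfsgLib.Blk83.Cyc

open Cfsg CfsgLib.Blocks CfsgLib.Blocks.Pairs

set_option maxSynthPendingDepth 4

universe u v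

section General

variable {F : Type v} [Field F] {G : Type u} [Group G] [Finite G] {p : ℕ} [Fact p.Prime] [CharP F p]

omit [Fact p.Prime] [CharP F p] in
theorem trunc_smul' (P : Subgroup G) (c : F) (a : MonoidAlgebra F G) :
    trunc P (c • a) = c • trunc P a := by
  ext x
  by_cases hx : x ∈ Subgroup.centralizer (P : Set G) <;> simp [hx]

omit [Fact p.Prime] [CharP F p] in
theorem conjA_single' (n s : G) (r : F) :
    conjA n (MonoidAlgebra.single s r) = MonoidAlgebra.single (n * s * n⁻¹) r := by
  ext y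
  rw [coeff_conjA, MonoidAlgebra.coeff_single, MonoidAlgebra.coeff_single, Finsupp.single_apply,
    Finsupp.single_apply]
  refine if_congr ?_ rfl rfl
  constructor
  · intro h; rw [h]; group
  · intro h; rw [← h]; group

omit [Fact p.Prime] [CharP F p] in
/-- A normalizer-invariant element supported on classes of defect `Q` comes from the centre. -/
theorem exists_center_trunc_eq [Fact p.Prime] {Q : Subgroup G} {S : MonoidAlgebra F G}
    (hfix : ConjFixed (Subgroup.normalizer (Q : Set G)) S)
    (hS : ∀ c, S.coeff c ≠ 0 → IsCentSylow p c Q) :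
    ∃ a, InCenter (⊤ : Subgroup G) a ∧ trunc Q a = S := by
  have key : ∀ c d : G, S.coeff c ≠ 0 → IsCentSylow p d Q → IsConj d c → S.coeff d = S.coeff c := by
    intro c d hc hd hdc
    obtain ⟨n, hn, rfl⟩ := exists_normalizer_conj hd (hS c hc) hdc
    exact (hfix n hn d).symm
  let a : MonoidAlgebra F G := ofFun fun g =>
    if h : ∃ c, S.coeff c ≠ 0 ∧ IsConj g c then S.coeff (Classical.choose h) else 0
  have ha : ∀ g c, S.coeff c ≠ 0 → IsConj g c → a.coeff g = S.coeff c := by
    intro g c hc hgc
    have h : ∃ c, S.coeff c ≠ 0 ∧ IsConj g c := ⟨c, hc, hgc⟩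
    simp only [a, coeff_ofFun, dif_pos h]
    obtain ⟨hc', hgc'⟩ := Classical.choose_spec h
    exact key c _ hc (hS _ hc') (hgc'.symm.trans hgc)
  have ha0 : ∀ g, (∀ c, S.coeff c ≠ 0 → ¬ IsConj g c) → a.coeff g = 0 := by
    intro g hg
    simp only [a, coeff_ofFun]
    rw [dif_neg]
    rintro ⟨c, h1, h2⟩
    exact hg c h1 h2
  refine ⟨a, ⟨fun x hx => absurd trivial hx, fun u _ x => ?_⟩, ?_⟩
  · have hu : IsConj x (u * x * u⁻¹) := isConj_iff.mpr ⟨u, rfl⟩
    by_cases h : ∃ c, S.coeff c ≠ 0 ∧ IsConj x c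
    · obtain ⟨c, hc, hxc⟩ := h
      rw [ha x c hc hxc, ha _ c hc (hu.symm.trans hxc)]
    · push Not at h
      rw [ha0 x h, ha0 _ fun c hc hcon => h c hc (hu.trans hcon)]
  · ext x
    rw [coeff_trunc]
    by_cases hx : x ∈ Subgroup.centralizer (Q : Set G)
    · rw [if_pos hx]
      by_cases h : ∃ c, S.coeff c ≠ 0 ∧ IsConj x c
      · obtain ⟨c, hc, hxc⟩ := h
        rw [ha x c hc hxc]
        have hcs := hS c hc
        refine (key c x hc ?_ hxc).symm
        refine isCentSylow_of_card (le_centralizer_singleton_iff.mpr hx) ?_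
        rw [hcs.card, card_centralizer_eq_of_isConj hxc]
      · push Not at h
        rw [ha0 x h]
        by_contra h0
        exact h x (Ne.symm h0) (IsConj.refl x)
    · rw [if_neg hx]
      by_contra h0
      exact hx (hS x (Ne.symm h0)).mem_centralizer

/-- Above a pair without extension every stabilizer-invariant element of the block lifts to the
centre. -/
theorem exists_center_of_pairStab_fixed {Q : Subgroup G} {f w : MonoidAlgebra F G}
    (hf : IsPair p Q f) (hmax : NoExt p Q f)
    (hw : SuppIn (Subgroup.centralizer (Q : Set G)) w) (hfw : f * w = w)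
    (hst : ∀ n ∈ pairStab Q f, conjA n w = w) :
    ∃ z, InCenter (⊤ : Subgroup G) z ∧ trunc Q z * f = w := by
  haveI := Fintype.ofFinite G
  rcases eq_or_ne w 0 with rfl | hw0
  · exact ⟨0, inCenter_zero _, by rw [trunc_zero, zero_mul]⟩
  set N := Subgroup.normalizer (Q : Set G) with hN
  let O : Finset (MonoidAlgebra F G) :=
    (Finset.univ.filter fun n : G => n ∈ N).image fun n => conjA n w
  have hO : ∀ h, h ∈ O ↔ ∃ n ∈ N, conjA n w = h := fun h => by simp [O]
  have hOst : ∀ u ∈ N, ∀ h ∈ O, conjA u h ∈ O := by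
    intro u hu h hh
    obtain ⟨n, hn, rfl⟩ := (hO h).1 hh
    exact (hO _).2 ⟨u * n, mul_mem hu hn, (conjA_conjA u n w).symm⟩
  have hOS : ∀ h ∈ O, SuppIn (Subgroup.centralizer (Q : Set G)) h := by
    intro h hh y hy
    obtain ⟨n, hn, rfl⟩ := (hO h).1 hh
    rw [coeff_conjA]
    refine hw _ fun hc => hy ?_
    have h1 := (conj_mem_centralizer_iff hn _).2 hc
    simpa [mul_assoc] using h1
  have hblk : ∀ n ∈ N, IsBlockIdem (Subgroup.centralizer (Q : Set G)) (conjA n f) := fun n hn =>
    block_of_mem_orbit hf (mem_orbit.mpr ⟨n, hn, rfl⟩)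
  -- the sum
  obtain ⟨S, hS⟩ : ∃ S, S = ∑ h ∈ O, h := ⟨_, rfl⟩
  have hSf : S * f = w := by
    rw [hS, Finset.sum_mul, Finset.sum_eq_single w]
    · rw [mul_comm_of_suppIn hw hf.block.mem.fixed, hfw]
    · intro h hh hne
      obtain ⟨n, hn, rfl⟩ := (hO h).1 hh
      by_cases he : conjA n f = f
      · exact absurd (hst n ⟨hn, he⟩) hne
      · have h1 : conjA n w = conjA n w * conjA n f := by
          rw [mul_comm_of_suppIn (hOS _ hh) (hblk n hn).mem.fixed, ← conjA_mul, hfw]
        rw [h1, mul_assoc, (hblk n hn).mul_eq_zero hf.block he, mul_zero]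
    · exact fun h => absurd ((hO w).2 ⟨1, one_mem _, conjA_one w⟩) h
  have hfix : ConjFixed N S := by
    rw [conjFixed_iff]
    intro u hu
    rw [hS, conjA_sum]
    refine Finset.sum_bij (fun g _ => conjA u g) (fun g hg => hOst u hu g hg)
      (fun a _ b _ h => conjA_injective u h) (fun g hg => ?_) (fun _ _ => rfl)
    exact ⟨conjA u⁻¹ g, hOst _ (inv_mem hu) g hg, by
      rw [conjA_conjA, mul_inv_cancel, conjA_one]⟩
  have hcs : ∀ c, S.coeff c ≠ 0 → IsCentSylow p c Q := by
    intro c hc
    have hcQ : c ∈ Subgroup.centralizer (Q : Set G) := by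
      by_contra h
      apply hc
      rw [hS, MonoidAlgebra.coeff_sum, Finset.sum_apply']
      exact Finset.sum_eq_zero fun g hg => hOS g hg c h
    refine isCentSylow_of_local hf.pgroup hcQ fun T hT hle hQT => ?_
    have hTc : c ∈ Subgroup.centralizer (T : Set G) :=
      le_centralizer_singleton_iff.mp (hle.trans inf_le_left)
    have hTN : T ≤ N := hle.trans inf_le_right
    have h1 : trunc T S ≠ 0 := fun h0 => hc (by
      have := congrArg (fun z : MonoidAlgebra F G => z.coeff c) h0
      simpa [hTc] using this)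
    rw [hS, trunc_sum_fixed hT O fun u hu g hg => hOst u (hTN hu) g hg] at h1
    obtain ⟨g, hg, hg0⟩ := Finset.exists_ne_zero_of_sum_ne_zero h1
    obtain ⟨hgO, hgfix⟩ := Finset.mem_filter.mp hg
    obtain ⟨n, hn, hng⟩ := (hO g).1 hgO
    have hgne : g ≠ 0 := fun h => hg0 (by rw [h, trunc_zero])
    have hmulg : conjA n f * g = g := by rw [← hng, ← conjA_mul, hfw]
    have hffix : ConjFixed T (conjA n f) := by
      rw [conjFixed_iff]
      intro u hu
      by_contra hne
      have h2 : conjA u (conjA n f) * g = g := by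
        conv_lhs => rw [← conjFixed_iff.1 hgfix u hu]
        rw [← conjA_mul, hmulg, conjFixed_iff.1 hgfix u hu]
      apply hgne
      rw [← h2, ← hmulg, ← mul_assoc, conjA_conjA,
        (hblk (u * n) (mul_mem (hTN hu) hn)).mul_eq_zero (hblk n hn) (by rwa [← conjA_conjA]),
        zero_mul]
    obtain ⟨hi1, hi2⟩ := trunc_idem hT hQT (hblk n hn).mem hffix (hblk n hn).idem
    have hne0 : trunc T (conjA n f) ≠ 0 := fun h0 => hg0 (by
      rw [← hmulg, trunc_mul hT hffix hgfix, h0, zero_mul])
    obtain ⟨e, he, hge⟩ := exists_blockIdem_mul hi1 hi2 hne0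
    have hns : NS p Q (conjA n f) T e :=
      ⟨⟨hf.pgroup, hblk n hn⟩, ⟨hT, he⟩, hQT, hTN, hffix, hge⟩
    have h2 := hns.conj n⁻¹
    rw [conjA_inv_conjA, conjSub_eq_of_mem_normalizer (Subgroup.inv_mem _ hn)] at h2
    have h3 := hmax _ _ h2
    apply (Subgroup.eq_of_le_of_card_ge hQT _).symm
    rw [← card_map_conj n⁻¹ T]
    exact (congrArg (fun K : Subgroup G => Nat.card K) h3).le
  obtain ⟨a, ha, hat⟩ := exists_center_trunc_eq hfix hcs
  exact ⟨a, ha, by rw [hat, hSf]⟩

end General

variable {G : Type u} [Group G] [Finite G] {p : ℕ} [Fact p.Prime] {M : Ideal AlgInt} [M.IsMaximal]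
  [CharP (ResField M) p]

local notation "k" => ResField M

/-- The translates of a block idempotent by a `p`-subgroup it centralizes are independent. -/
theorem linearIndependent_translates (hM : IsPModular p M) {P : Subgroup G}
    {e : MonoidAlgebra k G} (he : IsPair p P e) :
    LinearIndependent k (fun s : P => MonoidAlgebra.single (s : G) 1 * e) := by
  haveI := Fintype.ofFinite P
  obtain ⟨c, hc⟩ : ∃ c, e.coeff c ≠ 0 := by
    by_contra h
    push Not at h
    exact he.block.ne_zero (by ext x; simp [h x])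
  have hcC : c ∈ Subgroup.centralizer (P : Set G) := by
    by_contra h
    exact hc (he.block.mem.supp c h)
  have hcr : ¬ p ∣ orderOf c := fun h =>
    hc (coeff_eq_zero_of_singular hM he.block.mem he.block.idem h)
  have hsing : ∀ t ∈ P, t ≠ 1 → e.coeff (t * c) = 0 := by
    intro t ht ht1
    refine coeff_eq_zero_of_singular hM he.block.mem he.block.idem ?_
    by_contra hp
    apply ht1
    have hcomm : Commute t c := Subgroup.mem_centralizer_iff.1 hcC t ht
    have h1 : t ^ (orderOf (t * c) * orderOf c) = 1 := by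
      have h2 : (t * c) ^ (orderOf (t * c) * orderOf c) = 1 := by
        rw [pow_mul, pow_orderOf_eq_one, one_pow]
      rw [hcomm.mul_pow] at h2
      rwa [pow_mul' c, pow_orderOf_eq_one, one_pow, mul_one] at h2
    obtain ⟨j, hj⟩ := he.pgroup ⟨t, ht⟩
    have h3 : t ^ p ^ j = 1 := congrArg Subtype.val hj
    have hcop : Nat.Coprime (orderOf (t * c) * orderOf c) (p ^ j) :=
      Nat.Coprime.pow_right j (Nat.Coprime.mul_left
        ((Nat.Prime.coprime_iff_not_dvd Fact.out).2 hp).symm
        ((Nat.Prime.coprime_iff_not_dvd Fact.out).2 hcr).symm)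
    exact orderOf_eq_one_iff.1 (Nat.eq_one_of_dvd_coprimes hcop
      (orderOf_dvd_of_pow_eq_one h1) (orderOf_dvd_of_pow_eq_one h3))
  rw [Fintype.linearIndependent_iff]
  intro g hg s₀
  have h := congrArg (fun z : MonoidAlgebra k G => z.coeff ((s₀ : G) * c)) hg
  simp only [MonoidAlgebra.coeff_sum, Finset.sum_apply', MonoidAlgebra.coeff_smul,
    Finsupp.smul_apply, coeff_single_mul_group, one_mul, smul_eq_mul, MonoidAlgebra.coeff_zero,
    Finsupp.coe_zero, Pi.zero_apply] at h
  rw [Finset.sum_eq_single s₀] at h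
  · rw [inv_mul_cancel_left] at h
    exact (mul_eq_zero.1 h).resolve_right hc
  · intro s _ hs
    rw [← mul_assoc, hsing _ (mul_mem (inv_mem s.2) s₀.2) (fun h1 => hs (Subtype.ext
      (inv_mul_eq_one.1 h1))), mul_zero]
  · exact fun h => absurd (Finset.mem_univ _) h

/-- A bundled finite-dimensional module of the group algebra. -/
structure ModPack (M : Ideal AlgInt) [M.IsMaximal] (G : Type u) [Group G] where
  /-- the space -/
  carrier : Type u
  [addCommGroup : AddCommGroup carrier]
  [module : Module (ResField M) carrier]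
  [finite : FiniteDimensional (ResField M) carrier]
  /-- the action -/
  act : MonoidAlgebra (ResField M) G →ₐ[ResField M] Module.End (ResField M) carrier

attribute [instance] ModPack.addCommGroup ModPack.module ModPack.finite

/-- One irreducible module in a block of rank one. -/
theorem uniq_of_blockRank_one (hM : IsPModular p M) {B : Set (IrrCharacter G)} (hB : IsPBlock M B)
    (hl : Cfsg.blockRank p B = 1) (V W : Type u) [AddCommGroup V] [Module k V]
    [FiniteDimensional k V] [AddCommGroup W] [Module k W] [FiniteDimensional k W]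
    (σ : MonoidAlgebra k G →ₐ[k] Module.End k V) (τ : MonoidAlgebra k G →ₐ[k] Module.End k W)
    (hσ : Simp σ) (hτ : Simp τ) (hσe : σ (ebar hB) = 1) (hτe : τ (ebar hB) = 1) :
    ∀ a, σ a = 0 → τ a = 0 := by
  by_contra hc
  have hnoiso : IsEmpty {φ : V ≃ₗ[k] W // ∀ a v, φ (σ a v) = τ a (φ v)} := ⟨fun φ => by
    apply hc
    intro a ha
    refine LinearMap.ext fun w => ?_
    obtain ⟨v, rfl⟩ := φ.1.surjective w
    rw [← φ.2, ha]
    simp⟩
  have hnoiso' : IsEmpty {φ : W ≃ₗ[k] V // ∀ a v, φ (τ a v) = σ a (φ v)} := ⟨fun φ =>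
    hnoiso.false ⟨φ.1.symm, fun a v => φ.1.injective (by simp [φ.2])⟩⟩
  let P : Bool → ModPack M G := fun b => bif b then ⟨V, σ⟩ else ⟨W, τ⟩
  have h := card_simples_le hM hB (fun b => (P b).act) (fun b => by cases b; exacts [hτ, hσ]) (fun i j hij => by
    cases i <;> cases j
    · exact absurd rfl hij
    · exact hnoiso'
    · exact hnoiso
    · exact absurd rfl hij) (fun b => by cases b; exacts [hτe, hσe])
  rw [hl, Fintype.card_bool] at h
  omega

/-- **The centre of a block with cyclic defect group and trivial inertial quotient.** -/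
theorem exists_local (hM : IsPModular p M) {B : Set (IrrCharacter G)} (hB : IsPBlock M B)
    {P : Subgroup G} {e : MonoidAlgebra k G} (hP : PairOf p (ebar hB) P e) (hno : NoExt p P e)
    (hcyc : IsCyclic P) (htriv : pairStab P e ≤ Subgroup.centralizer (P : Set G)) :
    ∃ π, Local (ebar hB) π (Nat.card P) := by
  haveI := Fintype.ofFinite P
  letI : CommGroup P := IsCyclic.commGroup
  have hab : ∀ x ∈ P, ∀ y ∈ P, x * y = y * x := fun x hx y hy =>
    congrArg Subtype.val (mul_comm (⟨x, hx⟩ : P) ⟨y, hy⟩)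
  obtain ⟨hl, hk⟩ := BlockRank.rankOne_of_trivial_inertial hM hB hP hno hab htriv
  have hp : p.Prime := Fact.out
  have hpP := hP.pair.pgroup
  have he := hP.pair.block
  -- the map to the Brauer quotient
  have hcen : ∀ z : blockCentre hB, InCenter (⊤ : Subgroup G) (z : MonoidAlgebra k G) := fun z =>
    inCenter_top_iff.2 z.2.1
  let Φ : blockCentre hB →ₗ[k] MonoidAlgebra k G :=
    { toFun := fun z => trunc P (z : MonoidAlgebra k G) * e
      map_add' := fun a b => by rw [Submodule.coe_add, trunc_add, add_mul]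
      map_smul' := fun c z => by
        rw [Submodule.coe_smul, trunc_smul', smul_mul_assoc, RingHom.id_apply] }
  have hmemB : ∀ {z}, InCenter (⊤ : Subgroup G) z → ebar hB * z ∈ blockCentre hB := fun {z} hz =>
    ⟨inCenter_top_iff.1 ((isBlockIdem_ebar hB).mem.mul hz),
      by rw [← mul_assoc, (isBlockIdem_ebar hB).idem]⟩
  have hmul : ∀ a b : MonoidAlgebra k G, InCenter (⊤ : Subgroup G) a → InCenter (⊤ : Subgroup G) b →
      trunc P (a * b) * e = (trunc P a * e) * (trunc P b * e) := by
    intro a b ha hb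
    rw [trunc_mul hpP (ha.conjFixed_top _) (hb.conjFixed_top _), mul_assoc (trunc P a) e,
      ← mul_assoc e, ← mul_comm_of_suppIn (trunc_suppIn P b) he.mem.fixed, mul_assoc _ e e,
      he.idem, ← mul_assoc]
  -- lifting the translates
  have hlift : ∀ s : P, ∃ z : blockCentre hB, Φ z = MonoidAlgebra.single (s : G) 1 * e := by
    intro s
    have hs : (s : G) ∈ Subgroup.centralizer (P : Set G) :=
      Subgroup.mem_centralizer_iff.2 fun q hq => hab q hq s s.2
    have hsupp : SuppIn (Subgroup.centralizer (P : Set G))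
        (MonoidAlgebra.single (s : G) (1 : k)) := fun x hx => by
      rw [MonoidAlgebra.coeff_single, Finsupp.single_eq_of_ne]
      rintro rfl
      exact hx hs
    obtain ⟨z, hz, hzt⟩ := exists_center_of_pairStab_fixed hP.pair hno (hsupp.mul he.mem.supp)
      (by rw [← mul_assoc, ← mul_comm_of_suppIn hsupp he.mem.fixed, mul_assoc, he.idem])
      (fun n hn => by
        rw [conjA_mul, hn.2, conjA_single']
        congr 2
        rw [← Subgroup.mem_centralizer_iff.1 (htriv hn) s s.2, mul_inv_cancel_right])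
    refine ⟨⟨_, hmemB hz⟩, ?_⟩
    show trunc P (ebar hB * z) * e = _
    rw [hmul _ _ (isBlockIdem_ebar hB).mem hz, hP.br, hzt]
    rw [← mul_assoc, ← mul_comm_of_suppIn hsupp he.mem.fixed, mul_assoc, he.idem]
  choose ζ hζ using hlift
  have hζli : LinearIndependent k ζ := by
    refine LinearIndependent.of_comp Φ ?_
    rw [show (Φ : blockCentre hB → MonoidAlgebra k G) ∘ ζ =
      fun s : P => MonoidAlgebra.single (s : G) 1 * e from funext hζ]
    exact linearIndependent_translates hM hP.pair
  have hcardle : Module.finrank k (blockCentre hB) ≤ Fintype.card P := by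
    refine (finrank_blockCentre_le hB).trans ?_
    rw [hk, Nat.card_eq_fintype_card]
  haveI : FiniteDimensional k (MonoidAlgebra k G) := finiteDimensional_monoidAlgebra
  have hcardeq : Module.finrank k (blockCentre hB) = Fintype.card P :=
    le_antisymm hcardle hζli.fintype_card_le_finrank
  have hspan := hζli.span_eq_top_of_card_eq_finrank' hcardeq.symm
  have hinj : Function.Injective Φ := by
    rw [← LinearMap.ker_eq_bot, eq_bot_iff]
    intro z hz
    obtain ⟨c, rfl⟩ := (Submodule.mem_span_range_iff_exists_fun k).1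
      (hspan ▸ Submodule.mem_top : z ∈ Submodule.span k (Set.range ζ))
    rw [LinearMap.mem_ker, map_sum] at hz
    simp only [map_smul, hζ] at hz
    have hc := Fintype.linearIndependent_iff.1 (linearIndependent_translates hM hP.pair) c hz
    simp [hc]
  -- the generator
  obtain ⟨y, hy⟩ := IsCyclic.exists_generator (α := P)
  obtain ⟨η, hηdef⟩ : ∃ η : blockCentre hB, η = ⟨ebar hB,
    inCenter_top_iff.1 (isBlockIdem_ebar hB).mem, (isBlockIdem_ebar hB).idem⟩ := ⟨_, rfl⟩
  have hηe : Φ η = e := by rw [hηdef]; exact hP.br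
  obtain ⟨π, hπdef⟩ : ∃ π : blockCentre hB, π = ζ y - η := ⟨_, rfl⟩
  have hπc : InCenter (⊤ : Subgroup G) (π : MonoidAlgebra k G) := hcen π
  have hΦπ : trunc P (π : MonoidAlgebra k G) * e = (MonoidAlgebra.single (y : G) 1 - 1) * e := by
    show Φ π = _
    rw [hπdef, map_sub, hζ, hηe, sub_mul, one_mul]
  have hεpow : ∀ j, ebar hB * (π : MonoidAlgebra k G) ^ j ∈ blockCentre hB := fun j => hmemB (by
    induction j with
    | zero => rw [pow_zero]; exact inCenter_one _
    | succ j ih => rw [pow_succ]; exact ih.mul hπc)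
  have hΦpow : ∀ j, trunc P (ebar hB * (π : MonoidAlgebra k G) ^ j) * e =
      (MonoidAlgebra.single (y : G) 1 - 1) ^ j * e := by
    intro j
    induction j with
    | zero => rw [pow_zero, mul_one, pow_zero, one_mul]; exact hP.br
    | succ j ih =>
      have hcom : Commute (MonoidAlgebra.single (y : G) (1 : k) - 1) e := by
        refine Commute.sub_left ?_ (Commute.one_left _)
        refine mul_comm_of_suppIn (fun x hx => ?_) he.mem.fixed
        rw [MonoidAlgebra.coeff_single, Finsupp.single_eq_of_ne]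
        rintro rfl
        exact hx (Subgroup.mem_centralizer_iff.2 fun q hq => hab q hq y y.2)
      rw [pow_succ, ← mul_assoc, hmul _ _ (hcen ⟨_, hεpow j⟩) hπc, ih, hΦπ, pow_succ,
        mul_assoc (_ ^ j) e, ← mul_assoc e, ← hcom.eq, mul_assoc _ e e, he.idem, ← mul_assoc]
  obtain ⟨a, ha⟩ := IsPGroup.iff_card.1 hpP
  obtain ⟨N, hNdef⟩ : ∃ N, N = Nat.card P := ⟨_, rfl⟩
  have hπε : ebar hB * (π : MonoidAlgebra k G) = π := π.2.2
  have hzero : ebar hB * (π : MonoidAlgebra k G) ^ N = 0 := by
    have h : Φ ⟨_, hεpow N⟩ = 0 := by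
      show trunc P (ebar hB * (π : MonoidAlgebra k G) ^ N) * e = 0
      haveI : CharP (MonoidAlgebra k G) p :=
        charP_of_injective_algebraMap (algebraMap k (MonoidAlgebra k G)).injective p
      rw [hΦpow, hNdef, ha, sub_pow_char_pow_of_commute p a (Commute.one_right _),
        MonoidAlgebra.single_pow, one_pow, one_pow]
      have hy1 : (y : G) ^ p ^ a = 1 := by
        rw [← ha, ← SubgroupClass.coe_pow, pow_card_eq_one', OneMemClass.coe_one]
      rw [hy1, ← MonoidAlgebra.one_def, sub_self, zero_mul]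
    have := hinj (h.trans (map_zero Φ).symm)
    exact congrArg Subtype.val this
  have hNpos : 0 < N := hNdef ▸ Nat.card_pos
  have hπN : (π : MonoidAlgebra k G) ^ N = 0 := by
    obtain ⟨N', rfl⟩ := Nat.exists_eq_succ_of_ne_zero hNpos.ne'
    rw [pow_succ'] at hzero ⊢
    rwa [← mul_assoc, hπε] at hzero
  -- the powers span
  obtain ⟨U, hU⟩ : ∃ U : Submodule k (MonoidAlgebra k G), U = Submodule.span k
    (Set.range fun j : Fin N => ebar hB * (π : MonoidAlgebra k G) ^ (j : ℕ)) := ⟨_, rfl⟩
  have hUj : ∀ j, ebar hB * (π : MonoidAlgebra k G) ^ j ∈ U := by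
    intro j
    by_cases hj : j < N
    · exact hU ▸ Submodule.subset_span ⟨⟨j, hj⟩, rfl⟩
    · rw [← Nat.sub_add_cancel (not_lt.1 hj), pow_add, hπN, mul_zero, mul_zero]
      exact zero_mem _
  have hUπ : ∀ u ∈ U, u * (π : MonoidAlgebra k G) ∈ U := by
    intro u hu
    rw [hU] at hu ⊢
    induction hu using Submodule.span_induction with
    | mem x hx =>
      obtain ⟨j, rfl⟩ := hx
      rw [mul_assoc, ← pow_succ, ← hU]
      exact hUj _
    | zero => rw [zero_mul]; exact zero_mem _
    | add x y _ _ hx hy => rw [add_mul]; exact add_mem hx hy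
    | smul c x _ hx => rw [smul_mul_assoc]; exact Submodule.smul_mem _ c hx
  have hεU : ∀ u ∈ U, u * ebar hB = u := by
    intro u hu
    rw [hU] at hu
    induction hu using Submodule.span_induction with
    | mem x hx =>
      obtain ⟨j, rfl⟩ := hx
      show ebar hB * (π : MonoidAlgebra k G) ^ (j : ℕ) * ebar hB = _
      rw [mul_assoc, Subalgebra.mem_center_iff.1
        (inCenter_top_iff.1 (isBlockIdem_ebar hB).mem) ((π : MonoidAlgebra k G) ^ (j : ℕ)),
        ← mul_assoc, (isBlockIdem_ebar hB).idem]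
    | zero => exact zero_mul _
    | add x y _ _ hx hy => rw [add_mul, hx, hy]
    | smul c x _ hx => rw [smul_mul_assoc, hx]
  have hgen : ∀ i : ℕ, ((ebar hB + π) ^ i * ebar hB ∈ U) := by
    intro i
    induction i with
    | zero =>
      rw [pow_zero, one_mul]
      simpa using hUj 0
    | succ i ih =>
      have hcm : Commute ((ebar hB + π : MonoidAlgebra k G)) (ebar hB) :=
        (hcen ⟨_, inCenter_top_iff.1 (isBlockIdem_ebar hB).mem, (isBlockIdem_ebar hB).idem⟩)
          |> inCenter_top_iff.1 |> fun h => (Subalgebra.mem_center_iff.1 h _)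
      rw [pow_succ, mul_assoc, hcm.eq, ← mul_assoc, mul_add]
      refine add_mem ?_ (hUπ _ ih)
      rw [hεU _ ih]
      exact ih
  have hpowC : ∀ i : ℕ, InCenter (⊤ : Subgroup G) ((ebar hB + π : MonoidAlgebra k G) ^ i) := by
    intro i
    induction i with
    | zero => rw [pow_zero]; exact inCenter_one _
    | succ j ih => rw [pow_succ]; exact ih.mul ((isBlockIdem_ebar hB).mem.add hπc)
  have hpowimg : ∀ i : ℕ, trunc P ((ebar hB + π : MonoidAlgebra k G) ^ i * ebar hB) * e =
      MonoidAlgebra.single ((y : G) ^ i) 1 * e := by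
    intro i
    induction i with
    | zero => rw [pow_zero, one_mul, hP.br, pow_zero, ← MonoidAlgebra.one_def, one_mul]
    | succ j ih =>
      rw [pow_succ', mul_assoc, hmul _ _ ((isBlockIdem_ebar hB).mem.add hπc)
        ((hpowC j).mul (isBlockIdem_ebar hB).mem), ih, trunc_add, add_mul, hP.br, hΦπ,
        sub_mul, one_mul, add_sub_cancel, pow_succ',
        mul_assoc, ← mul_assoc e, ← mul_comm_of_suppIn (fun x hx => ?_) he.mem.fixed,
        mul_assoc _ e e, he.idem, ← mul_assoc, MonoidAlgebra.single_mul_single, mul_one]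
      rw [MonoidAlgebra.coeff_single, Finsupp.single_eq_of_ne]
      rintro rfl
      exact hx (Subgroup.mem_centralizer_iff.2 fun q hq => hab q hq _ (pow_mem y.2 j))
  have hcomU : ∀ z : blockCentre hB, (z : MonoidAlgebra k G) ∈ U := by
    intro z
    have : z ∈ Submodule.comap (blockCentre hB).subtype U := by
      have hle : Submodule.span k (Set.range ζ) ≤ Submodule.comap (blockCentre hB).subtype U := by
        rw [Submodule.span_le]
        rintro _ ⟨s, rfl⟩
        obtain ⟨i, rfl⟩ := (Submonoid.mem_powers_iff _ _).1 (mem_powers_iff_mem_zpowers.2 (hy s))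
        have hmem : (ebar hB + π : MonoidAlgebra k G) ^ i * ebar hB ∈ blockCentre hB := by
          rw [(hpowC i).mul_comm (isBlockIdem_ebar hB).mem]
          exact hmemB (hpowC i)
        have heq : Φ ⟨_, hmem⟩ = Φ (ζ (y ^ i)) := by
          rw [hζ, SubgroupClass.coe_pow]
          exact hpowimg i
        rw [SetLike.mem_coe, Submodule.mem_comap, ← hinj heq]
        exact hgen i
      exact hle (hspan ▸ Submodule.mem_top)
    exact this
  refine ⟨π, hNdef ▸ hNpos, ?_, ?_, (isBlockIdem_ebar hB).idem, hπε, hNdef ▸ hπN, ?_, ?_, ?_⟩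
  · exact fun a => Subalgebra.mem_center_iff.1 (inCenter_top_iff.1 (isBlockIdem_ebar hB).mem) a
  · exact fun a => Subalgebra.mem_center_iff.1 π.2.1 a
  · intro h0
    rw [← hNdef] at h0
    have hsub : (blockCentre hB : Submodule k (MonoidAlgebra k G)) ≤ Submodule.span k
        (Set.range fun j : Fin (N - 1) => ebar hB * (π : MonoidAlgebra k G) ^ (j : ℕ)) := by
      intro z hz
      refine (Submodule.span_le.2 ?_) (hU ▸ hcomU ⟨z, hz⟩)
      rintro _ ⟨j, rfl⟩
      by_cases hj : (j : ℕ) < N - 1
      · exact Submodule.subset_span ⟨⟨j, hj⟩, rfl⟩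
      · have : (j : ℕ) = N - 1 := by omega
        show ebar hB * (π : MonoidAlgebra k G) ^ (j : ℕ) ∈ _
        rw [this, h0]
        exact zero_mem _
    have h1 := (Submodule.finrank_mono hsub).trans (finrank_range_le_card _)
    rw [hcardeq, Fintype.card_fin, ← Nat.card_eq_fintype_card, ← hNdef] at h1
    omega
  · intro z hz hεz
    subst hNdef
    have hz' : z ∈ blockCentre hB := ⟨Subalgebra.mem_center_iff.2 hz, hεz⟩
    obtain ⟨c, hc⟩ := (Submodule.mem_span_range_iff_exists_fun k).1 (hU ▸ hcomU ⟨z, hz'⟩)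
    exact ⟨c, hc.symm⟩
  · intro V W _ _ _ _ _ _ σ τ
    exact uniq_of_blockRank_one hM hB hl V W σ τ

end CfsgLib.Blk83.Cyc
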