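import Cfsg.Agent.Lib.Blk83.CyclicTrace
import Cfsg.Agent.Lib.Blk83.CyclicPair

/-!
Conjugation on group algebras and on homomorphisms of actions; central elements as relative
traces from a defect group.
-/

set_option autoImplicit false

open scoped Classical

namespace CfsgLib.Blk83.Cyc

open CfsgLib.Blocks CfsgLib.Blocks.Pairs

set_option maxSynthPendingDepth 4

universe u

section Trans

variable {G : Type*} [Group G] [Finite G] {A : Type*} [AddCommGroup A]
variable (act : G →* AddMonoid.End A)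

/-- Transitivity of relative traces. -/
theorem relTr_trans {R D K : Subgroup G} (hRD : R ≤ D) (hDK : D ≤ K) {v : A}
    (hv : ∀ r ∈ R, act r v = v) :
    relTr act K R v = relTr act K D (relTr act D R v) := by
  let f : G ⧸ R → G ⧸ D := Subgroup.quotientMapOfLE hRD
  have hf : ∀ g : G, f (g : G ⧸ R) = (g : G ⧸ D) := fun g => rfl
  have hmap : ∀ q ∈ cosetsIn K R, f q ∈ cosetsIn K D := fun q hq => by
    obtain ⟨h, hh, rfl⟩ := mem_cosetsIn.1 hq
    exact mem_cosetsIn.2 ⟨h, hh, (hf h).symm⟩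
  unfold relTr
  rw [← Finset.sum_fiberwise_of_maps_to hmap]
  refine Finset.sum_congr rfl fun q' hq' => ?_
  obtain ⟨g, hg, rfl⟩ := mem_cosetsIn.1 hq'
  rw [cosetFam_mk act (v := ∑ q ∈ cosetsIn D R, cosetFam act v q)
    (fun d hd => act_relTr act hv hd), map_sum]
  symm
  refine Finset.sum_nbij' (fun r => g • r) (fun q => g⁻¹ • q) ?_ ?_ (fun r _ => inv_smul_smul g r)
    (fun q _ => smul_inv_smul g q) fun r _ => (cosetFam_smul act hv g r).symm
  · intro r hr
    obtain ⟨d, hd, rfl⟩ := mem_cosetsIn.1 hr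
    refine Finset.mem_filter.2 ⟨mem_cosetsIn.2 ⟨g * d, mul_mem hg (hDK hd), rfl⟩, ?_⟩
    rw [MulAction.Quotient.smul_coe, hf]
    exact QuotientGroup.eq.2 (by simpa using inv_mem hd)
  · intro q hq
    obtain ⟨hq, hfq⟩ := Finset.mem_filter.1 hq
    obtain ⟨h, hh, rfl⟩ := mem_cosetsIn.1 hq
    rw [hf, eq_comm, QuotientGroup.eq] at hfq
    exact mem_cosetsIn.2 ⟨g⁻¹ * h, hfq, rfl⟩

theorem relTr_neg (H D : Subgroup G) (v : A) : relTr act H D (-v) = -relTr act H D v := by
  simp [relTr, cosetFam, Finset.sum_neg_distrib]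

theorem relTr_add (H D : Subgroup G) (v w : A) :
    relTr act H D (v + w) = relTr act H D v + relTr act H D w := by
  simp [relTr, cosetFam, Finset.sum_add_distrib]

theorem relTr_zero (H D : Subgroup G) : relTr act H D (0 : A) = 0 := by
  simp [relTr, cosetFam]

/-- Traces from the trivial subgroup are traces from it to any smaller subgroup. -/
theorem trOne_le {H K : Subgroup G} (h : K ≤ H) {v : A} (hv : v ∈ trOne act H) :
    v ∈ trOne act K := by
  haveI := Fintype.ofFinite H
  haveI := Fintype.ofFinite K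
  obtain ⟨w, rfl⟩ := (mem_trOne_iff act).1 hv
  let F : G → A := fun x => act x w
  have h1 : ∑ x ∈ (Finset.univ.map (⟨Subtype.val, Subtype.val_injective⟩ : H ↪ G)), F x ∈
      trOne act K := by
    refine sum_mem_trOne act (X := G) ?_ ?_ fun x _ => ?_
    · intro k hk x hx
      obtain ⟨y, -, rfl⟩ := Finset.mem_map.1 hx
      exact Finset.mem_map.2 ⟨⟨k * (y : G), mul_mem (h hk) y.2⟩, Finset.mem_univ _, rfl⟩
    · intro k _ x _
      exact (act_act act k x w).symm
    · refine trOne_bot act (eq_bot_iff.2 fun g hg => ?_) _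
      have h2 : g * x = x := MulAction.mem_stabilizer_iff.1 hg.2
      exact Subgroup.mem_bot.2 (by simpa using h2)
  rw [Finset.sum_map] at h1
  exact h1

end Trans

section ConjAlg

variable (k : Type*) [Field k] {G : Type u} [Group G] [Finite G]

/-- Conjugation on the group algebra. -/
noncomputable def conjHom : G →* AddMonoid.End (MonoidAlgebra k G) where
  toFun g := AddMonoidHom.mk' (fun a => conjA g a) (conjA_add g)
  map_one' := AddMonoidHom.ext fun a => conjA_one a
  map_mul' g h := AddMonoidHom.ext fun a => (conjA_conjA g h a).symm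

@[simp] theorem conjHom_apply (g : G) (a : MonoidAlgebra k G) : conjHom k g a = conjA g a := rfl

variable {k}

theorem conjA_smul' (g : G) (c : k) (a : MonoidAlgebra k G) : conjA g (c • a) = c • conjA g a := by
  ext x; simp

theorem single_conj (g : G) (a : MonoidAlgebra k G) :
    MonoidAlgebra.single g 1 * a * MonoidAlgebra.single g⁻¹ 1 = conjA g a := by
  ext x
  rw [coeff_mul_single_group, coeff_single_mul_group, coeff_conjA]
  simp [mul_assoc]

/-- A central element all of whose classes have defect inside `D` is a trace from `D`. -/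
theorem exists_relTr_eq {p : ℕ} [Fact p.Prime] [CharP k p] {K D : Subgroup G} (hDK : D ≤ K)
    {a : MonoidAlgebra k G} (ha : InCenter K a)
    (h : ∀ c, a.coeff c ≠ 0 → ∀ R : Subgroup G, IsPGroup p R → R ≤ K →
      c ∈ Subgroup.centralizer (R : Set G) → ∃ x ∈ K, conjSub x R ≤ D) :
    ∃ a', ConjFixed D a' ∧ SuppIn K a' ∧ relTr (conjHom k) K D a' = a := by
  haveI := Fintype.ofFinite G
  induction hn : (Finset.univ.filter fun x : G => a.coeff x ≠ 0).card using Nat.strong_induction_on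
    generalizing a with
  | _ n ih =>
  by_cases h0 : ∃ c, a.coeff c ≠ 0
  swap
  · push Not at h0
    refine ⟨0, fun _ _ _ => by simp, fun _ _ => by simp, ?_⟩
    rw [relTr_zero]
    ext x
    simp [h0 x]
  obtain ⟨c₀, hc₀⟩ := h0
  have hc₀K : c₀ ∈ K := by
    by_contra hh
    exact hc₀ (ha.supp _ hh)
  obtain ⟨P₀⟩ : Nonempty (Sylow p (K ⊓ Subgroup.centralizer {c₀} : Subgroup G)) := inferInstance
  set R₀ : Subgroup G := (P₀ : Subgroup (K ⊓ Subgroup.centralizer {c₀} : Subgroup G)).map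
    (K ⊓ Subgroup.centralizer {c₀}).subtype with hR₀
  obtain ⟨x, hxK, hx⟩ := h c₀ hc₀ R₀ (P₀.2.map _)
    ((Subgroup.map_subtype_le _).trans inf_le_left)
    (le_centralizer_singleton_iff.1 ((Subgroup.map_subtype_le _).trans inf_le_right))
  obtain ⟨c, hcdef⟩ : ∃ c, c = x * c₀ * x⁻¹ := ⟨_, rfl⟩
  obtain ⟨R, hRdef⟩ : ∃ R, R = conjSub x R₀ := ⟨_, rfl⟩
  obtain ⟨S, hSdef⟩ : ∃ S, S = (K ⊓ Subgroup.centralizer {c} : Subgroup G) := ⟨_, rfl⟩
  have hcK : c ∈ K := hcdef ▸ mul_mem (mul_mem hxK hc₀K) (inv_mem hxK)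
  have hmapS : S = conjSub x (K ⊓ Subgroup.centralizer {c₀}) := by
    rw [hSdef]
    ext y
    rw [mem_conjSub, Subgroup.mem_inf, Subgroup.mem_inf, Subgroup.mem_centralizer_singleton_iff,
      Subgroup.mem_centralizer_singleton_iff, hcdef]
    refine and_congr ⟨fun hy => mul_mem (mul_mem (inv_mem hxK) hy) hxK,
      fun hy => by simpa [mul_assoc] using mul_mem (mul_mem hxK hy) (inv_mem hxK)⟩ ?_
    constructor
    · intro e
      calc x⁻¹ * y * x * c₀ = x⁻¹ * (y * (x * c₀ * x⁻¹)) * x := by group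
        _ = x⁻¹ * (x * c₀ * x⁻¹ * y) * x := by rw [e]
        _ = c₀ * (x⁻¹ * y * x) := by group
    · intro e
      calc y * (x * c₀ * x⁻¹) = x * ((x⁻¹ * y * x) * c₀) * x⁻¹ := by group
        _ = x * (c₀ * (x⁻¹ * y * x)) * x⁻¹ := by rw [e]
        _ = x * c₀ * x⁻¹ * y := by group
  have hRS : R ≤ S := by
    rw [hRdef, hmapS]
    exact conjSub_mono x (Subgroup.map_subtype_le _)
  have hidx : ¬ p ∣ R.relIndex S := by
    have h1 : R.relIndex S = R₀.relIndex (K ⊓ Subgroup.centralizer {c₀}) := by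
      rw [hRdef, hmapS]
      exact Subgroup.relIndex_map_map_of_injective _ _ (MulAut.conj x).injective
    rw [h1]
    have h2 : R₀.relIndex (K ⊓ Subgroup.centralizer {c₀}) =
        (P₀ : Subgroup (K ⊓ Subgroup.centralizer {c₀} : Subgroup G)).index := by
      rw [Subgroup.relIndex, hR₀, Subgroup.subgroupOf, Subgroup.comap_map_eq_self_of_injective]
      exact Subgroup.subtype_injective _
    rw [h2]
    exact P₀.not_dvd_index
  obtain ⟨W, hWdef⟩ : ∃ W, W = relTr (conjHom k) K R (MonoidAlgebra.single c (1 : k)) := ⟨_, rfl⟩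
  have hvfix : ∀ r ∈ R, conjHom k r (MonoidAlgebra.single c (1 : k)) = MonoidAlgebra.single c 1 := by
    intro r hr
    rw [conjHom_apply, conjA_single']
    have h1 : r ∈ K ⊓ Subgroup.centralizer {c} := hSdef ▸ hRS hr
    rw [Subgroup.mem_centralizer_singleton_iff.1 h1.2, mul_inv_cancel_right]
  have hWfix : ∀ u ∈ K, conjA u W = W := fun u hu => by
    rw [hWdef]; exact act_relTr (conjHom k) hvfix hu
  have hWc : W.coeff c = (R.relIndex S : k) := by
    rw [hWdef, relTr, MonoidAlgebra.coeff_sum, Finset.sum_apply', ← card_cosetsIn hRS]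
    have hsub : cosetsIn S R ⊆ cosetsIn K R := fun q hq => by
      obtain ⟨s, hs, rfl⟩ := mem_cosetsIn.1 hq
      rw [hSdef] at hs
      exact mem_cosetsIn.2 ⟨s, hs.1, rfl⟩
    rw [← Finset.sum_subset hsub, Finset.card_eq_sum_ones, Nat.cast_sum]
    · refine Finset.sum_congr rfl fun q hq => ?_
      obtain ⟨s, hs, rfl⟩ := mem_cosetsIn.1 hq
      rw [cosetFam_mk _ hvfix, conjHom_apply, conjA_single']
      rw [hSdef] at hs
      rw [Subgroup.mem_centralizer_singleton_iff.1 hs.2, mul_inv_cancel_right]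
      simp
    · intro q hq hqS
      obtain ⟨g, hg, rfl⟩ := mem_cosetsIn.1 hq
      rw [cosetFam_mk _ hvfix, conjHom_apply, conjA_single', MonoidAlgebra.coeff_single,
        Finsupp.single_eq_of_ne]
      intro e
      apply hqS
      refine mem_cosetsIn.2 ⟨g, hSdef ▸ ⟨hg, ?_⟩, rfl⟩
      exact Subgroup.mem_centralizer_singleton_iff.2 (eq_mul_inv_iff_mul_eq.1 e).symm
  have hWne : (R.relIndex S : k) ≠ 0 := by
    rw [Ne, CharP.cast_eq_zero_iff k p]; exact hidx
  have hWsupp : ∀ z, W.coeff z ≠ 0 → ∃ g ∈ K, g * c * g⁻¹ = z := by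
    intro z hz
    rw [hWdef, relTr, MonoidAlgebra.coeff_sum, Finset.sum_apply'] at hz
    obtain ⟨q, hq, hq0⟩ := Finset.exists_ne_zero_of_sum_ne_zero hz
    obtain ⟨g, hg, rfl⟩ := mem_cosetsIn.1 hq
    rw [cosetFam_mk _ hvfix, conjHom_apply, conjA_single', MonoidAlgebra.coeff_single] at hq0
    refine ⟨g, hg, ?_⟩
    by_contra e
    exact hq0 (Finsupp.single_eq_of_ne (Ne.symm e))
  obtain ⟨μ, hμ⟩ : ∃ μ : k, μ = a.coeff c / (R.relIndex S : k) := ⟨_, rfl⟩
  have hac : a.coeff c ≠ 0 := by rwa [hcdef, ha.fixed x hxK c₀]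
  have hWK : InCenter K W := by
    refine ⟨fun z hz => ?_, conjFixed_iff.2 hWfix⟩
    by_contra e
    obtain ⟨g, hg, rfl⟩ := hWsupp z e
    exact hz (mul_mem (mul_mem hg hcK) (inv_mem hg))
  have hsupp' : ∀ z, (a - μ • W).coeff z ≠ 0 → a.coeff z ≠ 0 := by
    intro z hz hz0
    apply hz
    by_cases hW0 : W.coeff z = 0
    · simp [hz0, hW0]
    · obtain ⟨g, hg, rfl⟩ := hWsupp z hW0
      rw [ha.fixed g hg c] at hz0
      exact absurd hz0 hac
  have hcz : (a - μ • W).coeff c = 0 := by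
    simp [hWc, hμ, div_mul_cancel₀ _ hWne]
  have ha' : InCenter K (a - μ • W) := by
    refine ha.sub ⟨fun z hz => by simp [hWK.supp z hz], conjFixed_iff.2 fun u hu => ?_⟩
    rw [conjA_smul', hWfix u hu]
  obtain ⟨a₁, ha₁fix, ha₁supp, ha₁⟩ := ih _ (by
    rw [← hn]
    apply Finset.card_lt_card
    rw [Finset.ssubset_iff_of_subset (fun z hz => Finset.mem_filter.2
      ⟨Finset.mem_univ _, hsupp' z (Finset.mem_filter.1 hz).2⟩)]
    exact ⟨c, Finset.mem_filter.2 ⟨Finset.mem_univ _, hac⟩, fun hh =>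
      (Finset.mem_filter.1 hh).2 hcz⟩) ha' (fun z hz => h z (hsupp' z hz)) rfl
  have hRD : R ≤ D := hRdef ▸ hx
  obtain ⟨w, hwdef⟩ : ∃ w, w = relTr (conjHom k) D R (MonoidAlgebra.single c (1 : k)) := ⟨_, rfl⟩
  have hw : ∀ d ∈ D, conjA d w = w := fun d hd => hwdef ▸ act_relTr (conjHom k) hvfix hd
  refine ⟨a₁ + μ • w, conjFixed_iff.2 fun d hd => ?_, fun z hz => ?_, ?_⟩
  · rw [conjA_add, conjA_smul', conjFixed_iff.1 ha₁fix d hd, hw d hd]
  · rw [MonoidAlgebra.coeff_add, Finsupp.add_apply, ha₁supp z hz, MonoidAlgebra.coeff_smul_apply]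
    have : w.coeff z = 0 := by
      rw [hwdef, relTr, MonoidAlgebra.coeff_sum, Finset.sum_apply']
      refine Finset.sum_eq_zero fun q hq => ?_
      obtain ⟨g, hg, rfl⟩ := mem_cosetsIn.1 hq
      rw [cosetFam_mk _ hvfix, conjHom_apply, conjA_single', MonoidAlgebra.coeff_single,
        Finsupp.single_eq_of_ne]
      rintro rfl
      exact hz (mul_mem (mul_mem (hDK hg) hcK) (inv_mem (hDK hg)))
    simp [this]
  · have hsm : relTr (conjHom k) K D (μ • w) = μ • relTr (conjHom k) K D w := by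
      rw [relTr, relTr, Finset.smul_sum]
      exact Finset.sum_congr rfl fun q _ => conjA_smul' _ _ _
    rw [relTr_add, ha₁, hsm, hwdef, ← relTr_trans (conjHom k) hRD hDK hvfix, ← hWdef]
    abel

end ConjAlg

section Hom

variable {k : Type*} [Field k] {G : Type u} [Group G]
variable {V S : Type*} [AddCommGroup V] [Module k V] [AddCommGroup S] [Module k S]

/-- Conjugation on linear maps between two representations. -/
noncomputable def homAct (τ : G →* Module.End k V) (σ : G →* Module.End k S) :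
    G →* AddMonoid.End (V →ₗ[k] S) where
  toFun g := AddMonoidHom.mk' (fun u => σ g ∘ₗ u ∘ₗ τ g⁻¹)
    (fun u v => LinearMap.ext fun x => by simp)
  map_one' := AddMonoidHom.ext fun u => LinearMap.ext fun x => by
    show σ 1 (u (τ 1⁻¹ x)) = u x
    simp
  map_mul' g h := AddMonoidHom.ext fun u => LinearMap.ext fun x => by
    show σ (g * h) (u (τ (g * h)⁻¹ x)) = σ g (σ h (u (τ h⁻¹ (τ g⁻¹ x))))
    simp [mul_inv_rev]

@[simp] theorem homAct_apply (τ : G →* Module.End k V) (σ : G →* Module.End k S) (g : G)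
    (u : V →ₗ[k] S) (x : V) : homAct τ σ g u x = σ g (u (τ g⁻¹ x)) := rfl

/-- The action of group elements in an action of the group algebra. -/
noncomputable def grp (σ : MonoidAlgebra k G →ₐ[k] Module.End k S) : G →* Module.End k S :=
  σ.toMonoidHom.comp (MonoidAlgebra.of k G)

theorem grp_apply (σ : MonoidAlgebra k G →ₐ[k] Module.End k S) (g : G) :
    grp σ g = σ (MonoidAlgebra.single g 1) := rfl

theorem grp_conjA [Finite G] (σ : MonoidAlgebra k G →ₐ[k] Module.End k S) (g : G)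
    (a : MonoidAlgebra k G) : homAct (grp σ) (grp σ) g (σ a) = σ (conjA g a) := by
  refine LinearMap.ext fun x => ?_
  rw [homAct_apply, grp_apply, grp_apply, ← single_conj g a, map_mul, map_mul]
  rfl

end Hom

end CfsgLib.Blk83.Cyc
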