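import Cfsg.Agent.Lib.BlockRank.NilpotentAbelian
import Cfsg.Agent.Lib.Blocks.Pairs.InducedPair
import Cfsg.Agent.Lib.Blocks.Pairs.SubTransport

/-!
The maximal Brauer pair attached to a block of `D C_G(D)`, and the subpairs at central subgroups
of `D`.
-/

set_option autoImplicit false
set_option maxHeartbeats 1000000
set_option synthInstance.maxHeartbeats 400000

open Cfsg CfsgLib.Blocks CfsgLib.Blocks.Pairs
open scoped Classical

namespace CfsgLib.Blk83

universe u

variable {G : Type u} [Group G] [Finite G] {p : ℕ} [Fact p.Prime] {M : Ideal AlgInt} [M.IsMaximal]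
  [CharP (ResField M) p]

/-- A block of `D C_G(D)` is a block of `C_G(D)`. -/
theorem isPair_eIn_of_eq_sup {D H : Subgroup G} (hD : IsPGroup p D)
    (hH : H = D ⊔ Subgroup.centralizer (D : Set G)) {b : Set (IrrCharacter H)}
    (hb : IsPBlock M b) : IsPair p D (eIn hb) := by
  set C := Subgroup.centralizer (D : Set G) with hC
  have hDH : D ≤ H := hH ▸ le_sup_left
  have hCH : C ≤ H := hH ▸ le_sup_right
  have hHN : H ≤ Subgroup.normalizer (D : Set G) :=
    hH ▸ sup_le Subgroup.le_normalizer (Subgroup.centralizer_le_normalizer _)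
  have hblk := isBlockIdem_eIn hb
  have hsupp := suppIn_centralizer_of_idem hD hDH hHN hblk.mem hblk.idem
  have hcen : InCenter C (eIn hb) := ⟨hsupp, hblk.mem.fixed.mono hCH⟩
  obtain ⟨e₀, he₀, hne⟩ : ∃ e₀, IsBlockIdem C e₀ ∧ eIn hb * e₀ ≠ 0 := by
    by_contra hc
    push Not at hc
    refine hblk.ne_zero ?_
    rw [← mul_one (eIn hb), ← sum_blks C, Finset.mul_sum]
    exact Finset.sum_eq_zero fun e he => hc e (mem_blks.1 he)
  have hfix : ConjFixed H e₀ := by
    refine conjFixed_iff.mpr fun h hh => ?_
    rw [hH] at hh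
    have key : D ⊔ C ≤ pairStab D e₀ := by
      refine sup_le (le_pairStab ⟨hD, he₀⟩) (centralizer_le_pairStab ⟨hD, he₀⟩)
    exact (key hh).2
  have hblk₀ := isBlockIdem_of_stable ⟨hD, he₀⟩ hDH hHN hCH hfix
  rw [hblk.eq_of_mul_ne_zero hblk₀ hne]
  exact ⟨hD, he₀⟩

/-- The block of `D C_G(D)` inducing `B` gives a Brauer pair of `B`. -/
theorem pairOf_of_induced (hM : IsPModular p M) {D H : Subgroup G} (hD : IsPGroup p D)
    (hH : H = D ⊔ Subgroup.centralizer (D : Set G)) {b : Set (IrrCharacter H)}
    {B : Set (IrrCharacter G)} (hB : IsPBlock M B) (hind : IsInducedBlock M H b B) :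
    PairOf p (ebar hB) D (eIn hind.1) := by
  have hpair := isPair_eIn_of_eq_sup hD hH hind.1
  refine ⟨isBlockIdem_ebar hB, hpair, ?_⟩
  set C := Subgroup.centralizer (D : Set G) with hC
  have hDH : D ≤ H := hH ▸ le_sup_left
  have hCH : C ≤ H := hH ▸ le_sup_right
  obtain ⟨ξ, hξ⟩ := IsPBlock.nonempty hind.1
  set x := resCenter H (blockIdem hB) with hx
  have hlam : lam M ξ x = 1 := by
    rw [hx, IsInducedBlock.lam_resCenter_blockIdem hind hB hξ, if_pos rfl]
  set z := x * blockIdem hind.1 - blockIdem hind.1 with hz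
  have hnil : IsNilpotent z := by
    refine isNilpotent_of_lam_eq_zero z fun ψ => ?_
    rw [hz, map_sub, map_mul, lam_blockIdem]
    by_cases hψ : ψ ∈ b
    · have : lam M ψ x = 1 := by
        rw [hx, IsInducedBlock.lam_resCenter_blockIdem hind hB hψ, if_pos rfl]
      simp [blockInd, hψ, this]
    · simp [blockInd, hψ]
  set w : MonoidAlgebra (ResField M) G := up H (z : MonoidAlgebra (ResField M) H) with hw
  have hxtr : trunc D (up H (x : MonoidAlgebra (ResField M) H)) = trunc D (ebar hB) := by
    ext g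
    by_cases hg : g ∈ C
    · simp [trunc, up, hg, hCH hg, hx, ebar]
    · rw [trunc_suppIn D _ g hg, trunc_suppIn D _ g hg]
  have hfixX : ConjFixed D (up H (x : MonoidAlgebra (ResField M) H)) :=
    (inCenter_up (inCenter_top_iff.mpr x.2)).fixed.mono (by simpa using hDH)
  have hfixb : ConjFixed D (eIn hind.1) := (isBlockIdem_eIn hind.1).mem.fixed.mono hDH
  have hfixB : ConjFixed D (ebar hB) := (inCenter_top_iff.mpr (blockIdem hB).2).conjFixed_top D
  have htb : trunc D (eIn hind.1) = eIn hind.1 := trunc_eq_self hpair.block.mem.supp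
  have hwtr : trunc D w = trunc D (ebar hB) * eIn hind.1 - eIn hind.1 := by
    have e1 : w + eIn hind.1 = up H (x : MonoidAlgebra (ResField M) H) * eIn hind.1 := by
      rw [hw, eIn, ← up_mul]
      ext g
      simp only [up, MonoidAlgebra.coeff_add, Finsupp.add_apply, coeff_ofFun]
      split_ifs with hg
      · rw [hz, AddSubgroupClass.coe_sub, MulMemClass.coe_mul, MonoidAlgebra.coeff_sub,
          Finsupp.sub_apply]
        simp [ebar]
      · simp
    have e2 := congrArg (trunc D) e1
    rw [trunc_add, trunc_mul hD hfixX hfixb, hxtr, htb] at e2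
    exact eq_sub_of_add_eq e2
  have hpow : ∀ n : ℕ, trunc D (up H ((z : MonoidAlgebra (ResField M) H) ^ (n + 1))) =
      (trunc D w) ^ (n + 1) := by
    have hfix : ∀ n : ℕ, ConjFixed D (up H ((z : MonoidAlgebra (ResField M) H) ^ n)) := fun n =>
      (inCenter_up (inCenter_top_iff.mpr (pow_mem z.2 n))).fixed.mono (by simpa using hDH)
    intro n
    induction n with
    | zero => simp [hw]
    | succ n ih =>
      rw [pow_succ, up_mul, trunc_mul hD (hfix _) (by simpa using hfix 1), ih, ← hw,
        ← pow_succ]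
  obtain ⟨n, hn⟩ := hnil
  have hzero : (trunc D w) ^ (n + 1) = 0 := by
    rw [← hpow, show (z : MonoidAlgebra (ResField M) H) ^ (n + 1) = 0 from by
      have := congrArg Subtype.val (show z ^ (n + 1) = 0 by rw [pow_succ, hn, zero_mul])
      simpa using this]
    ext g
    simp [trunc, up]
  have hBt : InCenter C (trunc D (ebar hB)) :=
    trunc_inCenter ((inCenter_top_iff.mpr (blockIdem hB).2).conjFixed_top C)
  rcases hpair.block.prim (trunc D (ebar hB)) hBt
      (by rw [← trunc_mul hD hfixB hfixB, (isBlockIdem_ebar hB).idem]) with h | h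
  · exact h
  · exfalso
    rw [hwtr, h, zero_sub] at hzero
    refine hpair.block.ne_zero ?_
    have hpw : ∀ k : ℕ, eIn hind.1 ^ (k + 1) = eIn hind.1 := by
      intro k
      induction k with
      | zero => simp
      | succ k ih => rw [pow_succ, ih, hpair.block.idem]
    rw [neg_pow, hpw] at hzero
    exact (IsUnit.mul_right_eq_zero ((IsUnit.neg (isUnit_one)).pow (n + 1))).1 hzero

/-- A pair centralised by a maximal pair, seen in the centralizer. -/
theorem local_pair_central {B e f : MonoidAlgebra (ResField M) G} {P Q : Subgroup G}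
    (hP : PairOf p B P e) (hno : NoExt p P e) (hPH : P ≤ Subgroup.centralizer (Q : Set G))
    (hle : SLE p Q f P e) :
    PairOf p (down (Subgroup.centralizer (Q : Set G)) f)
        (P.subgroupOf (Subgroup.centralizer (Q : Set G)))
        (down (Subgroup.centralizer (Q : Set G)) e) ∧
      NoExt p (P.subgroupOf (Subgroup.centralizer (Q : Set G)))
        (down (Subgroup.centralizer (Q : Set G)) e) := by
  set H := Subgroup.centralizer (Q : Set G) with hH
  have hCH : Subgroup.centralizer (P : Set G) ≤ H := centralizer_anti hle.le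
  have hPN : P ≤ Subgroup.normalizer (Q : Set G) := hPH.trans (Subgroup.centralizer_le_normalizer _)
  obtain ⟨f', hf'⟩ := exists_ns hP.pair hle.le hPN
  obtain rfl : f = f' := SLE.unique hP.pair hle hf'.sle
  have hf := (hle.pair_left hP.pair).block
  have hes : SuppIn H e := hP.pair.block.mem.supp.mono hCH
  have hbl : IsBlockIdem (⊤ : Subgroup H) (down H f) := by
    rw [← isBlockIdem_up_iff, up_down hf.mem.supp, ← MonoidHom.range_eq_map, Subgroup.range_subtype]
    exact hf
  refine ⟨⟨hbl, hP.pair.down_of_le hPH hCH, up_injective H ?_⟩, noExt_down hP.pair hPH hCH hno⟩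
  rw [up_mul, up_trunc, up_down hf.mem.supp, up_down hes, Subgroup.map_subgroupOf_eq_of_le hPH]
  exact hf'.br

/-- Two maximal pairs above a pair that they centralise differ by an element of the centralizer. -/
theorem exists_conj_above {B e e' f : MonoidAlgebra (ResField M) G} {P P' Q : Subgroup G}
    (hP : PairOf p B P e) (hno : NoExt p P e) (hPQ : P ≤ Subgroup.centralizer (Q : Set G))
    (hle : SLE p Q f P e)
    (hP' : PairOf p B P' e') (hno' : NoExt p P' e') (hPQ' : P' ≤ Subgroup.centralizer (Q : Set G))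
    (hle' : SLE p Q f P' e') (hcard : Nat.card P' = Nat.card P) :
    ∃ c ∈ Subgroup.centralizer (Q : Set G), conjSub c P' = P ∧ conjA c e' = e := by
  set H := Subgroup.centralizer (Q : Set G) with hH
  obtain ⟨h1, h1'⟩ := local_pair_central hP hno hPQ hle
  obtain ⟨h2, -⟩ := local_pair_central hP' hno' hPQ' hle'
  obtain ⟨c, hc⟩ := exists_conj_sle h1 h1' h2
  have hmap : (conjSub c (P'.subgroupOf H)).map H.subtype = conjSub (c : G) P' := by
    rw [map_conjSub, Subgroup.map_subgroupOf_eq_of_le hPQ']
  have heq : conjSub c (P'.subgroupOf H) = P.subgroupOf H := by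
    refine Subgroup.eq_of_le_of_card_ge hc.le (le_of_eq ?_)
    rw [Nat.card_congr (Subgroup.subgroupOfEquivOfLe hPQ).toEquiv, card_map_conj,
      Nat.card_congr (Subgroup.subgroupOfEquivOfLe hPQ').toEquiv, hcard]
  rw [heq] at hc
  have he := SLE.unique h1.pair hc (SLE.refl _ _)
  refine ⟨c, c.2, ?_, ?_⟩
  · rw [← hmap, heq, Subgroup.map_subgroupOf_eq_of_le hPQ]
  · have hCP : Subgroup.centralizer (P : Set G) ≤ H := centralizer_anti hle.le
    have hCP' : Subgroup.centralizer (P' : Set G) ≤ H := centralizer_anti hle'.le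
    have h3 := congrArg (up H) he
    rwa [up_conjA, up_down (hP'.pair.block.mem.supp.mono hCP'),
      up_down (hP.pair.block.mem.supp.mono hCP)] at h3

end CfsgLib.Blk83
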