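import Cfsg.Agent.Lib.Blk83.CyclicPair
import Cfsg.Agent.Lib.Blk83.PairFusion
import Cfsg.Agent.Lib.Blk83.InertialPair
import Cfsg.Agent.Lib.Blocks.Pairs.CyclicInertial
import Cfsg.Agent.Lib.Blocks.Pairs.Saturation

/-!
A block with cyclic defect group: the maximal pair and the pairs below it.
-/

set_option autoImplicit false

open Cfsg CfsgLib.Blocks CfsgLib.Blocks.Pairs
open scoped Classical

namespace CfsgLib.Blk83.Cyc

universe u

variable {G : Type u} [Group G] [Finite G] {p : ℕ} [Fact p.Prime] {M : Ideal AlgInt} [M.IsMaximal]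
  [CharP (ResField M) p]

local notation "k" => ResField M

omit [Fact p.Prime] in
/-- Subgroups of a cyclic subgroup are determined by their orders. -/
theorem eq_of_card_eq_of_le_cyclic {D A B : Subgroup G} (hD : IsCyclic D) (hA : A ≤ D) (hB : B ≤ D)
    (h : Nat.card A = Nat.card B) : A = B := by
  haveI := hD
  haveI := Fintype.ofFinite D
  have key : ∀ A : Subgroup G, A ≤ D → ∀ n, Nat.card A = n →
      (Finset.univ.filter fun x : D => (x : G) ∈ A) =
        Finset.univ.filter fun x : D => x ^ n = 1 := by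
    intro A hA n hn
    have hn0 : 0 < n := hn ▸ Nat.card_pos
    refine Finset.eq_of_subset_of_card_le (fun x hx => ?_)
      ((IsCyclic.card_pow_eq_one_le (α := D) hn0).trans ?_)
    · rw [Finset.mem_filter] at hx ⊢
      refine ⟨hx.1, ?_⟩
      have := congrArg Subtype.val (pow_card_eq_one' (x := (⟨(x : G), hx.2⟩ : A)))
      rw [hn] at this
      exact Subtype.ext (by simpa using this)
    · rw [← hn, ← Nat.card_congr (Subgroup.subgroupOfEquivOfLe hA).toEquiv,
        Nat.card_eq_fintype_card, ← Fintype.card_subtype]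
      exact le_rfl
  ext x
  constructor
  · intro hx
    have := congrArg (fun s : Finset D => (⟨x, hA hx⟩ : D) ∈ s)
      ((key A hA _ rfl).trans (h ▸ (key B hB _ rfl).symm))
    simpa [hx] using this
  · intro hx
    have := congrArg (fun s : Finset D => (⟨x, hB hx⟩ : D) ∈ s)
      ((key A hA _ rfl).trans (h ▸ (key B hB _ rfl).symm))
    simpa [hx] using this

variable (p) in
/-- A maximal pair with nontrivial cyclic group and inertial index `e`. -/
structure CycData {B : Set (IrrCharacter G)} (hB : IsPBlock M B) (D : Subgroup G)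
    (eD : MonoidAlgebra (ResField M) G) (a e : ℕ) : Prop where
  hM : IsPModular p M
  pair : PairOf p (ebar hB) D eD
  noExt : NoExt p D eD
  cyc : IsCyclic D
  card : Nat.card D = p ^ a
  pos : 1 ≤ a
  idx : (Subgroup.centralizer (D : Set G)).relIndex (pairStab D eD) = e

variable {B : Set (IrrCharacter G)} {hB : IsPBlock M B} {D : Subgroup G}
  {eD : MonoidAlgebra (ResField M) G}
  {a e : ℕ}

theorem CycData.comm (h : CycData p hB D eD a e) : ∀ x ∈ D, ∀ y ∈ D, x * y = y * x :=
  fun x hx y hy => by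
    letI := h.cyc.commGroup
    exact congrArg Subtype.val (mul_comm (⟨x, hx⟩ : D) ⟨y, hy⟩)

theorem CycData.ne_bot (h : CycData p hB D eD a e) : D ≠ ⊥ := fun hb => by
  have h1 := h.card
  rw [hb, Subgroup.card_bot] at h1
  exact (Nat.one_lt_pow (by have := h.pos; omega) (Fact.out : p.Prime).one_lt).ne h1

theorem CycData.le_centralizer (h : CycData p hB D eD a e) :
    D ≤ Subgroup.centralizer (D : Set G) :=
  fun x hx => Subgroup.mem_centralizer_iff.2 fun y hy => h.comm y hy x hx

theorem CycData.inertial (h : CycData p hB D eD a e) :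
    ((Subgroup.centralizer (D : Set G)).subgroupOf (pairStab D eD)).Normal ∧
      (∃ t₀ ∈ pairStab D eD, (∀ t ∈ pairStab D eD, ∃ i : ℕ,
        ∃ c ∈ Subgroup.centralizer (D : Set G), t = t₀ ^ i * c) ∧
        ∀ i : ℕ, t₀ ^ i ∈ Subgroup.centralizer (D : Set G) ↔ e ∣ i) ∧
      e ∣ p - 1 ∧ Free D (pairStab D eD) := by
  obtain ⟨C, hC⟩ : ∃ C, C = Subgroup.centralizer (D : Set G) := ⟨_, rfl⟩
  have hTN : pairStab D eD ≤ Subgroup.normalizer (D : Set G) := fun g hg => hg.1
  haveI hn : ((Subgroup.centralizer (D : Set G)).subgroupOf (pairStab D eD)).Normal :=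
    Subgroup.normal_subgroupOf_of_le_normalizer
      (hTN.trans (normalizer_le_normalizer_centralizer D))
  obtain ⟨hq, hdvd, hfree⟩ := cyclic_inertial h.pair.pair.pgroup h.ne_bot h.cyc hTN fun g hg =>
    exists_pow_mem_centralizer h.hM h.pair h.noExt h.comm hg
  rw [h.idx] at hdvd
  refine ⟨hn, ?_, hdvd, hfree⟩
  obtain ⟨q, hgen⟩ := hq.exists_generator
  obtain ⟨t₀, rfl⟩ := QuotientGroup.mk_surjective q
  have hord : orderOf (t₀ : pairStab D eD ⧸ (Subgroup.centralizer (D : Set G)).subgroupOf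
      (pairStab D eD)) = e := by
    rw [orderOf_eq_card_of_forall_mem_zpowers hgen, ← Subgroup.index_eq_card]
    exact h.idx
  refine ⟨t₀, t₀.2, fun t ht => ?_, fun i => ?_⟩
  · obtain ⟨i, hi⟩ := (Submonoid.mem_powers_iff _ _).1
      (mem_powers_iff_mem_zpowers.2 (hgen (QuotientGroup.mk ⟨t, ht⟩)))
    rw [← QuotientGroup.mk_pow, QuotientGroup.eq, Subgroup.mem_subgroupOf] at hi
    refine ⟨i, _, hi, ?_⟩
    simp
  · rw [← hord, orderOf_dvd_iff_pow_eq_one, ← QuotientGroup.mk_pow, QuotientGroup.eq_one_iff,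
      Subgroup.mem_subgroupOf, SubgroupClass.coe_pow]

/-- The pair at a nontrivial subgroup. -/
theorem CycData.exists_below (h : CycData p hB D eD a e) {Q : Subgroup G} (hQ : Q ≤ D) :
    ∃ f, NS p Q f D eD :=
  exists_ns h.pair.pair hQ ((h.le_centralizer.trans (centralizer_anti hQ)).trans
    (Subgroup.centralizer_le_normalizer _))

theorem CycData.stab_below (h : CycData p hB D eD a e) {Q : Subgroup G} (hQ : Q ≤ D) (hQ1 : Q ≠ ⊥)
    {f : MonoidAlgebra k G} (hf : SLE p Q f D eD) :
    pairStab D eD ≤ pairStab Q f ∧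
    (∀ g ∈ pairStab Q f, ∃ y ∈ pairStab D eD, ∃ z ∈ Subgroup.centralizer (Q : Set G), g = y * z) ∧
    (∀ g ∈ pairStab D eD, g ∈ Subgroup.centralizer (Q : Set G) →
      g ∈ Subgroup.centralizer (D : Set G)) := by
  obtain ⟨-, -, -, hfree⟩ := h.inertial
  refine ⟨fun g hg => ?_, fun g hg => ?_, fun g hg hgQ => ?_⟩
  · have hgQ : conjSub g Q = Q :=
      eq_of_card_eq_of_le_cyclic h.cyc
        ((conjSub_mono g hQ).trans (conjSub_eq_of_mem_normalizer hg.1).le) hQ (card_map_conj g Q)
    refine ⟨mem_normalizer_of_conjSub_eq hgQ, SLE.unique h.pair.pair ?_ hf⟩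
    have h1 := hf.conj g
    rwa [hgQ, conjSub_eq_of_mem_normalizer hg.1, hg.2] at h1
  · obtain ⟨y, hy, -, z, hz, rfl⟩ := exists_mul_of_comm h.pair h.noExt h.comm hf
      (exists_maxIn_of_isBlockIdem h.hM (hf.pair_left h.pair.pair).block) hg
    exact ⟨y, hy, z, hz, rfl⟩
  · obtain ⟨q, hq, hq1⟩ := (Subgroup.bot_or_exists_ne_one Q).resolve_left hQ1
    exact hfree g hg q (hQ hq) hq1 (by rw [← Subgroup.mem_centralizer_iff.1 hgQ q hq]; group)

theorem CycData.idx_below (h : CycData p hB D eD a e) {Q : Subgroup G} (hQ : Q ≤ D) (hQ1 : Q ≠ ⊥)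
    {f : MonoidAlgebra k G} (hf : SLE p Q f D eD) :
    (Subgroup.centralizer (Q : Set G)).relIndex (pairStab Q f) = e := by
  obtain ⟨hle, hmul, hinf⟩ := h.stab_below hQ hQ1 hf
  obtain ⟨CQ, hCQ⟩ : ∃ CQ, CQ = Subgroup.centralizer (Q : Set G) := ⟨_, rfl⟩
  rw [← h.idx, ← hCQ]
  have hCle : Subgroup.centralizer (D : Set G) ≤ CQ := hCQ ▸ centralizer_anti hQ
  have h1 : CQ.relIndex (pairStab D eD) =
      (Subgroup.centralizer (D : Set G)).relIndex (pairStab D eD) := by
    rw [← Subgroup.inf_relIndex_right CQ, ← Subgroup.inf_relIndex_right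
      (Subgroup.centralizer (D : Set G))]
    congr 1
    ext g
    exact ⟨fun hg => ⟨hinf g hg.2 (hCQ ▸ hg.1), hg.2⟩, fun hg => ⟨hCle hg.1, hg.2⟩⟩
  rw [← h1]
  have hCstab : CQ ≤ pairStab Q f := hCQ ▸ centralizer_le_pairStab (hf.pair_left h.pair.pair)
  have hnorm : pairStab D eD ≤ Subgroup.normalizer (CQ : Set G) := fun g hg =>
    hCQ ▸ normalizer_le_normalizer_centralizer Q (hle hg).1
  have hsup : pairStab Q f = pairStab D eD ⊔ CQ := by
    refine le_antisymm (fun g hg => ?_) (sup_le hle hCstab)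
    obtain ⟨y, hy, z, hz, rfl⟩ := hmul g hg
    exact Subgroup.mul_mem_sup hy (hCQ ▸ hz)
  rw [hsup]
  haveI : (CQ.subgroupOf (pairStab D eD ⊔ CQ)).Normal :=
    Subgroup.normal_subgroupOf_of_le_normalizer (sup_le hnorm Subgroup.le_normalizer)
  rw [← Subgroup.relIndex_subgroupOf (le_refl (pairStab D eD ⊔ CQ)), ← Subgroup.relIndex_subgroupOf
    (le_sup_left : pairStab D eD ≤ pairStab D eD ⊔ CQ),
    Subgroup.subgroupOf_sup le_sup_left le_sup_right, Subgroup.relIndex_sup_right]

/-- The local block at a nontrivial subgroup has the centre `k[π]`. -/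
theorem CycData.local_below (h : CycData p hB D eD a e) {Q : Subgroup G} (hQ : Q ≤ D) (hQ1 : Q ≠ ⊥)
    {f : MonoidAlgebra k G} (hf : SLE p Q f D eD) :
    ∃ (b : Set (IrrCharacter (Subgroup.centralizer (Q : Set G)))) (hb : IsPBlock M b),
      ebar hb = down (Subgroup.centralizer (Q : Set G)) f ∧
      PairOf p (ebar hb) (D.subgroupOf (Subgroup.centralizer (Q : Set G)))
        (down (Subgroup.centralizer (Q : Set G)) eD) ∧
      NoExt p (D.subgroupOf (Subgroup.centralizer (Q : Set G)))
        (down (Subgroup.centralizer (Q : Set G)) eD) ∧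
      Cfsg.blockRank p b = 1 ∧ Nat.card b = p ^ a ∧
      ∃ π, Local (ebar hb) π (p ^ a) := by
  obtain ⟨hP', hno', hst⟩ := CfsgLib.BlockRank.local_pair rfl h.pair h.noExt h.comm hf
  obtain ⟨b, hb, hbe⟩ := exists_ebar_eq hP'.blockB
  rw [← hbe] at hP'
  have hDQ : D ≤ Subgroup.centralizer (Q : Set G) := h.le_centralizer.trans (centralizer_anti hQ)
  have hcard : Nat.card (D.subgroupOf (Subgroup.centralizer (Q : Set G))) = p ^ a := by
    rw [Nat.card_congr (Subgroup.subgroupOfEquivOfLe hDQ).toEquiv, h.card]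
  have hab' : ∀ x ∈ D.subgroupOf (Subgroup.centralizer (Q : Set G)),
      ∀ y ∈ D.subgroupOf (Subgroup.centralizer (Q : Set G)), x * y = y * x :=
    fun x hx y hy => Subtype.ext (h.comm _ hx _ hy)
  have htriv : pairStab (D.subgroupOf (Subgroup.centralizer (Q : Set G)))
      (down (Subgroup.centralizer (Q : Set G)) eD) ≤
      Subgroup.centralizer (D.subgroupOf (Subgroup.centralizer (Q : Set G)) : Set _) := by
    intro y hy
    refine Subgroup.mem_centralizer_iff.2 fun x hx => Subtype.ext ?_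
    exact Subgroup.mem_centralizer_iff.1
      ((h.stab_below hQ hQ1 hf).2.2 _ (hst y hy) y.2) (x : G) hx
  obtain ⟨hl, hk⟩ := BlockRank.rankOne_of_trivial_inertial h.hM hb hP' hno' hab' htriv
  haveI : IsCyclic D := h.cyc
  have hcyc' : IsCyclic (D.subgroupOf (Subgroup.centralizer (Q : Set G))) :=
    isCyclic_of_surjective (Subgroup.subgroupOfEquivOfLe hDQ).symm.toMonoidHom
      (Subgroup.subgroupOfEquivOfLe hDQ).symm.surjective
  obtain ⟨π, hπ⟩ := exists_local h.hM hb hP' hno' hcyc' htriv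
  exact ⟨b, hb, hbe, hP', hno', hl, hk.trans hcard, π, hcard ▸ hπ⟩

/-- The data from the hypotheses of the statements. -/
theorem cycData_of_induced (hM : IsPModular p M) {a e : ℕ} (ha : 1 ≤ a) {D : Subgroup G}
    (hD : IsCyclic D) (hDa : Nat.card D = p ^ a) {B : Set (IrrCharacter G)}
    (hBD : IsDefectGroup p M B D) {b : Set (IrrCharacter (Subgroup.centralizer (D : Set G)))}
    (hind : IsInducedBlock M (Subgroup.centralizer (D : Set G)) b B) {T : Subgroup G}
    (hT : ∀ g : G, g ∈ T ↔ (g ∈ Subgroup.normalizer (D : Set G) ∧ ∀ θ ∈ b,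
      ∀ θ' : IrrCharacter (Subgroup.centralizer (D : Set G)),
        (∀ h h' : Subgroup.centralizer (D : Set G), (h' : G) = g * h * g⁻¹ →
          (θ' : Subgroup.centralizer (D : Set G) → ℂ) h' =
            (θ : Subgroup.centralizer (D : Set G) → ℂ) h) → θ' ∈ b))
    (he : (Subgroup.centralizer (D : Set G)).relIndex T = e) :
    ∃ (hb : IsPBlock M b), CycData p hind.2.1 D (eIn hb) a e ∧ pairStab D (eIn hb) = T := by
  obtain ⟨hB, hb, hP, hno, -, -⟩ := exists_root_pair hM hBD hind
  have hTeq : pairStab D (eIn hb) = T := by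
    ext g
    rw [hT]
    refine and_congr_right fun hgN => ?_
    rw [← stabilizesBlock_iff hb (normalizer_le_normalizer_centralizer D hgN)]
    constructor
    · intro hs θ hθ θ' hc
      obtain ⟨χ', hχ', hc'⟩ := hs.2 θ hθ
      have : θ' = χ' := Subtype.ext (funext fun k' => by
        have hk : g⁻¹ * (k' : G) * g ∈ Subgroup.centralizer (D : Set G) :=
          (Subgroup.mem_normalizer_iff''.mp (normalizer_le_normalizer_centralizer D hgN) k').mp k'.2
        rw [hc ⟨_, hk⟩ k' (by group), hc' ⟨_, hk⟩ k' (by group)])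
      rwa [this]
    · intro hs
      refine ⟨normalizer_le_normalizer_centralizer D hgN, fun θ hθ => ?_⟩
      have hx := normalizer_le_normalizer_centralizer D hgN
      let φ : Subgroup.centralizer (D : Set G) ≃* Subgroup.centralizer (D : Set G) :=
        { toFun := fun q => ⟨g⁻¹ * q * g, (Subgroup.mem_normalizer_iff''.mp hx q).mp q.2⟩
          invFun := fun q => ⟨g * q * g⁻¹, (Subgroup.mem_normalizer_iff.mp hx q).mp q.2⟩
          left_inv := fun q => Subtype.ext (by simp [mul_assoc])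
          right_inv := fun q => Subtype.ext (by simp [mul_assoc])
          map_mul' := fun a b => Subtype.ext (by simp [mul_assoc]) }
      have hconj : ∀ q q' : Subgroup.centralizer (D : Set G), (q' : G) = g * q * g⁻¹ →
          (pull φ θ : Subgroup.centralizer (D : Set G) → ℂ) q' =
            (θ : Subgroup.centralizer (D : Set G) → ℂ) q := fun q q' hq => by
        rw [pull_apply]
        refine congrArg _ (Subtype.ext ?_)
        show g⁻¹ * (q' : G) * g = (q : G)
        rw [hq]; group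
      exact ⟨pull φ θ, hs θ hθ _ hconj, hconj⟩
  exact ⟨hb, ⟨hM, hP, hno, hD, hDa, ha, by rw [hTeq, he]⟩, hTeq⟩

end CfsgLib.Blk83.Cyc
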