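import Cfsg.Agent.Lib.Blk83.CyclicSetting

/-!
The extensions of the irreducible module of a local block algebra to the overgroup, and maps that
are traces from the trivial subgroup.
-/

set_option autoImplicit false

open scoped Classical

namespace CfsgLib.Blk83.Cyc

open CfsgLib.Blocks CfsgLib.Blocks.Pairs

set_option maxSynthPendingDepth 4

universe u

variable {k : Type} [Field k] {G : Type u} [Group G]

/-- The extensions of an irreducible module of `C` to `T`, indexed by roots of unity. -/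
structure Exts (C T : Subgroup G) (hCT : C ≤ T) (t₀ : T) (e : ℕ) (ε : MonoidAlgebra k C) where
  /-- the space -/
  V : Type u
  [addCommGroup : AddCommGroup V]
  [module : Module k V]
  [finite : FiniteDimensional k V]
  /-- the module of `C` -/
  σ₁ : MonoidAlgebra k C →ₐ[k] Module.End k V
  simp : Simp σ₁
  one : σ₁ ε = 1
  /-- the intertwiner -/
  Φ : Module.End k V
  surj : Function.Surjective Φ
  /-- the extensions -/
  τ : {z : k // z ^ e = 1} → (T →* Module.End k V)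
  restrict : ∀ z (c : C), τ z ⟨c, hCT c.2⟩ = grp σ₁ c
  at_gen : ∀ z, τ z t₀ = (z : k) • Φ

attribute [instance] Exts.addCommGroup Exts.module Exts.finite

variable [IsAlgClosed k] [Finite G] {C T : Subgroup G} {t₀ : G} {e : ℕ}
  {ε π : MonoidAlgebra k C} {N : ℕ}

theorem exists_exts (h : Setting C T t₀ e ε π N) :
    Nonempty (Exts C T h.le ⟨t₀, h.mem⟩ e ε) := by
  haveI : FiniteDimensional k (MonoidAlgebra k C) := finiteDimensional_monoidAlgebra
  -- an irreducible module of the block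
  have hε0 : ε ≠ 0 := fun e0 => h.L.π_top (by rw [e0, zero_mul])
  let W : Submodule k (MonoidAlgebra k C) := (LinearMap.mulLeft k ε).range
  have hWst : Stable (Algebra.lmul k (MonoidAlgebra k C)) W := by
    rintro a _ ⟨b, rfl⟩
    refine ⟨a * b, ?_⟩
    show ε * (a * b) = a * (ε * b)
    rw [← mul_assoc, ← mul_assoc, (h.L.ε_central a).eq]
  obtain ⟨U, hU, hsimp⟩ := exists_simp_sub (subAct (Algebra.lmul k (MonoidAlgebra k C)) hWst)
    (v := ⟨ε, 1, mul_one _⟩) (fun h0 => hε0 (congrArg Subtype.val h0))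
  obtain ⟨σ₁, hσ₁⟩ : ∃ σ₁, σ₁ = subAct (subAct (Algebra.lmul k (MonoidAlgebra k C)) hWst) hU :=
    ⟨_, rfl⟩
  have hone : σ₁ ε = 1 := LinearMap.ext fun w => Subtype.ext (Subtype.ext (by
    rw [hσ₁, subAct_apply, subAct_apply]
    obtain ⟨b, hb⟩ := (w : W).2
    show ε * ((w : W) : MonoidAlgebra k C) = ((w : W) : MonoidAlgebra k C)
    rw [← hb]
    show ε * (ε * b) = ε * b
    rw [← mul_assoc, h.L.ε_idem]))
  rw [← hσ₁] at hsimp
  -- the twist
  obtain ⟨θ, hθ⟩ : ∃ θ, θ = MonoidAlgebra.mapDomainAlgHom k k (cjC h h.mem) := ⟨_, rfl⟩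
  have hθs : Function.Surjective θ := hθ ▸ cjC_surjective h h.mem
  have hsimp' : Simp (σ₁.comp θ) := by
    refine ⟨hsimp.nontriv, fun W hW => hsimp.simple W fun a w hw => ?_⟩
    obtain ⟨a', rfl⟩ := hθs a
    exact hW a' w hw
  have hone' : σ₁.comp θ ε = 1 := by
    show σ₁ (θ ε) = 1
    rw [hθ, cjC_ε h h.mem, hone]
  obtain ⟨φ, hφ⟩ := hsimp.exists_equiv hsimp'
    (h.L.uniq U U σ₁ (σ₁.comp θ) hsimp hsimp' hone hone')
  have hΨ : ∀ i : ℕ, ∀ c : C, ∀ c' : C, (c' : G) = t₀ ^ i * c * (t₀ ^ i)⁻¹ →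
      (φ.toLinearMap : Module.End k U) ^ i * grp σ₁ c =
        grp σ₁ c' * (φ.toLinearMap : Module.End k U) ^ i := by
    intro i
    induction i with
    | zero =>
      intro c c' hc
      rw [show c' = c from Subtype.ext (by simpa using hc), pow_zero, one_mul, mul_one]
    | succ i ih =>
      intro c c' hc
      obtain ⟨c'', hc''⟩ : ∃ c'' : C, c'' = cjC h h.mem c := ⟨_, rfl⟩
      have h1 : (φ.toLinearMap : Module.End k U) * grp σ₁ c = grp σ₁ c'' * φ.toLinearMap := by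
        refine LinearMap.ext fun v => ?_
        show φ (σ₁ (MonoidAlgebra.single c 1) v) = σ₁ (MonoidAlgebra.single c'' 1) (φ v)
        rw [hφ, hc'']
        show σ₁ (θ (MonoidAlgebra.single c 1)) (φ v) = _
        rw [hθ]
        simp
      rw [pow_succ, mul_assoc, h1, ← mul_assoc, ih c'' c' ?_, mul_assoc]
      rw [hc, hc'', pow_succ]
      show _ = t₀ ^ i * (t₀ * c * t₀⁻¹) * (t₀ ^ i)⁻¹
      group
  obtain ⟨c₀, hc₀⟩ : ∃ c₀ : C, (c₀ : G) = t₀ ^ e :=
    ⟨⟨_, (h.pow_mem e).2 dvd_rfl⟩, rfl⟩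
  -- scale
  obtain ⟨μ, hμ⟩ := hsimp.schur (grp σ₁ c₀⁻¹ * (φ.toLinearMap : Module.End k U) ^ e) (by
    intro a
    induction a using MonoidAlgebra.induction_linear with
    | zero => rw [map_zero]; exact Commute.zero_left _
    | add a b ha hb => rw [map_add]; exact ha.add_left hb
    | single c r =>
      rw [show MonoidAlgebra.single c r = r • MonoidAlgebra.single c (1 : k) by
        rw [MonoidAlgebra.smul_single', mul_one], map_smul]
      refine Commute.smul_left ?_ r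
      show grp σ₁ c * _ = _ * grp σ₁ c
      rw [mul_assoc, hΨ e c ⟨c₀ * c * c₀⁻¹, mul_mem (mul_mem c₀.2 c.2) (inv_mem c₀.2)⟩
        (by show (c₀ : G) * c * (c₀ : G)⁻¹ = _; rw [hc₀]), ← mul_assoc, ← mul_assoc, ← map_mul,
        ← map_mul]
      congr 2
      ext
      simp [mul_assoc])
  have hinv : ∀ c : C, grp σ₁ c * grp σ₁ c⁻¹ = 1 := fun c => by
    rw [← map_mul, mul_inv_cancel, map_one]
  have hφe : (φ.toLinearMap : Module.End k U) ^ e = μ • grp σ₁ c₀ := by
    rw [← one_mul ((φ.toLinearMap : Module.End k U) ^ e), ← hinv c₀, mul_assoc, hμ, mul_smul_comm,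
      mul_one]
  have hμ0 : μ ≠ 0 := by
    intro e0
    obtain ⟨v, hv⟩ := hsimp.nontriv
    apply hv
    have hinj : ∀ i, Function.Injective ((φ.toLinearMap : Module.End k U) ^ i : Module.End k U) := by
      intro i
      induction i with
      | zero => exact fun a b hab => hab
      | succ i ih =>
        rw [pow_succ]
        exact ih.comp φ.injective
    apply hinj e
    rw [hφe, e0, zero_smul, map_zero]
    rfl
  obtain ⟨r, hr⟩ := IsAlgClosed.exists_pow_nat_eq μ⁻¹ h.e_pos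
  obtain ⟨Φ, hΦ⟩ : ∃ Φ : Module.End k U, Φ = r • φ.toLinearMap := ⟨_, rfl⟩
  have hr0 : r ≠ 0 := fun e0 => by
    rw [e0, zero_pow h.e_pos.ne'] at hr
    exact inv_ne_zero hμ0 hr.symm
  have hsurj : Function.Surjective Φ := fun v => by
    refine ⟨φ.symm (r⁻¹ • v), ?_⟩
    rw [hΦ]
    simp [smul_smul, hr0]
  have hΦΨ : ∀ z : k, ∀ i : ℕ, ∀ c : C, ∀ c' : C, (c' : G) = t₀ ^ i * c * (t₀ ^ i)⁻¹ →
      (z • Φ) ^ i * grp σ₁ c = grp σ₁ c' * (z • Φ) ^ i := by
    intro z i c c' hc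
    rw [hΦ, smul_smul, smul_pow, smul_mul_assoc, mul_smul_comm, hΨ i c c' hc]
  -- the value attached to a presentation
  have hbase : ∀ z : k, z ^ e = 1 → (z • Φ) ^ e = grp σ₁ c₀ := by
    intro z hz
    rw [hΦ, smul_smul, smul_pow, mul_pow, hz, one_mul, hr, hφe, smul_smul, inv_mul_cancel₀ hμ0,
      one_smul]
  have hred : ∀ z : k, z ^ e = 1 → ∀ i : ℕ, ∀ c c' : C, (t₀ ^ i * c : G) = t₀ ^ (i % e) * c' →
      (z • Φ) ^ i * grp σ₁ c = (z • Φ) ^ (i % e) * grp σ₁ c' := by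
    intro z hz i c c' hcc
    conv_lhs => rw [← Nat.mod_add_div i e]
    rw [pow_add, pow_mul, hbase z hz, ← map_pow, mul_assoc, ← map_mul]
    congr 2
    ext
    conv_lhs at hcc => rw [← Nat.mod_add_div i e, pow_add, pow_mul, mul_assoc]
    simpa [hc₀] using mul_left_cancel hcc
  have hwd : ∀ z : k, z ^ e = 1 → ∀ i j : ℕ, ∀ c d : C, (t₀ ^ i * c : G) = t₀ ^ j * d →
      (z • Φ) ^ i * grp σ₁ c = (z • Φ) ^ j * grp σ₁ d := by
    intro z hz i j c d hcd
    have key : ∀ i : ℕ, ∀ c : C, ∃ c' : C, (t₀ ^ i * c : G) = t₀ ^ (i % e) * c' := by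
      intro i c
      refine ⟨c₀ ^ (i / e) * c, ?_⟩
      conv_lhs => rw [← Nat.mod_add_div i e, pow_add, pow_mul, mul_assoc]
      simp [hc₀]
    obtain ⟨c', hc'⟩ := key i c
    obtain ⟨d', hd'⟩ := key j d
    rw [hred z hz i c c' hc', hred z hz j d d' hd']
    have hij : i % e = j % e := by
      have hmain : ∀ a b : ℕ, a < e → b < e → a ≤ b → ∀ x y : C,
          (t₀ ^ a * x : G) = t₀ ^ b * y → a = b := by
        intro a b _ hb hab x y hxy
        obtain ⟨l, rfl⟩ := Nat.exists_eq_add_of_le hab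
        rw [pow_add, mul_assoc] at hxy
        have h1 := mul_left_cancel hxy
        have h2 : t₀ ^ l ∈ C := by
          rw [eq_mul_inv_of_mul_eq h1.symm]
          exact mul_mem x.2 (inv_mem y.2)
        have := Nat.eq_zero_of_dvd_of_lt ((h.pow_mem l).1 h2) (by omega)
        omega
      have heq : (t₀ ^ (i % e) * c' : G) = t₀ ^ (j % e) * d' := by rw [← hc', ← hd', hcd]
      rcases le_total (i % e) (j % e) with hle | hle
      · exact hmain _ _ (Nat.mod_lt _ h.e_pos) (Nat.mod_lt _ h.e_pos) hle _ _ heq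
      · exact (hmain _ _ (Nat.mod_lt _ h.e_pos) (Nat.mod_lt _ h.e_pos) hle _ _ heq.symm).symm
    have heq : (t₀ ^ (i % e) * c' : G) = t₀ ^ (j % e) * d' := by rw [← hc', ← hd', hcd]
    rw [hij] at heq ⊢
    rw [show c' = d' from Subtype.ext (mul_left_cancel heq)]
  have hpres : ∀ t : T, ∃ x : ℕ × C, (t : G) = t₀ ^ x.1 * x.2 := fun t => by
    obtain ⟨i, c, hc, he⟩ := h.gen t t.2
    exact ⟨⟨i, c, hc⟩, he⟩
  choose pr hpr using hpres
  let τ : {z : k // z ^ e = 1} → (T →* Module.End k U) := fun z =>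
    { toFun := fun t => ((z : k) • Φ) ^ (pr t).1 * grp σ₁ (pr t).2
      map_one' := by
        rw [hwd z z.2 (pr 1).1 0 (pr 1).2 1 (by rw [← hpr 1]; simp), pow_zero, one_mul, map_one]
      map_mul' := fun s t => by
        obtain ⟨⟨i, c⟩, hs, hs'⟩ : ∃ x, pr s = x ∧ (s : G) = t₀ ^ x.1 * x.2 := ⟨_, rfl, hpr s⟩
        obtain ⟨⟨j, d⟩, ht, ht'⟩ : ∃ x, pr t = x ∧ (t : G) = t₀ ^ x.1 * x.2 := ⟨_, rfl, hpr t⟩
        simp only at hs' ht'
        rw [hs, ht]
        obtain ⟨c', hc'⟩ : ∃ c' : C, (c' : G) = (t₀ ^ j)⁻¹ * c * t₀ ^ j :=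
          ⟨⟨_, by
            have := (Subgroup.mem_normalizer_iff.1 (h.norm (inv_mem (pow_mem h.mem j))) (c : G)).1
              c.2
            simpa using this⟩, rfl⟩
        have h2 := hΦΨ (z : k) j c' c (by rw [hc']; group)
        calc ((z : k) • Φ) ^ (pr (s * t)).1 * grp σ₁ (pr (s * t)).2
            = ((z : k) • Φ) ^ (i + j) * grp σ₁ (c' * d) := hwd z z.2 _ _ _ _ (by
              rw [← hpr, Subgroup.coe_mul, hs', ht', Subgroup.coe_mul, hc', pow_add]; group)
          _ = ((z : k) • Φ) ^ i * grp σ₁ c * (((z : k) • Φ) ^ j * grp σ₁ d) := by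
              rw [pow_add, map_mul, mul_assoc (((z : k) • Φ) ^ i), ← mul_assoc (((z : k) • Φ) ^ j),
                h2]
              simp only [mul_assoc] }
  refine ⟨⟨U, σ₁, hsimp, hone, Φ, hsurj, τ, fun z c => ?_, fun z => ?_⟩⟩
  · show ((z : k) • Φ) ^ _ * grp σ₁ _ = _
    rw [hwd z z.2 _ 0 _ c (by rw [← hpr]; simp), pow_zero, one_mul]
  · show ((z : k) • Φ) ^ _ * grp σ₁ _ = _
    rw [hwd z z.2 _ 1 _ 1 (by rw [← hpr]; simp), pow_one, map_one, mul_one]

end CfsgLib.Blk83.Cyc
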