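import Cfsg.Agent.Lib.Blk83.CyclicScalar

/-!
Two extensions cannot have non-trace maps into the same irreducible action, so the block has at
least as many irreducible actions as the index.
-/

set_option autoImplicit false
set_option maxHeartbeats 1000000

open scoped Classical

namespace CfsgLib.Blk83.Cyc

open CfsgLib.Blocks CfsgLib.Blocks.Pairs

set_option maxSynthPendingDepth 4

universe u

variable {k : Type} [Field k] [IsAlgClosed k] {G : Type u} [Group G] [Finite G]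
  {C T : Subgroup G} {t₀ : G} {e : ℕ} {ε π : MonoidAlgebra k C} {N : ℕ}
variable {h : Setting C T t₀ e ε π N} (X : Exts C T h.le ⟨t₀, h.mem⟩ e ε)
variable {S : Type u} [AddCommGroup S] [Module k S] {σ : MonoidAlgebra k G →ₐ[k] Module.End k S}

/-- Independence modulo a layer. -/
theorem mem_lay_of_sub_smul_mem {x₀ : X.V} (hx₀ : x₀ ≠ 0) {z₁ z₂ : {z : k // z ^ e = 1}}
    (hne : z₁ ≠ z₂) {f₁ f₂ : X.V →ₗ[k] S} (hf₁ : Equi T (X.τ z₁) σ f₁)
    (hf₂ : Equi T (X.τ z₂) σ f₂) {m : ℕ} {μ : k}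
    (hμ : f₁ x₀ - μ • f₂ x₀ ∈ lay σ C π m) : f₁ x₀ ∈ lay σ C π m := by
  obtain ⟨y, hy⟩ := X.surj x₀
  obtain ⟨a, ha⟩ := X.simp.exists_apply hx₀ y
  have h1 : f₁ y - μ • f₂ y ∈ lay σ C π m := by
    rw [← ha, Equi.map_act σ (X.restrict z₁) hf₁, Equi.map_act σ (X.restrict z₂) hf₂,
      ← map_smul, ← map_sub]
    exact apply_lay_of_central σ h a hμ
  have h2 := grp_lay σ h h.mem h1
  have e1 : grp σ t₀ (f₁ y) = (z₁ : k) • f₁ x₀ := by
    rw [show grp σ t₀ (f₁ y) = f₁ (X.τ z₁ ⟨t₀, h.mem⟩ y) from (hf₁ ⟨t₀, h.mem⟩ y).symm, X.at_gen,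
      LinearMap.smul_apply, hy, map_smul]
  have e2 : grp σ t₀ (f₂ y) = (z₂ : k) • f₂ x₀ := by
    rw [show grp σ t₀ (f₂ y) = f₂ (X.τ z₂ ⟨t₀, h.mem⟩ y) from (hf₂ ⟨t₀, h.mem⟩ y).symm, X.at_gen,
      LinearMap.smul_apply, hy, map_smul]
  rw [map_sub, map_smul, e1, e2] at h2
  have h3 := Submodule.sub_mem _ h2 (Submodule.smul_mem _ (z₂ : k) hμ)
  rw [smul_sub, smul_comm (z₂ : k) μ, sub_sub_sub_cancel_right, ← sub_smul] at h3
  have hne' : (z₁ : k) - z₂ ≠ 0 := sub_ne_zero.2 fun e0 => hne (Subtype.ext e0)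
  have h4 := Submodule.smul_mem _ ((z₁ : k) - z₂)⁻¹ h3
  rwa [smul_smul, inv_mul_cancel₀ hne', one_smul] at h4

/-- The asymmetric case. -/
theorem false_of_levels [FiniteDimensional k S] (hσ : Simp σ) {D : Subgroup G}
    (hD : TraceFrom C T ε D) {κ : Corner ε π N} {x₀ : X.V} (hx₀i : X.σ₁ κ.i x₀ = x₀)
    (hx₀ : x₀ ≠ 0) {z₁ z₂ : {z : k // z ^ e = 1}} (hne : z₁ ≠ z₂) {f₁ f₂ : X.V →ₗ[k] S}
    (hf₁ : Equi T (X.τ z₁) σ f₁) (hf₂ : Equi T (X.τ z₂) σ f₂) {j₁ j₂ : ℕ}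
    (hj₁N : j₁ + 1 < N) (hle : j₂ ≤ j₁)
    (hj₁ : f₁ x₀ ∈ lay σ C π j₁) (hj₁' : f₁ x₀ ∉ lay σ C π (j₁ + 1))
    (hj₂' : f₂ x₀ ∉ lay σ C π (j₂ + 1)) : False := by
  have hmap₁ := fun a v => Equi.map_act σ (X.restrict z₁) hf₁ a v
  have hmap₂ := fun a v => Equi.map_act σ (X.restrict z₂) hf₂ a v
  obtain ⟨u, hu⟩ : ∃ u : MonoidAlgebra k C →ₐ[k] Module.End k S, u = σ.comp (upHom C) := ⟨_, rfl⟩
  have hux : ∀ a, σ (upHom C a) = u a := fun a => by rw [hu]; rfl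
  simp only [hux] at hmap₁ hmap₂
  have happ : ∀ a b s, u a (u b s) = u (a * b) s := fun a b s => by
    rw [map_mul, Module.End.mul_apply]
  have hlay : ∀ m s, s ∈ lay σ C π m ↔ ∃ s', u (π ^ m) s' = s := fun m s => by
    rw [← hux]; exact Iff.rfl
  have hiv₁ : u κ.i (f₁ x₀) = f₁ x₀ := by rw [← hmap₁, hx₀i]
  have hiv₂ : u κ.i (f₂ x₀) = f₂ x₀ := by rw [← hmap₂, hx₀i]
  have hπv₁ : u π (f₁ x₀) = 0 := by rw [← hmap₁, π_act_eq_zero h X.simp]; simp
  have hπv₂ : u π (f₂ x₀) = 0 := by rw [← hmap₂, π_act_eq_zero h X.simp]; simp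
  obtain ⟨w', hw'⟩ := (hlay j₁ _).1 hj₁
  obtain ⟨w, hw⟩ : ∃ w, w = u κ.i w' := ⟨_, rfl⟩
  have hiw : u κ.i w = w := by rw [hw, happ, κ.idem]
  have hπw : u (π ^ j₁) w = f₁ x₀ := by
    rw [hw, happ, ← ((h.L.π_central κ.i).pow_right j₁).eq, ← happ, hw', hiv₁]
  -- the functional
  obtain ⟨v₂', hv₂'⟩ : ∃ v₂', v₂' = if j₁ = j₂ then f₂ x₀ else 0 := ⟨_, rfl⟩
  have hv₁K : f₁ x₀ ∉ lay σ C π (j₁ + 1) ⊔ Submodule.span k {v₂'} := by
    intro hm
    obtain ⟨a, ha, b, hb, hab⟩ := Submodule.mem_sup.1 hm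
    obtain ⟨μ, rfl⟩ := Submodule.mem_span_singleton.1 hb
    rw [hv₂'] at hab
    by_cases hj : j₁ = j₂
    · rw [if_pos hj] at hab
      refine hj₁' (mem_lay_of_sub_smul_mem (h := h) X hx₀ hne hf₁ hf₂ (μ := μ) ?_)
      rw [← hab, add_sub_cancel_right]
      exact ha
    · rw [if_neg hj, smul_zero, add_zero] at hab
      exact hj₁' (hab ▸ ha)
  obtain ⟨φ, hφ⟩ := Module.Projective.exists_dual_eq_one k
    (fun e0 => hv₁K ((Submodule.Quotient.mk_eq_zero _).1 e0) :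
      (Submodule.mkQ (lay σ C π (j₁ + 1) ⊔ Submodule.span k {v₂'})) (f₁ x₀) ≠ 0)
  obtain ⟨ψ, hψ⟩ : ∃ ψ, ψ = φ ∘ₗ Submodule.mkQ (lay σ C π (j₁ + 1) ⊔ Submodule.span k {v₂'}) :=
    ⟨_, rfl⟩
  have hψ1 : ψ (f₁ x₀) = 1 := by rw [hψ]; exact hφ
  have hψ0 : ∀ s ∈ lay σ C π (j₁ + 1) ⊔ Submodule.span k {v₂'}, ψ s = 0 := fun s hs => by
    rw [hψ, LinearMap.comp_apply, Submodule.mkQ_apply, (Submodule.Quotient.mk_eq_zero _).2 hs,
      map_zero]
  -- the map on the corner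
  obtain ⟨h₀, hh₀⟩ : ∃ h₀ : Module.End k S, ∀ s, h₀ s =
      ∑ l ∈ Finset.range (j₁ + 1), ψ (u (π ^ (j₁ - l)) s) • u (π ^ l) w :=
    ⟨∑ l ∈ Finset.range (j₁ + 1), (ψ ∘ₗ u (π ^ (j₁ - l))).smulRight (u (π ^ l) w),
      fun s => by simp⟩
  have hh₀π : ∀ s, h₀ (u π s) = u π (h₀ s) := by
    intro s
    rw [hh₀, hh₀, map_sum]
    simp only [map_smul, happ, ← pow_succ', ← pow_succ]
    rw [Finset.sum_range_succ', Finset.sum_range_succ (fun l => ψ (u (π ^ (j₁ - l)) s) • _) j₁,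
      Nat.sub_zero, hψ0 _ (Submodule.mem_sup_left ((hlay _ _).2 ⟨s, rfl⟩)), zero_smul, add_zero,
      pow_succ' π j₁, ← happ π (π ^ j₁), hπw, hπv₁, smul_zero, add_zero]
    refine Finset.sum_congr rfl fun l hl => ?_
    have : j₁ - (l + 1) + 1 = j₁ - l := by have := Finset.mem_range.1 hl; omega
    rw [this]
  have hh₀πn : ∀ n s, h₀ (u (π ^ n) s) = u (π ^ n) (h₀ s) := by
    intro n
    induction n with
    | zero => intro s; simp
    | succ n ih => intro s; rw [pow_succ', ← happ, hh₀π, ih, happ]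
  have hh₀i : ∀ s, u κ.i (h₀ s) = h₀ s := by
    intro s
    rw [hh₀, map_sum]
    refine Finset.sum_congr rfl fun l _ => ?_
    rw [map_smul, happ, ((h.L.π_central κ.i).pow_right l).eq, ← happ, hiw]
  have hpoly : ∀ b s, u κ.i s = s → h₀ (u (κ.i * b * κ.i) s) = u (κ.i * b * κ.i) (h₀ s) := by
    intro b s hs
    obtain ⟨c, hc⟩ := κ.corner b
    rw [hc, map_sum, LinearMap.sum_apply, LinearMap.sum_apply, map_sum]
    refine Finset.sum_congr rfl fun n _ => ?_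
    rw [map_smul, LinearMap.smul_apply, LinearMap.smul_apply, map_smul, ← happ, ← happ, hs, hh₀i,
      hh₀πn]
  have hval₁ : h₀ (f₁ x₀) = f₁ x₀ := by
    rw [hh₀, Finset.sum_eq_single j₁]
    · rw [Nat.sub_self, pow_zero, map_one, Module.End.one_apply, hψ1, one_smul, hπw]
    · intro l hl hlj
      have : 0 < j₁ - l := by have := Finset.mem_range.1 hl; omega
      obtain ⟨n, hn⟩ := Nat.exists_eq_succ_of_ne_zero this.ne'
      rw [hn, pow_succ, ← happ, hπv₁, map_zero, map_zero, zero_smul]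
    · exact fun hh => absurd (Finset.mem_range.2 (by omega)) hh
  have hval₂ : h₀ (f₂ x₀) ∈ lay σ C π (j₂ + 1) := by
    rw [hh₀, Finset.sum_eq_single j₁]
    · by_cases hj : j₁ = j₂
      · rw [Nat.sub_self, pow_zero, map_one, Module.End.one_apply,
          hψ0 _ (Submodule.mem_sup_right (by rw [hv₂', if_pos hj]; exact Submodule.subset_span rfl)),
          zero_smul]
        exact zero_mem _
      · refine Submodule.smul_mem _ _ (lay_le σ (show j₂ + 1 ≤ j₁ by omega) ?_)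
        exact (hlay _ _).2 ⟨w, rfl⟩
    · intro l hl hlj
      have : 0 < j₁ - l := by have := Finset.mem_range.1 hl; omega
      obtain ⟨n, hn⟩ := Nat.exists_eq_succ_of_ne_zero this.ne'
      rw [hn, pow_succ, ← happ, hπv₂, map_zero, map_zero, zero_smul]
    · exact fun hh => absurd (Finset.mem_range.2 (by omega)) hh
  -- the extension to the block
  obtain ⟨H, hH⟩ : ∃ H : Module.End k S, ∀ s,
      H s = ∑ l, u (ε * κ.x l) (h₀ (u (κ.i * κ.y l) s)) :=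
    ⟨∑ l, u (ε * κ.x l) * h₀ * u (κ.i * κ.y l), fun s => by simp [mul_assoc]⟩
  have hiyε : ∀ b, κ.i * b * ε = κ.i * b := fun b => by
    rw [mul_assoc, (h.L.ε_central b).eq, ← mul_assoc, (h.L.ε_central κ.i).eq, κ.εi]
  have hHC : ∀ a s, H (u a s) = u a (H s) := by
    intro a s
    have e1 : ∀ l, h₀ (u (κ.i * κ.y l) (u a s)) =
        ∑ m, u (κ.i * (κ.y l * a * κ.x m) * κ.i) (h₀ (u (κ.i * κ.y m) s)) := by
      intro l
      have e2 : κ.i * κ.y l * a =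
          ∑ m, κ.i * (κ.y l * a * κ.x m) * κ.i * (κ.i * κ.y m) := by
        conv_lhs => rw [mul_assoc, ← hiyε, ← mul_assoc]
        refine (congrArg (fun q => κ.i * κ.y l * a * q) κ.sum_eq.symm).trans ?_
        show κ.i * κ.y l * a * (∑ m, κ.x m * κ.i * κ.y m) = _
        rw [Finset.mul_sum]
        refine Finset.sum_congr rfl fun m _ => ?_
        simp only [mul_assoc]
        rw [← mul_assoc κ.i κ.i (κ.y m), κ.idem]
      rw [happ, e2, map_sum, LinearMap.sum_apply, map_sum]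
      refine Finset.sum_congr rfl fun m _ => ?_
      rw [← happ, hpoly _ _ (by rw [happ, ← mul_assoc, κ.idem])]
    rw [hH, hH, map_sum]
    simp only [e1, map_sum]
    rw [Finset.sum_comm]
    refine Finset.sum_congr rfl fun m _ => ?_
    simp only [happ]
    rw [← LinearMap.sum_apply, ← map_sum]
    have e3 : ∑ l, ε * κ.x l * (κ.i * (κ.y l * a * κ.x m) * κ.i) =
        a * (ε * κ.x m) * κ.i := by
      calc ∑ l, ε * κ.x l * (κ.i * (κ.y l * a * κ.x m) * κ.i)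
          = ε * ((∑ l, κ.x l * κ.i * κ.y l) * (a * κ.x m * κ.i)) := by
            simp only [Finset.sum_mul, Finset.mul_sum, mul_assoc]
        _ = ε * (ε * (a * κ.x m * κ.i)) := congrArg (fun q => ε * (q * (a * κ.x m * κ.i))) κ.sum_eq
        _ = _ := by
            rw [← mul_assoc, h.L.ε_idem, ← mul_assoc, ← mul_assoc, ← (h.L.ε_central a).eq,
              mul_assoc a]
    rw [e3, ← happ, hh₀i]
  have hHE : ∀ s, H (u ε s) = H s := fun s => by
    rw [hH, hH]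
    refine Finset.sum_congr rfl fun l _ => ?_
    rw [happ, hiyε]
  have hEH : ∀ s, u ε (H s) = H s := fun s => by
    rw [hH, map_sum]
    refine Finset.sum_congr rfl fun l _ => ?_
    rw [happ, ← mul_assoc, h.L.ε_idem]
  have hHi : ∀ s, u κ.i s = s → H s = h₀ s := by
    intro s hs
    have e1 : ∀ l, u (ε * κ.x l) (h₀ (u (κ.i * κ.y l) s)) =
        u (ε * κ.x l * (κ.i * κ.y l * κ.i)) (h₀ s) := by
      intro l
      conv_lhs => rw [← hs, happ, hpoly _ _ hs, happ]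
    rw [hH]
    simp only [e1]
    rw [← LinearMap.sum_apply, ← map_sum]
    have e2 : ∑ l, ε * κ.x l * (κ.i * κ.y l * κ.i) = κ.i := by
      calc ∑ l, ε * κ.x l * (κ.i * κ.y l * κ.i)
          = ε * ((∑ l, κ.x l * κ.i * κ.y l) * κ.i) := by
            simp only [Finset.sum_mul, Finset.mul_sum, mul_assoc]
        _ = ε * (ε * κ.i) := congrArg (fun q => ε * (q * κ.i)) κ.sum_eq
        _ = _ := by rw [κ.εi, κ.εi]
    rw [e2, hh₀i]
  -- the average
  obtain ⟨act, hact⟩ : ∃ act, act = homAct (grp σ) (grp σ) := ⟨_, rfl⟩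
  obtain ⟨Hb, hHb⟩ : ∃ Hb, Hb = (e : k)⁻¹ • relTr act T C H := ⟨_, rfl⟩
  have hlin : ∀ g (a : k) x, act g (a • x) = a • act g x := fun g a x =>
    hact ▸ homAct_smul _ _ g a x
  have hHfix : ∀ r ∈ C, act r H = H := by
    intro r hr
    refine LinearMap.ext fun s => ?_
    have hr' : ∀ (r' : C) s', grp σ (r' : G) s' = u (MonoidAlgebra.single r' 1) s' := fun r' s' => by
      rw [← hux, upHom_single, grp_apply]
    rw [hact, homAct_apply, hr' ⟨r, hr⟩, show (r⁻¹ : G) = ((⟨r, hr⟩⁻¹ : C) : G) from rfl, hr',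
      hHC, happ, MonoidAlgebra.single_mul_single, mul_inv_cancel, mul_one, ← MonoidAlgebra.one_def,
      map_one]
    rfl
  have hHbfix : ∀ t ∈ T, act t Hb = Hb := fun t ht => by
    rw [hHb, hlin, act_relTr act hHfix ht]
  have hEt : ∀ t ∈ T, ∀ s, grp σ t (u ε s) = u ε (grp σ t s) := fun t ht s => by
    rw [← hux, grp_apply, ← Module.End.mul_apply, ← Module.End.mul_apply, ← map_mul, ← map_mul,
      single_mul_comm, h.stab t ht]
  have hEHb : σ (upHom C ε) * Hb = Hb := by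
    rw [hHb, mul_smul_comm, relTr, Finset.mul_sum]
    congr 1
    refine Finset.sum_congr rfl fun q hq => ?_
    obtain ⟨t, ht, rfl⟩ := mem_cosetsIn.1 hq
    rw [cosetFam_mk act hHfix]
    refine LinearMap.ext fun s => ?_
    rw [Module.End.mul_apply, hux, hact, homAct_apply, ← hEt t ht, hEH]
  have hHbE : Hb * σ (upHom C ε) = Hb := by
    rw [hHb, smul_mul_assoc, relTr, Finset.sum_mul]
    congr 1
    refine Finset.sum_congr rfl fun q hq => ?_
    obtain ⟨t, ht, rfl⟩ := mem_cosetsIn.1 hq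
    rw [cosetFam_mk act hHfix]
    refine LinearMap.ext fun s => ?_
    rw [Module.End.mul_apply, hux, hact, homAct_apply, homAct_apply, hEt t⁻¹ (inv_mem ht), hHE]
  obtain ⟨c, hc⟩ := exists_scalar h hD hσ (x := Hb) (fun t ht => hact ▸ hHbfix t ht) hEHb hHbE
  haveI := Fintype.ofFinite T
  haveI := Fintype.ofFinite (⊤ : Subgroup T)
  obtain ⟨ω, hω⟩ := (mem_trOne_iff _).1 hc
  -- evaluation on an equivariant map
  have hdiff : ∀ z, ∀ f : X.V →ₗ[k] S, Equi T (X.τ z) σ f →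
      ∀ v, Hb (f v) - c • f v ∈ lay σ C π (N - 1) := by
    intro z f hf v
    have hEf : σ (upHom C ε) (f v) = f v := by
      rw [← Equi.map_act σ (X.restrict z) hf, X.one]; rfl
    have h1 : Hb (f v) - c • f v = ((Hb - c • σ (upHom C ε)) ∘ₗ f) v := by
      rw [LinearMap.comp_apply, LinearMap.sub_apply, LinearMap.smul_apply, hEf]
    rw [h1]
    refine range_le_of_trOne (h := h) σ X z ?_ ⟨v, rfl⟩
    refine (mem_trOne_iff _).2 ⟨ω ∘ₗ f, LinearMap.ext fun v => ?_⟩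
    rw [hω, LinearMap.comp_apply, LinearMap.sum_apply, LinearMap.sum_apply]
    refine Fintype.sum_equiv (Subgroup.topEquiv (G := T)).symm.toEquiv _ _ fun t => ?_
    rw [homAct_apply, homT_apply]
    show _ = grp σ (t : G) (ω (f (X.τ z t⁻¹ v)))
    rw [hf]
    rfl
  have hterm : ∀ z, ∀ f : X.V →ₗ[k] S, Equi T (X.τ z) σ f → ∀ v,
      ∀ t, (ht : t ∈ T) → act t H (f v) = grp σ t (H (f (X.τ z (⟨t, ht⟩ : T)⁻¹ v))) := by
    intro z f hf v t ht
    rw [hact, homAct_apply, show (t⁻¹ : G) = ((⟨t, ht⟩⁻¹ : T) : G) from rfl, ← hf]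
  have hHb₁ : ∀ v, Hb (f₁ v) = f₁ v := by
    intro v
    have hH1 : ∀ v, H (f₁ v) = f₁ v := fun v => by
      obtain ⟨a, rfl⟩ := X.simp.exists_apply hx₀ v
      rw [hmap₁, hHC, hHi _ hiv₁, hval₁]
    rw [hHb, LinearMap.smul_apply, relTr, LinearMap.sum_apply]
    rw [Finset.sum_congr rfl (g := fun _ => f₁ v) fun q hq => ?_]
    · rw [Finset.sum_const, card_cosetsIn h.le, h.idx, ← Nat.cast_smul_eq_nsmul k, smul_smul,
        inv_mul_cancel₀ h.e_ne, one_smul]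
    · obtain ⟨t, ht, rfl⟩ := mem_cosetsIn.1 hq
      rw [cosetFam_mk act hHfix, hterm z₁ f₁ hf₁ v t ht, hH1,
        show grp σ t = grp σ ((⟨t, ht⟩ : T) : G) from rfl, ← hf₁, ← Module.End.mul_apply, ← map_mul,
        mul_inv_cancel, map_one]
      rfl
  have hHb₂ : Hb (f₂ x₀) ∈ lay σ C π (j₂ + 1) := by
    have hH2 : ∀ v, H (f₂ v) ∈ lay σ C π (j₂ + 1) := fun v => by
      obtain ⟨a, rfl⟩ := X.simp.exists_apply hx₀ v
      rw [hmap₂, hHC, hHi _ hiv₂, ← hux]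
      exact apply_lay_of_central σ h a hval₂
    rw [hHb, LinearMap.smul_apply, relTr, LinearMap.sum_apply]
    refine Submodule.smul_mem _ _ (Submodule.sum_mem _ fun q hq => ?_)
    obtain ⟨t, ht, rfl⟩ := mem_cosetsIn.1 hq
    rw [cosetFam_mk act hHfix, hterm z₂ f₂ hf₂ x₀ t ht]
    exact grp_lay σ h ht (hH2 _)
  have hc1 : c = 1 := by
    by_contra hc1
    have h1 := hdiff z₁ f₁ hf₁ x₀
    rw [hHb₁, show f₁ x₀ - c • f₁ x₀ = (1 - c) • f₁ x₀ by rw [sub_smul, one_smul]] at h1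
    have h2 := Submodule.smul_mem _ (1 - c)⁻¹ h1
    rw [smul_smul, inv_mul_cancel₀ (sub_ne_zero.2 (Ne.symm hc1)), one_smul] at h2
    exact hj₁' (lay_le σ (by omega) h2)
  have h1 := hdiff z₂ f₂ hf₂ x₀
  rw [hc1, one_smul] at h1
  apply hj₂'
  have h2 := Submodule.sub_mem _ hHb₂ (lay_le σ (show j₂ + 1 ≤ N - 1 by omega) h1)
  rwa [sub_sub_cancel] at h2

/-- Two different extensions do not map to the same irreducible action. -/
theorem false_of_two_maps [FiniteDimensional k S] (hσ : Simp σ) {D : Subgroup G}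
    (hD : TraceFrom C T ε D) {z₁ z₂ : {z : k // z ^ e = 1}} (hne : z₁ ≠ z₂)
    {f₁ f₂ : X.V →ₗ[k] S} (hf₁ : Equi T (X.τ z₁) σ f₁) (hf₂ : Equi T (X.τ z₂) σ f₂)
    (hr₁ : ¬ LinearMap.range f₁ ≤ lay σ C π (N - 1))
    (hr₂ : ¬ LinearMap.range f₂ ≤ lay σ C π (N - 1)) : False := by
  obtain ⟨κ⟩ := h.L.exists_corner
  obtain ⟨x₀, hx₀i, hx₀⟩ : ∃ x₀, X.σ₁ κ.i x₀ = x₀ ∧ x₀ ≠ 0 := by
    by_contra hc
    push Not at hc
    obtain ⟨v, hv⟩ := X.simp.nontriv
    apply hv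
    have hsum := congrArg X.σ₁ κ.sum_eq
    rw [map_sum, X.one] at hsum
    rw [show v = (1 : Module.End k X.V) v from rfl, ← hsum, LinearMap.sum_apply]
    refine Finset.sum_eq_zero fun l _ => ?_
    rw [map_mul, map_mul, Module.End.mul_apply, Module.End.mul_apply,
      hc (X.σ₁ κ.i (X.σ₁ (κ.y l) v))
        (by rw [← Module.End.mul_apply, ← map_mul, κ.idem]), map_zero]
  have hlev : ∀ z, ∀ f : X.V →ₗ[k] S, Equi T (X.τ z) σ f →
      ¬ LinearMap.range f ≤ lay σ C π (N - 1) →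
      ∃ j, j + 1 < N ∧ f x₀ ∈ lay σ C π j ∧ f x₀ ∉ lay σ C π (j + 1) := by
    intro z f hf hr
    have hnot : f x₀ ∉ lay σ C π (N - 1) := by
      intro hm
      apply hr
      rintro _ ⟨v, rfl⟩
      obtain ⟨a, rfl⟩ := X.simp.exists_apply hx₀ v
      rw [Equi.map_act σ (X.restrict z) hf]
      exact apply_lay_of_central σ h a hm
    have hex : ∃ j, f x₀ ∉ lay σ C π (j + 1) :=
      ⟨N - 2, by rw [show N - 2 + 1 = N - 1 by have := h.two_le; omega]; exact hnot⟩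
    refine ⟨Nat.find hex, ?_, ?_, Nat.find_spec hex⟩
    · have := Nat.find_min' hex (m := N - 2)
        (by rw [show N - 2 + 1 = N - 1 by have := h.two_le; omega]; exact hnot)
      have := h.two_le
      omega
    · rcases Nat.eq_zero_or_pos (Nat.find hex) with h0 | h0
      · rw [h0]
        exact ⟨f x₀, by rw [pow_zero, map_one, map_one, Module.End.one_apply]⟩
      · have := Nat.find_min hex (m := Nat.find hex - 1) (by omega)
        rw [not_not, Nat.sub_add_cancel h0] at this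
        exact this
  obtain ⟨j₁, hj₁N, hj₁, hj₁'⟩ := hlev z₁ f₁ hf₁ hr₁
  obtain ⟨j₂, hj₂N, hj₂, hj₂'⟩ := hlev z₂ f₂ hf₂ hr₂
  rcases le_total j₂ j₁ with hle | hle
  · exact false_of_levels (h := h) X hσ hD hx₀i hx₀ hne hf₁ hf₂ hj₁N hle hj₁ hj₁' hj₂'
  · exact false_of_levels (h := h) X hσ hD hx₀i hx₀ (Ne.symm hne) hf₂ hf₁ hj₂N hle hj₂ hj₂' hj₁'

omit X in
/-- The block has at least `e` irreducible actions. -/
theorem exists_family {C T : Subgroup G} {t₀ : G} {e : ℕ} {ε π : MonoidAlgebra k C} {N : ℕ}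
    (h : Setting C T t₀ e ε π N) {D : Subgroup G} (hD : TraceFrom C T ε D)
    {eB : MonoidAlgebra k G} (hcen : ∀ a, Commute a eB) (hidem : eB * eB = eB)
    (hout : upHom C ε * (1 - eB) ∈ trOne (conjHom k) T) :
    ∃ Q : Fin e → Pack k G, (∀ i, Simp (Q i).σ) ∧ (∀ i, (Q i).σ eB = 1) ∧
      ∀ i j, i ≠ j → IsEmpty {φ : (Q i).S ≃ₗ[k] (Q j).S //
        ∀ a v, φ ((Q i).σ a v) = (Q j).σ a (φ v)} := by
  obtain ⟨X⟩ := exists_exts h
  haveI : NeZero (e : k) := ⟨h.e_ne⟩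
  obtain ⟨ζ, hζ⟩ := HasEnoughRootsOfUnity.exists_primitiveRoot k e
  let z : Fin e → {z : k // z ^ e = 1} := fun i =>
    ⟨ζ ^ (i : ℕ), by rw [← pow_mul, mul_comm, pow_mul, hζ.pow_eq_one, one_pow]⟩
  choose Q hQ hQB f hf hr using fun i => exists_target (h := h) X (z i) hcen hidem hout
  refine ⟨Q, hQ, hQB, fun i j hij => ⟨fun ⟨φ, hφ⟩ => ?_⟩⟩
  refine false_of_two_maps (h := h) X (hQ j) hD (z₁ := z i) (z₂ := z j)
    (fun e0 => hij (Fin.ext (hζ.pow_inj i.2 j.2 (congrArg Subtype.val e0))))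
    (Equi.comp (Q i).σ (φ := (φ : (Q i).S →ₗ[k] (Q j).S)) hφ (hf i)) (hf j) (fun hle => ?_) (hr j)
  apply hr i
  rintro _ ⟨v, rfl⟩
  obtain ⟨s, hs⟩ := hle ⟨v, rfl⟩
  refine ⟨φ.symm s, φ.injective ?_⟩
  rw [hφ, LinearEquiv.apply_symm_apply]
  exact hs

end CfsgLib.Blk83.Cyc
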