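import Cfsg.Agent.Lib.Blk83.CyclicShape
import Mathlib.NumberTheory.LegendreSymbol.AddCharacter
import Mathlib.NumberTheory.GaussSum
import Mathlib.Analysis.Complex.Basic

/-!
From the inner products of the columns at the nontrivial elements of a cyclic group to the shape
of the integral matrix of their Fourier coefficients.
-/

set_option autoImplicit false
set_option maxHeartbeats 800000

open scoped Classical ComplexConjugate

namespace CfsgLib.Blk83.Cyc

variable {n e : ℕ} [NeZero n]

/-- A free action of a cyclic group of units on the nonzero residues has representatives. -/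
theorem exists_orbit_reps (u : ZMod n) (hue : u ^ e = 1) (he : 0 < e)
    (hfree : ∀ (i : ℕ) (s : ZMod n), s ≠ 0 → u ^ i * s = s → e ∣ i) :
    ∃ (Q : Type) (_ : Fintype Q) (rep : Q → ZMod n), (∀ q, rep q ≠ 0) ∧
      (∀ s : ZMod n, s ≠ 0 → ∃ q, ∃ i < e, s = u ^ i * rep q) ∧
      (∀ q q', ∀ i < e, ∀ j < e, u ^ i * rep q = u ^ j * rep q' → q = q' ∧ i = j) ∧
      n = 1 + e * Fintype.card Q := by
  have hinv : ∀ i : ℕ, u ^ (i * (e - 1)) * u ^ i = 1 := fun i => by
    rw [← pow_add, ← Nat.mul_succ, Nat.succ_eq_add_one, Nat.sub_add_cancel he, mul_comm,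
      pow_mul, hue, one_pow]
  have hne : ∀ (i : ℕ) (s : ZMod n), s ≠ 0 → u ^ i * s ≠ 0 := fun i s hs h0 => hs (by
    rw [← one_mul s, ← hinv i, mul_assoc, h0, mul_zero])
  let S : Setoid {s : ZMod n // s ≠ 0} :=
    { r := fun s t => ∃ i : ℕ, (t : ZMod n) = u ^ i * s
      iseqv := ⟨fun s => ⟨0, by simp⟩,
        fun {s t} ⟨i, hi⟩ => ⟨i * (e - 1), by rw [hi, ← mul_assoc, hinv, one_mul]⟩,
        fun {s t w} ⟨i, hi⟩ ⟨j, hj⟩ => ⟨j + i, by rw [hj, hi, pow_add, mul_assoc]⟩⟩ }
  haveI : Finite (Quotient S) := inferInstance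
  obtain ⟨rep, hrep, hsurj, hinj⟩ : ∃ rep : Quotient S → ZMod n, (∀ q, rep q ≠ 0) ∧
      (∀ s : ZMod n, s ≠ 0 → ∃ q, ∃ i < e, s = u ^ i * rep q) ∧
      (∀ q q', ∀ i < e, ∀ j < e, u ^ i * rep q = u ^ j * rep q' → q = q' ∧ i = j) := by
    refine ⟨fun q => (q.out : ZMod n), fun q => q.out.2, fun s hs => ?_, ?_⟩
    · obtain ⟨i, hi⟩ := Quotient.mk_out (s := S) (⟨s, hs⟩ : {s : ZMod n // s ≠ 0})
      refine ⟨Quotient.mk S ⟨s, hs⟩, i % e, Nat.mod_lt _ he, ?_⟩
      rw [← pow_eq_pow_mod i hue]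
      exact hi
    · intro q q' i hi j hj h
      have hq : q = q' := by
        rw [← Quotient.out_eq q, ← Quotient.out_eq q']
        refine Quotient.sound ⟨j * (e - 1) + i, ?_⟩
        rw [pow_add, mul_assoc, h, ← mul_assoc, hinv, one_mul]
      subst hq
      refine ⟨rfl, ?_⟩
      obtain ⟨c, hc⟩ := hfree (j * (e - 1) + i) _ q.out.2
        (by rw [pow_add, mul_assoc, h, ← mul_assoc, hinv, one_mul])
      obtain ⟨e', rfl⟩ : ∃ e', e = e' + 1 := ⟨e - 1, (Nat.sub_add_cancel he).symm⟩
      rw [Nat.add_sub_cancel] at hc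
      have h1 : (i : ℤ) - j = ((e' + 1 : ℕ) : ℤ) * ((c : ℤ) - j) := by
        have : (j : ℤ) * e' + i = ((e' + 1 : ℕ) : ℤ) * c := by exact_mod_cast hc
        push_cast at this ⊢
        linear_combination this
      rcases lt_trichotomy ((c : ℤ) - j) 0 with h2 | h2 | h2
      · exfalso; nlinarith
      · rw [h2, mul_zero] at h1; omega
      · exfalso; nlinarith
  haveI := Fintype.ofFinite (Quotient S)
  refine ⟨Quotient S, inferInstance, rep, hrep, hsurj, hinj, ?_⟩
  have hb : Function.Bijective (fun x : Quotient S × Fin e =>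
      (⟨u ^ (x.2 : ℕ) * rep x.1, hne _ _ (hrep _)⟩ : {s : ZMod n // s ≠ 0})) := by
    constructor
    · rintro ⟨q, i⟩ ⟨q', j⟩ h
      obtain ⟨rfl, hij⟩ := hinj q q' i i.2 j j.2 (congrArg Subtype.val h)
      exact Prod.ext rfl (Fin.ext hij)
    · intro s
      obtain ⟨q, i, hi, h⟩ := hsurj s s.2
      exact ⟨(q, ⟨i, hi⟩), Subtype.ext h.symm⟩
  have := Fintype.card_of_bijective hb
  rw [Fintype.card_prod, Fintype.card_fin, Fintype.card_subtype_compl,
    Fintype.card_subtype_eq, ZMod.card] at this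
  have hn : 0 < n := NeZero.pos n
  rw [mul_comm]
  omega

/-- **The shape from the inner products.** -/
theorem exists_shape_of_fourier {K : Type*} [Fintype K] (u : ZMod n) (hue : u ^ e = 1) (he : 0 < e)
    (hfree : ∀ (i : ℕ) (s : ZMod n), s ≠ 0 → u ^ i * s = s → e ∣ i) {ζ : ℂ}
    (hζ : IsPrimitiveRoot ζ n) (hn : 1 < n) {r l : ℕ} (hnr : n = 1 + e * r)
    (F : K → ZMod n → ℂ) (c : K → ZMod n → ℤ)
    (hF : ∀ i m, m ≠ 0 → F i m = ∑ s, (c i s : ℂ) * ζ ^ (s * m).val)
    (hFu : ∀ i m, m ≠ 0 → F i (u * m) = F i m)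
    (hFF : ∀ m m', m ≠ 0 → m' ≠ 0 → ∑ i, F i m * conj (F i m') =
      (n : ℂ) * ∑ j ∈ Finset.range e, if m' = u ^ j * m then 1 else 0)
    (deg : K → ℤ) (hdeg : ∀ i, 0 < deg i)
    (horth : ∀ m, m ≠ 0 → ∑ i, (deg i : ℂ) * conj (F i m) = 0)
    (hne : ∀ i, ∃ m, m ≠ 0 ∧ F i m ≠ 0) (hcard : Fintype.card K = l + r) (hl : e ≤ l) :
    ∃ (Y : Finset K) (ε : ℤ) (a : K → ℤ), Y.card = r ∧ (ε = 1 ∨ ε = -1) ∧ l = e ∧
      (∀ i ∉ Y, a i = 1 ∨ a i = -1) ∧
      (∀ f : K → ℂ, (∀ m, m ≠ 0 → ∑ i, f i * conj (F i m) = 0) →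
        ∀ i ∈ Y, (ε : ℂ) * f i + ∑ j ∈ Finset.univ \ Y, (a j : ℂ) * f j = 0) ∧
      (∀ i ∉ Y, ∀ m, m ≠ 0 → F i m = -(a i : ℂ)) ∧
      ∀ m, m ≠ 0 → ∑ i ∈ Y, F i m = -(ε : ℂ) := by
  obtain ⟨Q, _, rep, hrep, hsurj, hinj, hnQ⟩ := exists_orbit_reps u hue he hfree
  have hr : Fintype.card Q = r := by
    have := hnQ.symm.trans hnr
    exact Nat.eq_of_mul_eq_mul_left he (by omega)
  haveI : Nonempty Q := by
    obtain ⟨q, -⟩ := hsurj 1 (by
      haveI : Fact (1 < n) := ⟨hn⟩
      exact one_ne_zero)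
    exact ⟨q⟩
  -- the additive character
  obtain ⟨E, hE⟩ : ∃ E : AddChar (ZMod n) ℂ, E = AddChar.zmodChar n hζ.pow_eq_one := ⟨_, rfl⟩
  have hEv : ∀ x, E x = ζ ^ x.val := fun x => by rw [hE, AddChar.zmodChar_apply]
  have hprim : E.IsPrimitive := hE ▸ AddChar.zmodChar_primitive_of_primitive_root n hζ
  have hsum : ∀ b : ZMod n, ∑ x, E (x * b) = if b = 0 then (n : ℂ) else 0 := fun b => by
    rw [AddChar.sum_mulShift b hprim, ZMod.card]; split_ifs <;> norm_num
  have hconj : ∀ x, conj (E x) = E (-x) := fun x => by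
    rw [AddChar.map_neg_eq_inv, Complex.inv_def, Complex.normSq_eq_norm_sq, hEv,
      norm_pow, Complex.norm_eq_one_of_pow_eq_one hζ.pow_eq_one (NeZero.ne n)]
    simp
  -- the Fourier coefficients
  obtain ⟨D, hD⟩ : ∃ D : K → ZMod n → ℤ, ∀ i s, D i s = c i s - c i 0 :=
    ⟨fun i s => c i s - c i 0, fun _ _ => rfl⟩
  obtain ⟨H, hH⟩ : ∃ H : K → ZMod n → ℂ, ∀ i m, H i m = ∑ s, (D i s : ℂ) * E (s * m) :=
    ⟨fun i m => ∑ s, (D i s : ℂ) * E (s * m), fun _ _ => rfl⟩
  have hHF : ∀ i m, m ≠ 0 → H i m = F i m := fun i m hm => by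
    rw [hH, hF i m hm]
    simp only [hD, Int.cast_sub, sub_mul, Finset.sum_sub_distrib, ← Finset.mul_sum, hsum,
      if_neg hm, mul_zero, sub_zero]
    exact Finset.sum_congr rfl fun s _ => by rw [hEv]
  have hD0 : ∀ i, D i 0 = 0 := fun i => by rw [hD, sub_self]
  have hw0 : ∀ s : ZMod n, E (-(s * 0)) - 1 = 0 := fun s => by
    rw [mul_zero, neg_zero, AddChar.map_zero_eq_one, sub_self]
  have hinvF : ∀ i s, (n : ℂ) * (D i s : ℂ) = ∑ m, H i m * (E (-(s * m)) - 1) := by
    intro i s
    simp only [hH, Finset.sum_mul]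
    rw [Finset.sum_comm, Finset.sum_congr rfl fun t _ => show
      ∑ m, (D i t : ℂ) * E (t * m) * (E (-(s * m)) - 1) =
        (D i t : ℂ) * ((if t = s then (n : ℂ) else 0) - if t = 0 then (n : ℂ) else 0) by
      rw [show (if t = s then (n : ℂ) else 0) = if t - s = 0 then (n : ℂ) else 0 by
        simp [sub_eq_zero], ← hsum, ← hsum, ← Finset.sum_sub_distrib, Finset.mul_sum]
      refine Finset.sum_congr rfl fun m _ => ?_
      rw [mul_sub, mul_one, mul_assoc, ← AddChar.map_add_eq_mul, mul_sub,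
        show m * (t - s) = t * m + -(s * m) by ring, mul_comm m t]]
    simp [mul_sub, mul_ite, Finset.sum_sub_distrib, hD0, mul_comm]
  have hunit : IsUnit u := IsUnit.of_mul_eq_one (u ^ (e - 1))
    (by rw [← pow_succ', Nat.sub_add_cancel he, hue])
  have hu0 : ∀ (j : ℕ) (m : ZMod n), m ≠ 0 → u ^ j * m ≠ 0 := fun j m hm h0 =>
    hm ((hunit.pow j).mul_right_eq_zero.1 h0)
  have hn0 : (n : ℂ) ≠ 0 := Nat.cast_ne_zero.2 (NeZero.ne n)
  have hDu : ∀ i s, D i (u * s) = D i s := by
    intro i s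
    refine Int.cast_injective (α := ℂ) (mul_left_cancel₀ hn0 ?_)
    rw [hinvF, hinvF]
    refine Fintype.sum_equiv hunit.unit.mulLeft _ _ fun m => ?_
    rw [Units.mulLeft_apply, IsUnit.unit_spec, mul_left_comm s u m, ← mul_assoc u s m]
    by_cases hm : m = 0
    · simp [hm]
    · rw [hHF i m hm, hHF i _ (by simpa using hu0 1 m hm), hFu i m hm]
  have hDpow : ∀ i s (j : ℕ), D i (u ^ j * s) = D i s := by
    intro i s j
    induction j with
    | zero => simp
    | succ j ih => rw [pow_succ', mul_assoc, hDu, ih]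
  -- the inner products
  have hgram : ∀ s s', s ≠ 0 → s' ≠ 0 → ∑ i, (D i s : ℂ) * (D i s' : ℂ) =
      (∑ j ∈ Finset.range e, if s = u ^ j * s' then (1 : ℂ) else 0) + (e : ℂ) := by
    intro s s' hs hs'
    refine mul_left_cancel₀ (mul_ne_zero hn0 hn0) ?_
    calc (n : ℂ) * n * ∑ i, (D i s : ℂ) * (D i s' : ℂ)
        = ∑ i, (∑ m, H i m * (E (-(s * m)) - 1)) *
            conj (∑ m', H i m' * (E (-(s' * m')) - 1)) := by
          rw [Finset.mul_sum]
          refine Finset.sum_congr rfl fun i _ => ?_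
          rw [← hinvF, ← hinvF, map_mul, Complex.conj_natCast, map_intCast]
          ring
      _ = ∑ m, ∑ m', (∑ i, H i m * conj (H i m')) *
            ((E (-(s * m)) - 1) * (E (s' * m') - 1)) := by
          simp only [map_sum, map_mul, map_sub, map_one, hconj, neg_neg, Finset.sum_mul,
            Finset.mul_sum]
          conv_lhs => arg 2; ext i; rw [Finset.sum_comm]
          rw [Finset.sum_comm]
          refine Finset.sum_congr rfl fun m _ => ?_
          rw [Finset.sum_comm]
          exact Finset.sum_congr rfl fun m' _ => Finset.sum_congr rfl fun i _ => by ring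
      _ = ∑ m, ∑ m', ((n : ℂ) * ∑ j ∈ Finset.range e, if m' = u ^ j * m then 1 else 0) *
            ((E (-(s * m)) - 1) * (E (s' * m') - 1)) := by
          refine Finset.sum_congr rfl fun m _ => Finset.sum_congr rfl fun m' _ => ?_
          by_cases hm : m = 0
          · simp [hm]
          by_cases hm' : m' = 0
          · simp [hm']
          rw [Finset.sum_congr rfl fun i _ => by rw [hHF i m hm, hHF i m' hm'], hFF m m' hm hm']
      _ = ∑ j ∈ Finset.range e, (n : ℂ) *
            ∑ m, (E (-(s * m)) - 1) * (E (s' * (u ^ j * m)) - 1) := by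
          rw [Finset.sum_congr rfl fun j (_ : j ∈ Finset.range e) => Finset.mul_sum _ _ _,
            Finset.sum_comm (s := Finset.range e)]
          refine Finset.sum_congr rfl fun m _ => ?_
          simp only [Finset.mul_sum, Finset.sum_mul]
          rw [Finset.sum_comm]
          refine Finset.sum_congr rfl fun j _ => ?_
          rw [Finset.sum_eq_single (u ^ j * m)]
          · rw [if_pos rfl]; ring
          · intro m' _ hm'
            rw [if_neg hm']; ring
          · exact fun hh => absurd (Finset.mem_univ _) hh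
      _ = ∑ j ∈ Finset.range e, (n : ℂ) *
            ((if s = u ^ j * s' then (n : ℂ) else 0) + n) := by
          refine Finset.sum_congr rfl fun j _ => congrArg _ ?_
          have e1 : ∀ m, (E (-(s * m)) - 1) * (E (s' * (u ^ j * m)) - 1) =
              E (m * (u ^ j * s' - s)) - E (m * (-s)) - E (m * (u ^ j * s')) + 1 := by
            intro m
            rw [show m * (u ^ j * s' - s) = -(s * m) + s' * (u ^ j * m) by ring,
              AddChar.map_add_eq_mul, show m * (-s) = -(s * m) by ring,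
              show m * (u ^ j * s') = s' * (u ^ j * m) by ring]
            ring
          simp only [e1, Finset.sum_add_distrib, Finset.sum_sub_distrib, hsum, sub_eq_zero,
            neg_eq_zero, if_neg hs, if_neg (hu0 j s' hs'), sub_zero, Finset.sum_const,
            Finset.card_univ, ZMod.card, nsmul_one]
          congr 1
          exact if_congr eq_comm rfl rfl
      _ = _ := by
          simp only [mul_add, Finset.mul_sum, Finset.sum_add_distrib, mul_ite, mul_one, mul_zero,
            Finset.sum_const, Finset.card_range, nsmul_eq_mul]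
          ring_nf
  -- the matrix
  have horth' : ∀ f : K → ℂ, (∀ m, m ≠ 0 → ∑ i, f i * conj (F i m) = 0) →
      ∀ s, ∑ i, f i * (D i s : ℂ) = 0 := by
    intro f hf s
    refine mul_left_cancel₀ hn0 ?_
    rw [mul_zero, Finset.mul_sum, Finset.sum_congr rfl fun i _ => show
      (n : ℂ) * (f i * (D i s : ℂ)) = ∑ m, f i * conj (H i m) * conj (E (-(s * m)) - 1) by
      rw [mul_left_comm, show ((n : ℂ) * (D i s : ℂ)) = conj ((n : ℂ) * (D i s : ℂ)) by simp,
        hinvF, map_sum, Finset.mul_sum]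
      exact Finset.sum_congr rfl fun m _ => by rw [map_mul]; ring, Finset.sum_comm]
    refine Finset.sum_eq_zero fun m _ => ?_
    rw [← Finset.sum_mul]
    by_cases hm : m = 0
    · simp [hm]
    · rw [Finset.sum_congr rfl fun i _ => by rw [hHF i m hm], hf m hm, zero_mul]
  obtain ⟨μ, ε, a, hμ, hε, hle, hX, hY⟩ := exists_shape (fun i q => D i (rep q)) e l deg hdeg
    (fun q => Int.cast_injective (α := ℂ) (by
      push_cast
      rw [← horth' (fun i => (deg i : ℂ)) horth (rep q)]
      exact Finset.sum_congr rfl fun i _ => by ring))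
    (fun q q' => Int.cast_injective (α := ℂ) (by
      push_cast
      rw [hgram _ _ (hrep q) (hrep q')]
      congr 1
      by_cases h : q = q'
      · subst h
        rw [if_pos rfl, Finset.sum_eq_single 0]
        · simp
        · intro j hj hj0
          rw [if_neg fun h' => ?_]
          exact hj0 ((hinj q q 0 he j (Finset.mem_range.1 hj) (by rw [pow_zero, one_mul]; exact h')).2.symm)
        · exact fun hh => absurd (Finset.mem_range.2 he) hh
      · rw [if_neg h]
        refine Finset.sum_eq_zero fun j hj => ?_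
        rw [if_neg fun h' => h (hinj q q' 0 he j (Finset.mem_range.1 hj) (by
          rw [pow_zero, one_mul]; exact h')).1]))
    (fun i => by
      obtain ⟨m, hm, hFm⟩ := hne i
      by_contra hcon
      push Not at hcon
      refine hFm ?_
      rw [← hHF i m hm, hH]
      refine Finset.sum_eq_zero fun s _ => ?_
      by_cases hs : s = 0
      · simp [hs, hD0]
      · obtain ⟨q, j, -, rfl⟩ := hsurj s hs
        simp [hDpow, hcon q])
    (by rw [hcard, hr]) hl
  refine ⟨Finset.univ.image μ, ε, a, by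
    rw [Finset.card_image_of_injective _ hμ, Finset.card_univ, hr], hε, hle,
    fun i hi => (hX i hi).1, fun f hf i hi => ?_, fun i hi m hm => ?_, fun m hm => ?_⟩
  · obtain ⟨q, -, rfl⟩ := Finset.mem_image.1 hi
    have h1 := horth' f hf (rep q)
    rw [← Finset.sum_sdiff (Finset.subset_univ (Finset.univ.image μ)),
      Finset.sum_image hμ.injOn, Finset.sum_eq_single q] at h1
    · rw [← h1, hY q q, if_pos rfl, add_comm, mul_comm (f (μ q))]
      congr 1
      exact Finset.sum_congr rfl fun j hj => by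
        rw [(hX j (Finset.mem_sdiff.1 hj).2).2 q, mul_comm]
    · intro q' _ hq'
      rw [hY q' q, if_neg hq']
      simp
    · exact fun hh => absurd (Finset.mem_univ _) hh
  · have h1 : ∀ s, (D i s : ℂ) = (a i : ℂ) - if s = 0 then (a i : ℂ) else 0 := by
      intro s
      by_cases hs : s = 0
      · simp [hs, hD0]
      · obtain ⟨q, j, -, rfl⟩ := hsurj s hs
        rw [hDpow, (hX i hi).2 q, if_neg hs, sub_zero]
    rw [← hHF i m hm, hH]
    simp only [h1, sub_mul, ite_mul, zero_mul, Finset.sum_sub_distrib, ← Finset.mul_sum, hsum,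
      if_neg hm, mul_zero, Finset.sum_ite_eq', Finset.mem_univ, if_true, AddChar.map_zero_eq_one,
      mul_one, zero_sub]
  · have h1 : ∀ s, ∑ q, (D (μ q) s : ℂ) = (ε : ℂ) - if s = 0 then (ε : ℂ) else 0 := by
      intro s
      by_cases hs : s = 0
      · simp [hs, hD0]
      · obtain ⟨q, j, -, rfl⟩ := hsurj s hs
        rw [if_neg hs, sub_zero, Finset.sum_eq_single q]
        · rw [hDpow, hY q q, if_pos rfl]
        · intro q' _ hq'
          rw [hDpow, hY q' q, if_neg hq', Int.cast_zero]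
        · exact fun hh => absurd (Finset.mem_univ _) hh
    rw [Finset.sum_image hμ.injOn, Finset.sum_congr rfl fun q _ => by rw [← hHF _ m hm, hH],
      Finset.sum_comm]
    simp only [← Finset.sum_mul, h1, sub_mul, ite_mul, zero_mul, Finset.sum_sub_distrib]
    simp only [← Finset.mul_sum, hsum, if_neg hm, mul_zero, Finset.sum_ite_eq', Finset.mem_univ,
      if_true, mul_zero, zero_mul, AddChar.map_zero_eq_one, mul_one, zero_sub]

end CfsgLib.Blk83.Cyc
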