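import Cfsg.Agent.Lib.Blk83.CyclicCol
import Cfsg.Agent.Lib.BlockStar.Nilpotent
import Mathlib.GroupTheory.SpecificGroups.Cyclic

/-!
The columns of a block with cyclic defect group and inertial index one are the linear characters
of the defect group times the column of one character.
-/

set_option autoImplicit false
set_option maxHeartbeats 800000
set_option synthInstance.maxHeartbeats 400000

open Cfsg CfsgLib.Blocks CfsgLib.Blocks.Pairs CfsgLib.BlockRank CfsgLib.BlockReg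
open scoped Classical ComplexConjugate

namespace CfsgLib.Blk83.Cyc

universe u

variable {G : Type u} [Group G] [Finite G] {p : ℕ} [Fact p.Prime] {M : Ideal AlgInt} [M.IsMaximal]
  [CharP (ResField M) p]
variable {B : Set (IrrCharacter G)} {hB : IsPBlock M B} {D : Subgroup G}
  {eD : MonoidAlgebra (ResField M) G} {a e : ℕ}

/-- A generator of the defect group. -/
theorem CycData.exists_gen (h : CycData p hB D eD a e) :
    ∃ y₀ : G, y₀ ∈ D ∧ orderOf y₀ = p ^ a ∧ Subgroup.zpowers y₀ = D := by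
  obtain ⟨⟨y, hy⟩, hgen⟩ := h.cyc.exists_generator
  refine ⟨y, hy, ?_, le_antisymm (Subgroup.zpowers_le.2 hy) fun x hx => ?_⟩
  · rw [← h.card, ← orderOf_eq_card_of_forall_mem_zpowers hgen, Subgroup.orderOf_mk]
  · obtain ⟨i, hi⟩ := Subgroup.mem_zpowers_iff.1 (hgen ⟨x, hx⟩)
    exact Subgroup.mem_zpowers_iff.2 ⟨i, by simpa using congrArg Subtype.val hi⟩

theorem CycData.gen_pow_ne_one (_h : CycData p hB D eD a e) {y₀ : G} (ho : orderOf y₀ = p ^ a)
    {m : ℕ} (hm : ¬ p ^ a ∣ m) : y₀ ^ m ≠ 1 := fun h1 =>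
  hm (ho ▸ orderOf_dvd_of_pow_eq_one h1)

theorem CycData.exists_gen_pow (_h : CycData p hB D eD a e) {y₀ : G} (hgen : Subgroup.zpowers y₀ = D)
    (ho : orderOf y₀ = p ^ a) {y : G} (hy : y ∈ D) (hy1 : y ≠ 1) :
    ∃ m : ℕ, ¬ p ^ a ∣ m ∧ y = y₀ ^ m := by
  obtain ⟨m, rfl⟩ := (Submonoid.mem_powers_iff _ _).1
    (mem_powers_iff_mem_zpowers.2 (hgen.symm ▸ hy))
  exact ⟨m, fun hd => hy1 (orderOf_dvd_iff_pow_eq_one.1 (ho ▸ hd)), rfl⟩

/-- With trivial inertial index the fusion is inner. -/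
theorem CycData.stab_le (h : CycData p hB D eD a 1) :
    pairStab D eD ≤ Subgroup.centralizer (D : Set G) :=
  Subgroup.relIndex_eq_one.1 h.idx

theorem CycData.innerFusion (h : CycData p hB D eD a 1) :
    CfsgLib.BlockStar.InnerFusion p D eD := by
  intro u hu g f h1 h2
  rw [CfsgLib.BlockStar.conjSub_zpowers_eq] at h2
  obtain ⟨t, ht, htu⟩ := exists_stab_of_fusion h.pair h.noExt h.comm h1 h2
  refine ⟨1, D.one_mem, ?_⟩
  rw [← htu, one_mul, inv_one, mul_one, mul_inv_eq_iff_eq_mul,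
    Subgroup.mem_centralizer_iff.1 (h.stab_le ht) u hu]

/-- A twist multiplies the column by the twisting character. -/
theorem CycData.col_star [Fintype G] (h : CycData p hB D eD a 1) {η : G → ℂ}
    (hst : CfsgLib.BlockStar.Stable p D eD η) {θ θ' : IrrCharacter G}
    (hθ' : (θ' : G → ℂ) = CfsgLib.BlockStar.star p M D eD η (θ : G → ℂ)) {y : G} (hy : y ∈ D)
    (hy1 : y ≠ 1) : col p D eD y θ' = η y * col p D eD y θ := by
  obtain ⟨b, hb, -⟩ := h.exists_subBlk hy hy1 rfl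
  obtain ⟨φ, hφ⟩ := block_nonempty h.hM (hb.induced h).1
  obtain ⟨k, -, hk⟩ := h.orderOf_dvd hy
  haveI := Fintype.ofFinite (Subgroup.centralizer ({y} : Set G))
  haveI := Fintype.ofFinite b
  obtain ⟨-, hb1, hs⟩ := id hb
  have h1reg : Cfsg.IsPRegular p (1 : Subgroup.centralizer ({y} : Set G)) :=
    CfsgLib.PerfIso.isPRegular_one
  refine mul_right_cancel₀ (deg_ne_zero φ) ?_
  rw [mul_assoc, ← hb.value h hy hy1 hφ θ h1reg, ← hb.value h hy hy1 hφ θ' h1reg]
  have hw : CfsgLib.BlockStar.pairVal p D eD η y (eIn hb1) = η y := by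
    rw [CfsgLib.BlockStar.pairVal_eq hst (g := 1) (by rwa [conjSub_one, conjA_one]), one_mul,
      inv_one, mul_one]
  -- the projection of a projection
  have hproj : ∀ b' : {b : Set (IrrCharacter (Subgroup.centralizer ({y} : Set G))) // IsPBlock M b},
      ∑ c, projKer b 1 c *
        Cfsg.blockPart b'.1 (fun c => (θ : G → ℂ) (y * (c : G))) c =
      if b'.1 = b then
        Cfsg.blockPart b (fun c : Subgroup.centralizer ({y} : Set G) => (θ : G → ℂ) (y * c)) 1
      else 0 := by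
    intro b'
    haveI := Fintype.ofFinite b'.1
    have hfun : Cfsg.blockPart b'.1 (fun c : Subgroup.centralizer ({y} : Set G) =>
        (θ : G → ℂ) (y * c)) = ∑ ψ : IrrCharacter (Subgroup.centralizer ({y} : Set G)),
          (if ψ ∈ b'.1 then Cfsg.classInner (fun c : Subgroup.centralizer ({y} : Set G) =>
            (θ : G → ℂ) (y * c)) (ψ : Subgroup.centralizer ({y} : Set G) → ℂ) else 0) •
            (ψ : Subgroup.centralizer ({y} : Set G) → ℂ) := by
      funext s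
      rw [blockPart_apply, Finset.sum_apply]
      simp only [Pi.smul_apply, smul_eq_mul, ite_mul, zero_mul]
      rw [← Finset.sum_filter]
      exact Finset.sum_congr (by ext; simp) fun _ _ => rfl
    rw [← blockPart_eq_projKer, blockPart_apply, hfun]
    simp only [CfsgLib.Char.classInner_sum_smul_irr, ite_mul, zero_mul]
    split_ifs with hbb
    · rw [blockPart_apply]
      refine Finset.sum_congr rfl fun ψ hψ => ?_
      rw [if_pos (hbb ▸ Set.mem_toFinset.1 hψ)]
    · refine Finset.sum_eq_zero fun ψ hψ => if_neg fun h' => hbb ?_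
      exact IsPBlock.eq_of_mem b'.2 hb1 h' (Set.mem_toFinset.1 hψ)
  rw [blockPart_eq_projKer]
  calc ∑ c, projKer b 1 c * (θ' : G → ℂ) (y * (c : G))
      = ∑ c, projKer b 1 c * ∑ b' : {b : Set (IrrCharacter (Subgroup.centralizer ({y} : Set G))) //
          IsPBlock M b}, CfsgLib.BlockStar.pairVal p D eD η y (eIn b'.2) *
            Cfsg.blockPart b'.1 (fun c => (θ : G → ℂ) (y * (c : G))) c := by
        refine Finset.sum_congr rfl fun c _ => ?_
        by_cases hc : Cfsg.IsPRegular p c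
        · rw [hθ', CfsgLib.BlockStar.star_section h.hM D eD η
            (CfsgLib.Char.IsIrrCharacter.isClassFunction θ.2) y ⟨k, hk⟩ c hc]
        · rw [projKer_eq_zero h.hM hb1 h1reg hc, zero_mul, zero_mul]
    _ = ∑ b' : {b : Set (IrrCharacter (Subgroup.centralizer ({y} : Set G))) // IsPBlock M b},
          CfsgLib.BlockStar.pairVal p D eD η y (eIn b'.2) *
            ∑ c, projKer b 1 c * Cfsg.blockPart b'.1 (fun c => (θ : G → ℂ) (y * (c : G))) c := by
        simp only [Finset.mul_sum]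
        rw [Finset.sum_comm]
        exact Finset.sum_congr rfl fun b' _ => Finset.sum_congr rfl fun c _ => by ring
    _ = η y *
        Cfsg.blockPart b (fun c : Subgroup.centralizer ({y} : Set G) => (θ : G → ℂ) (y * c)) 1 := by
        rw [Finset.sum_eq_single (⟨b, hb1⟩ : {b : Set (IrrCharacter (Subgroup.centralizer
          ({y} : Set G))) // IsPBlock M b})]
        · rw [hproj, if_pos rfl, hw]
        · intro b' _ hne
          rw [hproj, if_neg fun h' => hne (Subtype.ext h'), mul_zero]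
        · exact fun h' => absurd (Finset.mem_univ _) h'

/-- **Inertial index one.** -/
theorem CycData.exists_linear (h : CycData p hB D eD a 1) {y₀ : G}
    (hgen : Subgroup.zpowers y₀ = D) (ho : orderOf y₀ = p ^ a) {ζ : ℂ}
    (hζ : IsPrimitiveRoot ζ (p ^ a)) :
    ∃ θ₀ ∈ B, (∀ y ∈ D, y ≠ 1 → col p D eD y θ₀ * conj (col p D eD y θ₀) = 1) ∧
      (∀ j : ℕ, ∃ θ ∈ B, ∀ m : ℕ, ¬ p ^ a ∣ m →
        col p D eD (y₀ ^ m) θ = ζ ^ (j * m) * col p D eD (y₀ ^ m) θ₀) ∧
      ∀ θ ∈ B, ∃ j : ℕ, ∀ m : ℕ, ¬ p ^ a ∣ m →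
        col p D eD (y₀ ^ m) θ = ζ ^ (j * m) * col p D eD (y₀ ^ m) θ₀ := by
  haveI := Fintype.ofFinite G
  have hp : p.Prime := Fact.out
  set n := p ^ a with hn
  have hn0 : 0 < n := pow_pos hp.pos a
  have hy₀ : y₀ ∈ D := hgen ▸ Subgroup.mem_zpowers y₀
  obtain ⟨θ₀, hθ₀, hmin⟩ := exists_minExp (p := p) (block_nonempty h.hM hB)
  obtain ⟨Φ, hΦ, -⟩ := CfsgLib.BlockStar.exists_equiv_of_innerFusion h.hM hB h.pair h.noExt
    h.innerFusion hθ₀ hmin
  have hgen' : ∀ x : D, x ∈ Subgroup.zpowers (⟨y₀, hy₀⟩ : D) := by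
    rintro ⟨x, hx⟩
    obtain ⟨i, hi⟩ := Subgroup.mem_zpowers_iff.1 (hgen.symm ▸ hx : x ∈ Subgroup.zpowers y₀)
    exact Subgroup.mem_zpowers_iff.2 ⟨i, Subtype.ext (by simpa using hi)⟩
  have hζ0 : ζ ≠ 0 := hζ.ne_zero hn0.ne'
  have hu : ∀ j : ℕ, orderOf ((Units.mk0 ζ hζ0) ^ j) ∣ orderOf (⟨y₀, hy₀⟩ : D) := fun j => by
    rw [Subgroup.orderOf_mk, ho, orderOf_dvd_iff_pow_eq_one]
    ext
    push_cast
    rw [Units.val_mk0, ← pow_mul, mul_comm, pow_mul, hζ.pow_eq_one, one_pow]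
  let lam : ℕ → (D →* ℂˣ) := fun j => monoidHomOfForallMemZpowers hgen' (hu j)
  have hlam : ∀ j m, ∀ hm : y₀ ^ m ∈ D, (lam j ⟨y₀ ^ m, hm⟩ : ℂ) = ζ ^ (j * m) := by
    intro j m hm
    rw [show (⟨y₀ ^ m, hm⟩ : D) = ⟨y₀, hy₀⟩ ^ m from Subtype.ext rfl, map_pow,
      monoidHomOfForallMemZpowers_apply_gen]
    push_cast
    rw [Units.val_mk0, pow_mul]
  let Lam : ℕ → IrrCharacter D := fun j =>
    ⟨fun u => (lam j u : ℂ), CfsgLib.Char.isIrrCharacter_linear (lam j)⟩
  let F : ℕ → IrrCharacter G := fun j => (Φ (Lam j) : IrrCharacter G)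
  have hF : ∀ j m, ¬ n ∣ m →
      col p D eD (y₀ ^ m) (F j) = ζ ^ (j * m) * col p D eD (y₀ ^ m) θ₀ := by
    intro j m hm
    rw [h.col_star (CfsgLib.BlockStar.stable_extendByZero h.innerFusion
      (CfsgLib.Char.IsIrrCharacter.isClassFunction (Lam j).2)) (hΦ (Lam j)) (pow_mem hy₀ m)
      (h.gen_pow_ne_one ho hm)]
    congr 1
    exact (CfsgLib.BlockStar.extendByZero_coe D _ ⟨y₀ ^ m, pow_mem hy₀ m⟩).trans (hlam j m _)
  have h1 : ¬ n ∣ 1 := fun h' => by
    have := Nat.one_lt_pow (by have := h.pos; omega) hp.one_lt (n := a)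
    rw [← hn] at this
    exact absurd (Nat.le_of_dvd one_pos h') (by omega)
  have hcard : Nat.card B = n := by
    rw [(rankOne_of_trivial_inertial h.hM hB h.pair h.noExt h.comm h.stab_le).2, h.card]
  haveI := Fintype.ofFinite B
  let f : Fin n → B := fun j => ⟨F j, (Φ (Lam j)).2⟩
  have hinj : Function.Injective f := by
    intro i j hij
    have h2 := congrArg (fun t : B => col p D eD (y₀ ^ 1) (t : IrrCharacter G)) hij
    simp only [f, hF _ 1 h1, mul_one] at h2
    refine Fin.ext (hζ.pow_inj i.2 j.2 (mul_right_cancel₀ ?_ h2))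
    exact h.col_ne_zero (pow_mem hy₀ 1) (h.gen_pow_ne_one ho h1) hθ₀
  have hsurj : Function.Surjective f := ((Fintype.bijective_iff_injective_and_card f).2
    ⟨hinj, by rw [Fintype.card_fin, ← Nat.card_eq_fintype_card, hcard]⟩).2
  refine ⟨θ₀, hθ₀, fun y hy hy1 => ?_, fun j => ⟨F j, (Φ (Lam j)).2, hF j⟩, fun θ hθ => ?_⟩
  · obtain ⟨m, hm, rfl⟩ := h.exists_gen_pow hgen ho hy hy1
    obtain ⟨b, hb, -⟩ := h.exists_subBlk hy hy1 rfl
    obtain ⟨φ, hφ⟩ := block_nonempty h.hM (hb.induced h).1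
    have hnorm := (hb.isColumn h hy hy1 hφ).norm
    rw [finsum_mem_eq_toFinset_sum, h.defect, ← hn,
      Finset.sum_subtype B.toFinset (fun x => Set.mem_toFinset)
        (fun χ : IrrCharacter G => col p D eD (y₀ ^ m) χ * conj (col p D eD (y₀ ^ m) χ)),
      ← Fintype.sum_bijective f ⟨hinj, hsurj⟩
        (fun i : Fin n => ζ ^ ((i : ℕ) * m) * col p D eD (y₀ ^ m) θ₀ *
          conj (ζ ^ ((i : ℕ) * m) * col p D eD (y₀ ^ m) θ₀)) _
        (fun i => by simp only [f, hF _ m hm])] at hnorm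
    have hone : ∀ i : ℕ, ζ ^ i * conj (ζ ^ i) = 1 := fun i => by
      rw [Complex.mul_conj, Complex.normSq_eq_norm_sq, norm_pow,
        Complex.norm_eq_one_of_pow_eq_one hζ.pow_eq_one hn0.ne', one_pow, one_pow,
        Complex.ofReal_one]
    simp only [map_mul] at hnorm
    rw [Finset.sum_congr rfl fun (i : Fin n) _ => (show _ = col p D eD (y₀ ^ m) θ₀ *
        conj (col p D eD (y₀ ^ m) θ₀) by
          linear_combination (col p D eD (y₀ ^ m) θ₀ * conj (col p D eD (y₀ ^ m) θ₀)) *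
            hone ((i : ℕ) * m)),
      Finset.sum_const, Finset.card_univ, Fintype.card_fin, nsmul_eq_mul] at hnorm
    exact mul_left_cancel₀ (Nat.cast_ne_zero.2 hn0.ne') (hnorm.trans (mul_one _).symm)
  · obtain ⟨j, hj⟩ := hsurj ⟨θ, hθ⟩
    refine ⟨j, fun m hm => ?_⟩
    have hval : θ = F j := (congrArg Subtype.val hj).symm
    rw [hval]
    exact hF j m hm

end CfsgLib.Blk83.Cyc
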