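import Cfsg.Agent.Lib.Blk83.CyclicExt

/-!
Maps from an extension into an action of the group: traces from the trivial subgroup are the maps
into the top layer, and every extension maps onto a bottom layer of some irreducible action.
-/

set_option autoImplicit false

open scoped Classical

namespace CfsgLib.Blk83.Cyc

open CfsgLib.Blocks CfsgLib.Blocks.Pairs

set_option maxSynthPendingDepth 4

universe u v

variable {k : Type} [Field k] [IsAlgClosed k] {G : Type u} [Group G] [Finite G]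
  {C T : Subgroup G} {t₀ : G} {e : ℕ} {ε π : MonoidAlgebra k C} {N : ℕ}
variable {S : Type v} [AddCommGroup S] [Module k S]
  (σ : MonoidAlgebra k G →ₐ[k] Module.End k S)

theorem π_act_eq_zero (h : Setting C T t₀ e ε π N) {V : Type*} [AddCommGroup V] [Module k V]
    [FiniteDimensional k V] {ρ : MonoidAlgebra k C →ₐ[k] Module.End k V} (hρ : Simp ρ) :
    ρ π = 0 := by
  obtain ⟨c, hc⟩ := hρ.schur (ρ π) fun a => (h.L.π_central a).map ρ
  have h1 : ρ (π ^ N) = 0 := by rw [h.L.π_pow, map_zero]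
  rw [map_pow, hc, smul_pow, one_pow] at h1
  haveI : Nontrivial V := let ⟨v, hv⟩ := hρ.nontriv; ⟨v, 0, hv⟩
  rw [hc, eq_zero_of_pow_eq_zero ((smul_eq_zero.1 h1).resolve_right one_ne_zero), zero_smul]

variable {h : Setting C T t₀ e ε π N} (X : Exts C T h.le ⟨t₀, h.mem⟩ e ε)
  (z : {z : k // z ^ e = 1})

/-- The traces from the trivial subgroup to `T` go into the top layer. -/
theorem range_le_of_trOne {f : X.V →ₗ[k] S} (hf : f ∈ trOne (homT σ T (X.τ z)) ⊤) :
    LinearMap.range f ≤ lay σ C π (N - 1) := by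
  haveI := Fintype.ofFinite C
  obtain ⟨κ⟩ := h.L.exists_corner
  have hf' := trOne_le _ (le_top : C.subgroupOf T ≤ ⊤) hf
  haveI := Fintype.ofFinite (C.subgroupOf T)
  obtain ⟨u, rfl⟩ := (mem_trOne_iff _).1 hf'
  let b := Module.finBasis k X.V
  let g : Fin (Module.finrank k X.V) → X.V → MonoidAlgebra k C := fun i v =>
    ofFun fun c => b.coord i (grp X.σ₁ c⁻¹ v)
  have hgeq : ∀ i, ∀ a : MonoidAlgebra k C, ∀ v, g i (X.σ₁ a v) = a * g i v := by
    intro i a v
    induction a using MonoidAlgebra.induction_linear with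
    | zero => ext c; simp [g]
    | add a a' ha ha' =>
      rw [add_mul, ← ha, ← ha']
      ext c
      simp [g]
    | single c r =>
      ext d
      rw [coeff_single_mul_group]
      simp only [g, coeff_ofFun]
      rw [grp_apply, grp_apply, ← Module.End.mul_apply, ← map_mul,
        MonoidAlgebra.single_mul_single, one_mul, mul_inv_rev, inv_inv,
        show MonoidAlgebra.single (d⁻¹ * c) r = r • MonoidAlgebra.single (d⁻¹ * c) (1 : k) by
          rw [MonoidAlgebra.smul_single', mul_one], map_smul, LinearMap.smul_apply, map_smul,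
        smul_eq_mul]
  have hf_eq : ∀ v, (∑ c : C.subgroupOf T, homT σ T (X.τ z) (c : T) u) v =
      ∑ i, σ (upHom C (g i v)) (u (b i)) := by
    intro v
    have hdec : ∀ i, σ (upHom C (g i v)) (u (b i)) =
        ∑ c : C, b.coord i (grp X.σ₁ c⁻¹ v) • grp σ (c : G) (u (b i)) := by
      intro i
      have : g i v = ∑ c : C, b.coord i (grp X.σ₁ c⁻¹ v) • MonoidAlgebra.single c 1 := by
        ext d
        simp [g, MonoidAlgebra.coeff_sum, Finsupp.single_apply]
      rw [this, map_sum, map_sum, LinearMap.sum_apply]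
      refine Finset.sum_congr rfl fun c _ => ?_
      rw [map_smul, map_smul, upHom_single, LinearMap.smul_apply, grp_apply σ]
    simp only [hdec]
    rw [Finset.sum_comm, LinearMap.sum_apply]
    refine Fintype.sum_equiv (Subgroup.subgroupOfEquivOfLe h.le).toEquiv _ _ fun c => ?_
    rw [homT_apply]
    have hres : X.τ z ((c : T))⁻¹ = grp X.σ₁ (Subgroup.subgroupOfEquivOfLe h.le c)⁻¹ := by
      rw [← X.restrict z]
      rfl
    rw [hres]
    conv_lhs => rw [← b.sum_repr (grp X.σ₁ (Subgroup.subgroupOfEquivOfLe h.le c)⁻¹ v), map_sum,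
      map_sum]
    refine Finset.sum_congr rfl fun i _ => ?_
    rw [map_smul, map_smul]
    rfl
  rintro _ ⟨v, rfl⟩
  rw [hf_eq]
  refine Submodule.sum_mem _ fun i _ => ?_
  obtain ⟨a, ha⟩ := κ.ann_eq h.L (a := g i v)
    (by rw [← hgeq, X.one]; rfl)
    (by rw [← hgeq, π_act_eq_zero h X.simp]; ext c; simp [g])
  rw [ha, map_mul, map_mul]
  exact ⟨σ (upHom C a) (u (b i)), rfl⟩

/-- A map into the top layer is a trace from the trivial subgroup. -/
theorem trOne_of_range_le {f : X.V →ₗ[k] S} (hf : Equi T (X.τ z) σ f)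
    (hr : LinearMap.range f ≤ lay σ C π (N - 1)) : f ∈ trOne (homT σ T (X.τ z)) ⊤ := by
  haveI := Fintype.ofFinite C
  obtain ⟨κ⟩ := h.L.exists_corner
  have hε : ∀ v, X.σ₁ ε v = v := fun v => by rw [X.one]; rfl
  obtain ⟨x₀, hx₀, hx0ne⟩ : ∃ x₀, X.σ₁ κ.i x₀ = x₀ ∧ x₀ ≠ 0 := by
    by_contra hc
    push Not at hc
    obtain ⟨v, hv⟩ := X.simp.nontriv
    apply hv
    have hsum := congrArg X.σ₁ κ.sum_eq
    rw [map_sum] at hsum
    rw [← hε v, ← hsum, LinearMap.sum_apply]
    refine Finset.sum_eq_zero fun l _ => ?_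
    rw [map_mul, map_mul, Module.End.mul_apply, Module.End.mul_apply,
      hc (X.σ₁ κ.i (X.σ₁ (κ.y l) v))
        (by rw [← Module.End.mul_apply, ← map_mul, κ.idem]), map_zero]
  let L : MonoidAlgebra k C →ₗ[k] X.V := (LinearMap.applyₗ x₀).comp X.σ₁.toLinearMap
  have hLs : Function.Surjective L := fun v => X.simp.exists_apply hx0ne v
  obtain ⟨s, hs⟩ := L.exists_rightInverse_of_surjective (LinearMap.range_eq_top.2 hLs)
  have hker : ∀ a, X.σ₁ a x₀ = 0 → a * (π ^ (N - 1) * κ.i) = 0 := by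
    intro a ha
    have key : ∀ l, κ.i * κ.y l * a * κ.i * π ^ (N - 1) = 0 := by
      intro l
      obtain ⟨c, hc⟩ := κ.corner (κ.y l * a)
      have hN := h.L.hN
      have h1 : X.σ₁ (κ.i * (κ.y l * a) * κ.i) x₀ = 0 := by
        rw [map_mul, map_mul, map_mul, Module.End.mul_apply, Module.End.mul_apply,
          Module.End.mul_apply, hx₀, ha, map_zero, map_zero]
      rw [hc, map_sum, LinearMap.sum_apply, Finset.sum_eq_single (⟨0, hN⟩ : Fin N)] at h1
      · rw [map_smul, LinearMap.smul_apply, pow_zero, one_mul, hx₀] at h1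
        have hc0 := (smul_eq_zero.1 h1).resolve_right hx0ne
        rw [mul_assoc κ.i (κ.y l) a, hc, Finset.sum_mul]
        refine Finset.sum_eq_zero fun j _ => ?_
        by_cases hj : j = ⟨0, hN⟩
        · rw [hj, hc0, zero_smul, zero_mul]
        · have : 0 < (j : ℕ) := Nat.pos_of_ne_zero fun e0 => hj (Fin.ext e0)
          rw [smul_mul_assoc, mul_assoc, ((h.L.π_central κ.i).pow_right _).eq, ← mul_assoc,
            ← pow_add, h.L.π_pow_eq_zero (by omega), zero_mul, smul_zero]
      · intro j _ hj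
        have : 0 < (j : ℕ) := Nat.pos_of_ne_zero fun e0 => hj (Fin.ext e0)
        obtain ⟨j', hj'⟩ := Nat.exists_eq_succ_of_ne_zero this.ne'
        rw [map_smul, LinearMap.smul_apply, hj', pow_succ', map_mul, map_mul,
          π_act_eq_zero h X.simp]
        simp
      · exact fun hh => absurd (Finset.mem_univ _) hh
    have h2 : ε * (a * (π ^ (N - 1) * κ.i)) = a * (π ^ (N - 1) * κ.i) := by
      rw [← mul_assoc, ← (h.L.ε_central a).eq, mul_assoc, ← mul_assoc ε,
        ← (h.L.ε_central (π ^ (N - 1))).eq, mul_assoc (π ^ (N - 1)), κ.εi]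
    rw [← h2]
    refine (congrArg (fun q => q * (a * (π ^ (N - 1) * κ.i))) κ.sum_eq.symm).trans ?_
    show (∑ l, κ.x l * κ.i * κ.y l) * _ = 0
    rw [Finset.sum_mul]
    refine Finset.sum_eq_zero fun l _ => ?_
    rw [← ((h.L.π_central κ.i).pow_right (N - 1)).eq]
    calc κ.x l * κ.i * κ.y l * (a * (κ.i * π ^ (N - 1)))
        = κ.x l * (κ.i * κ.y l * a * κ.i * π ^ (N - 1)) := by simp only [mul_assoc]
      _ = 0 := by rw [key, mul_zero]
  -- the embedding into the regular module
  obtain ⟨j, hj⟩ : ∃ j : X.V →ₗ[k] MonoidAlgebra k C,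
      j = (LinearMap.mulRight k (π ^ (N - 1) * κ.i)).comp s := ⟨_, rfl⟩
  have hjval : ∀ a, j (X.σ₁ a x₀) = a * (π ^ (N - 1) * κ.i) := by
    intro a
    rw [hj]
    show s (X.σ₁ a x₀) * _ = _
    rw [← sub_eq_zero, ← sub_mul]
    apply hker
    rw [map_sub, LinearMap.sub_apply, sub_eq_zero]
    exact LinearMap.congr_fun hs (X.σ₁ a x₀)
  have hjeq : ∀ a v, j (X.σ₁ a v) = a * j v := by
    intro a v
    obtain ⟨b, rfl⟩ := X.simp.exists_apply hx0ne v
    rw [← Module.End.mul_apply, ← map_mul, hjval, hjval, mul_assoc]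
  obtain ⟨w', hw'⟩ := hr ⟨x₀, rfl⟩
  obtain ⟨w, hw⟩ : ∃ w, w = σ (upHom C κ.i) w' := ⟨_, rfl⟩
  have hmap := fun a v => Equi.map_act σ (X.restrict z) hf a v
  have hf0 : σ (upHom C (π ^ (N - 1))) w = f x₀ := by
    rw [hw, ← Module.End.mul_apply, ← map_mul, ← map_mul,
      ← ((h.L.π_central κ.i).pow_right (N - 1)).eq, map_mul, map_mul, Module.End.mul_apply, hw',
      ← hmap, hx₀]
  have hfj : ∀ v, f v = σ (upHom C (j v)) w := by
    intro v
    obtain ⟨a, rfl⟩ := X.simp.exists_apply hx0ne v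
    rw [hjval, hmap, map_mul, map_mul, Module.End.mul_apply]
    congr 1
    rw [← hf0, map_mul, map_mul, Module.End.mul_apply, hw, ← Module.End.mul_apply (σ (upHom C κ.i)),
      ← map_mul, ← map_mul, κ.idem]
  obtain ⟨u, hu⟩ : ∃ u : X.V →ₗ[k] S, ∀ v, u v = (j v).coeff 1 • w :=
    ⟨{ toFun := fun v => (j v).coeff 1 • w
       map_add' := fun a b => by simp [add_smul]
       map_smul' := fun c a => by simp [mul_smul] }, fun _ => rfl⟩
  have hfC : f ∈ trOne (homT σ T (X.τ z)) (C.subgroupOf T) := by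
    haveI := Fintype.ofFinite (C.subgroupOf T)
    refine (mem_trOne_iff _).2 ⟨u, LinearMap.ext fun v => ?_⟩
    rw [hfj, LinearMap.sum_apply]
    have hdec : j v = ∑ c : C, (j v).coeff c • MonoidAlgebra.single c 1 := by
      ext d
      simp [MonoidAlgebra.coeff_sum, Finsupp.single_apply]
    conv_lhs => rw [hdec, map_sum, map_sum, LinearMap.sum_apply]
    refine (Fintype.sum_equiv (Subgroup.subgroupOfEquivOfLe h.le).toEquiv _ _ fun c => ?_).symm
    obtain ⟨c', hc'⟩ : ∃ c' : C, c' = Subgroup.subgroupOfEquivOfLe h.le c := ⟨_, rfl⟩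
    have hres : X.τ z ((c : T))⁻¹ = grp X.σ₁ c'⁻¹ := by
      rw [← X.restrict z, hc']
      rfl
    rw [homT_apply, hres, hu, grp_apply X.σ₁, hjeq, coeff_single_mul_group, inv_inv, mul_one,
      one_mul, map_smul, map_smul, map_smul, LinearMap.smul_apply, upHom_single, grp_apply,
      show ((Subgroup.subgroupOfEquivOfLe h.le).toEquiv c) = c' from hc'.symm,
      show ((c : T) : G) = (c' : G) by rw [hc']; rfl]
  refine mem_trOne_of_fixed _ (homAct_smul _ _) le_top ?_ hfC fun t _ => hf.fixed σ t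
  rw [Subgroup.relIndex_top_right]
  have hidx := h.idx
  rw [Subgroup.relIndex] at hidx
  rw [hidx]
  exact h.e_ne

end CfsgLib.Blk83.Cyc
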