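import Cfsg.Agent.Lib.Blk83.CyclicFamily
import Cfsg.Agent.Lib.Blk83.CyclicData

/-!
A block with cyclic defect group has at least as many irreducible Brauer characters as its
inertial index.
-/

set_option autoImplicit false

open Cfsg CfsgLib.Blocks CfsgLib.Blocks.Pairs
open scoped Classical

namespace CfsgLib.Blk83.Cyc

set_option maxSynthPendingDepth 4

universe u

section Elementary

variable {F : Type*} [Field F] {G : Type u} [Group G] [Finite G]

theorem relTr_bot {A : Type*} [AddCommGroup A] (act : G →* AddMonoid.End A) (H : Subgroup G)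
    (w : A) : relTr act H ⊥ w ∈ trOne act H := by
  refine sum_mem_trOne act (fun h hh q hq => smul_mem_cosetsIn hh hq) (fun h _ q _ => ?_) fun q _ => ?_
  · exact cosetFam_smul act (fun d hd => by rw [Subgroup.mem_bot.1 hd, act_one]) h q
  · refine trOne_bot act (eq_bot_iff.2 fun g hg => ?_) _
    induction q using QuotientGroup.induction_on with
    | _ x =>
      have h1 : (g • (x : G ⧸ (⊥ : Subgroup G))) = (x : G ⧸ (⊥ : Subgroup G)) :=
        MulAction.mem_stabilizer_iff.1 hg.2
      rw [MulAction.Quotient.smul_coe, QuotientGroup.eq, Subgroup.mem_bot] at h1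
      rw [Subgroup.mem_bot]
      simpa [mul_assoc, inv_mul_eq_one] using h1

theorem sum_act_eq_relTr_bot {A : Type*} [AddCommGroup A] (act : G →* AddMonoid.End A)
    (H : Subgroup G) [Fintype H] (w : A) : ∑ h : H, act h w = relTr act H ⊥ w := by
  refine Finset.sum_bij (fun h _ => ((h : G) : G ⧸ (⊥ : Subgroup G)))
    (fun h _ => mem_cosetsIn.2 ⟨h, h.2, rfl⟩) (fun a _ b _ hab => ?_) (fun q hq => ?_) fun h _ => ?_
  · have := QuotientGroup.eq.1 hab
    rw [Subgroup.mem_bot, inv_mul_eq_one] at this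
    exact Subtype.ext this
  · obtain ⟨g, hg, rfl⟩ := mem_cosetsIn.1 hq
    exact ⟨⟨g, hg⟩, Finset.mem_univ _, rfl⟩
  · rw [cosetFam_mk act fun d hd => by rw [Subgroup.mem_bot.1 hd, act_one]]

/-- An element fixed by `D` all of whose support is freely moved is a trace from the identity. -/
theorem mem_trOne_of_free {D : Subgroup G} {x : MonoidAlgebra F G} (hfix : ConjFixed D x)
    (hfree : ∀ g, x.coeff g ≠ 0 → ∀ d ∈ D, d * g = g * d → d = 1) :
    x ∈ trOne (conjHom F) D := by
  haveI := Fintype.ofFinite G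
  let X := {g : G // g ∈ (Set.univ : Set G)}
  letI : MulAction G X :=
    { smul := fun g y => ⟨g * y * g⁻¹, trivial⟩
      one_smul := fun y => Subtype.ext (by show 1 * (y : G) * 1⁻¹ = y; simp)
      mul_smul := fun a b y => Subtype.ext (by
        show a * b * (y : G) * (a * b)⁻¹ = a * (b * y * b⁻¹) * a⁻¹
        group) }
  have hx : x = ∑ y : X, MonoidAlgebra.single (y : G) (x.coeff y) := by
    ext g
    rw [MonoidAlgebra.coeff_sum, Finset.sum_apply', Finset.sum_eq_single (⟨g, trivial⟩ : X)]
    · simp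
    · intro y _ hy
      rw [MonoidAlgebra.coeff_single, Finsupp.single_eq_of_ne]
      exact fun e => hy (Subtype.ext e.symm)
    · exact fun h => absurd (Finset.mem_univ _) h
  rw [hx]
  refine sum_mem_trOne (conjHom F) (fun _ _ _ _ => Finset.mem_univ _) (fun d hd y _ => ?_)
    fun y _ => ?_
  · show MonoidAlgebra.single (d * (y : G) * d⁻¹) (x.coeff (d * (y : G) * d⁻¹)) = _
    rw [conjHom_apply, conjA_single', hfix d hd]
  · by_cases hy : x.coeff (y : G) = 0
    · rw [hy, MonoidAlgebra.single_zero]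
      exact zero_mem _
    · refine trOne_bot (conjHom F) (H := D ⊓ MulAction.stabilizer G y)
        (eq_bot_iff.2 fun d hd => Subgroup.mem_bot.2 (hfree y hy d hd.1 ?_)) _
      have h1 : d * (y : G) * d⁻¹ = y := congrArg Subtype.val (MulAction.mem_stabilizer_iff.1 hd.2)
      rwa [mul_inv_eq_iff_eq_mul] at h1

end Elementary

variable {G : Type u} [Group G] [Finite G] {p : ℕ} [Fact p.Prime] {M : Ideal AlgInt} [M.IsMaximal]
  [CharP (ResField M) p]

variable {B : Set (IrrCharacter G)} {hB : IsPBlock M B} {D : Subgroup G}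
  {eD : MonoidAlgebra (ResField M) G} {a e : ℕ}

/-- The subgroup of order `p`. -/
theorem CycData.exists_order_p (h : CycData p hB D eD a e) :
    ∃ D₁ : Subgroup G, D₁ ≤ D ∧ Nat.card D₁ = p ∧
      ∀ y ∈ D, orderOf y = p → Subgroup.zpowers y = D₁ := by
  have hp : p.Prime := Fact.out
  obtain ⟨y, hy⟩ := exists_prime_orderOf_dvd_card' (G := D) p
    (by rw [h.card]; exact dvd_pow_self p (by have := h.pos; omega))
  refine ⟨Subgroup.zpowers (y : G), Subgroup.zpowers_le.2 y.2, by
    rw [Nat.card_zpowers, Subgroup.orderOf_coe, hy], fun z hz hzo =>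
    eq_of_card_eq_of_le_cyclic h.cyc (Subgroup.zpowers_le.2 hz) (Subgroup.zpowers_le.2 y.2)
      (by rw [Nat.card_zpowers, Nat.card_zpowers, hzo, Subgroup.orderOf_coe, hy])⟩

/-- **The lower bound for the rank.** -/
theorem CycData.le_blockRank (h : CycData p hB D eD a e) : e ≤ Cfsg.blockRank p B := by
  have hp : p.Prime := Fact.out
  haveI := isAlgClosed_resField (M := M)
  haveI := Fintype.ofFinite G
  obtain ⟨D₁, hD₁D, hD₁c, hD₁u⟩ := h.exists_order_p
  have hD₁1 : D₁ ≠ ⊥ := fun hb => hp.ne_one (by rw [← hD₁c, hb, Subgroup.card_bot])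
  obtain ⟨e₁, hns⟩ := h.exists_below hD₁D
  have hsle := hns.sle
  obtain ⟨b, hb, hbe, hP', hno', -, -, π, hL⟩ := h.local_below hD₁D hD₁1 hsle
  obtain ⟨hle, hmul, hinf⟩ := h.stab_below hD₁D hD₁1 hsle
  obtain ⟨-, ⟨t₀, ht₀, hgen, hpow⟩, hdvd, -⟩ := h.inertial
  have hpair₁ := hsle.pair_left h.pair.pair
  obtain ⟨C, hC⟩ : ∃ C, C = Subgroup.centralizer (D₁ : Set G) := ⟨_, rfl⟩
  subst hC
  have hCD : Subgroup.centralizer (D : Set G) ≤ Subgroup.centralizer (D₁ : Set G) :=
    centralizer_anti hD₁D
  have hDC : D ≤ Subgroup.centralizer (D₁ : Set G) := h.le_centralizer.trans hCD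
  have hup : upHom (Subgroup.centralizer (D₁ : Set G)) (ebar hb) = e₁ := by
    rw [upHom_eq, hbe, up_down hpair₁.block.mem.supp]
  have hepos : e ≠ 0 := by
    intro e0
    have := hdvd
    rw [e0, zero_dvd_iff] at this
    have := hp.two_le
    omega
  have hecop : ¬ p ∣ e := fun hh => by
    have h0 : 0 < p - 1 := by have := hp.two_le; omega
    have h1 : p ≤ p - 1 := Nat.le_of_dvd h0 (hh.trans hdvd)
    omega
  have hS : Setting (Subgroup.centralizer (D₁ : Set G)) (pairStab D₁ e₁) t₀ e (ebar hb) π (p ^ a) := by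
    refine ⟨hL, ?_, centralizer_le_pairStab hpair₁, ?_, hle ht₀, ?_, fun i => ?_,
      h.idx_below hD₁D hD₁1 hsle, ?_, fun t ht => by rw [hup]; exact ht.2⟩
    · calc 2 ≤ p := hp.two_le
        _ = p ^ 1 := (pow_one p).symm
        _ ≤ p ^ a := Nat.pow_le_pow_right hp.pos h.pos
    · exact fun g hg => normalizer_le_normalizer_centralizer D₁ hg.1
    · intro t ht
      obtain ⟨y, hy, z, hz, rfl⟩ := hmul t ht
      obtain ⟨i, c, hc, rfl⟩ := hgen y hy
      exact ⟨i, c * z, mul_mem (hCD hc) hz, mul_assoc _ _ _⟩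
    · exact ⟨fun hi => (hpow i).1 (hinf _ (pow_mem ht₀ i) hi), fun hi => hCD ((hpow i).2 hi)⟩
    · rwa [Ne, CharP.cast_eq_zero_iff (ResField M) p]
  haveI hnC : ((Subgroup.centralizer (D₁ : Set G)).subgroupOf (pairStab D₁ e₁)).Normal :=
    Subgroup.normal_subgroupOf_of_le_normalizer hS.norm
  have hTr : TraceFrom (Subgroup.centralizer (D₁ : Set G)) (pairStab D₁ e₁) (ebar hb) D := by
    refine ⟨hDC, ?_, fun g hg => ?_⟩
    · rw [hup]
      refine exists_relTr_eq (p := p) hDC hpair₁.block.mem fun c hc R hR hRC hcR => ?_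
      have hcC : c ∈ Subgroup.centralizer (D₁ : Set G) := by
        by_contra hh
        exact hc (hpair₁.block.mem.supp c hh)
      have hmax := maxR_of_noExt hP' hno'
      obtain ⟨x, hx⟩ := hmax.max (R.subgroupOf (Subgroup.centralizer (D₁ : Set G)))
        (hR.of_equiv (Subgroup.subgroupOfEquivOfLe hRC).symm) (fun h0 => hc (by
          have h1 := congrArg (fun q => MonoidAlgebra.coeff q (⟨c, hcC⟩ :
            Subgroup.centralizer (D₁ : Set G))) h0
          rw [coeff_trunc, if_pos (Subgroup.mem_centralizer_iff.2 fun r hr => Subtype.ext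
            (Subgroup.mem_centralizer_iff.1 hcR r hr)), hbe, coeff_down] at h1
          simpa using h1))
      refine ⟨x, x.2, ?_⟩
      have h2 := Subgroup.map_mono (f := (Subgroup.centralizer (D₁ : Set G)).subtype) hx
      rwa [map_conjSub, Subgroup.map_subgroupOf_eq_of_le hRC,
        Subgroup.map_subgroupOf_eq_of_le hDC] at h2
    · by_cases hgN : g ∈ Subgroup.normalizer (D₁ : Set G)
      · refine Or.inl ?_
        rw [hup]
        exact hpair₁.block.mul_eq_zero
          (hpair₁.block.conj_of_normalizer (normalizer_le_normalizer_centralizer D₁ hgN))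
          fun heq => hg ⟨hgN, heq.symm⟩
      · refine Or.inr ⟨fun y hy => ?_, fun r hr => ?_⟩
        · obtain ⟨m, hm⟩ := (h.pair.pair.pgroup.map (MulAut.conj g).toMonoidHom) ⟨y, hy.2⟩
          have h1 : y ^ p ^ m = 1 := congrArg Subtype.val hm
          have h2 : y ^ e ∈ Subgroup.centralizer (D₁ : Set G) := by
            have := Subgroup.pow_index_mem
              ((Subgroup.centralizer (D₁ : Set G)).subgroupOf (pairStab D₁ e₁)) (⟨y, hy.1⟩)
            rw [Subgroup.mem_subgroupOf] at this
            rw [← hS.idx]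
            exact this
          have hcop : Nat.Coprime (p ^ m) e :=
            Nat.Coprime.pow_left m ((Nat.Prime.coprime_iff_not_dvd hp).2 hecop)
          have hyo : orderOf y ∣ p ^ m := orderOf_dvd_of_pow_eq_one h1
          obtain ⟨n, hn⟩ := exists_pow_eq_self_of_coprime (Nat.Coprime.coprime_dvd_left hyo hcop).symm
          rw [← hn]
          exact pow_mem h2 n
        · by_contra hne
          obtain ⟨y, hy, hy1⟩ := (Subgroup.bot_or_exists_ne_one _).resolve_left hne
          obtain ⟨m, hm⟩ := (h.pair.pair.pgroup.map (MulAut.conj g).toMonoidHom) ⟨y, hy.1.2⟩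
          obtain ⟨n, -, hn⟩ := (Nat.dvd_prime_pow hp).1
            (orderOf_dvd_of_pow_eq_one (congrArg Subtype.val hm : y ^ p ^ m = 1))
          have hn0 : n ≠ 0 := fun h0 => hy1 (orderOf_eq_one_iff.1 (by rw [hn, h0, pow_zero]))
          obtain ⟨z, hz⟩ : ∃ z, z = y ^ p ^ (n - 1) := ⟨_, rfl⟩
          have hzo : orderOf z = p := by
            rw [hz, orderOf_pow_of_dvd (pow_ne_zero _ hp.ne_zero)
              (by rw [hn]; exact pow_dvd_pow p (Nat.sub_le n 1)), hn,
              Nat.pow_div (Nat.sub_le n 1) hp.pos, show n - (n - 1) = 1 by omega, pow_one]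
          have key : ∀ x : G, z ∈ conjSub x D → Subgroup.zpowers z = conjSub x D₁ := by
            intro x hzx
            have hzD : x⁻¹ * z * x ∈ D := mem_conjSub.1 hzx
            have hzo' : orderOf (x⁻¹ * z * x) = p := by
              rw [← hzo, show x⁻¹ * z * x = (MulAut.conj x⁻¹) z by simp,
                MulEquiv.orderOf_eq]
            rw [← hD₁u _ hzD hzo']
            show _ = (Subgroup.zpowers (x⁻¹ * z * x)).map (MulAut.conj x).toMonoidHom
            rw [MonoidHom.map_zpowers]
            congr 1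
            simp [mul_assoc]
          have e1 := key g (hz ▸ pow_mem hy.1.2 _)
          have e2 := key r (hz ▸ pow_mem hy.2 _)
          apply hgN
          refine mem_normalizer_of_conjSub_eq ?_
          rw [← e1, e2]
          exact conjSub_eq_of_mem_normalizer (Subgroup.centralizer_le_normalizer _ hr)
  have hcen : ∀ x, Commute x (ebar hB) := fun x =>
    Subalgebra.mem_center_iff.1 (inCenter_top_iff.1 (isBlockIdem_ebar hB).mem) x
  have hout : upHom (Subgroup.centralizer (D₁ : Set G)) (ebar hb) * (1 - ebar hB) ∈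
      trOne (conjHom (ResField M)) (pairStab D₁ e₁) := by
    obtain ⟨c, hcD, hcC, hc⟩ := hTr.trace
    rw [hup] at hc ⊢
    obtain ⟨u, hu⟩ : ∃ u, u = e₁ * (1 - ebar hB) := ⟨_, rfl⟩
    rw [← hu]
    have hBfix : ∀ g : G, conjA g (1 - ebar hB) = 1 - ebar hB := fun g => by
      have h1 : InCenter (⊤ : Subgroup G) (1 - ebar hB) :=
        (inCenter_one _).sub (isBlockIdem_ebar hB).mem
      exact h1.conjA_eq g
    have hufix : ∀ g ∈ pairStab D₁ e₁, conjA g u = u := fun g hg => by
      rw [hu, conjA_mul, hg.2, hBfix]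
    have hp₁ : IsPGroup p D₁ := hpair₁.pgroup
    have hCs : ∀ g ∈ Subgroup.centralizer (D₁ : Set G), g ∈ pairStab D₁ e₁ :=
      fun g hg => centralizer_le_pairStab hpair₁ hg
    have htr : trunc D₁ u = 0 := by
      have hBr : trunc D₁ (ebar hB) * e₁ = e₁ := ((hsle.pairOf_iff).1 h.pair).br
      have he1fix : ConjFixed D₁ e₁ := conjFixed_iff.2 fun g hg =>
        (hCs g (h.le_centralizer.trans hCD (hD₁D hg))).2
      have h2 : trunc D₁ (1 - ebar hB) = 1 - trunc D₁ (ebar hB) := by
        have := trunc_add D₁ (1 - ebar hB) (ebar hB)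
        rw [sub_add_cancel, trunc_one] at this
        exact eq_sub_of_add_eq this.symm
      rw [hu, trunc_mul hp₁ he1fix (conjFixed_iff.2 fun g _ => hBfix g),
        trunc_eq_self hpair₁.block.mem.supp, h2, mul_sub, mul_one,
        ← mul_comm_of_suppIn (trunc_suppIn D₁ _) hpair₁.block.mem.fixed, hBr, sub_self]
    have huD : u ∈ trOne (conjHom (ResField M)) D := by
      refine mem_trOne_of_free (conjFixed_iff.2 fun d hd => hufix d (hCs d (hDC hd)))
        fun g hg d hd hdg => ?_
      by_contra hd1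
      obtain ⟨n, hn⟩ : ∃ n, (d : G) ^ n ≠ 1 ∧ orderOf (d ^ n) = p := by
        obtain ⟨m, hm⟩ := h.pair.pair.pgroup ⟨d, hd⟩
        obtain ⟨n, -, hn⟩ := (Nat.dvd_prime_pow hp).1
          (orderOf_dvd_of_pow_eq_one (congrArg Subtype.val hm : d ^ p ^ m = 1))
        have hn0 : n ≠ 0 := fun h0 => hd1 (orderOf_eq_one_iff.1 (by rw [hn, h0, pow_zero]))
        have : orderOf (d ^ p ^ (n - 1)) = p := by
          rw [orderOf_pow_of_dvd (pow_ne_zero _ hp.ne_zero)
            (by rw [hn]; exact pow_dvd_pow p (Nat.sub_le n 1)), hn,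
            Nat.pow_div (Nat.sub_le n 1) hp.pos, show n - (n - 1) = 1 by omega, pow_one]
        exact ⟨_, fun h1 => hp.ne_one (by rw [← this, h1, orderOf_one]), this⟩
      have hgC : g ∈ Subgroup.centralizer (D₁ : Set G) := by
        rw [← hD₁u _ (pow_mem hd n) hn.2, Subgroup.zpowers_eq_closure, Subgroup.centralizer_closure,
          Subgroup.mem_centralizer_singleton_iff]
        exact (Commute.pow_left (hdg : Commute d g) n).symm
      exact hg (by simpa [hgC] using congrArg (fun q => MonoidAlgebra.coeff q g) htr)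
    refine mem_trOne_of_fixed (conjHom (ResField M)) (fun g r w => conjA_smul' g r w)
      (centralizer_le_pairStab hpair₁)
      (by rw [h.idx_below hD₁D hD₁1 hsle]; exact hS.e_ne) ?_ hufix
    -- the trace of a trace
    haveI := Fintype.ofFinite D
    obtain ⟨w, hw⟩ := (mem_trOne_iff _).1 huD
    have hidem : e₁ * u = u := by rw [hu, ← mul_assoc, hpair₁.block.idem]
    have h3 : u = relTr (conjHom (ResField M)) (Subgroup.centralizer (D₁ : Set G)) D (c * u) := by
      conv_lhs => rw [← hidem, ← hc]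
      rw [relTr, relTr, Finset.sum_mul]
      refine Finset.sum_congr rfl fun q hq => ?_
      obtain ⟨g, hg, rfl⟩ := mem_cosetsIn.1 hq
      rw [cosetFam_mk _ (conjFixed_iff.1 hcD), cosetFam_mk, conjHom_apply, conjHom_apply, conjA_mul,
        hufix g (hCs g hg)]
      intro d hd
      rw [conjHom_apply, conjA_mul, conjFixed_iff.1 hcD d hd, hufix d (hCs d (hDC hd))]
    have h4 : c * u = relTr (conjHom (ResField M)) D ⊥ (c * w) := by
      rw [← sum_act_eq_relTr_bot, hw, Finset.mul_sum]
      refine Finset.sum_congr rfl fun d _ => ?_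
      rw [conjHom_apply, conjHom_apply, conjA_mul, conjFixed_iff.1 hcD d d.2]
    rw [h3, h4, ← relTr_trans (conjHom (ResField M)) bot_le hDC
      (fun r hr => by rw [Subgroup.mem_bot.1 hr, act_one])]
    exact relTr_bot _ _ _
  obtain ⟨Q, hQ, hQB, hQne⟩ := exists_family hS hTr hcen (isBlockIdem_ebar hB).idem hout
  have := card_simples_le h.hM hB (fun i => (Q i).σ) hQ hQne hQB
  rwa [Fintype.card_fin] at this

end CfsgLib.Blk83.Cyc
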