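import Cfsg.Agent.Lib.Blk83.CyclicTarget

/-!
An endomorphism of an irreducible action of `G` commuting with `T` is, on the block of `C`, a
scalar modulo traces from the trivial subgroup.
-/

set_option autoImplicit false

open scoped Classical

namespace CfsgLib.Blk83.Cyc

open CfsgLib.Blocks CfsgLib.Blocks.Pairs

set_option maxSynthPendingDepth 4

universe u

variable {k : Type} [Field k] [IsAlgClosed k] {G : Type u} [Group G] [Finite G]
  {C T : Subgroup G} {t₀ : G} {e : ℕ} {ε π : MonoidAlgebra k C} {N : ℕ}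

/-- How the block `ε` is cut out by a subgroup `D`: it is a trace from `D`, and the conjugates of
`D` outside `T` meet freely. -/
structure TraceFrom (C T : Subgroup G) (ε : MonoidAlgebra k C) (D : Subgroup G) : Prop where
  le : D ≤ C
  trace : ∃ c, ConjFixed D c ∧ SuppIn C c ∧ relTr (conjHom k) C D c = upHom C ε
  split : ∀ g, g ∉ T → upHom C ε * conjA g (upHom C ε) = 0 ∨
    (T ⊓ conjSub g D ≤ C ∧ ∀ r ∈ C, T ⊓ conjSub g D ⊓ conjSub r D = ⊥)

variable {S : Type u} [AddCommGroup S] [Module k S] [FiniteDimensional k S]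
  {σ : MonoidAlgebra k G →ₐ[k] Module.End k S}

theorem exists_scalar (h : Setting C T t₀ e ε π N) {D : Subgroup G}
    (hD : TraceFrom C T ε D) (hσ : Simp σ) {x : Module.End k S}
    (hx : ∀ t ∈ T, homAct (grp σ) (grp σ) t x = x)
    (hEx : σ (upHom C ε) * x = x) (hxE : x * σ (upHom C ε) = x) :
    ∃ c : k, x - c • σ (upHom C ε) ∈ trOne (homAct (grp σ) (grp σ)) T := by
  haveI := Fintype.ofFinite (G ⧸ D)
  obtain ⟨c₀, hc₀D, hc₀C, hc₀⟩ := hD.trace
  obtain ⟨act, hact⟩ : ∃ act, act = homAct (grp σ) (grp σ) := ⟨_, rfl⟩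
  obtain ⟨E, hE⟩ : ∃ E, E = σ (upHom C ε) := ⟨_, rfl⟩
  rw [← hE] at hEx hxE ⊢
  rw [← hact] at hx ⊢
  have hactσ : ∀ g a, act g (σ a) = σ (conjA g a) := fun g a => hact ▸ grp_conjA σ g a
  have hmul : ∀ g X Y, act g (X * Y) = act g X * act g Y := fun g X Y => by
    refine LinearMap.ext fun v => ?_
    rw [hact, Module.End.mul_apply, homAct_apply, homAct_apply, homAct_apply, Module.End.mul_apply,
      ← Module.End.mul_apply (grp σ g⁻¹) (grp σ g), ← map_mul, inv_mul_cancel, map_one]
    rfl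
  have hlin : ∀ g (a : k) X, act g (a • X) = a • act g X := fun g a X =>
    hact ▸ homAct_smul _ _ g a X
  have hEfix : ∀ t ∈ T, act t E = E := fun t ht => by rw [hE, hactσ, h.stab t ht]
  have hEE : E * E = E := by rw [hE, ← map_mul, ← map_mul, h.L.ε_idem]
  obtain ⟨v, hv⟩ : ∃ v, v = (e : k)⁻¹ • (σ c₀ * x) := ⟨_, rfl⟩
  have hcomm : c₀ * upHom C ε = upHom C ε * c₀ := by
    refine mul_comm_of_suppIn hc₀C ?_
    exact conjFixed_iff.2 fun r hr => h.stab r (h.le hr)
  have hEv : E * v = v := by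
    rw [hv, mul_smul_comm, ← mul_assoc, hE, ← map_mul, ← hcomm, map_mul, mul_assoc, ← hE, hEx]
  have hvE : v * E = v := by rw [hv, smul_mul_assoc, mul_assoc, hxE]
  have hvD : ∀ d ∈ D, act d v = v := fun d hd => by
    rw [hv, hlin, hmul, hactσ, conjFixed_iff.1 hc₀D d hd, hx d (h.le (hD.le hd))]
  -- the global trace is a scalar
  obtain ⟨W, hW⟩ : ∃ W, W = relTr act ⊤ D v := ⟨_, rfl⟩
  obtain ⟨c, hc⟩ := hσ.schur W (fun a => by
    induction a using MonoidAlgebra.induction_linear with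
    | zero => rw [map_zero]; exact Commute.zero_left _
    | add a b ha hb => rw [map_add]; exact ha.add_left hb
    | single g r =>
      rw [show MonoidAlgebra.single g r = r • MonoidAlgebra.single g (1 : k) by
        rw [MonoidAlgebra.smul_single', mul_one], map_smul]
      refine Commute.smul_left ?_ r
      show grp σ g * W = W * grp σ g
      conv_rhs => rw [← show act g W = W from hW ▸ act_relTr act hvD (Subgroup.mem_top g)]
      refine LinearMap.ext fun s => ?_
      rw [hact, Module.End.mul_apply, Module.End.mul_apply, homAct_apply,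
        ← Module.End.mul_apply (grp σ g⁻¹) (grp σ g), ← map_mul, inv_mul_cancel, map_one]
      rfl)
  let F : G ⧸ D → Module.End k S := fun q => E * cosetFam act v q * E
  have hsum : c • E = ∑ q : G ⧸ D, F q := by
    rw [← Finset.sum_mul, ← Finset.mul_sum, ← cosetsIn_top]
    show c • E = E * relTr act ⊤ D v * E
    rw [← hW, hc, mul_smul_comm, mul_one, smul_mul_assoc, hEE]
  -- the cosets in `T`
  have hin : ∑ q ∈ cosetsIn T D, F q = x := by
    have h1 : ∑ q ∈ cosetsIn T D, F q = relTr act T D v := by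
      refine Finset.sum_congr rfl fun q hq => ?_
      obtain ⟨t, ht, rfl⟩ := mem_cosetsIn.1 hq
      show E * cosetFam act v _ * E = _
      rw [cosetFam_mk act hvD]
      conv_lhs => rw [← hEfix t ht, ← hmul, hEv, ← hmul, hvE]
    rw [h1, relTr_trans act hD.le h.le hvD]
    have h2 : relTr act C D v = (e : k)⁻¹ • x := by
      have h3 : relTr act C D v = (e : k)⁻¹ • (σ (relTr (conjHom k) C D c₀) * x) := by
        rw [relTr, relTr, map_sum, Finset.sum_mul, Finset.smul_sum]
        refine Finset.sum_congr rfl fun q hq => ?_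
        obtain ⟨r, hr, rfl⟩ := mem_cosetsIn.1 hq
        rw [cosetFam_mk act hvD, cosetFam_mk (conjHom k) (conjFixed_iff.1 hc₀D), conjHom_apply,
          hv, hlin, hmul, hactσ, hx r (h.le hr)]
      rw [h3, hc₀, ← hE, hEx]
    rw [h2, relTr]
    rw [Finset.sum_congr rfl (g := fun _ => (e : k)⁻¹ • x) fun q hq => ?_]
    · rw [Finset.sum_const, card_cosetsIn h.le, h.idx, ← Nat.cast_smul_eq_nsmul k, smul_smul,
        mul_inv_cancel₀ h.e_ne, one_smul]
    · obtain ⟨t, ht, rfl⟩ := mem_cosetsIn.1 hq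
      rw [cosetFam_mk act (fun d hd => by rw [hlin, hx d (h.le hd)]), hlin, hx t ht]
  refine ⟨c, ?_⟩
  have hrest : x - c • E = -∑ q ∈ Finset.univ \ cosetsIn T D, F q := by
    rw [hsum, ← Finset.sum_sdiff (Finset.subset_univ (cosetsIn T D)), hin]
    abel
  rw [hrest]
  refine neg_mem (sum_mem_trOne act (fun t ht q hq => ?_) (fun t ht q _ => ?_) fun q hq => ?_)
  · rw [Finset.mem_sdiff] at hq ⊢
    refine ⟨Finset.mem_univ _, fun hc' => hq.2 ?_⟩
    have := smul_mem_cosetsIn (inv_mem ht) hc'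
    rwa [inv_smul_smul] at this
  · show E * cosetFam act v (t • q) * E = act t (E * cosetFam act v q * E)
    rw [cosetFam_smul act hvD, hmul, hmul, hEfix t ht]
  rw [Finset.mem_sdiff] at hq
  induction q using QuotientGroup.induction_on with
  | _ g =>
  have hgT : g ∉ T := fun hg => hq.2 (mem_cosetsIn.2 ⟨g, hg, rfl⟩)
  have hFg : F (g : G ⧸ D) = E * act g v * E := by
    show E * cosetFam act v _ * E = _
    rw [cosetFam_mk act hvD]
  rcases hD.split g hgT with h0 | ⟨hle, hfree⟩
  · have : F (g : G ⧸ D) = 0 := by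
      rw [hFg]
      conv_lhs => rw [← hEv, hmul, hE, hactσ, ← mul_assoc, ← map_mul, h0, map_zero, zero_mul,
        zero_mul]
    rw [this]
    exact zero_mem _
  -- free cosets
  obtain ⟨R, hR⟩ : ∃ R, R = T ⊓ MulAction.stabilizer G (g : G ⧸ D) := ⟨_, rfl⟩
  rw [← hR]
  have hRle : R ≤ T ⊓ conjSub g D := by
    rw [hR]
    intro r hr
    refine ⟨hr.1, mem_conjSub.2 ?_⟩
    have h1 : (r • (g : G ⧸ D)) = (g : G ⧸ D) := MulAction.mem_stabilizer_iff.1 hr.2
    rw [MulAction.Quotient.smul_coe, eq_comm, QuotientGroup.eq] at h1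
    simpa [mul_assoc] using h1
  obtain ⟨U, hU⟩ : ∃ U, U = F (g : G ⧸ D) := ⟨_, rfl⟩
  rw [← hU]
  have hUfix : ∀ r ∈ R, act r U = U := by
    intro r hr
    have hr' := hR ▸ hr
    rw [hU]
    show act r (E * cosetFam act v _ * E) = E * cosetFam act v _ * E
    rw [hmul, hmul, hEfix r hr'.1, ← cosetFam_smul act hvD,
      MulAction.mem_stabilizer_iff.1 hr'.2]
  have hdec : U = ∑ q ∈ cosetsIn C D, σ (cosetFam (conjHom k) c₀ q) * U := by
    rw [← Finset.sum_mul, ← map_sum]
    show U = σ (relTr (conjHom k) C D c₀) * U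
    rw [hc₀, ← hE, hU]
    show _ = E * (E * _ * E)
    rw [← mul_assoc E, ← mul_assoc E E, hEE]
  rw [hdec]
  refine sum_mem_trOne act (fun r hr q hq => ?_) (fun r hr q _ => ?_) fun q hq => ?_
  · exact smul_mem_cosetsIn (hle (hRle hr)) hq
  · rw [cosetFam_smul (conjHom k) (conjFixed_iff.1 hc₀D), conjHom_apply, hmul, hactσ, hUfix r hr]
  · obtain ⟨r, hr, rfl⟩ := mem_cosetsIn.1 hq
    refine trOne_bot act (eq_bot_iff.2 ((le_inf ?_ ?_).trans (hfree r hr).le)) _
    · exact inf_le_left.trans hRle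
    · intro y hy
      refine mem_conjSub.2 ?_
      have h1 : (y • (r : G ⧸ D)) = (r : G ⧸ D) := MulAction.mem_stabilizer_iff.1 hy.2
      rw [MulAction.Quotient.smul_coe, eq_comm, QuotientGroup.eq] at h1
      simpa [mul_assoc] using h1

end CfsgLib.Blk83.Cyc
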