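import Cfsg.Agent.Lib.Blk83.CyclicConj
import Mathlib.RingTheory.RootsOfUnity.AlgebraicallyClosed

/-!
A normal subgroup with a local block algebra, a cyclic overgroup of index prime to the
characteristic: extensions of the irreducible module and traces of maps.
-/

set_option autoImplicit false

open scoped Classical

namespace CfsgLib.Blk83.Cyc

open CfsgLib.Blocks CfsgLib.Blocks.Pairs

set_option maxSynthPendingDepth 4

universe u

section General

variable {k : Type} [Field k] {G : Type u} [Group G]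

/-- The group algebra of a subgroup inside that of the group, as an algebra map. -/
noncomputable def upHom (C : Subgroup G) : MonoidAlgebra k C →ₐ[k] MonoidAlgebra k G :=
  MonoidAlgebra.mapDomainAlgHom k k C.subtype

@[simp] theorem upHom_single (C : Subgroup G) (c : C) (r : k) :
    upHom C (MonoidAlgebra.single c r) = MonoidAlgebra.single (c : G) r := by
  simp [upHom]

theorem upHom_eq [Finite G] (C : Subgroup G) (a : MonoidAlgebra k C) :
    upHom C a = up C a := by
  induction a using MonoidAlgebra.induction_linear with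
  | zero => rw [map_zero, up_zero]
  | add a b ha hb =>
    rw [map_add, ha, hb]
    ext x
    by_cases hx : x ∈ C <;> simp [up, hx]
  | single c r =>
    rw [upHom_single]
    ext x
    by_cases hx : x ∈ C
    · simp [up, hx, Finsupp.single_apply, ← Subtype.val_inj]
    · have : (c : G) ≠ x := fun e => hx (e ▸ c.2)
      simp [up, hx, Finsupp.single_eq_of_ne (Ne.symm this)]

theorem upHom_injective [Finite G] (C : Subgroup G) :
    Function.Injective (upHom (k := k) C) := fun a b h => up_injective C (by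
      rwa [← upHom_eq, ← upHom_eq])

theorem upHom_suppIn [Finite G] (C : Subgroup G) (a : MonoidAlgebra k C) :
    SuppIn C (upHom C a) := upHom_eq C a ▸ up_suppIn C a

/-- Scalars pass through traces. -/
theorem smul_mem_trOne {A : Type*} [AddCommGroup A] [Module k A] {G : Type*} [Group G] [Finite G]
    (act : G →* AddMonoid.End A) (hlin : ∀ g (c : k) w, act g (c • w) = c • act g w)
    {H : Subgroup G} {x : A} (hx : x ∈ trOne act H) (c : k) : c • x ∈ trOne act H := by
  haveI := Fintype.ofFinite H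
  obtain ⟨w, rfl⟩ := (mem_trOne_iff act).1 hx
  refine (mem_trOne_iff act).2 ⟨c • w, ?_⟩
  rw [Finset.smul_sum]
  exact Finset.sum_congr rfl fun h _ => (hlin _ c w).symm

/-- A fixed trace from the trivial subgroup to a subgroup of invertible index. -/
theorem mem_trOne_of_fixed {A : Type*} [AddCommGroup A] [Module k A] {G : Type*} [Group G]
    [Finite G] (act : G →* AddMonoid.End A) (hlin : ∀ g (c : k) w, act g (c • w) = c • act g w)
    {K H : Subgroup G} (hKH : K ≤ H) (hidx : (K.relIndex H : k) ≠ 0) {x : A}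
    (hx : x ∈ trOne act K) (hfix : ∀ h ∈ H, act h x = x) : x ∈ trOne act H := by
  haveI := Fintype.ofFinite H
  haveI := Fintype.ofFinite K
  obtain ⟨w, hw⟩ := (mem_trOne_iff act).1 hx
  have h1 : ∑ h : H, act h w = (K.relIndex H) • x := by
    rw [← Finset.sum_fiberwise_of_maps_to (t := cosetsIn H K)
      (g := fun h : H => ((h : G) : G ⧸ K)) fun h _ => mem_cosetsIn.2 ⟨h, h.2, rfl⟩,
      ← card_cosetsIn hKH, ← Finset.sum_const]
    refine Finset.sum_congr rfl fun q hq => ?_
    obtain ⟨g, hg, rfl⟩ := mem_cosetsIn.1 hq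
    rw [← hfix g hg, hw, map_sum]
    symm
    refine Finset.sum_bij' (fun r _ => (⟨g * r, mul_mem hg (hKH r.2)⟩ : H))
      (fun h hh => (⟨g⁻¹ * (h : G), by
        exact QuotientGroup.eq.1 (Finset.mem_filter.1 hh).2.symm⟩ : K)) ?_
      (fun _ _ => Finset.mem_univ _) ?_ ?_ ?_
    · intro r _
      refine Finset.mem_filter.2 ⟨Finset.mem_univ _, QuotientGroup.eq.2 ?_⟩
      simp
    · intro r _; ext; simp
    · intro h _; ext; simp
    · intro r _; rw [act_act]
  have : x = (K.relIndex H : k)⁻¹ • ∑ h : H, act h w := by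
    rw [h1, ← Nat.cast_smul_eq_nsmul k, smul_smul, inv_mul_cancel₀ hidx, one_smul]
  rw [this]
  exact smul_mem_trOne act hlin (sum_act_mem_trOne act H w) _

theorem homAct_smul {V S : Type*} [AddCommGroup V] [Module k V] [AddCommGroup S] [Module k S]
    (τ : G →* Module.End k V) (σ : G →* Module.End k S) (g : G) (c : k) (w : V →ₗ[k] S) :
    homAct τ σ g (c • w) = c • homAct τ σ g w := LinearMap.ext fun x => by simp

theorem single_mul_comm [Finite G] (g : G) (a : MonoidAlgebra k G) :
    MonoidAlgebra.single g 1 * a = conjA g a * MonoidAlgebra.single g 1 := by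
  rw [← single_conj, mul_assoc, MonoidAlgebra.single_mul_single, inv_mul_cancel, mul_one,
    ← MonoidAlgebra.one_def, mul_one]

end General

variable {k : Type} [Field k] [IsAlgClosed k] {G : Type u} [Group G] [Finite G]

/-- The setting: a local block algebra of `C`, stable in a cyclic extension `T`. -/
structure Setting (C T : Subgroup G) (t₀ : G) (e : ℕ) (ε π : MonoidAlgebra k C) (N : ℕ) :
    Prop where
  L : Local ε π N
  two_le : 2 ≤ N
  le : C ≤ T
  norm : T ≤ Subgroup.normalizer (C : Set G)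
  mem : t₀ ∈ T
  gen : ∀ t ∈ T, ∃ i : ℕ, ∃ c ∈ C, t = t₀ ^ i * c
  pow_mem : ∀ i : ℕ, t₀ ^ i ∈ C ↔ e ∣ i
  idx : C.relIndex T = e
  e_ne : (e : k) ≠ 0
  stab : ∀ t ∈ T, conjA t (upHom C ε) = upHom C ε

variable {C T : Subgroup G} {t₀ : G} {e : ℕ} {ε π : MonoidAlgebra k C} {N : ℕ}

theorem Setting.e_pos (h : Setting C T t₀ e ε π N) : 0 < e :=
  Nat.pos_of_ne_zero fun e0 => h.e_ne (by rw [e0, Nat.cast_zero])

/-- Conjugation by an element of `T` on `C`. -/
def cjC (h : Setting C T t₀ e ε π N) {t : G} (ht : t ∈ T) : C →* C where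
  toFun c := ⟨t * c * t⁻¹, (Subgroup.mem_normalizer_iff.1 (h.norm ht) c).1 c.2⟩
  map_one' := Subtype.ext (by simp)
  map_mul' a b := Subtype.ext (by simp [mul_assoc])

theorem upHom_cjC (h : Setting C T t₀ e ε π N) {t : G} (ht : t ∈ T) (a : MonoidAlgebra k C) :
    upHom C (MonoidAlgebra.mapDomainAlgHom k k (cjC h ht) a) = conjA t (upHom C a) := by
  induction a using MonoidAlgebra.induction_linear with
  | zero => simp
  | add a b ha hb => rw [map_add, map_add, ha, hb, map_add, conjA_add]
  | single c r =>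
    rw [upHom_single, conjA_single']
    simp [cjC]

theorem exists_upHom_conj (h : Setting C T t₀ e ε π N) {t : G} (ht : t ∈ T)
    (a : MonoidAlgebra k C) : ∃ a', upHom C a' = conjA t (upHom C a) :=
  ⟨_, upHom_cjC h ht a⟩

theorem cjC_surjective (h : Setting C T t₀ e ε π N) {t : G} (ht : t ∈ T) :
    Function.Surjective (MonoidAlgebra.mapDomainAlgHom k k (cjC h ht)) := fun a =>
  ⟨MonoidAlgebra.mapDomainAlgHom k k (cjC h (inv_mem ht)) a, upHom_injective C (by
    rw [upHom_cjC, upHom_cjC, conjA_conjA, mul_inv_cancel, conjA_one])⟩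

theorem cjC_ε (h : Setting C T t₀ e ε π N) {t : G} (ht : t ∈ T) :
    MonoidAlgebra.mapDomainAlgHom k k (cjC h ht) ε = ε :=
  upHom_injective C (by rw [upHom_cjC, h.stab t ht])

/-- The conjugates of `π` are multiples of `π`. -/
theorem exists_conj_π (h : Setting C T t₀ e ε π N) {t : G} (ht : t ∈ T) :
    ∃ b : MonoidAlgebra k C, ∀ m : ℕ, conjA t (upHom C (π ^ m)) = upHom C (π ^ m * b ^ m) := by
  obtain ⟨π', hπ'⟩ : ∃ π', π' = MonoidAlgebra.mapDomainAlgHom k k (cjC h ht) π := ⟨_, rfl⟩
  have hc : ∀ a, Commute a π' := fun a => by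
    obtain ⟨a', rfl⟩ := cjC_surjective h ht a
    rw [hπ']
    exact (h.L.π_central a').map _
  have hεπ : ε * π' = π' := by
    rw [hπ']
    exact (congrArg (fun z => z * MonoidAlgebra.mapDomainAlgHom k k (cjC h ht) π)
      (cjC_ε h ht).symm).trans (by rw [← map_mul, h.L.επ])
  obtain ⟨c, hcz⟩ := h.L.centre π' hc hεπ
  have hN := h.L.hN
  obtain ⟨j₀, hj₀⟩ : ∃ j₀ : Fin N, (j₀ : ℕ) = 0 := ⟨⟨0, hN⟩, rfl⟩
  have h0 : c j₀ = 0 := by
    have h1 : π ^ (N - 1) * π' = c j₀ • (ε * π ^ (N - 1)) := by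
      rw [hcz, Finset.mul_sum, Finset.sum_eq_single j₀]
      · rw [hj₀, pow_zero, mul_one, mul_smul_comm, (h.L.ε_central _).eq]
      · intro j _ hj
        have hj1 : 0 < (j : ℕ) := Nat.pos_of_ne_zero fun e0 => hj (Fin.ext (e0.trans hj₀.symm))
        rw [mul_smul_comm, ← mul_assoc, (h.L.ε_central _).eq, mul_assoc, ← pow_add,
          h.L.π_pow_eq_zero (by omega), mul_zero, smul_zero]
      · exact fun hh => absurd (Finset.mem_univ _) hh
    have h2 : ∀ n : ℕ, π ^ (N - 1) * π' ^ n = c j₀ ^ n • π ^ (N - 1) := by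
      intro n
      induction n with
      | zero => simp
      | succ n ih =>
        rw [pow_succ, ← mul_assoc, ih, smul_mul_assoc, h1, smul_smul, ← pow_succ]
        congr 1
        obtain ⟨N', hN'⟩ : ∃ N', N - 1 = N' + 1 := ⟨N - 2, by have := h.two_le; omega⟩
        rw [hN', pow_succ', ← mul_assoc, h.L.επ]
    have h3 := h2 N
    rw [hπ', ← map_pow, h.L.π_pow, map_zero, mul_zero] at h3
    have hne : π ^ (N - 1) ≠ 0 := fun e0 => h.L.π_top (by rw [e0, mul_zero])
    exact eq_zero_of_pow_eq_zero ((smul_eq_zero.1 h3.symm).resolve_right hne)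
  obtain ⟨b, hb⟩ : ∃ b, π' = π * b := by
    refine ⟨∑ j : Fin N, c j • (ε * π ^ ((j : ℕ) - 1)), ?_⟩
    rw [Finset.mul_sum]
    refine hcz.trans (Finset.sum_congr rfl fun j _ => ?_)
    by_cases hj : (j : ℕ) = 0
    · rw [show j = j₀ from Fin.ext (hj.trans hj₀.symm), h0]; simp
    · rw [mul_smul_comm, ← mul_assoc, (h.L.ε_central π).eq, mul_assoc, ← pow_succ',
        Nat.sub_add_cancel (Nat.pos_of_ne_zero hj)]
  refine ⟨b, fun m => ?_⟩
  rw [← upHom_cjC h ht, map_pow, ← hπ', hb, ((h.L.π_central b).symm).mul_pow]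

section Actions

variable {S : Type*} [AddCommGroup S] [Module k S]
variable (σ : MonoidAlgebra k G →ₐ[k] Module.End k S)

/-- The image of a power of `π`. -/
noncomputable def lay (C : Subgroup G) (π : MonoidAlgebra k C) (m : ℕ) : Submodule k S :=
  LinearMap.range (σ (upHom C (π ^ m)))

theorem lay_le {m m' : ℕ} (hm : m ≤ m') : lay σ C π m' ≤ lay σ C π m := by
  rintro _ ⟨x, rfl⟩
  obtain ⟨d, rfl⟩ := Nat.exists_eq_add_of_le hm
  exact ⟨σ (upHom C (π ^ d)) x, by rw [pow_add, map_mul, map_mul]; rfl⟩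

theorem apply_lay_of_central (h : Setting C T t₀ e ε π N) {m : ℕ} (a : MonoidAlgebra k C) {x : S}
    (hx : x ∈ lay σ C π m) : σ (upHom C a) x ∈ lay σ C π m := by
  obtain ⟨y, rfl⟩ := hx
  refine ⟨σ (upHom C a) y, ?_⟩
  rw [← Module.End.mul_apply, ← Module.End.mul_apply, ← map_mul, ← map_mul, ← map_mul, ← map_mul,
    ((h.L.π_central a).pow_right m).eq]

theorem grp_lay (h : Setting C T t₀ e ε π N) {t : G} (ht : t ∈ T) {m : ℕ} {x : S}
    (hx : x ∈ lay σ C π m) : grp σ t x ∈ lay σ C π m := by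
  obtain ⟨y, rfl⟩ := hx
  obtain ⟨b, hb⟩ := exists_conj_π h ht
  refine ⟨σ (upHom C (b ^ m)) (grp σ t y), ?_⟩
  simp only [grp_apply, ← Module.End.mul_apply, ← map_mul, ← mul_assoc]
  rw [← hb m, ← single_mul_comm]

variable {V : Type*} [AddCommGroup V] [Module k V]

/-- A map commuting with the actions of `T`. -/
def Equi (T : Subgroup G) (τ : T →* Module.End k V) (σ : MonoidAlgebra k G →ₐ[k] Module.End k S)
    (f : V →ₗ[k] S) : Prop := ∀ t : T, ∀ x, f (τ t x) = grp σ (t : G) (f x)

/-- Conjugation of maps by `T`. -/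
noncomputable def homT (T : Subgroup G) (τ : T →* Module.End k V) :
    T →* AddMonoid.End (V →ₗ[k] S) := homAct τ ((grp σ).comp T.subtype)

theorem homT_apply (τ : T →* Module.End k V) (t : T) (u : V →ₗ[k] S) (x : V) :
    homT σ T τ t u x = grp σ (t : G) (u (τ t⁻¹ x)) := rfl

theorem Equi.fixed {τ : T →* Module.End k V} {f : V →ₗ[k] S} (hf : Equi T τ σ f) (t : T) :
    homT σ T τ t f = f := LinearMap.ext fun x => by
  rw [homT_apply, ← hf t, ← Module.End.mul_apply, ← map_mul, mul_inv_cancel, map_one]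
  rfl

theorem equi_of_fixed {τ : T →* Module.End k V} {f : V →ₗ[k] S}
    (hf : ∀ t, homT σ T τ t f = f) : Equi T τ σ f := fun t x => by
  conv_lhs => rw [← hf t]
  rw [homT_apply, ← Module.End.mul_apply (τ t⁻¹), ← map_mul, inv_mul_cancel, map_one]
  rfl

theorem Equi.sub {τ : T →* Module.End k V} {f g : V →ₗ[k] S} (hf : Equi T τ σ f)
    (hg : Equi T τ σ g) : Equi T τ σ (f - g) := fun t x => by
  simp [hf t x, hg t x]

/-- The restriction of a map commuting with `T` to the algebra of `C`. -/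
theorem Equi.map_act {σ₁ : MonoidAlgebra k C →ₐ[k] Module.End k V} {hCT : C ≤ T}
    {τ : T →* Module.End k V} (hres : ∀ c : C, τ ⟨c, hCT c.2⟩ = grp σ₁ c) {f : V →ₗ[k] S}
    (hf : Equi T τ σ f) (a : MonoidAlgebra k C) (x : V) :
    f (σ₁ a x) = σ (upHom C a) (f x) := by
  induction a using MonoidAlgebra.induction_linear with
  | zero => simp
  | add a b ha hb => simp [ha, hb]
  | single c r =>
    have h1 : MonoidAlgebra.single c r = r • MonoidAlgebra.single c (1 : k) := by
      rw [MonoidAlgebra.smul_single', mul_one]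
    have h2 := hf ⟨c, hCT c.2⟩ x
    rw [hres, grp_apply, grp_apply] at h2
    rw [h1, map_smul, map_smul, map_smul, LinearMap.smul_apply, LinearMap.smul_apply, map_smul,
      upHom_single, h2]

end Actions

end CfsgLib.Blk83.Cyc
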