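import Mathlib.Algebra.BigOperators.Ring.Finset
import Mathlib.Algebra.Order.BigOperators.Ring.Finset
import Mathlib.Data.Fintype.BigOperators
import Mathlib.Tactic.Linarith
import Mathlib.Tactic.LinearCombination

/-!
The shape of an integral matrix whose columns have inner products `δ + e` and are orthogonal to a
positive vector: the decomposition numbers at the singular elements of a cyclic defect block.
-/

set_option autoImplicit false
set_option maxHeartbeats 800000

open scoped Classical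

namespace CfsgLib.Blk83.Cyc

variable {K Q : Type*} [Fintype K] [Fintype Q]

/-- An integral vector of norm two orthogonal to a positive vector is a difference of two units. -/
theorem exists_eq_sub_of_norm_two (v deg : K → ℤ) (hdeg : ∀ i, 0 < deg i)
    (h2 : ∑ i, v i * v i = 2) (h0 : ∑ i, v i * deg i = 0) :
    ∃ α β : K, α ≠ β ∧ ∀ i, v i = (if i = α then 1 else 0) - (if i = β then 1 else 0) := by
  have hb : ∀ i, v i * v i ≤ 1 := by
    intro i
    by_contra hcon
    have h1 : v i * v i ≤ 2 := h2 ▸ Finset.single_le_sum (f := fun j => v j * v j)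
      (fun j _ => mul_self_nonneg _) (Finset.mem_univ i)
    have h3 : v i ≤ 1 ∧ -1 ≤ v i := ⟨by nlinarith, by nlinarith⟩
    rcases (show v i = -1 ∨ v i = 0 ∨ v i = 1 by omega) with h | h | h <;> rw [h] at hcon <;>
      norm_num at hcon
  have hval : ∀ i, v i = -1 ∨ v i = 0 ∨ v i = 1 := fun i => by
    have := hb i
    have h3 : v i ≤ 1 ∧ -1 ≤ v i := ⟨by nlinarith, by nlinarith⟩
    omega
  set S := Finset.univ.filter fun i => v i ≠ 0 with hS
  have hcard : S.card = 2 := by
    have h1 : ∑ i ∈ S, v i * v i = 2 := by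
      rw [hS, Finset.sum_filter, ← h2]
      exact Finset.sum_congr rfl fun i _ => by split_ifs with h <;> simp_all
    rw [Finset.sum_congr rfl (fun i hi => show v i * v i = 1 by
      rcases hval i with h | h | h <;> simp_all), Finset.sum_const, nsmul_eq_mul, mul_one] at h1
    exact_mod_cast h1
  obtain ⟨x, y, hxy, hSe⟩ := Finset.card_eq_two.1 hcard
  have hout : ∀ i, i ≠ x → i ≠ y → v i = 0 := fun i hx hy => by
    by_contra hne
    have : i ∈ S := Finset.mem_filter.2 ⟨Finset.mem_univ _, hne⟩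
    rw [hSe] at this
    simp [hx, hy] at this
  have hsum : v x * deg x + v y * deg y = 0 := by
    rw [← h0, ← Finset.sum_pair (f := fun i => v i * deg i) hxy]
    refine Finset.sum_subset (Finset.subset_univ _) fun i _ hi => ?_
    simp at hi
    rw [hout i hi.1 hi.2, zero_mul]
  have hx0 : v x ≠ 0 := (Finset.mem_filter.1 (hSe ▸ Finset.mem_insert_self x {y} : x ∈ S)).2
  have hy0 : v y ≠ 0 := (Finset.mem_filter.1 (hSe ▸ Finset.mem_insert_of_mem
    (Finset.mem_singleton_self y) : y ∈ S)).2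
  have hdx := hdeg x
  have hdy := hdeg y
  rcases hval x with hx | hx | hx
  · refine ⟨y, x, hxy.symm, fun i => ?_⟩
    rcases hval y with hy | hy | hy
    · rw [hx, hy] at hsum; linarith
    · exact absurd hy hy0
    · by_cases h1 : i = x
      · subst h1; simp [hx, hxy]
      · by_cases h2 : i = y
        · subst h2; simp [hy, h1]
        · simp [h1, h2, hout i h1 h2]
  · exact absurd hx hx0
  · refine ⟨x, y, hxy, fun i => ?_⟩
    rcases hval y with hy | hy | hy
    · by_cases h1 : i = x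
      · subst h1; simp [hx, hxy]
      · by_cases h2 : i = y
        · subst h2; simp [hy, h1]
        · simp [h1, h2, hout i h1 h2]
    · exact absurd hy hy0
    · rw [hx, hy] at hsum; linarith

/-- Differences of the columns with a fixed column share one end. -/
theorem exists_common (v : Q → K → ℤ) (q₀ : Q) (α β : Q → K)
    (hne : ∀ q, q ≠ q₀ → α q ≠ β q)
    (hv : ∀ q, q ≠ q₀ → ∀ i, v q i = (if i = α q then 1 else 0) - (if i = β q then 1 else 0))
    (hinner : ∀ q q', q ≠ q₀ → q' ≠ q₀ → q ≠ q' → ∑ i, v q i * v q' i = 1)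
    {q₁ : Q} (hq₁ : q₁ ≠ q₀) :
    (∀ q, q ≠ q₀ → α q = α q₁) ∨ (∀ q, q ≠ q₀ → β q = β q₁) := by
  have key : ∀ q q', q ≠ q₀ → q' ≠ q₀ → q ≠ q' →
      (α q = α q' ∧ β q ≠ β q') ∨ (β q = β q' ∧ α q ≠ α q') := by
    intro q q' hq hq' hqq
    have h := hinner q q' hq hq' hqq
    simp only [hv q hq, hv q' hq', sub_mul, mul_sub, ite_mul, one_mul, zero_mul,
      Finset.sum_sub_distrib, Finset.sum_ite_eq', Finset.mem_univ, if_true] at h
    have h1 := hne q hq
    have h2 := hne q' hq'
    have h1' := h1.symm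
    have h2' := h2.symm
    clear hinner hv hqq hne
    by_cases ha : α q = α q' <;> by_cases hb : β q = β q' <;>
      by_cases hc : α q = β q' <;> by_cases hd : β q = α q' <;> simp_all
  by_contra hcon
  push Not at hcon
  obtain ⟨⟨x, hx, hαx⟩, y, hy, hβy⟩ := hcon
  have hx1 : x ≠ q₁ := fun h => hαx (by rw [h])
  have hy1 : y ≠ q₁ := fun h => hβy (by rw [h])
  obtain ⟨hβx, -⟩ := (key x q₁ hx hq₁ hx1).resolve_left fun h => hαx h.1
  obtain ⟨hαy, -⟩ := (key y q₁ hy hq₁ hy1).resolve_right fun h => hβy h.1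
  have hxy : x ≠ y := fun h => hαx (by rw [h, hαy])
  rcases key x y hx hy hxy with ⟨h, -⟩ | ⟨h, -⟩
  · exact hαx (h.trans hαy)
  · exact hβy (h.symm.trans hβx)

/-- **The shape of the matrix.** -/
theorem exists_shape [Nonempty Q] (D : K → Q → ℤ) (e l : ℕ) (deg : K → ℤ) (hdeg : ∀ i, 0 < deg i)
    (horth : ∀ q, ∑ i, D i q * deg i = 0)
    (hgram : ∀ q q', ∑ i, D i q * D i q' = (if q = q' then 1 else 0) + (e : ℤ))
    (hne : ∀ i, ∃ q, D i q ≠ 0) (hcard : Fintype.card K = l + Fintype.card Q) (hl : e ≤ l) :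
    ∃ (μ : Q → K) (ε : ℤ) (a : K → ℤ), Function.Injective μ ∧ (ε = 1 ∨ ε = -1) ∧ l = e ∧
      (∀ i ∉ Finset.univ.image μ, (a i = 1 ∨ a i = -1) ∧ ∀ q, D i q = a i) ∧
      ∀ q q', D (μ q) q' = if q = q' then ε else 0 := by
  obtain ⟨q₀⟩ := ‹Nonempty Q›
  rcases (Nat.one_le_iff_ne_zero.2 (Fintype.card_ne_zero (α := Q))).lt_or_eq with h2 | h1
  swap
  · -- a single orbit
    haveI : Subsingleton Q := Fintype.card_le_one_iff_subsingleton.1 h1.symm.le
    have hsq : ∑ i, D i q₀ * D i q₀ = 1 + (e : ℤ) := by rw [hgram, if_pos rfl]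
    have hge : ∀ i ∈ (Finset.univ : Finset K), (1 : ℤ) ≤ D i q₀ * D i q₀ := by
      intro i _
      obtain ⟨q, hq⟩ := hne i
      rw [Subsingleton.elim q q₀] at hq
      have := mul_self_pos.2 hq
      omega
    have h3 : (Fintype.card K : ℤ) ≤ 1 + e := by
      rw [← hsq]
      calc (Fintype.card K : ℤ) = ∑ _i : K, (1 : ℤ) := by simp
        _ ≤ _ := Finset.sum_le_sum hge
    have hK : Fintype.card K = e + 1 ∧ l = e := by omega
    have hall : ∀ i, D i q₀ * D i q₀ = 1 := by
      intro i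
      have h4 : ∑ j, (D j q₀ * D j q₀ - 1) = 0 := by
        rw [Finset.sum_sub_distrib, hsq]
        simp [hK.1]; ring
      have := (Finset.sum_eq_zero_iff_of_nonneg fun j hj => sub_nonneg.2 (hge j hj)).1 h4 i
        (Finset.mem_univ _)
      linarith
    obtain ⟨i₀⟩ : Nonempty K := Fintype.card_pos_iff.1 (by omega)
    refine ⟨fun _ => i₀, D i₀ q₀, fun i => D i q₀, fun x y _ => Subsingleton.elim x y,
      mul_self_eq_one_iff.1 (hall i₀), hK.2,
      fun i _ => ⟨mul_self_eq_one_iff.1 (hall i), fun q => by rw [Subsingleton.elim q q₀]⟩,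
      fun q q' => by rw [if_pos (Subsingleton.elim q q'), Subsingleton.elim q' q₀]⟩
  -- several orbits
  obtain ⟨q₁, hq₁⟩ := Fintype.exists_ne_of_one_lt_card h2 q₀
  let v : Q → K → ℤ := fun q i => D i q - D i q₀
  have hvinner : ∀ q q', ∑ i, v q i * v q' i =
      (∑ i, D i q * D i q') - (∑ i, D i q * D i q₀) - (∑ i, D i q₀ * D i q') +
        ∑ i, D i q₀ * D i q₀ := by
    intro q q'
    simp only [v, ← Finset.sum_sub_distrib, ← Finset.sum_add_distrib]
    exact Finset.sum_congr rfl fun i _ => by ring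
  have hpair : ∀ q, ∃ α β : K, q ≠ q₀ →
      α ≠ β ∧ ∀ i, v q i = (if i = α then 1 else 0) - (if i = β then 1 else 0) := by
    intro q
    obtain ⟨i₀, -⟩ : ∃ i : K, True := by
      have : 0 < Fintype.card K := by omega
      exact ⟨(Fintype.card_pos_iff.1 this).some, trivial⟩
    by_cases hq : q = q₀
    · exact ⟨i₀, i₀, fun h => absurd hq h⟩
    obtain ⟨α, β, h⟩ := exists_eq_sub_of_norm_two (v q) deg hdeg (by
        rw [hvinner, hgram, hgram, hgram, hgram, if_pos rfl, if_neg hq, if_neg (Ne.symm hq),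
          if_pos rfl]
        ring) (by
        simp only [v, sub_mul, Finset.sum_sub_distrib, horth, sub_zero])
    exact ⟨α, β, fun _ => h⟩
  choose α β hαβ using hpair
  have hinner : ∀ q q', q ≠ q₀ → q' ≠ q₀ → q ≠ q' → ∑ i, v q i * v q' i = 1 := by
    intro q q' hq hq' hqq
    rw [hvinner, hgram, hgram, hgram, hgram, if_neg hqq, if_neg hq, if_neg (Ne.symm hq'), if_pos rfl]
    ring
  obtain ⟨m₀, μ', ε, hε, hμ'⟩ : ∃ (m₀ : K) (μ' : Q → K) (ε : ℤ), (ε = 1 ∨ ε = -1) ∧
      ∀ q, q ≠ q₀ → μ' q ≠ m₀ ∧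
        ∀ i, v q i = ε * ((if i = μ' q then 1 else 0) - (if i = m₀ then 1 else 0)) := by
    rcases exists_common v q₀ α β (fun q hq => (hαβ q hq).1) (fun q hq => (hαβ q hq).2) hinner
      hq₁ with hc | hc
    · refine ⟨α q₁, β, -1, Or.inr rfl, fun q hq => ?_⟩
      rw [← hc q hq]
      exact ⟨((hαβ q hq).1).symm, fun i => by rw [(hαβ q hq).2]; ring⟩
    · refine ⟨β q₁, α, 1, Or.inl rfl, fun q hq => ?_⟩
      rw [← hc q hq]
      exact ⟨(hαβ q hq).1, fun i => by rw [(hαβ q hq).2]; ring⟩
  have hεε : ε * ε = 1 := by rcases hε with rfl | rfl <;> norm_num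
  let μ : Q → K := fun q => if q = q₀ then m₀ else μ' q
  let a : K → ℤ := fun i => D i q₀ - ε * (if i = m₀ then 1 else 0)
  have hD : ∀ i q, D i q = a i + ε * (if i = μ q then 1 else 0) := by
    intro i q
    by_cases hq : q = q₀
    · simp [μ, a, hq]
    · have := (hμ' q hq).2 i
      simp only [v] at this
      simp only [μ, if_neg hq, a]
      linear_combination this
  have hμinj : Function.Injective μ := by
    intro q q' hqq
    by_contra hne'
    simp only [μ] at hqq
    by_cases hq : q = q₀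
    · rw [if_pos hq, if_neg (fun h => hne' (hq.trans h.symm))] at hqq
      exact (hμ' q' (fun h => hne' (hq.trans h.symm))).1 hqq.symm
    by_cases hq' : q' = q₀
    · rw [if_neg hq, if_pos hq'] at hqq
      exact (hμ' q hq).1 hqq
    rw [if_neg hq, if_neg hq'] at hqq
    have h1 := hinner q q' hq hq' hne'
    have h3 : ∑ i, v q i * v q i = 2 := by
      rw [hvinner, hgram, hgram, hgram, hgram, if_pos rfl, if_neg hq, if_neg (Ne.symm hq),
        if_pos rfl]
      ring
    rw [Finset.sum_congr rfl fun i (_ : i ∈ Finset.univ) => by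
      rw [(hμ' q' hq').2 i, ← hqq, ← (hμ' q hq).2 i], h3] at h1
    norm_num at h1
  -- the equations
  set S := Finset.univ.image μ with hS
  have hScard : S.card = Fintype.card Q := by
    rw [hS, Finset.card_image_of_injective _ hμinj, Finset.card_univ]
  have hgr : ∀ q q', (∑ i, a i * a i) + ε * a (μ q) + ε * a (μ q') = (e : ℤ) := by
    intro q q'
    have h := hgram q q'
    simp only [hD, add_mul, mul_add, Finset.sum_add_distrib] at h
    have e1 : ∀ x : Q, ∑ i, a i * (ε * (if i = μ x then 1 else 0)) = ε * a (μ x) := fun x => by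
      simp [mul_ite, Finset.sum_ite_eq', mul_comm]
    have e2 : ∀ x : Q, ∑ i, ε * (if i = μ x then 1 else 0) * a i = ε * a (μ x) := fun x => by
      simp [mul_ite, ite_mul, Finset.sum_ite_eq']
    have e3 : ∑ i, ε * (if i = μ q then 1 else 0) * (ε * (if i = μ q' then 1 else 0)) =
        if q = q' then 1 else 0 := by
      rw [Finset.sum_eq_single (μ q) (fun i _ hi => by simp [hi]) (by simp)]
      by_cases hqq : q = q'
      · subst hqq; simp [hεε]
      · rw [if_neg hqq, if_pos rfl, if_neg (fun h => hqq (hμinj h))]; ring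
    rw [e1, e2, e3] at h
    linarith
  obtain ⟨d, hd⟩ : ∃ d, ∀ q, a (μ q) = d := by
    refine ⟨a (μ q₀), fun q => ?_⟩
    have h1 := hgr q q
    have h2 := hgr q q₀
    have : ε * a (μ q) = ε * a (μ q₀) := by linarith
    linear_combination ε * this - (a (μ q) - a (μ q₀)) * hεε
  have hsum : ∑ i ∈ Finset.univ \ S, a i * a i + (Fintype.card Q : ℤ) * (d * d) + 2 * ε * d =
      (e : ℤ) := by
    have h := hgr q₀ q₀
    rw [← Finset.sum_sdiff (Finset.subset_univ S), hd] at h
    have h4 : ∑ i ∈ S, a i * a i = (Fintype.card Q : ℤ) * (d * d) := by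
      rw [Finset.sum_congr rfl fun i hi => show a i * a i = d * d by
        obtain ⟨q, -, rfl⟩ := Finset.mem_image.1 hi; rw [hd], Finset.sum_const, hScard,
        nsmul_eq_mul]
    rw [h4] at h
    linarith
  have hXcard : (Finset.univ \ S).card = l := by
    rw [Finset.card_sdiff_of_subset (Finset.subset_univ S), hScard, Finset.card_univ, hcard]
    omega
  have hXge : ∀ i ∈ Finset.univ \ S, (1 : ℤ) ≤ a i * a i := by
    intro i hi
    obtain ⟨q, hq⟩ := hne i
    rw [hD, if_neg (fun h => (Finset.mem_sdiff.1 hi).2 (Finset.mem_image.2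
      ⟨q, Finset.mem_univ _, h.symm⟩)), mul_zero, add_zero] at hq
    have := mul_self_pos.2 hq
    omega
  have hXsum : (l : ℤ) ≤ ∑ i ∈ Finset.univ \ S, a i * a i := by
    calc (l : ℤ) = ∑ _i ∈ Finset.univ \ S, (1 : ℤ) := by
          rw [Finset.sum_const, hXcard, nsmul_eq_mul, mul_one]
      _ ≤ _ := Finset.sum_le_sum hXge
  have hr2 : (2 : ℤ) ≤ (Fintype.card Q : ℤ) := by exact_mod_cast h2
  have hle : (Fintype.card Q : ℤ) * (d * d) + 2 * ε * d ≤ 0 := by
    have : (e : ℤ) ≤ l := by exact_mod_cast hl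
    linarith
  have hdcase : d = 0 ∨ (d = -ε ∧ Fintype.card Q = 2) := by
    have hdd : d * d ≤ 1 := by
      by_contra hcon
      push Not at hcon
      have h5 : d ≥ 2 ∨ d ≤ -2 := by
        by_contra h6
        push Not at h6
        rcases (show d = -1 ∨ d = 0 ∨ d = 1 by omega) with h | h | h <;> rw [h] at hcon <;>
          norm_num at hcon
      rcases hε with rfl | rfl <;> rcases h5 with h5 | h5 <;> nlinarith
    have h3 : d ≤ 1 ∧ -1 ≤ d := ⟨by nlinarith, by nlinarith⟩
    rcases (show d = -1 ∨ d = 0 ∨ d = 1 by omega) with h | h | h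
    · rcases hε with rfl | rfl
      · exact Or.inr ⟨h, by rw [h] at hle; omega⟩
      · rw [h] at hle; omega
    · exact Or.inl h
    · rcases hε with rfl | rfl
      · rw [h] at hle; omega
      · exact Or.inr ⟨by rw [h]; norm_num, by rw [h] at hle; omega⟩
  have hzero : (Fintype.card Q : ℤ) * (d * d) + 2 * ε * d = 0 := by
    rcases hdcase with rfl | ⟨rfl, hc⟩
    · ring
    · rw [hc]; push_cast; linear_combination 2 * (1 : ℤ) * hεε - 2 * hεε
  have hle' : (l : ℤ) = e := by
    have : (e : ℤ) ≤ l := by exact_mod_cast hl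
    linarith
  have hone : ∀ i ∈ Finset.univ \ S, a i = 1 ∨ a i = -1 := by
    intro i hi
    have h4 : ∑ j ∈ Finset.univ \ S, (a j * a j - 1) = 0 := by
      rw [Finset.sum_sub_distrib, Finset.sum_const, hXcard, nsmul_eq_mul, mul_one]
      linarith
    have := (Finset.sum_eq_zero_iff_of_nonneg fun j hj => sub_nonneg.2 (hXge j hj)).1 h4 i hi
    exact mul_self_eq_one_iff.1 (by linarith)
  have hX : ∀ i ∉ S, (a i = 1 ∨ a i = -1) ∧ ∀ q, D i q = a i := fun i hi =>
    ⟨hone i (Finset.mem_sdiff.2 ⟨Finset.mem_univ _, hi⟩), fun q => by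
      rw [hD, if_neg (fun h => hi (Finset.mem_image.2 ⟨q, Finset.mem_univ _, h.symm⟩)), mul_zero,
        add_zero]⟩
  rcases hdcase with rfl | ⟨rfl, hc⟩
  · refine ⟨μ, ε, a, hμinj, hε, by exact_mod_cast hle', hX, fun q q' => ?_⟩
    rw [hD, hd, zero_add, mul_ite, mul_one, mul_zero]
    exact if_congr ⟨fun h => hμinj h, fun h => by rw [h]⟩ rfl rfl
  · -- two orbits and the wrong constant: exchange the two exceptional entries
    have hsw : ∀ q, q = q₀ ∨ q = q₁ := by
      intro q
      by_contra hcon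
      push Not at hcon
      have : 2 < Fintype.card Q := Fintype.two_lt_card_iff.2 ⟨q₀, q₁, q, hq₁.symm, hcon.1.symm, hcon.2.symm⟩
      omega
    refine ⟨μ ∘ Equiv.swap q₀ q₁, -ε, a, hμinj.comp (Equiv.injective _),
      by rcases hε with rfl | rfl <;> norm_num, by exact_mod_cast hle', fun i hi => hX i fun hiS => ?_,
      fun q q' => ?_⟩
    · obtain ⟨q, -, rfl⟩ := Finset.mem_image.1 hiS
      exact hi (Finset.mem_image.2 ⟨Equiv.swap q₀ q₁ q, Finset.mem_univ _, by simp⟩)
    · rw [Function.comp_apply, hD, hd]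
      rcases hsw q with rfl | rfl <;> rcases hsw q' with rfl | rfl <;>
        simp [hμinj.eq_iff, hq₁, hq₁.symm]

end CfsgLib.Blk83.Cyc
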