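import Cfsg.Agent.Lib.BlockReg.Basic
import Cfsg.Agent.Lib.Char.Exceptional
import Cfsg.Agent.Lib.Char.Burnside
import Mathlib.GroupTheory.Sylow

/-!
An integral combination of irreducible characters vanishing at the singular elements has degree
divisible by the `p`-part of the group order.
-/

set_option autoImplicit false

open Cfsg
open scoped Classical ComplexConjugate

namespace CfsgLib.Blk83

universe u

variable {G : Type u} [Group G] [Finite G] {p : ℕ} [Fact p.Prime]

theorem pow_dvd_deg_of_singular (S : Finset (IrrCharacter G)) (c : IrrCharacter G → ℤ)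
    (h : ∀ g : G, ¬ Cfsg.IsPRegular p g → ∑ χ ∈ S, (c χ : ℂ) * (χ : G → ℂ) g = 0) :
    (p : ℤ) ^ (Nat.card G).factorization p ∣
      ∑ χ ∈ S, c χ * (charDegree (χ : G → ℂ) : ℤ) := by
  haveI := Fintype.ofFinite G
  obtain ⟨P⟩ : Nonempty (Sylow p G) := inferInstance
  haveI := Fintype.ofFinite (P : Subgroup G)
  rw [show (p : ℤ) ^ (Nat.card G).factorization p = ((Nat.card (P : Subgroup G) : ℕ) : ℤ) by
    rw [Sylow.card_eq_multiplicity P]; push_cast; rfl]
  choose m hm using fun χ : IrrCharacter G =>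
    CfsgLib.Char.IsCharacter.exists_nat_classInner
      (CfsgLib.Char.IsCharacter.restrict (CfsgLib.Char.IsIrrCharacter.isCharacter χ.2)
        (P : Subgroup G)) (CfsgLib.Char.isIrrCharacter_one (G := (P : Subgroup G)))
  refine ⟨∑ χ ∈ S, c χ * m χ, Int.cast_injective (α := ℂ) ?_⟩
  have hP : (Nat.card (P : Subgroup G) : ℂ) ≠ 0 := Nat.cast_ne_zero.2 Nat.card_pos.ne'
  have hsum : ∀ χ : IrrCharacter G, (Nat.card (P : Subgroup G) : ℂ) * (m χ : ℂ) =
      ∑ x : (P : Subgroup G), (χ : G → ℂ) x := fun χ => by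
    rw [← hm χ, Cfsg.classInner, ← mul_assoc, mul_inv_cancel₀ hP, one_mul]
    exact Finset.sum_congr rfl fun x _ => by simp
  push_cast
  rw [Finset.mul_sum]
  simp_rw [mul_left_comm _ (_ : ℂ) (m _ : ℂ), hsum, Finset.mul_sum, CfsgLib.BlockReg.deg_cast]
  rw [Finset.sum_comm, Finset.sum_eq_single (1 : (P : Subgroup G))]
  · simp
  · intro x _ hx
    refine h x fun hreg => hx ?_
    obtain ⟨k, hk⟩ := IsPGroup.iff_orderOf.1 P.isPGroup' x
    unfold Cfsg.IsPRegular at hreg
    rw [Subgroup.orderOf_coe, hk] at hreg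
    cases k with
    | zero => rwa [pow_zero, orderOf_eq_one_iff] at hk
    | succ k => exact absurd (dvd_pow_self p k.succ_ne_zero) hreg
  · exact fun hh => absurd (Finset.mem_univ _) hh

end CfsgLib.Blk83
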