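import Cfsg.Agent.Lib.Blk83.CyclicBridge
import Cfsg.Agent.Lib.Blk83.CyclicFourier
import Cfsg.Agent.Lib.Blk83.SingularDvd
import Cfsg.Agent.Lib.BlockRank.FreeSections
import Cfsg.Agent.Lib.BlockRank.RankOne

/-!
The structure of a block with cyclic defect group: the rank, the exceptional characters, the
signs, the congruences of the degrees and the heights.
-/

set_option autoImplicit false
set_option maxHeartbeats 1000000
set_option synthInstance.maxHeartbeats 400000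

open Cfsg CfsgLib.Blocks CfsgLib.Blocks.Pairs CfsgLib.BlockRank CfsgLib.BlockReg
open scoped Classical ComplexConjugate

namespace CfsgLib.Blk83.Cyc

universe u

variable {G : Type u} [Group G] [Finite G] {p : ℕ} [Fact p.Prime] {M : Ideal AlgInt} [M.IsMaximal]
  [CharP (ResField M) p]
variable {B : Set (IrrCharacter G)} {hB : IsPBlock M B} {D : Subgroup G}
  {eD : MonoidAlgebra (ResField M) G} {a e : ℕ}

theorem CycData.e_pos (h : CycData p hB D eD a e) : 0 < e :=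
  Nat.pos_of_ne_zero fun e0 => by
    obtain ⟨-, -, hdvd, -⟩ := h.inertial
    rw [e0, zero_dvd_iff] at hdvd
    have := (Fact.out : p.Prime).two_le
    omega

/-- The data extracted from the shape of the matrix of Fourier coefficients. -/
theorem CycData.exists_shape_block (h : CycData p hB D eD a e) (he : 2 ≤ e) :
    ∃ (r : ℕ) (Y : Finset B) (ε : ℤ) (s : B → ℤ), p ^ a = 1 + e * r ∧ Y.card = r ∧
      Nat.card B = e + r ∧ (ε = 1 ∨ ε = -1) ∧ Cfsg.blockRank p B = e ∧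
      (∀ χ ∉ Y, s χ = 1 ∨ s χ = -1) ∧
      (∀ g : G, Cfsg.IsPRegular p g → ∀ ψ ∈ Y, (ε : ℂ) * ((ψ : IrrCharacter G) : G → ℂ) g +
        ∑ χ ∈ Finset.univ \ Y, (s χ : ℂ) * ((χ : IrrCharacter G) : G → ℂ) g = 0) ∧
      (∀ χ ∉ Y, ∀ χ' ∉ Y, (p : ℤ) ^ (Nat.card G).factorization p ∣
        s χ * (charDegree ((χ : IrrCharacter G) : G → ℂ) : ℤ) -
          s χ' * (charDegree ((χ' : IrrCharacter G) : G → ℂ) : ℤ)) ∧
      ∀ χ ∉ Y, (p : ℤ) ^ (Nat.card G).factorization p ∣
        (∑ ψ ∈ Y, (charDegree ((ψ : IrrCharacter G) : G → ℂ) : ℤ)) -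
          ε * s χ * (charDegree ((χ : IrrCharacter G) : G → ℂ) : ℤ) := by
  haveI := Fintype.ofFinite G
  have hp : p.Prime := Fact.out
  obtain ⟨n, hn⟩ : ∃ n, n = p ^ a := ⟨_, rfl⟩
  have hn0 : 0 < n := hn ▸ pow_pos hp.pos a
  have hn1 : 1 < n := hn ▸ Nat.one_lt_pow (by have := h.pos; omega) hp.one_lt
  haveI : NeZero n := ⟨hn0.ne'⟩
  obtain ⟨y₀, hy₀, ho, hgen⟩ := h.exists_gen
  rw [← hn] at ho
  have hζ := Complex.isPrimitiveRoot_exp n hn0.ne'
  obtain ⟨ω, hω1, hωT, hωc⟩ := h.exists_normalizer hgen (ho.trans hn) (hn ▸ hζ) he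
  obtain ⟨-, ⟨t₀, ht₀, hgenT, hpow⟩, hdvd, hfree⟩ := h.inertial
  -- the elements of `D` as residues
  obtain ⟨el, hel⟩ : ∃ el : ZMod n → G, ∀ x, el x = y₀ ^ x.val := ⟨_, fun _ => rfl⟩
  have heq : ∀ i j : ℕ, y₀ ^ i = y₀ ^ j ↔ (i : ZMod n) = (j : ZMod n) := fun i j => by
    rw [pow_eq_pow_iff_modEq, ho, ZMod.natCast_eq_natCast_iff]
  have heln : ∀ i : ℕ, el (i : ZMod n) = y₀ ^ i := fun i => by
    rw [hel, heq, ZMod.natCast_zmod_val]
  have helinj : Function.Injective el := fun x y hxy => by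
    rw [hel, hel, heq, ZMod.natCast_zmod_val, ZMod.natCast_zmod_val] at hxy
    exact hxy
  have helD : ∀ x, el x ∈ D := fun x => hel x ▸ pow_mem hy₀ _
  have hel1 : ∀ x, x ≠ 0 → el x ≠ 1 := fun x hx h1 => hx (helinj (by
    rw [h1, ← Nat.cast_zero, heln, pow_zero]))
  obtain ⟨k, hk⟩ : ∃ k : ℕ, t₀ * y₀ * t₀⁻¹ = y₀ ^ k := by
    have h1 := (Subgroup.mem_normalizer_iff.1 ht₀.1 y₀).1 hy₀
    rw [← hgen] at h1
    obtain ⟨k, hk⟩ := (Submonoid.mem_powers_iff _ _).1 (mem_powers_iff_mem_zpowers.2 h1)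
    exact ⟨k, hk.symm⟩
  have hconj : ∀ (i : ℕ) (x : ZMod n), t₀ ^ i * el x * (t₀ ^ i)⁻¹ = el ((k : ZMod n) ^ i * x) := by
    intro i
    induction i with
    | zero => intro x; simp
    | succ i ih =>
      intro x
      rw [pow_succ', show t₀ * t₀ ^ i * el x * (t₀ * t₀ ^ i)⁻¹ =
        t₀ * (t₀ ^ i * el x * (t₀ ^ i)⁻¹) * t₀⁻¹ by group, ih, hel, ← conj_pow, hk, ← pow_mul,
        ← heln, Nat.cast_mul, ZMod.natCast_zmod_val, pow_succ', mul_assoc]
  obtain ⟨u, hu⟩ : ∃ u : ZMod n, u = (k : ZMod n) := ⟨_, rfl⟩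
  rw [← hu] at hconj
  have hCel : ∀ c ∈ Subgroup.centralizer (D : Set G), ∀ x, c * el x * c⁻¹ = el x := fun c hc x => by
    rw [mul_inv_eq_iff_eq_mul, Subgroup.mem_centralizer_iff.1 hc _ (helD x)]
  have hue : u ^ e = 1 := by
    have h1 := hconj e 1
    rw [hCel _ ((hpow e).2 dvd_rfl), mul_one] at h1
    exact (helinj h1).symm
  have hfree' : ∀ (i : ℕ) (s : ZMod n), s ≠ 0 → u ^ i * s = s → e ∣ i := fun i s hs hi =>
    (hpow i).1 (hfree _ (pow_mem ht₀ i) _ (helD s) (hel1 s hs) (by rw [hconj, hi]))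
  obtain ⟨r, hkB, hcardD⟩ := BlockRank.exists_card_of_free h.hM hB h.pair h.noExt h.comm hfree
  rw [h.idx, h.card] at hcardD
  obtain ⟨F, hF⟩ : ∃ F : B → ZMod n → ℂ, ∀ χ m, F χ m = ω (el m) * col p D eD (el m) χ :=
    ⟨fun χ m => ω (el m) * col p D eD (el m) χ, fun _ _ => rfl⟩
  choose cN hcN using fun χ : B => hωc χ
  have hsumB : ∀ f : IrrCharacter G → ℂ, ∑ χ : B, f χ = ∑ᶠ χ ∈ B, f χ := fun f => by
    rw [finsum_mem_eq_toFinset_sum]
    exact (Finset.sum_subtype (f := f) _ (fun x => Set.mem_toFinset) ).symm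
  have horth : ∀ g : G, Cfsg.IsPRegular p g → ∀ m : ZMod n, m ≠ 0 →
      ∑ χ : B, ((χ : IrrCharacter G) : G → ℂ) g * conj (F χ m) = 0 := by
    intro g hg m hm
    simp only [hF, map_mul]
    rw [hsumB fun χ => (χ : G → ℂ) g * (conj (ω (el m)) * conj (col p D eD (el m) χ))]
    rw [finsum_mem_eq_toFinset_sum, Finset.sum_congr rfl fun χ _ => mul_left_comm _ _ _,
      ← Finset.mul_sum, ← finsum_mem_eq_toFinset_sum, h.col_orth_regular (helD m) (hel1 m hm) hg,
      mul_zero]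
  have h1reg : Cfsg.IsPRegular p (1 : G) := by simp [Cfsg.IsPRegular, hp.ne_one]
  have hcol : ∀ (j : ℕ) (m : ZMod n), m ≠ 0 → ∀ χ : B, F χ (u ^ j * m) = F χ m := by
    intro j m hm χ
    rw [hF, hF, ← hconj, hωT _ (pow_mem ht₀ j) _ (helD m) (hel1 m hm),
      h.col_conj (helD m) (hel1 m hm) (pow_mem ht₀ j)]
  obtain ⟨Y, ε, s, hYc, hε, hle, hs, hrel, hX, hYsum⟩ :=
    exists_shape_of_fourier (K := B) u hue h.e_pos hfree' hζ hn1 (r := r)
      (l := Cfsg.blockRank p B) (hn.trans hcardD) F (fun χ x => cN χ x.val)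
      (fun χ m hm => by
        rw [hF, hel, hcN χ m.val (fun hd => hm (by
          have := Nat.eq_zero_of_dvd_of_lt (hn ▸ hd) (ZMod.val_lt m)
          rwa [ZMod.val_eq_zero] at this)), ← hn]
        refine Finset.sum_bij' (fun j _ => (j : ZMod n)) (fun x _ => x.val)
          (fun _ _ => Finset.mem_univ _) (fun x _ => Finset.mem_range.2 (ZMod.val_lt x))
          (fun j hj => ZMod.val_cast_of_lt (Finset.mem_range.1 hj))
          (fun x _ => ZMod.natCast_zmod_val x) fun j hj => ?_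
        rw [ZMod.val_cast_of_lt (Finset.mem_range.1 hj)]
        congr 1
        refine pow_eq_pow_of_modEq ?_ hζ.pow_eq_one
        rw [← ZMod.natCast_eq_natCast_iff, Nat.cast_mul, ZMod.natCast_zmod_val,
          ZMod.natCast_zmod_val])
      (fun χ m hm => by simpa using hcol 1 m hm χ)
      (fun m m' hm hm' => by
        by_cases hex : ∃ j < e, m' = u ^ j * m
        · obtain ⟨j, hj, rfl⟩ := hex
          simp only [hcol j m hm]
          rw [Finset.sum_eq_single j]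
          · rw [if_pos rfl, mul_one]
            simp only [hF, map_mul]
            rw [hsumB fun χ => ω (el m) * col p D eD (el m) χ *
              (conj (ω (el m)) * conj (col p D eD (el m) χ)), finsum_mem_eq_toFinset_sum,
              Finset.sum_congr rfl fun χ _ => mul_mul_mul_comm _ _ _ _, ← Finset.mul_sum,
              hω1 _ (helD m) (hel1 m hm), one_mul, ← finsum_mem_eq_toFinset_sum]
            obtain ⟨b, hb, -⟩ := h.exists_subBlk (helD m) (hel1 m hm) rfl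
            obtain ⟨θ, hθ⟩ := block_nonempty h.hM (hb.induced h).1
            rw [(hb.isColumn h (helD m) (hel1 m hm) hθ).norm, h.defect, ← hn]
          · intro i hi hij
            rw [if_neg fun hc => hij ?_]
            rcases le_or_gt i j with hle | hle
            · obtain ⟨d, rfl⟩ := Nat.exists_eq_add_of_le hle
              have h1 : u ^ i * m ≠ 0 := fun h0 => hm' (by
                rw [pow_add, mul_comm (u ^ i), mul_assoc, h0, mul_zero])
              obtain ⟨c, hc'⟩ := hfree' d _ h1 (by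
                rw [← mul_assoc, ← pow_add, add_comm]; exact hc)
              rcases Nat.eq_zero_or_pos c with rfl | hc0
              · omega
              · exfalso; nlinarith
            · obtain ⟨d, rfl⟩ := Nat.exists_eq_add_of_le hle.le
              have hi' := Finset.mem_range.1 hi
              obtain ⟨c, hc'⟩ := hfree' d _ hm' (by
                rw [← mul_assoc, ← pow_add, add_comm]; exact hc.symm)
              rcases Nat.eq_zero_or_pos c with rfl | hc0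
              · omega
              · exfalso; nlinarith
          · exact fun hh => absurd (Finset.mem_range.2 hj) hh
        · push Not at hex
          rw [Finset.sum_eq_zero (s := Finset.range e)
            (fun j hj => if_neg (hex j (Finset.mem_range.1 hj))), mul_zero]
          simp only [hF, map_mul]
          rw [hsumB fun χ => ω (el m) * col p D eD (el m) χ *
              (conj (ω (el m')) * conj (col p D eD (el m') χ)), finsum_mem_eq_toFinset_sum,
            Finset.sum_congr rfl fun χ _ => mul_mul_mul_comm _ _ _ _, ← Finset.mul_sum,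
            ← finsum_mem_eq_toFinset_sum, h.col_orth (helD m) (hel1 m hm) (helD m') (hel1 m' hm'),
            mul_zero]
          intro t ht htm
          obtain ⟨i, c, hc, rfl⟩ := hgenT t ht
          rw [show t₀ ^ i * c * el m * (t₀ ^ i * c)⁻¹ = t₀ ^ i * (c * el m * c⁻¹) * (t₀ ^ i)⁻¹ by
            group, hCel c hc, hconj] at htm
          refine hex (i % e) (Nat.mod_lt _ h.e_pos) ?_
          rw [← pow_eq_pow_mod i hue]
          exact (helinj htm).symm)
      (fun χ => (charDegree ((χ : IrrCharacter G) : G → ℂ) : ℤ))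
      (fun χ => Int.natCast_pos.2 (deg_pos _))
      (fun m hm => by
        refine Eq.trans ?_ (horth 1 h1reg m hm)
        exact Finset.sum_congr rfl fun χ _ => by rw [Int.cast_natCast, deg_cast])
      (fun χ => ⟨1, by haveI : Fact (1 < n) := ⟨hn1⟩; exact one_ne_zero, by
        haveI : Fact (1 < n) := ⟨hn1⟩
        rw [hF]
        refine mul_ne_zero (fun h0 => ?_) (h.col_ne_zero (helD 1) (hel1 1 one_ne_zero) χ.2)
        have := hω1 _ (helD 1) (hel1 1 one_ne_zero)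
        rw [h0, zero_mul] at this
        exact zero_ne_one this⟩)
      (by rw [← Nat.card_eq_fintype_card, hkB]) h.le_blockRank
  -- combinations killed by the columns
  have hdvdG : ∀ c : B → ℤ, (∀ m : ZMod n, m ≠ 0 → ∑ χ : B, (c χ : ℂ) * F χ m = 0) →
      (p : ℤ) ^ (Nat.card G).factorization p ∣
        ∑ χ : B, c χ * (charDegree ((χ : IrrCharacter G) : G → ℂ) : ℤ) := by
    intro c hc
    obtain ⟨c', hc'⟩ : ∃ c' : IrrCharacter G → ℤ, ∀ χ : B, c' χ = c χ :=
      ⟨fun χ => if hχ : χ ∈ B then c ⟨χ, hχ⟩ else 0, fun χ => dif_pos χ.2⟩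
    have h1 := CfsgLib.Blk83.pow_dvd_deg_of_singular (p := p) B.toFinset c' fun g hg => by
      rw [← finsum_mem_eq_toFinset_sum (fun χ : IrrCharacter G => (c' χ : ℂ) * (χ : G → ℂ) g)]
      refine h.sum_eq_zero_of_singular (c := fun χ => (c' χ : ℂ)) (fun y hy hy1 => ?_) hg
      obtain ⟨i, hi, rfl⟩ := h.exists_gen_pow hgen (ho.trans hn) hy hy1
      have hi0 : (i : ZMod n) ≠ 0 := by
        rw [Ne, ZMod.natCast_eq_zero_iff, hn]
        exact hi
      have h2 := hc _ hi0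
      simp only [hF, heln, mul_left_comm (_ : ℂ) (ω _) _, ← Finset.mul_sum, ← hc'] at h2
      have hω0 : ω (y₀ ^ i) ≠ 0 := fun h0 => by
        have := hω1 _ hy hy1
        rw [h0, zero_mul] at this
        exact zero_ne_one this
      rw [← hsumB]
      exact (mul_eq_zero.1 h2).resolve_left hω0
    rw [Finset.sum_subtype (p := (· ∈ B)) B.toFinset (fun x => Set.mem_toFinset)] at h1
    simpa only [hc'] using h1
  refine ⟨r, Y, ε, s, hcardD, hYc, by rw [hkB, hle], hε, hle, hs, fun g hg ψ hψ =>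
    Eq.trans (congrArg _ (Finset.sum_congr (by ext; simp) fun _ _ => rfl))
      (hrel (fun χ => ((χ : IrrCharacter G) : G → ℂ) g) (horth g hg) ψ hψ), fun χ hχ χ' hχ' => ?_,
    fun χ hχ => ?_⟩
  · have h1 := hdvdG (fun i => (if i = χ then s χ else 0) - (if i = χ' then s χ' else 0))
      fun m hm => by
        simp [sub_mul, ite_mul, Finset.sum_sub_distrib, apply_ite (fun z : ℤ => (z : ℂ)),
          hX χ hχ m hm, hX χ' hχ' m hm]
        rcases hs χ hχ with h1 | h1 <;> rcases hs χ' hχ' with h2 | h2 <;> simp [h1, h2]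
    simpa [sub_mul, ite_mul, Finset.sum_sub_distrib] using h1
  · have h1 := hdvdG (fun i => (if i ∈ Y then 1 else 0) - (if i = χ then ε * s χ else 0))
      fun m hm => by
        simp [sub_mul, ite_mul, Finset.sum_sub_distrib, apply_ite (fun z : ℤ => (z : ℂ)),
          Finset.sum_ite_mem, hYsum m hm, hX χ hχ m hm]
        rcases hs χ hχ with h1 | h1 <;> simp [h1]
    simpa [sub_mul, ite_mul, Finset.sum_sub_distrib, Finset.sum_ite_mem] using h1

/-- **The structure of a block with cyclic defect group.** -/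
theorem CycData.block_structure (h : CycData p hB D eD a e) :
    Cfsg.blockRank p B = e ∧ e ∣ p - 1 ∧
      (∀ χ ∈ B, Cfsg.blockHeight p B (χ : G → ℂ) = 0) ∧
      ∃ X Y : Set (IrrCharacter G), B = X ∪ Y ∧ Disjoint X Y ∧ Nat.card X = e ∧
        Nat.card Y = (p ^ a - 1) / e ∧
        (∀ ψ ∈ Y, ∀ ψ' ∈ Y, ∀ g : G, ¬ p ∣ orderOf g → (ψ : G → ℂ) g = (ψ' : G → ℂ) g) ∧
        ∃ (δ : IrrCharacter G → ℤ) (δ₀ : ℤ), (∀ χ ∈ X, δ χ = 1 ∨ δ χ = -1) ∧
          (δ₀ = 1 ∨ δ₀ = -1) ∧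
          (∀ ψ ∈ Y, ∀ g : G, ¬ p ∣ orderOf g →
            (δ₀ : ℂ) * (ψ : G → ℂ) g + ∑ᶠ χ ∈ X, (δ χ : ℂ) * (χ : G → ℂ) g = 0) ∧
          (∀ χ ∈ X, ∀ χ' ∈ X, δ χ * (charDegree (χ : G → ℂ) : ℤ) ≡
            δ χ' * (charDegree (χ' : G → ℂ) : ℤ) [ZMOD (p : ℤ) ^ a]) ∧
          ∀ ψ ∈ Y, ∀ χ ∈ X, (charDegree (ψ : G → ℂ) : ℤ) ≡
            -((e : ℤ) * δ₀ * δ χ * (charDegree (χ : G → ℂ) : ℤ)) [ZMOD (p : ℤ) ^ a] := by
  haveI := Fintype.ofFinite G
  have hp : p.Prime := Fact.out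
  have hdvd : e ∣ p - 1 := h.inertial.2.2.1
  obtain ⟨χ₀, hχ₀, hmin⟩ := exists_minExp (p := p) (block_nonempty h.hM hB)
  have h1reg : Cfsg.IsPRegular p (1 : G) := by simp [Cfsg.IsPRegular, hp.ne_one]
  rcases Nat.lt_or_ge e 2 with he | he
  · -- trivial inertial index
    obtain rfl : e = 1 := by have := h.e_pos; omega
    obtain ⟨hl, hk⟩ := BlockRank.rankOne_of_trivial_inertial h.hM hB h.pair h.noExt h.comm h.stab_le
    rw [h.card] at hk
    obtain ⟨φ, -, d, -, hd, hd2⟩ := BlockRank.exists_rankOne_data h.hM hB hl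
    rw [h.defect] at hd2
    have hd1 : ∀ χ ∈ B, d χ = 1 := by
      have hpos : ∀ χ ∈ B.toFinset, 1 ≤ d χ ^ 2 := fun χ hχ => Nat.one_le_pow _ _
        (Nat.pos_of_ne_zero fun h0 => deg_ne_zero χ (by
          rw [hd χ (Set.mem_toFinset.1 hχ) 1 h1reg, h0]; simp))
      have h2 : ∑ χ ∈ B.toFinset, 1 = ∑ χ ∈ B.toFinset, d χ ^ 2 := by
        rw [hd2, Finset.sum_const, smul_eq_mul, mul_one, Set.toFinset_card,
          ← Nat.card_eq_fintype_card, hk]
      intro χ hχ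
      have := (Finset.sum_eq_sum_iff_of_le hpos).1 h2 χ (Set.mem_toFinset.2 hχ)
      exact (pow_eq_one_iff.1 this.symm).resolve_right two_ne_zero
    have hag : ∀ χ ∈ B, ∀ χ' ∈ B, ∀ g : G, ¬ p ∣ orderOf g →
        (χ : G → ℂ) g = (χ' : G → ℂ) g := fun χ hχ χ' hχ' g hg => by
      rw [hd χ hχ g hg, hd χ' hχ' g hg, hd1 χ hχ, hd1 χ' hχ']
    have hdeg : ∀ χ ∈ B, charDegree (χ : G → ℂ) = charDegree (χ₀ : G → ℂ) := fun χ hχ =>
      Nat.cast_injective (R := ℂ) (by rw [deg_cast, deg_cast, hag χ hχ χ₀ hχ₀ 1 h1reg])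
    refine ⟨hl, hdvd, fun χ hχ => by rw [blockHeight_eq, hdeg χ hχ, hmin, Nat.sub_self],
      {χ₀}, B \ {χ₀}, ?_, disjoint_sdiff_self_right, ?_, ?_,
      fun ψ hψ ψ' hψ' g hg => hag ψ hψ.1 ψ' hψ'.1 g hg, fun _ => 1, -1, fun _ _ => Or.inl rfl,
      Or.inr rfl, fun ψ hψ g hg => ?_, ?_, ?_⟩
    · rw [Set.union_diff_self, Set.union_eq_right.2 (Set.singleton_subset_iff.2 hχ₀)]
    · simp
    · rw [Nat.card_coe_set_eq, Set.ncard_diff_singleton_of_mem hχ₀, ← Nat.card_coe_set_eq, hk,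
        Nat.div_one]
    · rw [finsum_mem_singleton, hag ψ hψ.1 χ₀ hχ₀ g hg]; simp
    · rintro χ rfl χ' rfl; exact Int.ModEq.refl _
    · rintro ψ hψ χ rfl
      rw [hdeg ψ hψ.1]; simp
  -- the general case
  obtain ⟨r, Y, ε, s, hn, hYc, hkB, hε, hle, hs, hrel, hc1, hc2⟩ := h.exists_shape_block he
  have hεε : ε * ε = 1 := by rcases hε with rfl | rfl <;> norm_num
  have hνa : a ≤ (Nat.card G).factorization p := by
    have h1 := h.defect
    rw [blockDefect_eq] at h1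
    omega
  have hna : (p : ℤ) ^ a = 1 + (e : ℤ) * r := by exact_mod_cast hn
  have hYeq : ∀ ψ ∈ Y, ∀ ψ' ∈ Y, ∀ g : G, Cfsg.IsPRegular p g →
      ((ψ : IrrCharacter G) : G → ℂ) g = ((ψ' : IrrCharacter G) : G → ℂ) g := by
    intro ψ hψ ψ' hψ' g hg
    have := (hrel g hg ψ hψ).trans (hrel g hg ψ' hψ').symm
    exact mul_left_cancel₀ (Int.cast_ne_zero.2 (by rcases hε with rfl | rfl <;> norm_num))
      (add_right_cancel this)
  -- the common degree of the exceptional characters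
  have hdY : ∀ χ ∉ Y, ∀ ψ ∈ Y, (p : ℤ) ^ (Nat.card G).factorization p ∣
      (r : ℤ) * (charDegree ((ψ : IrrCharacter G) : G → ℂ) : ℤ) -
        ε * s χ * (charDegree ((χ : IrrCharacter G) : G → ℂ) : ℤ) := by
    intro χ hχ ψ hψ
    have h1 := hc2 χ hχ
    rwa [Finset.sum_congr (s₁ := Y) rfl fun (ψ' : B) hψ' => show
      (charDegree ((ψ' : IrrCharacter G) : G → ℂ) : ℤ) =
        charDegree ((ψ : IrrCharacter G) : G → ℂ) by
      refine congrArg _ (Nat.cast_injective (R := ℂ) ?_)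
      rw [deg_cast, deg_cast, hYeq ψ' hψ' ψ hψ 1 h1reg], Finset.sum_const, hYc,
      nsmul_eq_mul] at h1
  have hXY : ∃ χ : B, χ ∉ Y := by
    by_contra hcon
    push Not at hcon
    have h1 := Finset.eq_univ_of_forall hcon
    rw [h1, Finset.card_univ, ← Nat.card_eq_fintype_card, hkB] at hYc
    omega
  obtain ⟨χ₁, hχ₁⟩ := hXY
  refine ⟨hle, hdvd, fun χ hχ => ?_, (Subtype.val '' ((↑(Finset.univ \ Y) : Set B))),
    Subtype.val '' (↑Y : Set B), ?_, ?_, ?_, ?_, ?_,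
    fun χ => if hχ : χ ∈ B then s ⟨χ, hχ⟩ else 0, ε, ?_, hε, ?_, ?_, ?_⟩
  · -- heights
    have hν : minExp p B + 1 ≤ (Nat.card G).factorization p := by
      have h1 := h.defect
      rw [blockDefect_eq] at h1
      have := h.pos
      omega
    have hpm : ((p : ℤ) ^ (minExp p B + 1)) ∣ (p : ℤ) ^ (Nat.card G).factorization p :=
      pow_dvd_pow _ hν
    have hrp : IsCoprime ((p : ℤ) ^ (minExp p B + 1)) (r : ℤ) := by
      refine IsCoprime.pow_left ?_
      obtain ⟨c, hc⟩ : (p : ℤ) ∣ (p : ℤ) ^ a := dvd_pow_self _ (by have := h.pos; omega)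
      exact ⟨c, -(e : ℤ), by linear_combination -hc + hna⟩
    have hsu : ∀ χ ∉ Y, IsUnit (s χ) := fun χ hχ => by
      rcases hs χ hχ with h1 | h1 <;> rw [h1]
      exacts [isUnit_one, isUnit_one.neg]
    have hεu : IsUnit ε := by
      rcases hε with rfl | rfl
      exacts [isUnit_one, isUnit_one.neg]
    have hiff : ∀ χ : B, ((p : ℤ) ^ (minExp p B + 1) ∣
        (charDegree ((χ : IrrCharacter G) : G → ℂ) : ℤ)) ↔
        (p : ℤ) ^ (minExp p B + 1) ∣ (charDegree ((χ₁ : IrrCharacter G) : G → ℂ) : ℤ) := by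
      intro χ
      by_cases hY : χ ∈ Y
      · rw [← ((hεu.mul (hsu χ₁ hχ₁)).dvd_mul_left :
            _ ∣ ε * s χ₁ * (charDegree ((χ₁ : IrrCharacter G) : G → ℂ) : ℤ) ↔ _),
          ← dvd_iff_dvd_of_dvd_sub (hpm.trans (hdY χ₁ hχ₁ χ hY))]
        exact ⟨fun h1 => dvd_mul_of_dvd_right h1 _, fun h1 => hrp.dvd_of_dvd_mul_left h1⟩
      · rw [← ((hsu χ hY).dvd_mul_left :
            _ ∣ s χ * (charDegree ((χ : IrrCharacter G) : G → ℂ) : ℤ) ↔ _),
          ← ((hsu χ₁ hχ₁).dvd_mul_left :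
            _ ∣ s χ₁ * (charDegree ((χ₁ : IrrCharacter G) : G → ℂ) : ℤ) ↔ _)]
        exact dvd_iff_dvd_of_dvd_sub (hpm.trans (hc1 χ hY χ₁ hχ₁))
    have hnot : ∀ χ : IrrCharacter G, ((p : ℤ) ^ (minExp p B + 1) ∣
        (charDegree (χ : G → ℂ) : ℤ)) ↔ minExp p B + 1 ≤ (charDegree (χ : G → ℂ)).factorization p :=
      fun χ => by
        rw [← hp.pow_dvd_iff_le_factorization (deg_pos χ).ne']
        exact_mod_cast Int.natCast_dvd_natCast
    have h2 := (hiff ⟨χ, hχ⟩).trans (hiff ⟨χ₀, hχ₀⟩).symm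
    simp only [hnot, hmin] at h2
    rw [blockHeight_eq]
    omega
  · rw [← Set.image_union, ← Finset.coe_union, Finset.sdiff_union_of_subset (Finset.subset_univ Y),
      Finset.coe_univ, Set.image_univ, Subtype.range_coe]
  · exact (Set.disjoint_image_iff Subtype.val_injective).2 (Finset.disjoint_coe.2 Finset.sdiff_disjoint)
  · rw [Nat.card_image_of_injective Subtype.val_injective, Nat.card_coe_set_eq, Set.ncard_coe_finset,
      Finset.card_sdiff_of_subset (Finset.subset_univ Y), Finset.card_univ,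
      ← Nat.card_eq_fintype_card, hkB, hYc, Nat.add_sub_cancel]
  · rw [Nat.card_image_of_injective Subtype.val_injective, Nat.card_coe_set_eq, Set.ncard_coe_finset,
      hYc, hn, Nat.add_sub_cancel_left, Nat.mul_div_cancel_left _ h.e_pos]
  · rintro _ ⟨ψ, hψ, rfl⟩ _ ⟨ψ', hψ', rfl⟩ g hg
    exact hYeq ψ hψ ψ' hψ' g hg
  · rintro _ ⟨χ, hχ, rfl⟩
    beta_reduce
    rw [dif_pos χ.2]
    exact hs χ (Finset.mem_sdiff.1 hχ).2
  · rintro _ ⟨ψ, hψ, rfl⟩ g hg
    rw [finsum_mem_image Subtype.val_injective.injOn, finsum_mem_coe_finset]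
    refine Eq.trans ?_ (hrel g hg ψ hψ)
    congr 1
    exact Finset.sum_congr (by ext; simp) fun χ _ => by beta_reduce; rw [dif_pos χ.2]
  · rintro _ ⟨χ, hχ, rfl⟩ _ ⟨χ', hχ', rfl⟩
    beta_reduce
    rw [dif_pos χ.2, dif_pos χ'.2]
    exact (Int.modEq_iff_dvd.2 ((pow_dvd_pow _ hνa).trans
      (dvd_sub_comm.1 (hc1 χ (Finset.mem_sdiff.1 hχ).2 χ' (Finset.mem_sdiff.1 hχ').2))))
  · rintro _ ⟨ψ, hψ, rfl⟩ _ ⟨χ, hχ, rfl⟩
    beta_reduce
    rw [dif_pos χ.2]
    obtain ⟨q, hq⟩ := (pow_dvd_pow (p : ℤ) hνa).trans (hdY χ (Finset.mem_sdiff.1 hχ).2 ψ hψ)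
    refine Int.modEq_iff_dvd.2 ⟨(e : ℤ) * q - charDegree ((ψ : IrrCharacter G) : G → ℂ), ?_⟩
    linear_combination (charDegree ((ψ : IrrCharacter G) : G → ℂ) : ℤ) * hna + (e : ℤ) * hq

end CfsgLib.Blk83.Cyc
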