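import Cfsg.Agent.Lib.Blk83.CyclicMaps

/-!
Every extension has a map into some irreducible action in the block that is not a trace.
-/

set_option autoImplicit false

open scoped Classical

namespace CfsgLib.Blk83.Cyc

open CfsgLib.Blocks CfsgLib.Blocks.Pairs

set_option maxSynthPendingDepth 4

universe u

variable {k : Type} [Field k] [IsAlgClosed k] {G : Type u} [Group G] [Finite G]
  {C T : Subgroup G} {t₀ : G} {e : ℕ} {ε π : MonoidAlgebra k C} {N : ℕ}

/-- A finite dimensional action of the group algebra. -/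
structure Pack (k : Type) [Field k] (G : Type u) [Group G] where
  /-- the space -/
  S : Type u
  [addCommGroup : AddCommGroup S]
  [module : Module k S]
  [finite : FiniteDimensional k S]
  /-- the action -/
  σ : MonoidAlgebra k G →ₐ[k] Module.End k S

attribute [instance] Pack.addCommGroup Pack.module Pack.finite

section Descent

variable {V : Type u} [AddCommGroup V] [Module k V]
variable {S : Type u} [AddCommGroup S] [Module k S] (σ : MonoidAlgebra k G →ₐ[k] Module.End k S)

theorem homT_comp {S' : Type u} [AddCommGroup S'] [Module k S']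
    (σ' : MonoidAlgebra k G →ₐ[k] Module.End k S') (φ : S →ₗ[k] S')
    (hφ : ∀ a s, φ (σ a s) = σ' a (φ s)) (τ : T →* Module.End k V) {f : V →ₗ[k] S}
    (hf : f ∈ trOne (homT σ T τ) ⊤) : φ ∘ₗ f ∈ trOne (homT σ' T τ) ⊤ := by
  haveI := Fintype.ofFinite (⊤ : Subgroup T)
  obtain ⟨u, rfl⟩ := (mem_trOne_iff _).1 hf
  refine (mem_trOne_iff _).2 ⟨φ ∘ₗ u, LinearMap.ext fun v => ?_⟩
  simp only [LinearMap.comp_apply, LinearMap.sum_apply, map_sum, homT_apply, grp_apply, hφ]

theorem Equi.comp {S' : Type u} [AddCommGroup S'] [Module k S']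
    {σ' : MonoidAlgebra k G →ₐ[k] Module.End k S'} {φ : S →ₗ[k] S'}
    (hφ : ∀ a s, φ (σ a s) = σ' a (φ s)) {τ : T →* Module.End k V} {f : V →ₗ[k] S}
    (hf : Equi T τ σ f) : Equi T τ σ' (φ ∘ₗ f) := fun t x => by
  simp only [LinearMap.comp_apply, hf t x, grp_apply, hφ]

end Descent

/-- A non-trace map can be pushed to an irreducible action. -/
theorem exists_simp_target {V : Type u} [AddCommGroup V] [Module k V]
    (τ : T →* Module.End k V) (n : ℕ) :
    ∀ P : Pack k G, Module.finrank k P.S = n → ∀ f : V →ₗ[k] P.S, Equi T τ P.σ f →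
      f ∉ trOne (homT P.σ T τ) ⊤ →
      ∃ Q : Pack k G, Simp Q.σ ∧ ∃ f' : V →ₗ[k] Q.S, Equi T τ Q.σ f' ∧
        f' ∉ trOne (homT Q.σ T τ) ⊤ := by
  induction n using Nat.strong_induction_on with
  | _ n ih =>
  intro P hn f hf hnot
  by_cases hs : Simp P.σ
  · exact ⟨P, hs, f, hf, hnot⟩
  have hf0 : f ≠ 0 := fun e0 => hnot (e0 ▸ zero_mem _)
  obtain ⟨v, hv⟩ : ∃ v, f v ≠ 0 := by
    by_contra hc
    push Not at hc
    exact hf0 (LinearMap.ext hc)
  obtain ⟨W, hW, hW0, hWt⟩ : ∃ W : Submodule k P.S, Stable P.σ W ∧ W ≠ ⊥ ∧ W ≠ ⊤ := by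
    by_contra hc
    push Not at hc
    exact hs ⟨⟨f v, hv⟩, fun W hW => (em (W = ⊥)).imp_right (hc W hW)⟩
  have hlt : Module.finrank k W < n := hn ▸ Submodule.finrank_lt hWt
  have hlt' : Module.finrank k (P.S ⧸ W) < n := by
    have h1 := W.finrank_quotient_add_finrank
    have h2 : 0 < Module.finrank k W := Nat.pos_of_ne_zero fun e0 =>
      hW0 (Submodule.finrank_eq_zero.1 e0)
    omega
  by_cases hq : W.mkQ ∘ₗ f ∈ trOne (homT (quotAct P.σ hW) T τ) ⊤
  swap
  · exact ih _ hlt' ⟨P.S ⧸ W, quotAct P.σ hW⟩ rfl _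
      (Equi.comp P.σ (fun a s => (quotAct_mk P.σ hW a s).symm) hf) hq
  haveI := Fintype.ofFinite (⊤ : Subgroup T)
  obtain ⟨u, hu⟩ := (mem_trOne_iff _).1 hq
  obtain ⟨s, hs⟩ := W.mkQ.exists_rightInverse_of_surjective (LinearMap.range_eq_top.2 W.mkQ_surjective)
  obtain ⟨g, hgdef⟩ : ∃ g, g = ∑ t : (⊤ : Subgroup T), homT P.σ T τ t (s ∘ₗ u) := ⟨_, rfl⟩
  have hgmem : g ∈ trOne (homT P.σ T τ) ⊤ := (mem_trOne_iff _).2 ⟨_, hgdef⟩
  have hgeq : Equi T τ P.σ g := equi_of_fixed P.σ fun t => act_trOne _ hgmem (Subgroup.mem_top t)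
  have hmap : ∀ x, (f - g) x ∈ W := by
    intro x
    rw [← Submodule.Quotient.mk_eq_zero W, LinearMap.sub_apply, Submodule.Quotient.mk_sub,
      sub_eq_zero]
    have h1 := LinearMap.congr_fun hu x
    rw [LinearMap.comp_apply, Submodule.mkQ_apply] at h1
    rw [h1, hgdef, LinearMap.sum_apply, LinearMap.sum_apply, ← Submodule.mkQ_apply, map_sum]
    refine Finset.sum_congr rfl fun t _ => ?_
    rw [homT_apply, homT_apply, grp_apply, grp_apply, LinearMap.comp_apply, Submodule.mkQ_apply,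
      ← quotAct_mk P.σ hW]
    congr 1
    exact (LinearMap.congr_fun hs _).symm
  obtain ⟨f', hf'⟩ : ∃ f' : V →ₗ[k] W, f' = LinearMap.codRestrict W (f - g) hmap := ⟨_, rfl⟩
  have hsub : W.subtype ∘ₗ f' = f - g := by rw [hf']; rfl
  refine ih _ hlt ⟨W, subAct P.σ hW⟩ rfl f' (fun t x => Subtype.ext ?_) fun hm => hnot ?_
  · show (f' (τ t x) : P.S) = _
    rw [hf']
    exact (hf.sub P.σ hgeq) t x
  · have h2 := homT_comp (subAct P.σ hW) P.σ W.subtype (fun a w => rfl) τ hm
    rw [hsub] at h2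
    have := add_mem h2 hgmem
    rwa [sub_add_cancel] at this

variable {h : Setting C T t₀ e ε π N} (X : Exts C T h.le ⟨t₀, h.mem⟩ e ε)

/-- Every extension has a non-trace map into an irreducible action of the block `eB`. -/
theorem exists_target (z : {z : k // z ^ e = 1}) {eB : MonoidAlgebra k G}
    (hcen : ∀ a, Commute a eB) (hidem : eB * eB = eB)
    (hout : upHom C ε * (1 - eB) ∈ trOne (conjHom k) T) :
    ∃ Q : Pack k G, Simp Q.σ ∧ Q.σ eB = 1 ∧ ∃ f : X.V →ₗ[k] Q.S, Equi T (X.τ z) Q.σ f ∧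
      ¬ LinearMap.range f ≤ lay Q.σ C π (N - 1) := by
  haveI := Fintype.ofFinite G
  -- the induced module
  let ind : Submodule k (G → X.V) :=
    { carrier := {F | ∀ x : G, ∀ t : T, F (x * t) = X.τ z t⁻¹ (F x)}
      zero_mem' := fun x t => by simp
      add_mem' := fun ha hb x t => by simp [ha x t, hb x t]
      smul_mem' := fun c F hF x t => by simp [hF x t] }
  let trans : G →* Module.End k ind :=
    { toFun := fun g =>
        { toFun := fun F => ⟨fun x => (F : G → X.V) (g⁻¹ * x), fun x t => by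
            show (F : G → X.V) (g⁻¹ * (x * t)) = _
            rw [← mul_assoc]; exact F.2 _ t⟩
          map_add' := fun a b => rfl
          map_smul' := fun c a => rfl }
      map_one' := LinearMap.ext fun F => Subtype.ext (funext fun x => by simp)
      map_mul' := fun a b => LinearMap.ext fun F => Subtype.ext (funext fun x => by
        simp [mul_assoc]) }
  let σ0 := MonoidAlgebra.lift k (Module.End k ind) G trans
  have hσ0 : ∀ g, grp σ0 g = trans g := fun g => by
    rw [grp_apply, MonoidAlgebra.lift_single, one_smul]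
  let η : X.V →ₗ[k] ind :=
    { toFun := fun v => ⟨fun x => if hx : x ∈ T then X.τ z (⟨x, hx⟩ : T)⁻¹ v else 0, fun x t => by
        dsimp only
        by_cases hx : x ∈ T
        · rw [dif_pos hx, dif_pos (mul_mem hx t.2), ← Module.End.mul_apply, ← map_mul]
          congr 2
          ext
          simp
        · rw [dif_neg hx, dif_neg, map_zero]
          exact fun hxt => hx (by simpa using mul_mem hxt (inv_mem t.2))⟩
      map_add' := fun a b => Subtype.ext (funext fun x => by
        by_cases hx : x ∈ T <;> simp [hx])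
      map_smul' := fun c a => Subtype.ext (funext fun x => by
        by_cases hx : x ∈ T <;> simp [hx]) }
  have hη : Equi T (X.τ z) σ0 η := fun t v => by
    rw [hσ0]
    refine Subtype.ext (funext fun x => ?_)
    show (if hx : x ∈ T then X.τ z (⟨x, hx⟩ : T)⁻¹ (X.τ z t v) else 0) =
      if hx : (t : G)⁻¹ * x ∈ T then X.τ z (⟨(t : G)⁻¹ * x, hx⟩ : T)⁻¹ v else 0
    by_cases hx : x ∈ T
    · rw [dif_pos hx, dif_pos (mul_mem (inv_mem t.2) hx), ← Module.End.mul_apply, ← map_mul]
      congr 2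
      ext
      simp
    · rw [dif_neg hx, dif_neg]
      exact fun hxt => hx (by simpa using mul_mem t.2 hxt)
  let r : ind →ₗ[k] X.V :=
    { toFun := fun F => (F : G → X.V) 1
      map_add' := fun a b => rfl
      map_smul' := fun c a => rfl }
  have hr : ∀ a : MonoidAlgebra k C, ∀ F, r (σ0 (upHom C a) F) = X.σ₁ a (r F) := by
    intro a F
    induction a using MonoidAlgebra.induction_linear with
    | zero => simp
    | add a b ha hb => simp [ha, hb]
    | single c s =>
      rw [upHom_single, MonoidAlgebra.lift_single, LinearMap.smul_apply, map_smul,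
        show MonoidAlgebra.single c s = s • MonoidAlgebra.single c (1 : k) by
          rw [MonoidAlgebra.smul_single', mul_one], map_smul, LinearMap.smul_apply]
      congr 1
      show (F : G → X.V) ((c : G)⁻¹ * 1) = grp X.σ₁ c ((F : G → X.V) 1)
      rw [← X.restrict z, mul_one]
      conv_lhs => rw [← one_mul (c : G)⁻¹]
      have := F.2 1 (⟨c, h.le c.2⟩ : T)⁻¹
      rw [inv_inv] at this
      exact this
  have hnot : η ∉ trOne (homT σ0 T (X.τ z)) ⊤ := by
    intro hm
    obtain ⟨v, hv⟩ := X.simp.nontriv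
    obtain ⟨F, hF⟩ := range_le_of_trOne (h := h) σ0 X z hm ⟨v, rfl⟩
    apply hv
    have h1 : r (η v) = v := by
      show (if hx : (1 : G) ∈ T then X.τ z (⟨1, hx⟩ : T)⁻¹ v else 0) = v
      rw [dif_pos (one_mem T), show ((⟨1, one_mem T⟩ : T))⁻¹ = 1 by ext; simp, map_one]
      rfl
    obtain ⟨N', hN'⟩ : ∃ N', N - 1 = N' + 1 := ⟨N - 2, by have := h.two_le; omega⟩
    rw [← h1, ← hF, hr, hN', pow_succ', map_mul, π_act_eq_zero h X.simp]
    simp
  haveI : FiniteDimensional k ind := inferInstance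
  obtain ⟨Q, hQ, f, hf, hfnot⟩ := exists_simp_target (X.τ z) _ ⟨ind, σ0⟩ rfl η hη hnot
  refine ⟨Q, hQ, ?_, f, hf, fun hle => hfnot (trOne_of_range_le (h := h) Q.σ X z hf hle)⟩
  obtain ⟨c, hc⟩ := hQ.schur (Q.σ eB) fun a => (hcen a).map Q.σ
  by_contra hne
  have hc0 : c = 0 := by
    have h1 : Q.σ eB * Q.σ eB = Q.σ eB := by rw [← map_mul, hidem]
    rw [hc, smul_mul_smul_comm, one_mul] at h1
    haveI : Nontrivial Q.S := let ⟨v, hv⟩ := hQ.nontriv; ⟨v, 0, hv⟩
    have h2 : c * c = c := smul_left_injective k (one_ne_zero (α := Module.End k Q.S)) h1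
    rcases mul_eq_zero.1 (show c * (c - 1) = 0 by rw [mul_sub, h2, mul_one, sub_self]) with h3 | h3
    · exact h3
    · exact absurd (by rw [hc, sub_eq_zero.1 h3, one_smul]) hne
  apply hfnot
  haveI := Fintype.ofFinite T
  haveI := Fintype.ofFinite (⊤ : Subgroup T)
  obtain ⟨w, hw⟩ := (mem_trOne_iff _).1 hout
  refine (mem_trOne_iff _).2 ⟨Q.σ w ∘ₗ f, LinearMap.ext fun v => ?_⟩
  have hfE : f v = Q.σ (upHom C ε * (1 - eB)) (f v) := by
    rw [map_mul, map_sub, map_one, hc, hc0, zero_smul, sub_zero, mul_one,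
      ← Equi.map_act Q.σ (X.restrict z) hf, X.one]
    rfl
  rw [hfE, hw, map_sum, LinearMap.sum_apply, LinearMap.sum_apply]
  refine Fintype.sum_equiv (Subgroup.topEquiv (G := T)).symm.toEquiv _ _ fun t => ?_
  rw [conjHom_apply, ← grp_conjA, homAct_apply, homT_apply]
  show _ = grp Q.σ (t : G) (Q.σ w (f (X.τ z t⁻¹ v)))
  rw [hf]
  rfl

end CfsgLib.Blk83.Cyc
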