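import Mathlib.GroupTheory.GroupAction.Quotient
import Mathlib.Algebra.BigOperators.Group.Finset.Basic
import Mathlib.GroupTheory.Coset.Card
import Mathlib.GroupTheory.Index
import Mathlib.Algebra.Module.BigOperators
import Mathlib.Algebra.Group.Subgroup.Finite
import Mathlib.Data.Fintype.Quotient

/-!
Traces of group actions on an abelian group: sums of equivariant families over finite sets with a
group action, and the part coming from the trivial subgroup.
-/

set_option autoImplicit false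

open scoped Classical

namespace CfsgLib.Blk83.Cyc

variable {G : Type*} [Group G] [Finite G] {A : Type*} [AddCommGroup A]
variable (act : G →* AddMonoid.End A)

/-- The traces from the trivial subgroup to `H`. -/
noncomputable def trOne (H : Subgroup G) : AddSubgroup A where
  carrier := {v | ∃ w, v = ∑ᶠ h : H, act h w}
  zero_mem' := ⟨0, by simp⟩
  add_mem' := by
    rintro _ _ ⟨v, rfl⟩ ⟨w, rfl⟩
    exact ⟨v + w, by simp [finsum_add_distrib (Set.toFinite _) (Set.toFinite _)]⟩
  neg_mem' := by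
    rintro _ ⟨v, rfl⟩
    exact ⟨-v, by simp [finsum_neg_distrib]⟩

theorem mem_trOne_iff {H : Subgroup G} [Fintype H] {v : A} :
    v ∈ trOne act H ↔ ∃ w, v = ∑ h : H, act h w := by
  constructor
  · rintro ⟨w, rfl⟩; exact ⟨w, finsum_eq_sum_of_fintype _⟩
  · rintro ⟨w, rfl⟩; exact ⟨w, (finsum_eq_sum_of_fintype _).symm⟩

theorem sum_act_mem_trOne (H : Subgroup G) [Fintype H] (w : A) :
    ∑ h : H, act h w ∈ trOne act H := (mem_trOne_iff act).2 ⟨w, rfl⟩

theorem trOne_bot {H : Subgroup G} (hH : H = ⊥) (v : A) : v ∈ trOne act H := by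
  subst hH
  haveI := Fintype.ofFinite (⊥ : Subgroup G)
  refine (mem_trOne_iff act).2 ⟨v, ?_⟩
  rw [Fintype.sum_unique]
  have : ((default : (⊥ : Subgroup G)) : G) = 1 := Subgroup.mem_bot.1 (default : (⊥ : Subgroup G)).2
  rw [this, map_one]
  rfl

omit [Finite G] in
theorem act_act (g h : G) (v : A) : act g (act h v) = act (g * h) v := by
  rw [map_mul]; rfl

omit [Finite G] in
theorem act_one (v : A) : act 1 v = v := by rw [map_one]; rfl

omit [Finite G] in
theorem act_inv_act (g : G) (v : A) : act g⁻¹ (act g v) = v := by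
  rw [act_act, inv_mul_cancel, act_one]

/-- The elements of `trOne` are fixed. -/
theorem act_trOne {H : Subgroup G} {v : A} (hv : v ∈ trOne act H) {g : G} (hg : g ∈ H) :
    act g v = v := by
  haveI := Fintype.ofFinite H
  obtain ⟨w, rfl⟩ := (mem_trOne_iff act).1 hv
  rw [map_sum]
  refine Fintype.sum_equiv (Equiv.mulLeft (⟨g, hg⟩ : H)) _ _ fun h => ?_
  rw [act_act]
  rfl

variable {X : Type*} [MulAction G X]

/-- A sum of an equivariant family over an invariant set is fixed. -/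
theorem act_sum_equivariant {H : Subgroup G} {s : Finset X} (hs : ∀ h ∈ H, ∀ x ∈ s, h • x ∈ s)
    {F : X → A} (hF : ∀ h ∈ H, ∀ x ∈ s, F (h • x) = act h (F x)) {g : G} (hg : g ∈ H) :
    act g (∑ x ∈ s, F x) = ∑ x ∈ s, F x := by
  rw [map_sum]
  refine Finset.sum_nbij' (fun x => g • x) (fun x => g⁻¹ • x) (fun x hx => hs g hg x hx)
    (fun x hx => hs g⁻¹ (inv_mem hg) x hx) (fun x _ => inv_smul_smul g x)
    (fun x _ => smul_inv_smul g x) fun x hx => (hF g hg x hx).symm

/-- If every member of an equivariant family is a trace from the trivial subgroup to its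
stabilizer, the sum is a trace from the trivial subgroup. -/
theorem sum_mem_trOne {H : Subgroup G} {s : Finset X} (hs : ∀ h ∈ H, ∀ x ∈ s, h • x ∈ s)
    {F : X → A} (hF : ∀ h ∈ H, ∀ x ∈ s, F (h • x) = act h (F x))
    (hstab : ∀ x ∈ s, F x ∈ trOne act (H ⊓ MulAction.stabilizer G x)) :
    ∑ x ∈ s, F x ∈ trOne act H := by
  induction s using Finset.strongInduction with
  | _ s ih =>
  rcases s.eq_empty_or_nonempty with rfl | ⟨x₀, hx₀⟩
  · simp
  haveI := Fintype.ofFinite H
  set O : Finset X := Finset.univ.image (fun h : H => (h : G) • x₀) with hO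
  have hOs : O ⊆ s := fun x hx => by
    obtain ⟨h, -, rfl⟩ := Finset.mem_image.1 hx
    exact hs h h.2 x₀ hx₀
  rw [← Finset.sum_sdiff hOs]
  refine AddSubgroup.add_mem _ (ih _ ?_ ?_ (fun h hh x hx => hF h hh x (Finset.mem_sdiff.1 hx).1)
    fun x hx => hstab x (Finset.mem_sdiff.1 hx).1) ?_
  · exact Finset.sdiff_ssubset hOs ⟨x₀, Finset.mem_image.2 ⟨1, Finset.mem_univ _, one_smul _ _⟩⟩
  · intro h hh x hx
    rw [Finset.mem_sdiff] at hx ⊢
    refine ⟨hs h hh x hx.1, fun hc => hx.2 ?_⟩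
    obtain ⟨h', -, he⟩ := Finset.mem_image.1 hc
    exact Finset.mem_image.2 ⟨⟨h⁻¹, inv_mem hh⟩ * h', Finset.mem_univ _, by
      show (h⁻¹ * (h' : G)) • x₀ = x
      rw [mul_smul, he, inv_smul_smul]⟩
  · haveI := Fintype.ofFinite (H ⊓ MulAction.stabilizer G x₀ : Subgroup G)
    obtain ⟨w, hw⟩ := (mem_trOne_iff act).1 (hstab x₀ hx₀)
    refine (mem_trOne_iff act).2 ⟨w, ?_⟩
    rw [← Finset.sum_fiberwise_of_maps_to (s := (Finset.univ : Finset H)) (t := O)
      (g := fun h : H => (h : G) • x₀) fun h _ => Finset.mem_image_of_mem _ (Finset.mem_univ h)]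
    refine Finset.sum_congr rfl fun x hx => ?_
    obtain ⟨h₀, -, rfl⟩ := Finset.mem_image.1 hx
    rw [hF h₀ h₀.2 x₀ hx₀, hw, map_sum]
    refine Finset.sum_bij' (fun t _ => h₀ * (⟨(t : G), t.2.1⟩ : H))
      (fun h hh => ⟨((h₀⁻¹ * h : H) : G), (h₀⁻¹ * h).2, ?_⟩) ?_ ?_ ?_ ?_ ?_
    · show ((h₀⁻¹ * h : H) : G) ∈ MulAction.stabilizer G x₀
      rw [MulAction.mem_stabilizer_iff]
      show ((h₀ : G)⁻¹ * h) • x₀ = x₀
      rw [mul_smul, (Finset.mem_filter.1 hh).2, inv_smul_smul]
    · intro t _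
      refine Finset.mem_filter.2 ⟨Finset.mem_univ _, ?_⟩
      show ((h₀ : G) * t) • x₀ = _
      rw [mul_smul, MulAction.mem_stabilizer_iff.1 t.2.2]
    · exact fun _ _ => Finset.mem_univ _
    · intro t _
      ext
      show (h₀ : G)⁻¹ * ((h₀ : G) * t) = t
      rw [inv_mul_cancel_left]
    · intro h _
      ext
      show (h₀ : G) * ((h₀ : G)⁻¹ * h) = h
      rw [mul_inv_cancel_left]
    · intro t _
      rw [act_act]
      rfl

/-- The equivariant family on the cosets of `D` attached to a `D`-fixed element. -/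
noncomputable def cosetFam {D : Subgroup G} (v : A) (q : G ⧸ D) : A := act q.out v

omit [Finite G] in
theorem cosetFam_mk {D : Subgroup G} {v : A} (hv : ∀ d ∈ D, act d v = v) (g : G) :
    cosetFam act v (g : G ⧸ D) = act g v := by
  obtain ⟨d, hd⟩ := QuotientGroup.mk_out_eq_mul D g
  show act (g : G ⧸ D).out v = _
  rw [hd, ← act_act, hv d d.2]

omit [Finite G] in
theorem cosetFam_smul {D : Subgroup G} {v : A} (hv : ∀ d ∈ D, act d v = v) (g : G) (q : G ⧸ D) :
    cosetFam act v (g • q) = act g (cosetFam act v q) := by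
  induction q using QuotientGroup.induction_on with
  | _ x =>
    rw [MulAction.Quotient.smul_coe, cosetFam_mk act hv, cosetFam_mk act hv, act_act]
    rfl

/-- The cosets of `D` inside `H`. -/
noncomputable def cosetsIn (H D : Subgroup G) : Finset (G ⧸ D) :=
  haveI := Fintype.ofFinite H
  Finset.univ.image fun h : H => ((h : G) : G ⧸ D)

theorem mem_cosetsIn {H D : Subgroup G} {q : G ⧸ D} :
    q ∈ cosetsIn H D ↔ ∃ h ∈ H, (h : G ⧸ D) = q := by
  simp [cosetsIn]

theorem smul_mem_cosetsIn {H D : Subgroup G} {g : G} (hg : g ∈ H) {q : G ⧸ D}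
    (hq : q ∈ cosetsIn H D) : g • q ∈ cosetsIn H D := by
  obtain ⟨h, hh, rfl⟩ := mem_cosetsIn.1 hq
  exact mem_cosetsIn.2 ⟨g * h, mul_mem hg hh, rfl⟩

theorem cosetsIn_top (D : Subgroup G) [Fintype (G ⧸ D)] :
    cosetsIn (⊤ : Subgroup G) D = Finset.univ := by
  ext q
  simp only [Finset.mem_univ, iff_true]
  induction q using QuotientGroup.induction_on with
  | _ x => exact mem_cosetsIn.2 ⟨x, Subgroup.mem_top _, rfl⟩

/-- The relative trace from `D` to `H`. -/
noncomputable def relTr (H D : Subgroup G) (v : A) : A := ∑ q ∈ cosetsIn H D, cosetFam act v q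

theorem act_relTr {H D : Subgroup G} {v : A} (hv : ∀ d ∈ D, act d v = v) {g : G} (hg : g ∈ H) :
    act g (relTr act H D v) = relTr act H D v :=
  act_sum_equivariant act (fun _ hh _ hx => smul_mem_cosetsIn hh hx)
    (fun h _ q _ => cosetFam_smul act hv h q) hg

theorem card_cosetsIn {H D : Subgroup G} (hDH : D ≤ H) :
    (cosetsIn H D).card = D.relIndex H := by
  haveI := Fintype.ofFinite H
  haveI := Fintype.ofFinite (H ⧸ D.subgroupOf H)
  rw [Subgroup.relIndex, Subgroup.index_eq_card, Nat.card_eq_fintype_card, ← Finset.card_univ]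
  refine (Finset.card_bij (fun q _ => ((q.out : H) : G ⧸ D)) (fun q _ => ?_) ?_ ?_).symm
  · exact mem_cosetsIn.2 ⟨q.out, (q.out : H).2, rfl⟩
  · intro a _ b _ hab
    rw [← a.out_eq, ← b.out_eq]
    exact QuotientGroup.eq.2 (Subgroup.mem_subgroupOf.2 (QuotientGroup.eq.1 hab))
  · intro q hq
    obtain ⟨h, hh, rfl⟩ := mem_cosetsIn.1 hq
    obtain ⟨d, hd⟩ := QuotientGroup.mk_out_eq_mul (D.subgroupOf H) ⟨h, hh⟩
    refine ⟨QuotientGroup.mk ⟨h, hh⟩, Finset.mem_univ _, QuotientGroup.eq.2 ?_⟩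
    rw [hd]
    show (h * ((d : H) : G))⁻¹ * h ∈ D
    rw [mul_inv_rev, inv_mul_cancel_right]
    exact inv_mem (Subgroup.mem_subgroupOf.1 d.2)

end CfsgLib.Blk83.Cyc
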