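import Cfsg.Agent.Lib.Blk83.PrincipalColumn
import Cfsg.Agent.Lib.Blk83.PrincipalBound
import Cfsg.Agent.Lib.Blk83.OneBlock
import Cfsg.Agent.Lib.Blocks.Quotient
import Cfsg.Agent.Lib.Blocks.PPart
import Cfsg.Agent.Lib.Invol.PrincipalKernel
import Cfsg.Agent.Lib.BlockPrincipal.Criterion
import Mathlib.GroupTheory.Transfer

/-!
The principal block at the non-identity elements of an abelian Sylow subgroup whose normalizer
meets the centralizer of each of them in the centralizer of the Sylow subgroup.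
-/

set_option autoImplicit false
open Cfsg
open scoped ComplexConjugate

namespace CfsgLib.Blk83

universe u

variable {G : Type u} [Group G] [Finite G] {p : ℕ} [Fact p.Prime] {M : Ideal Cfsg.AlgInt}

/-- A `p`-group has a single block. -/
theorem mem_principalBlock_of_isPGroup (hM : Cfsg.IsPModular p M) (hG : IsPGroup p G)
    (χ : Cfsg.IrrCharacter G) : χ ∈ Cfsg.principalBlock M G := by
  refine mem_principalBlock_of_centralizer_pCore_le hM ?_ χ
  have h : (⊤ : Subgroup G) ≤ Cfsg.pCore p G :=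
    CfsgLib.Solvable.le_pCore inferInstance (hG.to_subgroup ⊤)
  exact le_top.trans h

/-- With a normal `p`-complement the principal block consists of the characters trivial on it. -/
theorem principalBlock_eq_trivialOn (hM : Cfsg.IsPModular p M) (K : Subgroup G) [K.Normal]
    (hK : ¬ p ∣ Nat.card K) {k : ℕ} (hk : K.index = p ^ k) :
    Cfsg.principalBlock M G =
      {χ : Cfsg.IrrCharacter G | ∀ n ∈ K, (χ : G → ℂ) n = (χ : G → ℂ) 1} := by
  haveI : M.IsMaximal := CfsgLib.Blocks.isMaximal_of_isPModular hM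
  ext χ
  refine ⟨fun h n hn => ?_, fun h => ?_⟩
  · simpa using CfsgLib.Invol.apply_mul_of_mem_principalBlock hM hK h hn 1
  · obtain ⟨η, rfl⟩ := CfsgLib.Blocks.exists_infl_eq K h
    have hq : IsPGroup p (G ⧸ K) := IsPGroup.of_card (n := k) (by rw [← Subgroup.index]; exact hk)
    have h1 : Cfsg.SameBlock M (fun _ : G ⧸ K => (1 : ℂ)) (η : G ⧸ K → ℂ) :=
      mem_principalBlock_of_isPGroup hM hq η
    have h2 := CfsgLib.Blocks.sameBlock_infl (N := K)
      (χ := (CfsgLib.Char.principalIrr : Cfsg.IrrCharacter (G ⧸ K))) (ψ := η) h1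
    exact h2

section Local

variable (P : Sylow p G) [IsMulCommutative (P : Subgroup G)]

theorem commute_of_mem_sylow {x y : G} (hx : x ∈ (P : Subgroup G)) (hy : y ∈ (P : Subgroup G)) :
    x * y = y * x :=
  congrArg Subtype.val
    (mul_comm' (⟨x, hx⟩ : (P : Subgroup G)) ⟨y, hy⟩)

theorem sylow_le_centralizer_singleton {y : G} (hy : y ∈ (P : Subgroup G)) :
    (P : Subgroup G) ≤ Subgroup.centralizer ({y} : Set G) :=
  fun _ hx => Subgroup.mem_centralizer_singleton_iff.2 (commute_of_mem_sylow P hx hy)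

omit [IsMulCommutative (P : Subgroup G)] in
theorem pElement_of_mem_sylow {y : G} (hy : y ∈ (P : Subgroup G)) : ∃ k : ℕ, orderOf y = p ^ k := by
  obtain ⟨k, hk⟩ := IsPGroup.iff_orderOf.mp P.isPGroup' ⟨y, hy⟩
  exact ⟨k, by rw [← hk, Subgroup.orderOf_mk]⟩

/-- The centralizer of `y` has a normal `p`-complement of index `|P|`, and the idempotent of its
principal block is constant on it. -/
theorem exists_local_complement (hM : Cfsg.IsPModular p M) {y : G} (hy : y ∈ (P : Subgroup G))
    (hfix : Subgroup.centralizer ({y} : Set G) ⊓ Subgroup.normalizer ((P : Subgroup G) : Set G) ≤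
      Subgroup.centralizer ((P : Subgroup G) : Set G)) :
    ∃ K : Subgroup ↥(Subgroup.centralizer ({y} : Set G)), K.index = Nat.card P ∧
      (∀ c, Cfsg.IsPRegular p c ↔ c ∈ K) ∧
      ∀ c, Cfsg.blockCoeff (Cfsg.principalBlock M ↥(Subgroup.centralizer ({y} : Set G))) c =
        haveI := Classical.dec (c ∈ K)
        if c ∈ K then (Nat.card K : ℂ)⁻¹ else 0 := by
  classical
  have hle := sylow_le_centralizer_singleton P hy
  set H := Subgroup.centralizer ({y} : Set G) with hH
  let PS : Sylow p H := P.subtype hle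
  have hPS : ∀ c : H, c ∈ (PS : Subgroup H) ↔ (c : G) ∈ (P : Subgroup G) := fun c => Iff.rfl
  have hnorm : Subgroup.normalizer ((PS : Subgroup H) : Set H) ≤
      Subgroup.centralizer ((PS : Subgroup H) : Set H) := by
    intro c hc
    have h1 : (c : G) ∈ Subgroup.normalizer ((P : Subgroup G) : Set G) := by
      refine Subgroup.mem_normalizer_fintype fun x hx => ?_
      exact (Subgroup.mem_normalizer_iff.mp hc ⟨x, hle hx⟩).mp hx
    have h2 := hfix ⟨c.2, h1⟩
    exact Subgroup.mem_centralizer_iff.mpr fun d hd =>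
      Subtype.ext (Subgroup.mem_centralizer_iff.mp h2 d hd)
  have hc := MonoidHom.ker_transferSylow_isComplement' PS hnorm
  have hnd := MonoidHom.not_dvd_card_ker_transferSylow PS hnorm
  set K := (MonoidHom.transferSylow PS hnorm).ker
  have hidx : K.index = Nat.card P := by
    rw [hc.symm.index_eq_card]
    exact Nat.card_congr
      { toFun := fun c => ⟨(c.1 : G), c.2⟩
        invFun := fun x => ⟨⟨x.1, hle x.2⟩, x.2⟩
        left_inv := fun c => rfl
        right_inv := fun x => rfl }
  obtain ⟨k, hk⟩ := IsPGroup.iff_card.mp P.isPGroup'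
  refine ⟨K, hidx, isPRegular_iff_mem _ hnd (hidx.trans hk), fun c => ?_⟩
  haveI : M.IsMaximal := CfsgLib.Blocks.isMaximal_of_isPModular hM
  rw [principalBlock_eq_trivialOn hM K hnd (hidx.trans hk)]
  convert CfsgLib.Blocks.blockCoeff_trivialOn K c using 1

variable (hfix : ∀ y ∈ (P : Subgroup G), y ≠ 1 →
  Subgroup.centralizer ({y} : Set G) ⊓ Subgroup.normalizer ((P : Subgroup G) : Set G) ≤
    Subgroup.centralizer ((P : Subgroup G) : Set G))

/-- The value at `y x` through the principal block of the centralizer of `y`. -/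
theorem principal_apply_mul_eq (hM : Cfsg.IsPModular p M) {y : G}
    (hy : ∃ k : ℕ, orderOf y = p ^ k) {χ : Cfsg.IrrCharacter G}
    (hχ : χ ∈ Cfsg.principalBlock M G) (x : ↥(Subgroup.centralizer ({y} : Set G)))
    (hx : ¬ p ∣ orderOf x) :
    (χ : G → ℂ) (y * x) =
      ∑ᶠ c, Cfsg.blockCoeff (Cfsg.principalBlock M ↥(Subgroup.centralizer ({y} : Set G))) c *
        (χ : G → ℂ) (y * ((c * x : ↥(Subgroup.centralizer ({y} : Set G))) : G)) := by
  classical
  haveI := hM.2.1
  haveI : Fintype {B : Set (Cfsg.IrrCharacter ↥(Subgroup.centralizer ({y} : Set G))) //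
    Cfsg.IsPBlock M B} := Fintype.ofFinite _
  haveI := Fintype.ofFinite G
  haveI : Fintype ↥(Subgroup.centralizer ({y} : Set G)) := Fintype.ofFinite _
  have hcl := CfsgLib.BlockRank.isClassFunction_translate
    (C := Subgroup.centralizer ({y} : Set G)) rfl (x := y) χ
  have h2 := CfsgLib.BlockRank.sum_blockPart_blocks hM hcl x
  rw [Finset.sum_eq_single (⟨Cfsg.principalBlock M ↥(Subgroup.centralizer ({y} : Set G)),
      CfsgLib.Blk83.principalBlock_isPBlock⟩ :
      {B : Set (Cfsg.IrrCharacter ↥(Subgroup.centralizer ({y} : Set G))) //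
        Cfsg.IsPBlock M B})] at h2
  · exact h2.trans (Cfsg.Agent.S0923.blockPart_eq _ x hcl)
  · intro b _ hne
    refine Cfsg.Agent.S0923.result p M hM y hy _ CfsgLib.Blk83.principalBlock_isPBlock χ hχ b.1 b.2
      (fun h => hne (Subtype.ext ?_)) x hx
    exact (CfsgLib.Blocks.isInducedBlock_principal_iff hM ⟨_, h⟩).mp h
  · exact fun h => absurd (Finset.mem_univ _) h

include hfix in
/-- Principal block characters are constant on the `p`-section of a non-identity element of `P`. -/
theorem apply_mul_regular (hM : Cfsg.IsPModular p M) {χ : Cfsg.IrrCharacter G}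
    (hχ : χ ∈ Cfsg.principalBlock M G) {y x : G} (hy : y ∈ (P : Subgroup G)) (hy1 : y ≠ 1)
    (hxy : Commute y x) (hx : ¬ p ∣ orderOf x) : (χ : G → ℂ) (y * x) = (χ : G → ℂ) y := by
  classical
  obtain ⟨K, -, hreg, hb⟩ := exists_local_complement P hM hy (hfix y hy hy1)
  let xH : ↥(Subgroup.centralizer ({y} : Set G)) :=
    ⟨x, Subgroup.mem_centralizer_singleton_iff.2 hxy.symm.eq⟩
  have hxH : ¬ p ∣ orderOf xH := by rwa [← Subgroup.orderOf_coe]
  have e1 := principal_apply_mul_eq hM (pElement_of_mem_sylow P hy) hχ xH hxH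
  have e0 := principal_apply_mul_eq hM (pElement_of_mem_sylow P hy) hχ (1 : ↥(Subgroup.centralizer ({y} : Set G)))
    (by simp [(Fact.out : p.Prime).ne_one])
  simp only [OneMemClass.coe_one, mul_one] at e0
  rw [show y * x = y * (xH : G) from rfl, e1, e0]
  refine finsum_eq_of_bijective (fun c => c * xH) (Equiv.mulRight xH).bijective fun c => ?_
  have hxK : xH ∈ K := (hreg xH).1 hxH
  rw [hb c, hb (c * xH)]
  congr 1
  simp only [K.mul_mem_cancel_right hxK]

include hfix in
/-- Inner products of principal block columns at elements of `P`. -/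
theorem principal_column_inner (hM : Cfsg.IsPModular p M)
    [DecidablePred (· ∈ Cfsg.principalBlock M G)] {y y' : G} (hy : y ∈ (P : Subgroup G))
    (hy1 : y ≠ 1) (hy' : y' ∈ (P : Subgroup G)) [Decidable (IsConj y y')] :
    ∑ χ ∈ Finset.univ.filter (· ∈ Cfsg.principalBlock M G),
      (χ : G → ℂ) y * conj ((χ : G → ℂ) y') =
      if IsConj y y' then (Nat.card P : ℂ) else 0 := by
  classical
  haveI := Fintype.ofFinite G
  have hp : p.Prime := Fact.out
  obtain ⟨H, hH, K, hidx, hreg, hb⟩ : ∃ H, H = Subgroup.centralizer ({y} : Set G) ∧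
      ∃ K : Subgroup ↥H, K.index = Nat.card P ∧ (∀ c, Cfsg.IsPRegular p c ↔ c ∈ K) ∧
        ∀ c, Cfsg.blockCoeff (Cfsg.principalBlock M ↥H) c =
          haveI := Classical.dec (c ∈ K)
          if c ∈ K then (Nat.card K : ℂ)⁻¹ else 0 :=
    ⟨_, rfl, exists_local_complement P hM hy (hfix y hy hy1)⟩
  subst hH
  haveI : Fintype ↥(Subgroup.centralizer ({y} : Set G)) := Fintype.ofFinite _
  have hkey : ∀ c : ↥(Subgroup.centralizer ({y} : Set G)), c ∈ K → IsConj (y * (c : G)) y' → c = 1 := by
    intro c hc hconj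
    obtain ⟨k, hk⟩ := pElement_of_mem_sylow P hy
    obtain ⟨j, hj⟩ := pElement_of_mem_sylow P hy'
    have hco : ¬ p ∣ orderOf (c : G) := by
      rw [Subgroup.orderOf_coe]; exact (hreg c).2 hc
    have hcomm : Commute y (c : G) := (Subgroup.mem_centralizer_singleton_iff.1 c.2).symm
    have h1 : orderOf (y * (c : G)) = orderOf y * orderOf (c : G) := by
      refine hcomm.orderOf_mul_eq_mul_orderOf_of_coprime ?_
      rw [hk]
      exact (hp.coprime_iff_not_dvd.2 hco).pow_left k
    obtain ⟨g, hg⟩ := isConj_iff.1 hconj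
    have h2 : orderOf (y * (c : G)) = p ^ j := by
      rw [← hj, ← hg]
      exact (MulEquiv.orderOf_eq (MulAut.conj g) _).symm
    have h3 : orderOf (c : G) ∣ p ^ j := h2 ▸ h1 ▸ dvd_mul_left _ _
    obtain ⟨i, -, hi⟩ := (Nat.dvd_prime_pow hp).1 h3
    rcases i with _ | i
    · exact Subtype.ext (orderOf_eq_one_iff.1 (by simpa using hi))
    · exact absurd (hi ▸ dvd_pow_self p i.succ_ne_zero) hco
  calc ∑ χ ∈ Finset.univ.filter (· ∈ Cfsg.principalBlock M G),
          (χ : G → ℂ) y * conj ((χ : G → ℂ) y')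
      = ∑ χ : Cfsg.IrrCharacter G,
          (if χ ∈ Cfsg.principalBlock M G then (χ : G → ℂ) y else 0) *
            conj ((χ : G → ℂ) y') := by
        rw [Finset.sum_filter]
        exact Finset.sum_congr rfl fun χ _ => by rw [ite_mul, zero_mul]
    _ = ∑ c : ↥(Subgroup.centralizer ({y} : Set G)), Cfsg.blockCoeff (Cfsg.principalBlock M ↥(Subgroup.centralizer ({y} : Set G))) c *
          ∑ χ : Cfsg.IrrCharacter G, (χ : G → ℂ) (y * c) * conj ((χ : G → ℂ) y') := by
        simp only [principal_apply_eq hM (pElement_of_mem_sylow P hy), Finset.sum_mul,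
          Finset.mul_sum]
        rw [Finset.sum_comm]
        exact Finset.sum_congr rfl fun c _ => Finset.sum_congr rfl fun χ _ => by ring
    _ = Cfsg.blockCoeff (Cfsg.principalBlock M ↥(Subgroup.centralizer ({y} : Set G))) 1 *
          ∑ χ : Cfsg.IrrCharacter G, (χ : G → ℂ) (y * (1 : ↥(Subgroup.centralizer ({y} : Set G)))) * conj ((χ : G → ℂ) y') := by
        refine Finset.sum_eq_single (1 : ↥(Subgroup.centralizer ({y} : Set G))) (fun c _ hc => ?_)
          (fun h => absurd (Finset.mem_univ _) h)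
        by_cases hcK : c ∈ K
        · have hn : ¬ IsConj (y * (c : G)) y' := fun h => hc (hkey c hcK h)
          rw [CfsgLib.Char.sum_mul_conj, if_neg hn, mul_zero]
        · rw [hb c, if_neg hcK, zero_mul]
    _ = _ := by
        rw [OneMemClass.coe_one, mul_one, CfsgLib.Char.sum_mul_conj, hb 1, if_pos K.one_mem]
        by_cases h : IsConj y y'
        · have hcard : (Nat.card ↥(Subgroup.centralizer ({y} : Set G)) : ℂ) = (Nat.card K : ℂ) * Nat.card P := by
            rw [← Nat.cast_mul, ← hidx, Subgroup.card_mul_index]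
          have hK0 : (Nat.card K : ℂ) ≠ 0 := Nat.cast_ne_zero.2 Nat.card_pos.ne'
          rw [if_pos h, if_pos h, hcard, inv_mul_cancel_left₀ hK0]
        · rw [if_neg h, if_neg h, mul_zero]

/-- A principal block column at a non-identity `p`-element is orthogonal to the `p`-regular
columns. -/
theorem principal_column_regular (hM : Cfsg.IsPModular p M) {y : G}
    (hy : ∃ k : ℕ, orderOf y = p ^ k) (hy1 : y ≠ 1) {g : G} (hg : ¬ p ∣ orderOf g) :
    ∑ᶠ χ ∈ Cfsg.principalBlock M G, (χ : G → ℂ) y * (χ : G → ℂ) g = 0 := by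
  classical
  haveI := Fintype.ofFinite G
  refine principal_column_eq_zero hM hy (fun χ => (χ : G → ℂ) g) fun c hc hreg => ?_
  have hn : ¬ IsConj (y * c) g⁻¹ := by
    intro h
    obtain ⟨u, hu⟩ := isConj_iff.1 h
    obtain ⟨k, hk⟩ := hy
    have hcomm : Commute y c := (Subgroup.mem_centralizer_singleton_iff.1 hc).symm
    have h1 : orderOf (y * c) = orderOf y * orderOf c := by
      refine hcomm.orderOf_mul_eq_mul_orderOf_of_coprime ?_
      rw [hk]
      exact ((Fact.out : p.Prime).coprime_iff_not_dvd.2 hreg).pow_left k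
    have h2 : orderOf (y * c) = orderOf g := by
      rw [← orderOf_inv g, ← hu]
      exact (MulEquiv.orderOf_eq (MulAut.conj u) _).symm
    have hk0 : k ≠ 0 := by
      rintro rfl
      exact hy1 (orderOf_eq_one_iff.1 (by simpa using hk))
    exact hg (h2 ▸ h1 ▸ dvd_mul_of_dvd_left (hk ▸ dvd_pow_self p hk0) _)
  have h := CfsgLib.Char.sum_mul_conj (y * c) g⁻¹
  rw [if_neg hn] at h
  rw [← h]
  exact Finset.sum_congr rfl fun χ _ => by rw [conj_char, inv_inv]

/-- A character of the principal block vanishing on all `p`-singular elements is principal. -/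
theorem eq_principal_of_vanishing (hM : Cfsg.IsPModular p M) {χ : Cfsg.IrrCharacter G}
    (hχ : χ ∈ Cfsg.principalBlock M G)
    (hv : ∀ z : G, p ∣ orderOf z → (χ : G → ℂ) z = 0) :
    χ = CfsgLib.Char.principalIrr := by
  classical
  by_contra hne
  haveI := Fintype.ofFinite G
  have h0 : CfsgLib.BlockPrincipal.regSum p (χ : G → ℂ) = 0 := by
    rw [CfsgLib.BlockPrincipal.regSum, Finset.sum_filter]
    have h1 := CfsgLib.Char.classInner_irr_of_ne χ.2
      (CfsgLib.Char.principalIrr : Cfsg.IrrCharacter G).2 (fun e => hne (Subtype.ext e))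
    simp only [Cfsg.classInner, CfsgLib.Char.principalIrr_apply, map_one, mul_one] at h1
    rw [mul_eq_zero] at h1
    have h2 := h1.resolve_left (by simp [Nat.card_pos.ne'])
    refine Eq.trans ?_ h2
    refine Finset.sum_congr rfl fun x _ => ?_
    by_cases h : p ∣ orderOf x
    · rw [if_neg (not_not.2 h), hv x h]
    · rw [if_pos h]
  refine (CfsgLib.BlockPrincipal.mem_principal_iff hM χ).1 hχ ?_
  rw [h0, zero_div]
  exact CfsgLib.BlockReg.memIdeal_zero hM

omit [IsMulCommutative (P : Subgroup G)] in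
/-- Every `p`-singular element is conjugate into the `p`-section of a non-identity element of `P`. -/
theorem exists_conj_pPart_mem {z : G} (hz : p ∣ orderOf z) :
    ∃ g y : G, y ∈ (P : Subgroup G) ∧ y ≠ 1 ∧ Cfsg.IsPPart p (g * z * g⁻¹) y := by
  have hp : p.Prime := Fact.out
  obtain ⟨x, hx⟩ := CfsgLib.Blocks.exists_isPPart hp z
  have hx1 : x ≠ 1 := fun h => ((CfsgLib.Blocks.not_dvd_orderOf_iff hp hx).2 h) hz
  obtain ⟨v, hv, hvc, ⟨k, hk⟩, hv'⟩ := hx
  have hxp : IsPGroup p (Subgroup.zpowers x) := IsPGroup.of_card (n := k) (by rw [Nat.card_zpowers, hk])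
  obtain ⟨Q, hQ⟩ := hxp.exists_le_sylow
  obtain ⟨g, rfl⟩ := MulAction.exists_smul_eq G P Q
  have hxQ : x ∈ ((g • P : Sylow p G) : Subgroup G) := hQ (Subgroup.mem_zpowers x)
  obtain ⟨u, hu, hux⟩ := hxQ
  have hux' : g * u * g⁻¹ = x := hux
  refine ⟨g⁻¹, u, hu, fun h => hx1 ?_, g⁻¹ * v * g, ?_, ?_, ⟨k, ?_⟩, ?_⟩
  · rw [← hux', h]; group
  · rw [← hv, ← hux']; group
  · show u * (g⁻¹ * v * g) = (g⁻¹ * v * g) * u
    have h := hvc.eq
    rw [← hux'] at h
    calc u * (g⁻¹ * v * g) = g⁻¹ * (g * u * g⁻¹ * v) * g := by group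
      _ = g⁻¹ * (v * (g * u * g⁻¹)) * g := by rw [h]
      _ = _ := by group
  · rw [← hk, ← hux']
    exact (MulEquiv.orderOf_eq (MulAut.conj g) u).symm
  · intro h
    refine hv' ?_
    have : orderOf (g⁻¹ * v * g) = orderOf v := by
      simpa using MulEquiv.orderOf_eq (MulAut.conj g⁻¹) v
    rwa [this] at h

end Local

end CfsgLib.Blk83
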