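import Cfsg.Agent.Lib.BlockRank.Subsection
import Cfsg.Agent.Lib.Blocks.Okuyama

/-!
Columns of the principal block at `p`-elements, from the second and third main theorems.
-/

set_option autoImplicit false
open Cfsg CfsgLib.Blocks
open scoped ComplexConjugate

namespace CfsgLib.Blk83

universe u

variable {G : Type u} [Group G] [Fintype G] {p : ℕ} [Fact p.Prime] {M : Ideal Cfsg.AlgInt}

/-- The value at a `p`-element through the principal block of its centralizer. -/
theorem principal_apply_eq (hM : Cfsg.IsPModular p M) {y : G} (hy : ∃ k : ℕ, orderOf y = p ^ k)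
    [Fintype ↥(Subgroup.centralizer ({y} : Set G))]
    [DecidablePred (· ∈ Cfsg.principalBlock M G)] (χ : Cfsg.IrrCharacter G) :
    (if χ ∈ Cfsg.principalBlock M G then (χ : G → ℂ) y else 0) =
      ∑ c : Subgroup.centralizer ({y} : Set G),
        Cfsg.blockCoeff (Cfsg.principalBlock M ↥(Subgroup.centralizer ({y} : Set G))) c *
          (χ : G → ℂ) (y * c) := by
  classical
  haveI := hM.2.1
  have hp : p.Prime := Fact.out
  set C := Subgroup.centralizer ({y} : Set G) with hC
  haveI : Fintype {B : Set (Cfsg.IrrCharacter C) // Cfsg.IsPBlock M B} := Fintype.ofFinite _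
  set b₀ := Cfsg.principalBlock M C with hb₀
  have hb₀B : Cfsg.IsInducedBlock M C b₀ (Cfsg.principalBlock M G) :=
    (isInducedBlock_principal_iff hM
      (CfsgLib.BlockRank.exists_isInducedBlock_centralizer hM hC hy
        (isPBlock_principalBlock (M := M) (G := C)))).mpr rfl
  have hcl := CfsgLib.BlockRank.isClassFunction_translate hC (x := y) χ
  have hbp : Cfsg.blockPart b₀ (fun c : C => (χ : G → ℂ) (y * c)) 1 =
      ∑ c : C, Cfsg.blockCoeff b₀ c * (χ : G → ℂ) (y * c) := by
    rw [Cfsg.Agent.S0923.blockPart_eq b₀ 1 hcl, finsum_eq_sum_of_fintype]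
    exact Finset.sum_congr rfl fun c _ => by rw [mul_one]
  refine Eq.trans ?_ (hbp.trans (Finset.sum_congr (Finset.ext fun _ => by simp) fun _ _ => rfl))
  have h1 : ¬ p ∣ orderOf (1 : C) := by simp [hp.ne_one]
  by_cases hχ : χ ∈ Cfsg.principalBlock M G
  · rw [if_pos hχ]
    have h2 := CfsgLib.BlockRank.sum_blockPart_blocks hM hcl 1
    rw [Finset.sum_eq_single (⟨b₀, isPBlock_principalBlock⟩ :
      {B : Set (Cfsg.IrrCharacter C) // Cfsg.IsPBlock M B})] at h2
    · simpa using h2
    · intro b _ hne
      refine Cfsg.Agent.S0923.result p M hM y hy _ isPBlock_principalBlock χ hχ b.1 b.2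
        (fun h => hne (Subtype.ext ?_)) 1 h1
      exact (isInducedBlock_principal_iff hM ⟨_, h⟩).mp h
    · exact fun h => absurd (Finset.mem_univ _) h
  · rw [if_neg hχ]
    refine (Cfsg.Agent.S0923.result p M hM y hy _ (isPBlock_blockOf χ) χ (mem_blockOf_self χ)
      b₀ isPBlock_principalBlock (fun h => hχ ?_) 1 h1).symm
    rw [IsInducedBlock.unique hb₀B h]
    exact mem_blockOf_self χ

/-- A weighted column of the principal block vanishes as soon as the corresponding full columns
vanish on the `p`-section. -/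
theorem principal_column_eq_zero (hM : Cfsg.IsPModular p M) {y : G}
    (hy : ∃ k : ℕ, orderOf y = p ^ k) (f : Cfsg.IrrCharacter G → ℂ)
    (h : ∀ c : G, c ∈ Subgroup.centralizer ({y} : Set G) → ¬ p ∣ orderOf c →
      ∑ χ : Cfsg.IrrCharacter G, (χ : G → ℂ) (y * c) * f χ = 0) :
    ∑ᶠ χ ∈ Cfsg.principalBlock M G, (χ : G → ℂ) y * f χ = 0 := by
  classical
  haveI : Fintype ↥(Subgroup.centralizer ({y} : Set G)) := Fintype.ofFinite _
  rw [finsum_mem_eq_toFinset_sum]
  calc ∑ χ ∈ (Cfsg.principalBlock M G).toFinset, (χ : G → ℂ) y * f χ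
      = ∑ χ : Cfsg.IrrCharacter G,
          (if χ ∈ Cfsg.principalBlock M G then (χ : G → ℂ) y else 0) * f χ := by
        simp only [ite_mul, zero_mul]
        rw [← Finset.sum_filter]
        exact Finset.sum_congr (by ext; simp) fun _ _ => rfl
    _ = ∑ c : Subgroup.centralizer ({y} : Set G),
          Cfsg.blockCoeff (Cfsg.principalBlock M ↥(Subgroup.centralizer ({y} : Set G))) c *
            ∑ χ : Cfsg.IrrCharacter G, (χ : G → ℂ) (y * c) * f χ := by
        simp only [principal_apply_eq hM hy, Finset.sum_mul, Finset.mul_sum]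
        rw [Finset.sum_comm]
        exact Finset.sum_congr rfl fun c _ => Finset.sum_congr rfl fun χ _ => by ring
    _ = 0 := by
        refine Finset.sum_eq_zero fun c _ => ?_
        haveI := hM.2.1
        by_cases hreg : p ∣ orderOf c
        · rw [CfsgLib.BlockReg.blockCoeff_singular hM
            (isPBlock_principalBlock (M := M)) c hreg, zero_mul]
        · rw [h c c.2 (by rwa [Subgroup.orderOf_coe]), mul_zero]

end CfsgLib.Blk83
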