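import Mathlib.GroupTheory.Sylow
import Mathlib.GroupTheory.PGroup
import Mathlib.GroupTheory.Index
import Mathlib.Tactic
import Cfsg.Agent.Lib.Blk83.PrincipalBound

/-!
A group with bounded Sylow 2-subgroups is bounded by the centralizers of the involutions of a
four-group.
-/

set_option autoImplicit false

namespace CfsgLib.Blk83.Four

universe u

/-- `s, t` generate a four-group whose three involutions have centralizers of order at most `n`. -/
structure Hyp {X : Type u} [Group X] (n : ℕ) (s t : X) : Prop where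
  ss : s * s = 1
  tt : t * t = 1
  comm : s * t = t * s
  hs : s ≠ 1
  ht : t ≠ 1
  hst : s ≠ t
  cs : Nat.card ↥(Subgroup.centralizer ({s} : Set X)) ≤ n
  ct : Nat.card ↥(Subgroup.centralizer ({t} : Set X)) ≤ n
  cst : Nat.card ↥(Subgroup.centralizer ({s * t} : Set X)) ≤ n

variable {X : Type u} [Group X] [Finite X]

theorem card_le_mul_of_fiber {α β : Type*} [Finite α] [Finite β] (f : α → β) (n : ℕ)
    (h : ∀ b : β, Nat.card {a : α // f a = b} ≤ n) : Nat.card α ≤ n * Nat.card β := by
  classical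
  haveI := Fintype.ofFinite α
  haveI := Fintype.ofFinite β
  rw [Nat.card_eq_fintype_card, Nat.card_eq_fintype_card, ← Finset.card_univ]
  refine (Finset.card_le_mul_card_image (f := f) Finset.univ n fun b _ => ?_).trans
    (Nat.mul_le_mul_left _ (Finset.card_le_univ _))
  rw [← Fintype.card_subtype, ← Nat.card_eq_fintype_card]
  exact h b

omit [Finite X] in
/-- An element with an odd power one in the subgroup. -/
theorem mem_of_two_pow {M : Subgroup X} {x : X} {k m : ℕ} (hk : x ^ 2 ^ k = 1) (hm : Odd m)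
    (hx : x ^ m ∈ M) : x ∈ M := by
  have hco : m.Coprime (orderOf x) := by
    refine Nat.Coprime.coprime_dvd_right (orderOf_dvd_of_pow_eq_one hk) (Nat.Coprime.pow_right _ ?_)
    exact (Nat.coprime_two_right).mpr hm
  obtain ⟨l, hl⟩ := exists_pow_eq_self_of_coprime hco
  rw [← hl]
  exact M.pow_mem hx l

/-- A subgroup of odd order normalized by the four-group has order at most `n³`. -/
theorem card_odd_le {n : ℕ} {s t : X} (h : Hyp n s t) (N : Subgroup X)
    (hsN : ∀ x ∈ N, s * x * s ∈ N) (htN : ∀ x ∈ N, t * x * t ∈ N) (hodd : Odd (Nat.card N)) :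
    Nat.card N ≤ n ^ 3 := by
  classical
  have hsi : s⁻¹ = s := inv_eq_of_mul_eq_one_right h.ss
  have hti : t⁻¹ = t := inv_eq_of_mul_eq_one_right h.tt
  let Tgt := Σ z : {z : ↥(Subgroup.centralizer ({t} : Set X)) //
      Nat.card ↥(Subgroup.centralizer ({(z : X)} : Set X)) ≤ n},
    ↥(Subgroup.centralizer ({((z.1 : X))} : Set X))
  -- every conjugate of `s` under `N` commutes with a conjugate of `s * t` centralizing `t`
  have hkey : ∀ x : N, ∃ w : Tgt, (w.2 : X) = (x : X) * s * (x : X)⁻¹ := by
    intro x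
    set s' := (x : X) * s * (x : X)⁻¹ with hs'
    have hs'2 : s' * s' = 1 := by
      rw [hs', show (x : X) * s * (x : X)⁻¹ * ((x : X) * s * (x : X)⁻¹) = x * (s * s) * (x : X)⁻¹ by group,
        h.ss, mul_one, mul_inv_cancel]
    set w := s' * t with hw
    set c := s * t with hc
    have hc2 : c * c = 1 := by
      rw [hc, mul_assoc, ← mul_assoc t, ← h.comm, mul_assoc s t t, h.tt, mul_one, h.ss]
    have hcN : ∀ y ∈ N, c * y * c ∈ N := fun y hy => by
      have h1 := hsN _ (htN y hy)
      rwa [show c * y * c = s * (t * y * t) * s by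
        rw [hc]; nth_rw 2 [h.comm]; simp [mul_assoc]]
    set d := w * c with hd
    have hdN : d ∈ N := by
      have h1 : d = (x : X) * (s * (x : X)⁻¹ * s) := by
        rw [hd, hw, hs', hc, h.comm]
        rw [show (x : X) * s * (x : X)⁻¹ * t * (t * s) = (x : X) * s * (x : X)⁻¹ * (t * t) * s by group, h.tt]
        group
      rw [h1]
      exact N.mul_mem x.2 (hsN _ (N.inv_mem x.2))
    -- powers of w
    have hpow : ∀ k : ℕ, ∃ y ∈ N, w ^ (2 * k) = y ∧ w ^ (2 * k + 1) * c ∈ N := by
      intro k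
      induction k with
      | zero => exact ⟨1, N.one_mem, by simp, by simpa using hdN⟩
      | succ k ih =>
        obtain ⟨y, hy, hy1, hy2⟩ := ih
        have hwd : w = d * c := by rw [hd, mul_assoc, hc2, mul_one]
        have hw2 : w ^ 2 ∈ N := by
          rw [pow_two, hwd, show d * c * (d * c) = d * (c * d * c) by group]
          exact N.mul_mem hdN (hcN d hdN)
        refine ⟨w ^ (2 * (k + 1)), ?_, rfl, ?_⟩
        · rw [show 2 * (k + 1) = 2 * k + 2 by ring, pow_add, hy1]
          exact N.mul_mem hy hw2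
        · rw [show 2 * (k + 1) + 1 = 2 + (2 * k + 1) by ring, pow_add, mul_assoc]
          exact N.mul_mem hw2 hy2
    obtain ⟨j, hj⟩ : ∃ j, Nat.card N = 2 * j + 1 := hodd
    obtain ⟨y₁, hy₁, hy₁w, hzN⟩ := hpow j
    set z := w ^ Nat.card N with hz
    have hz2 : z * z = 1 := by
      obtain ⟨y, hy, hyw, -⟩ := hpow 1
      rw [mul_one] at hyw
      have h1 : (w ^ 2) ^ Nat.card N = 1 := by
        rw [hyw]
        exact congrArg Subtype.val (pow_card_eq_one' (x := (⟨y, hy⟩ : N)))
      rw [← h1, ← pow_mul, hz, ← pow_add]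
      congr 1
      ring
    have hzi : z⁻¹ = z := inv_eq_of_mul_eq_one_right hz2
    have hts : t * w * t = w⁻¹ := by
      rw [hw, mul_inv_rev, hti, inv_eq_of_mul_eq_one_right hs'2, ← mul_assoc, mul_assoc (t * s'), h.tt, mul_one]
    have htz : z * t = t * z := by
      have h1 : t * z * t = z := by
        have : t * z * t = z⁻¹ := by
          conv_lhs => rw [hz, show t * w ^ Nat.card N * t = t * w ^ Nat.card N * t⁻¹ by rw [hti], ← conj_pow,
            hti, hts, inv_pow]
        rw [this, hzi]
      calc z * t = t * z * t * t := by rw [h1]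
        _ = t * z := by rw [mul_assoc, h.tt, mul_one]
    have hszz : s' * z = z * s' := by
      have hsw : s' = w * t := by rw [hw, mul_assoc, h.tt, mul_one]
      have hwz : w * z = z * w := (Commute.self_pow w _).eq
      rw [hsw, mul_assoc, ← htz, ← mul_assoc, hwz, mul_assoc]
    -- z is conjugate to c
    have hrN : z * c ∈ N := by rw [hz, hj]; exact hzN
    have hinvr : c * (z * c) * c = (z * c)⁻¹ := by
      rw [mul_inv_rev, hzi, inv_eq_of_mul_eq_one_right hc2]
      calc c * (z * c) * c = c * z * (c * c) := by group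
        _ = c * z := by rw [hc2, mul_one]
    set r := z * c with hr
    have hconj : r ^ (j + 1) * c * (r ^ (j + 1))⁻¹ = z := by
      have h1 : c * (r ^ (j + 1))⁻¹ = r ^ (j + 1) * c := by
        have h2 : c * r ^ (j + 1) * c⁻¹ = (r ^ (j + 1))⁻¹ := by
          rw [← conj_pow, inv_eq_of_mul_eq_one_right hc2, hinvr, inv_pow]
        rw [← h2, inv_eq_of_mul_eq_one_right hc2,
          show c * (c * r ^ (j + 1) * c) = (c * c) * r ^ (j + 1) * c by group, hc2, one_mul]
      have h3 : r ^ (j + 1) * r ^ (j + 1) = r := by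
        have h4 : r ^ Nat.card N = 1 := congrArg Subtype.val (pow_card_eq_one' (x := (⟨r, hrN⟩ : N)))
        rw [← pow_add, show j + 1 + (j + 1) = Nat.card N + 1 by omega, pow_succ, h4, one_mul]
      calc r ^ (j + 1) * c * (r ^ (j + 1))⁻¹ = r ^ (j + 1) * (c * (r ^ (j + 1))⁻¹) := by group
        _ = r ^ (j + 1) * r ^ (j + 1) * c := by rw [h1]; group
        _ = z * c * c := by rw [h3]
        _ = z * (c * c) := by group
        _ = z := by rw [hc2, mul_one]
    have hcard : Nat.card ↥(Subgroup.centralizer ({z} : Set X)) ≤ n := by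
      refine le_of_eq_of_le ?_ h.cst
      rw [← hconj]
      refine (Nat.card_congr ((MulEquiv.subgroupMap (MulAut.conj (r ^ (j + 1)))
        (Subgroup.centralizer ({c} : Set X))).toEquiv.trans (Equiv.setCongr ?_))).symm
      ext y
      rw [SetLike.mem_coe, SetLike.mem_coe, Subgroup.mem_map, Subgroup.mem_centralizer_singleton_iff]
      constructor
      · rintro ⟨a, ha, rfl⟩
        rw [Subgroup.mem_centralizer_singleton_iff] at ha
        show r ^ (j + 1) * a * (r ^ (j + 1))⁻¹ * (r ^ (j + 1) * c * (r ^ (j + 1))⁻¹) =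
          r ^ (j + 1) * c * (r ^ (j + 1))⁻¹ * (r ^ (j + 1) * a * (r ^ (j + 1))⁻¹)
        calc _ = r ^ (j + 1) * (a * c) * (r ^ (j + 1))⁻¹ := by group
          _ = r ^ (j + 1) * (c * a) * (r ^ (j + 1))⁻¹ := by rw [ha]
          _ = _ := by group
      · intro e
        refine ⟨(r ^ (j + 1))⁻¹ * y * r ^ (j + 1), ?_, ?_⟩
        · rw [Subgroup.mem_centralizer_singleton_iff]
          calc (r ^ (j + 1))⁻¹ * y * r ^ (j + 1) * c
              = (r ^ (j + 1))⁻¹ * (y * (r ^ (j + 1) * c * (r ^ (j + 1))⁻¹)) * r ^ (j + 1) := by group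
            _ = (r ^ (j + 1))⁻¹ * ((r ^ (j + 1) * c * (r ^ (j + 1))⁻¹) * y) * r ^ (j + 1) := by rw [e]
            _ = _ := by group
        · show r ^ (j + 1) * ((r ^ (j + 1))⁻¹ * y * r ^ (j + 1)) * (r ^ (j + 1))⁻¹ = y
          group
    exact ⟨⟨⟨⟨z, Subgroup.mem_centralizer_singleton_iff.mpr htz⟩, hcard⟩,
      ⟨s', Subgroup.mem_centralizer_singleton_iff.mpr hszz⟩⟩, rfl⟩
  choose F hF using hkey
  have h1 : Nat.card N ≤ n * Nat.card Tgt := by
    refine card_le_mul_of_fiber F n fun b => ?_
    rcases isEmpty_or_nonempty {a : N // F a = b} with hemp | ⟨⟨a₀, ha₀⟩⟩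
    · simp
    refine le_trans (Nat.card_le_card_of_injective (fun a : {a : N // F a = b} =>
      (⟨(a₀ : X)⁻¹ * (a.1 : X), ?_⟩ : ↥(Subgroup.centralizer ({s} : Set X)))) ?_) h.cs
    · have he : (a.1 : X) * s * (a.1 : X)⁻¹ = (a₀ : X) * s * (a₀ : X)⁻¹ := by
        rw [← hF, ← hF, a.2, ha₀]
      rw [Subgroup.mem_centralizer_singleton_iff]
      calc (a₀ : X)⁻¹ * (a.1 : X) * s = (a₀ : X)⁻¹ * ((a.1 : X) * s * (a.1 : X)⁻¹) * (a.1 : X) := by group
        _ = _ := by rw [he]; group
    · intro a b hab
      exact Subtype.ext (Subtype.ext (mul_left_cancel (congrArg Subtype.val hab)))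
  have h2 : Nat.card Tgt ≤ n * n := by
    haveI := Fintype.ofFinite {z : ↥(Subgroup.centralizer ({t} : Set X)) //
      Nat.card ↥(Subgroup.centralizer ({(z : X)} : Set X)) ≤ n}
    rw [Nat.card_sigma]
    refine (Finset.sum_le_card_nsmul _ _ n fun z _ => z.2).trans ?_
    rw [Finset.card_univ, ← Nat.card_eq_fintype_card, smul_eq_mul]
    exact Nat.mul_le_mul_right _ ((Nat.card_le_card_of_injective _ Subtype.val_injective).trans h.ct)
  exact h1.trans (by rw [pow_three]; exact Nat.mul_le_mul_left _ h2)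

/-- Centralizers in a quotient. -/
theorem card_centralizer_quotient_le (N : Subgroup X) [N.Normal] (x : X) :
    Nat.card ↥(Subgroup.centralizer ({(x : X ⧸ N)} : Set (X ⧸ N))) ≤
      Nat.card ↥(Subgroup.centralizer ({x} : Set X)) * Nat.card N := by
  classical
  set Y := (Subgroup.centralizer ({(x : X ⧸ N)} : Set (X ⧸ N))).comap (QuotientGroup.mk' N) with hY
  have hmem : ∀ y : Y, (y : X) * x * (y : X)⁻¹ * x⁻¹ ∈ N := fun y => by
    have h := Subgroup.mem_centralizer_singleton_iff.mp (Subgroup.mem_comap.mp y.2)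
    rw [← QuotientGroup.eq_one_iff]
    simp only [QuotientGroup.mk'_apply] at h
    simp only [QuotientGroup.mk_mul, QuotientGroup.mk_inv, h]
    group
  have h1 : Nat.card ↥(Subgroup.centralizer ({(x : X ⧸ N)} : Set (X ⧸ N))) ≤ Nat.card Y :=
    Nat.card_le_card_of_surjective
      (fun y : Y => (⟨((y : X) : X ⧸ N), Subgroup.mem_comap.mp y.2⟩ :
        ↥(Subgroup.centralizer ({(x : X ⧸ N)} : Set (X ⧸ N)))))
      (fun c => by
        obtain ⟨y, hy⟩ := QuotientGroup.mk_surjective (c : X ⧸ N)
        exact ⟨⟨y, Subgroup.mem_comap.mpr (by rw [QuotientGroup.mk'_apply, hy]; exact c.2)⟩, Subtype.ext hy⟩)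
  refine h1.trans (card_le_mul_of_fiber (fun y : Y => (⟨_, hmem y⟩ : N)) _ fun b => ?_)
  rcases isEmpty_or_nonempty {a : Y // (⟨_, hmem a⟩ : N) = b} with hemp | ⟨⟨a₀, ha₀⟩⟩
  · simp
  refine Nat.card_le_card_of_injective (fun a : {a : Y // (⟨_, hmem a⟩ : N) = b} =>
    (⟨(a₀ : X)⁻¹ * (a.1 : X), ?_⟩ : ↥(Subgroup.centralizer ({x} : Set X)))) ?_
  · have he : (a.1 : X) * x * (a.1 : X)⁻¹ * x⁻¹ = (a₀ : X) * x * (a₀ : X)⁻¹ * x⁻¹ :=
      congrArg Subtype.val (a.2.trans ha₀.symm)
    have he' := mul_right_cancel he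
    rw [Subgroup.mem_centralizer_singleton_iff]
    calc (a₀ : X)⁻¹ * (a.1 : X) * x = (a₀ : X)⁻¹ * ((a.1 : X) * x * (a.1 : X)⁻¹) * (a.1 : X) := by group
      _ = _ := by rw [he']; group
  · intro a b hab
    exact Subtype.ext (Subtype.ext (mul_left_cancel (congrArg Subtype.val hab)))

/-- The hypothesis passes to a quotient avoiding the four-group. -/
theorem Hyp.quotient {n m : ℕ} {s t : X} (h : Hyp n s t) (N : Subgroup X) [N.Normal]
    (hs : s ∉ N) (ht : t ∉ N) (hst : s * t ∉ N) (hm : n * Nat.card N ≤ m) :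
    Hyp m (s : X ⧸ N) (t : X ⧸ N) where
  ss := by rw [← QuotientGroup.mk_mul, h.ss, QuotientGroup.mk_one]
  tt := by rw [← QuotientGroup.mk_mul, h.tt, QuotientGroup.mk_one]
  comm := by rw [← QuotientGroup.mk_mul, h.comm, QuotientGroup.mk_mul]
  hs := fun e => hs ((QuotientGroup.eq_one_iff s).mp e)
  ht := fun e => ht ((QuotientGroup.eq_one_iff t).mp e)
  hst := fun e => hst (by
    have h1 := QuotientGroup.eq.mp e
    rwa [inv_eq_of_mul_eq_one_right h.ss] at h1)
  cs := ((card_centralizer_quotient_le N s).trans (Nat.mul_le_mul_right _ h.cs)).trans hm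
  ct := ((card_centralizer_quotient_le N t).trans (Nat.mul_le_mul_right _ h.ct)).trans hm
  cst := by
    rw [← QuotientGroup.mk_mul]
    exact ((card_centralizer_quotient_le N (s * t)).trans (Nat.mul_le_mul_right _ h.cst)).trans hm

/-- The hypothesis passes to a subgroup containing the four-group. -/
theorem Hyp.subgroup {n : ℕ} {s t : X} (h : Hyp n s t) (Y : Subgroup X) (hs : s ∈ Y) (ht : t ∈ Y) :
    Hyp n (⟨s, hs⟩ : Y) ⟨t, ht⟩ := by
  have hc : ∀ y : Y, Nat.card ↥(Subgroup.centralizer ({y} : Set Y)) ≤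
      Nat.card ↥(Subgroup.centralizer ({(y : X)} : Set X)) := fun y =>
    Nat.card_le_card_of_injective (fun c => ⟨((c : Y) : X), Subgroup.mem_centralizer_singleton_iff.mpr
      (congrArg Subtype.val (Subgroup.mem_centralizer_singleton_iff.mp c.2) :)⟩)
      fun a b e => Subtype.ext (Subtype.ext (congrArg Subtype.val e :))
  exact ⟨Subtype.ext h.ss, Subtype.ext h.tt, Subtype.ext h.comm,
    fun e => h.hs (congrArg Subtype.val e), fun e => h.ht (congrArg Subtype.val e),
    fun e => h.hst (congrArg Subtype.val e), (hc _).trans h.cs, (hc _).trans h.ct, (hc _).trans h.cst⟩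

/-- A large centralizer of a nontrivial element of a normal subgroup on which an involution acts
with few fixed points. -/
theorem exists_large_centralizer {n : ℕ} {t : X} (htt : t * t = 1)
    (hn : Nat.card ↥(Subgroup.centralizer ({t} : Set X)) ≤ n) (R : Subgroup X) [hRn : R.Normal]
    (hRt : ¬ R ≤ Subgroup.centralizer ({t} : Set X)) :
    ∃ g : R, g ≠ 1 ∧ Nat.card R ≤ 2 * n ^ 2 * Nat.card ↥(Subgroup.centralizer ({g} : Set R)) := by
  classical
  haveI := Fintype.ofFinite X
  haveI := Fintype.ofFinite R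
  by_contra hcon
  push Not at hcon
  let conjT : R → X := fun x => (x : X) * t * (x : X)⁻¹
  set T : Finset X := Finset.univ.image conjT with hT
  have hT2 : ∀ a ∈ T, a * a = 1 := by
    intro a ha
    obtain ⟨x, -, rfl⟩ := Finset.mem_image.mp ha
    show (x : X) * t * (x : X)⁻¹ * ((x : X) * t * (x : X)⁻¹) = 1
    rw [show (x : X) * t * (x : X)⁻¹ * ((x : X) * t * (x : X)⁻¹) = x * (t * t) * (x : X)⁻¹ by group, htt,
      mul_one, mul_inv_cancel]
  have hTR : ∀ a ∈ T, ∀ b ∈ T, a * b ∈ R := by
    intro a ha b hb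
    obtain ⟨x, -, rfl⟩ := Finset.mem_image.mp ha
    obtain ⟨y, -, rfl⟩ := Finset.mem_image.mp hb
    show (x : X) * t * (x : X)⁻¹ * ((y : X) * t * (y : X)⁻¹) ∈ R
    rw [show (x : X) * t * (x : X)⁻¹ * ((y : X) * t * (y : X)⁻¹) =
      (x : X) * (t * ((x : X)⁻¹ * y) * t⁻¹) * (t * t) * (y : X)⁻¹ by group, htt, mul_one]
    exact R.mul_mem (R.mul_mem x.2 (hRn.conj_mem _ (R.mul_mem (R.inv_mem x.2) y.2) t)) (R.inv_mem y.2)
  have hcardR : Nat.card R ≤ n * T.card := by
    rw [Nat.card_eq_fintype_card, ← Finset.card_univ]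
    refine Finset.card_le_mul_card_image (f := conjT) Finset.univ n fun b hb => ?_
    obtain ⟨x₀, -, rfl⟩ := Finset.mem_image.mp hb
    rw [← Fintype.card_subtype, ← Nat.card_eq_fintype_card]
    refine le_trans (Nat.card_le_card_of_injective (fun a : {a : R // conjT a = conjT x₀} =>
      (⟨(x₀ : X)⁻¹ * (a.1 : X), ?_⟩ : ↥(Subgroup.centralizer ({t} : Set X)))) ?_) hn
    · have he : (a.1 : X) * t * (a.1 : X)⁻¹ = (x₀ : X) * t * (x₀ : X)⁻¹ := a.2
      rw [Subgroup.mem_centralizer_singleton_iff]
      calc (x₀ : X)⁻¹ * (a.1 : X) * t = (x₀ : X)⁻¹ * ((a.1 : X) * t * (a.1 : X)⁻¹) * (a.1 : X) := by group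
        _ = _ := by rw [he]; group
    · intro a b e
      exact Subtype.ext (Subtype.ext (mul_left_cancel (congrArg Subtype.val e)))
  have hT1 : 2 ≤ T.card := by
    by_contra hlt
    apply hRt
    intro x hx
    have h1 : conjT ⟨x, hx⟩ = conjT 1 := Finset.card_le_one.mp (show T.card ≤ 1 by omega) _
      (Finset.mem_image_of_mem _ (Finset.mem_univ _)) _ (Finset.mem_image_of_mem _ (Finset.mem_univ _))
    rw [Subgroup.mem_centralizer_singleton_iff]
    simpa [conjT, mul_inv_eq_iff_eq_mul] using h1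
  let P : Finset (X × X) := (T ×ˢ T).filter fun q => q.1 * q.2 ≠ 1
  have hP : T.card * T.card ≤ P.card + T.card := by
    have h1 := Finset.card_filter_add_card_filter_not (s := T ×ˢ T) (fun q => q.1 * q.2 ≠ 1)
    have h2 : ((T ×ˢ T).filter fun q => ¬ q.1 * q.2 ≠ 1).card ≤ T.card := by
      refine Finset.card_le_card_of_injOn Prod.fst (fun q hq => ?_) ?_
      · exact (Finset.mem_product.mp (Finset.mem_filter.mp hq).1).1
      · intro a ha b hb e
        have ha' := not_not.mp (Finset.mem_filter.mp ha).2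
        have hb' := not_not.mp (Finset.mem_filter.mp hb).2
        refine Prod.ext e (mul_left_cancel (a := a.1) ?_)
        rw [ha']
        conv_lhs => rw [← hb']
        rw [e]
    rw [Finset.card_product] at h1
    simp only [P] at *
    omega
  have hfib : ∀ g : R, g ≠ 1 → 2 * n ^ 2 * (P.filter fun q => q.1 * q.2 = (g : X)).card < Nat.card R := by
    intro g hg
    refine lt_of_le_of_lt (Nat.mul_le_mul_left _ ?_) (hcon g hg)
    rcases Finset.eq_empty_or_nonempty (P.filter fun q => q.1 * q.2 = (g : X)) with he | ⟨q₀, hq₀⟩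
    · simp [he]
    rw [← Fintype.card_coe, ← Nat.card_eq_fintype_card]
    have hq : ∀ q ∈ P.filter (fun q => q.1 * q.2 = (g : X)),
        q.1 ∈ T ∧ q.1 * (g : X) * q.1 = (g : X)⁻¹ ∧ q.2 = q.1 * g := by
      intro q hq
      obtain ⟨h1, h2⟩ := Finset.mem_filter.mp hq
      obtain ⟨ha, hb⟩ := Finset.mem_product.mp (Finset.mem_filter.mp h1).1
      refine ⟨ha, ?_, ?_⟩
      · rw [← h2, mul_inv_rev, inv_eq_of_mul_eq_one_right (hT2 _ ha), inv_eq_of_mul_eq_one_right (hT2 _ hb),
          ← mul_assoc, hT2 _ ha, one_mul]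
      · rw [← h2, ← mul_assoc, hT2 _ ha, one_mul]
    obtain ⟨hq₀T, hq₀i, -⟩ := hq q₀ hq₀
    refine Nat.card_le_card_of_injective (fun q : ↥(P.filter fun q => q.1 * q.2 = (g : X)) =>
      (⟨⟨q₀.1 * q.1.1, hTR _ hq₀T _ (hq q.1 q.2).1⟩, ?_⟩ : ↥(Subgroup.centralizer ({g} : Set R)))) ?_
    · rw [Subgroup.mem_centralizer_singleton_iff]
      refine Subtype.ext ?_
      show q₀.1 * q.1.1 * (g : X) = (g : X) * (q₀.1 * q.1.1)
      have e1 := (hq q.1 q.2).2.1
      have hg' : q.1.1 * (g : X) = (g : X)⁻¹ * q.1.1 := by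
        rw [← e1, mul_assoc _ q.1.1, hT2 _ (hq q.1 q.2).1, mul_one]
      have hg'' : q₀.1 * (g : X)⁻¹ = (g : X) * q₀.1 := by
        rw [← hq₀i, ← mul_assoc, ← mul_assoc, hT2 _ hq₀T, one_mul]
      rw [mul_assoc, hg', ← mul_assoc, hg'', mul_assoc]
    · intro a b e
      have h1 : a.1.1 = b.1.1 := mul_left_cancel (congrArg (fun c => ((c.1 : R) : X)) e)
      exact Subtype.ext (Prod.ext h1 (by rw [(hq a.1 a.2).2.2, (hq b.1 b.2).2.2, h1]))
  have hsum : P.card = ∑ g ∈ Finset.univ.filter (fun g : R => g ≠ 1),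
      (P.filter fun q => q.1 * q.2 = (g : X)).card := by
    rw [← Finset.card_biUnion]
    · congr 1
      ext q
      simp only [Finset.mem_biUnion, Finset.mem_filter, Finset.mem_univ, true_and]
      constructor
      · intro hq
        obtain ⟨hq1, hq2⟩ := Finset.mem_filter.mp hq
        obtain ⟨ha, hb⟩ := Finset.mem_product.mp hq1
        exact ⟨⟨_, hTR _ ha _ hb⟩, fun e => hq2 (congrArg Subtype.val e), hq, rfl⟩
      · rintro ⟨g, -, hq, -⟩
        exact hq
    · intro a _ b _ hab
      refine Finset.disjoint_left.mpr fun q hqa hqb => hab (Subtype.ext ?_)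
      exact (Finset.mem_filter.mp hqa).2.symm.trans (Finset.mem_filter.mp hqb).2
  have hlt : 2 * n ^ 2 * P.card ≤ Nat.card R * Nat.card R - Nat.card R := by
    rw [hsum, Finset.mul_sum]
    refine le_trans (Finset.sum_le_card_nsmul _ _ (Nat.card R)
      (fun g hg => (hfib g (Finset.mem_filter.mp hg).2).le)) ?_
    rw [Finset.filter_ne', Finset.card_erase_of_mem (Finset.mem_univ _), Finset.card_univ,
      ← Nat.card_eq_fintype_card, smul_eq_mul, Nat.sub_mul, one_mul]
  have h3 : T.card * T.card ≤ 2 * P.card := by nlinarith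
  have h4 : Nat.card R * Nat.card R ≤ n ^ 2 * (T.card * T.card) := by
    calc Nat.card R * Nat.card R ≤ (n * T.card) * (n * T.card) := Nat.mul_le_mul hcardR hcardR
      _ = _ := by ring
  have hR1 : 0 < Nat.card R := Nat.card_pos
  have h5 : n ^ 2 * (T.card * T.card) ≤ 2 * n ^ 2 * P.card := by
    calc n ^ 2 * (T.card * T.card) ≤ n ^ 2 * (2 * P.card) := Nat.mul_le_mul_left _ h3
      _ = _ := by ring
  have h6 : 1 * Nat.card R ≤ Nat.card R * Nat.card R := Nat.mul_le_mul_right _ hR1
  have h7 := (h4.trans h5).trans hlt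
  omega

/-- The bound. -/
def bound : ℕ → ℕ → ℕ
  | 0, n => n ^ 3
  | b + 1, n =>
    let m := n * n ^ 3
    n ^ 3 * (((2 ^ (b + 1)).factorial * (m ^ 3 * 2 ^ (b + 1))) *
      (m + 2 ^ (b + 1) * bound b (m * 2 ^ (b + 1)) + ((2 * m ^ 2).factorial) ^ 4 * bound b m))

/-- A 2-group has at most the 2-part of the order of the group. -/
theorem card_two_group_le {b : ℕ} {K S : Subgroup X} (hS : IsPGroup 2 S) (hSK : S ≤ K)
    (hb : (Nat.card K).factorization 2 ≤ b) : Nat.card S ≤ 2 ^ b := by
  haveI : Fact (Nat.Prime 2) := ⟨Nat.prime_two⟩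
  obtain ⟨k, hk⟩ := IsPGroup.iff_card.mp hS
  rw [hk]
  refine Nat.pow_le_pow_right (by norm_num) (le_trans ?_ hb)
  refine (Nat.prime_two.pow_dvd_iff_le_factorization Nat.card_pos.ne').mp ?_
  rw [← hk]
  exact Subgroup.card_dvd_of_le hSK

/-- The order of a subgroup containing the normal subgroup, through the quotient. -/
theorem card_eq_card_mul_map (N K : Subgroup X) [N.Normal] (hNK : N ≤ K) :
    Nat.card K = Nat.card N * Nat.card (K.map (QuotientGroup.mk' N)) := by
  let φ : K →* X ⧸ N := (QuotientGroup.mk' N).comp K.subtype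
  have hker : φ.ker = N.subgroupOf K := by
    rw [← MonoidHom.comap_ker, QuotientGroup.ker_mk', Subgroup.subgroupOf]
  have hrange : φ.range = K.map (QuotientGroup.mk' N) := by
    rw [MonoidHom.range_comp, Subgroup.range_subtype]
  rw [← φ.ker.card_mul_index, Subgroup.index_ker, hrange, hker,
    Nat.card_congr (Subgroup.subgroupOfEquivOfLe hNK).toEquiv]

/-- A Sylow subgroup meets a normal subgroup in a Sylow subgroup of it. -/
theorem card_sylow_inf (S : Sylow 2 X) (K : Subgroup X) [K.Normal] :
    Nat.card ↥((S : Subgroup X) ⊓ K) = 2 ^ (Nat.card K).factorization 2 := by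
  haveI : Fact (Nat.Prime 2) := ⟨Nat.prime_two⟩
  obtain ⟨k, hk⟩ := IsPGroup.iff_card.mp (S.isPGroup'.to_le (inf_le_left (b := K)))
  rw [hk]
  congr 1
  have key : ∀ H L : Subgroup X, H ≤ L → Nat.card H * H.relIndex L = Nat.card L := fun H L hHL => by
    rw [← Nat.card_congr (Subgroup.subgroupOfEquivOfLe hHL).toEquiv]
    exact (H.subgroupOf L).card_mul_index
  have h1 : Nat.card K * K.relIndex ((S : Subgroup X) ⊔ K) = Nat.card ↥((S : Subgroup X) ⊔ K) := by
    exact key _ _ le_sup_right
  have h2 : Nat.card ↥((S : Subgroup X) ⊓ K) * K.relIndex (S : Subgroup X) =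
      Nat.card (S : Subgroup X) := by
    rw [← Subgroup.inf_relIndex_left]
    exact key _ _ inf_le_left
  rw [Subgroup.relIndex_sup_right] at h1
  have hne : K.relIndex (S : Subgroup X) ≠ 0 := fun e => by
    rw [e, mul_zero] at h2; exact Nat.card_pos.ne' h2.symm
  have hS : (Nat.card ↥((S : Subgroup X) ⊔ K)).factorization 2 =
      (Nat.card (S : Subgroup X)).factorization 2 := by
    refine le_antisymm ?_ (((Nat.factorization_le_iff_dvd Nat.card_pos.ne' Nat.card_pos.ne').mpr
      (Subgroup.card_dvd_of_le le_sup_left)) 2)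
    rw [S.card_eq_multiplicity, Nat.prime_two.factorization_pow, Finsupp.single_eq_same]
    exact ((Nat.factorization_le_iff_dvd Nat.card_pos.ne' Nat.card_pos.ne').mpr
      (Subgroup.card_subgroup_dvd_card _)) 2
  rw [← h1, ← h2, Nat.factorization_mul Nat.card_pos.ne' hne, Nat.factorization_mul Nat.card_pos.ne' hne,
    Finsupp.add_apply, Finsupp.add_apply, hk, Nat.prime_two.factorization_pow, Finsupp.single_eq_same] at hS
  omega

/-- The case without a normal odd subgroup, given the bound one step below. -/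
theorem card_le_step {b m : ℕ} {F : ℕ → ℕ}
    (IH : ∀ {Y : Type u} [Group Y] [Finite Y] {m' : ℕ} {s t : Y}, Hyp m' s t →
      ∀ (K : Subgroup Y) [K.Normal], (Nat.card K).factorization 2 ≤ b → Nat.card K ≤ F m')
    {s t : X} (h : Hyp m s t) (K : Subgroup X) [hKn : K.Normal]
    (hb : (Nat.card K).factorization 2 ≤ b + 1)
    (hO : ∀ N : Subgroup X, N.Normal → N ≤ K → Odd (Nat.card N) → N = ⊥) :
    Nat.card K ≤ ((2 ^ (b + 1)).factorial * (m ^ 3 * 2 ^ (b + 1))) *
      (m + 2 ^ (b + 1) * F (m * 2 ^ (b + 1)) + ((2 * m ^ 2).factorial) ^ 4 * F m) := by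
  classical
  haveI : Fact (Nat.Prime 2) := ⟨Nat.prime_two⟩
  haveI := Fintype.ofFinite X
  have hsi : s⁻¹ = s := inv_eq_of_mul_eq_one_right h.ss
  have hti : t⁻¹ = t := inv_eq_of_mul_eq_one_right h.tt
  set E2 : Set X := {x | x ∈ K ∧ ∃ k : ℕ, x ^ 2 ^ k = 1} with hE2
  set R := Subgroup.closure E2 with hR
  have hRK : R ≤ K := (Subgroup.closure_le _).mpr fun x hx => hx.1
  haveI hRn : R.Normal := by
    refine ⟨fun r hr g => ?_⟩
    induction hr using Subgroup.closure_induction with
    | mem x hx =>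
      obtain ⟨hxK, k, hk⟩ := hx
      exact Subgroup.subset_closure ⟨hKn.conj_mem x hxK g, k, by
        rw [conj_pow, hk, mul_one, mul_inv_cancel]⟩
    | one => simpa using R.one_mem
    | mul x y _ _ hx hy =>
      rw [show g * (x * y) * g⁻¹ = (g * x * g⁻¹) * (g * y * g⁻¹) by group]
      exact R.mul_mem hx hy
    | inv x _ hx =>
      rw [show g * x⁻¹ * g⁻¹ = (g * x * g⁻¹)⁻¹ by group]
      exact R.inv_mem hx
  -- the four-group lies in a Sylow 2-subgroup
  let V : Subgroup X :=
    { carrier := {x | x = 1 ∨ x = s ∨ x = t ∨ x = s * t}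
      one_mem' := Or.inl rfl
      mul_mem' := by
        have huu : ∀ z : X, s * (s * z) = z := fun z => by rw [← mul_assoc, h.ss, one_mul]
        have hvv : ∀ z : X, t * (t * z) = z := fun z => by rw [← mul_assoc, h.tt, one_mul]
        have hvu : ∀ z : X, t * (s * z) = s * (t * z) := fun z => by
          rw [← mul_assoc, ← h.comm, mul_assoc]
        rintro a c (rfl | rfl | rfl | rfl) (rfl | rfl | rfl | rfl) <;>
          simp [mul_assoc, h.ss, h.tt, ← h.comm, huu, hvv, hvu]
      inv_mem' := by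
        rintro a (rfl | rfl | rfl | rfl) <;> simp [mul_inv_rev, hsi, hti, h.comm] }
  have hV : IsPGroup 2 V := by
    rintro ⟨x, hx⟩
    refine ⟨1, Subtype.ext ?_⟩
    show x ^ (2 ^ 1) = 1
    rw [pow_one, sq]
    rcases hx with rfl | rfl | rfl | rfl
    · exact one_mul 1
    · exact h.ss
    · exact h.tt
    · rw [mul_assoc, ← mul_assoc t, ← h.comm, mul_assoc s t t, h.tt, mul_one, h.ss]
  obtain ⟨S, hVS⟩ := hV.exists_le_sylow
  set P : Subgroup X := (S : Subgroup X) ⊓ K with hP
  have hPp : IsPGroup 2 P := S.isPGroup'.to_le inf_le_left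
  have hPR : P ≤ R := fun x hx => by
    obtain ⟨k, hk⟩ := hPp ⟨x, hx⟩
    exact Subgroup.subset_closure ⟨hx.2, k, congrArg Subtype.val hk⟩
  -- a Sylow subgroup of R
  have hPS : P = (S : Subgroup X) ⊓ R := le_antisymm (le_inf inf_le_left hPR) (inf_le_inf_left _ hRK)
  let NK : Subgroup X := K ⊓ Subgroup.normalizer (P : Set X)
  have hfrat : K ≤ R ⊔ NK := by
    intro k hk
    have hidx : ¬ 2 ∣ (P.subgroupOf R).index := by
      intro hd
      have h1 := (P.subgroupOf R).index_mul_card
      rw [Nat.card_congr (Subgroup.subgroupOfEquivOfLe hPR).toEquiv, hPS, card_sylow_inf S R] at h1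
      have h2 := congrArg (fun n => n.factorization 2) h1
      rw [← hPS] at h2
      rw [Nat.factorization_mul Subgroup.index_ne_zero_of_finite (pow_ne_zero _ two_ne_zero), Finsupp.add_apply,
        Nat.prime_two.factorization_pow, Finsupp.single_eq_same] at h2
      have := (Nat.Prime.dvd_iff_one_le_factorization Nat.prime_two Subgroup.index_ne_zero_of_finite).mp hd
      omega
    have hPR' : IsPGroup 2 (P.subgroupOf R) := hPp.comap_subtype
    let Q : Sylow 2 R := IsPGroup.toSylow hPR' hidx
    have htop := Sylow.normalizer_sup_eq_top (N := R) Q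
    have hQ : (Q : Subgroup R).map R.subtype = P := Subgroup.map_subgroupOf_eq_of_le hPR
    rw [hQ] at htop
    have hk' : k ∈ ((Subgroup.normalizer (P : Set X) ⊔ R : Subgroup X) : Set X) := by
      rw [htop]; trivial
    rw [Subgroup.mul_normal] at hk'
    obtain ⟨a, ha, r, hr, rfl⟩ := hk'
    refine Subgroup.mul_mem _ (Subgroup.mem_sup_right ⟨?_, ha⟩) (Subgroup.mem_sup_left hr)
    have := K.mul_mem hk (K.inv_mem (hRK hr))
    rwa [mul_inv_cancel_right] at this
  have hPb : Nat.card P ≤ 2 ^ (b + 1) := card_two_group_le hPp inf_le_right hb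
  -- the centralizer of P in K
  set C := K ⊓ Subgroup.centralizer (P : Set X) with hC
  have hC' : Nat.card C ≤ m ^ 3 * 2 ^ (b + 1) := by
    obtain ⟨PC, hPC⟩ : ∃ PC : Sylow 2 C, (PC : Subgroup C) ≤ Subgroup.center C := by
      obtain ⟨Q⟩ := (inferInstance : Nonempty (Sylow 2 C))
      refine ⟨Q, fun q hq => ?_⟩
      -- a 2-element of C lies in P
      have hqS : ((q : C) : X) ∈ P := by
        set A := (Q : Subgroup C).map C.subtype
        have hA : IsPGroup 2 A := Q.isPGroup'.map _
        have hAP : A ≤ Subgroup.normalizer (P : Set X) := by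
          rintro _ ⟨a, -, rfl⟩
          exact Subgroup.centralizer_le_normalizer _ a.2.2
        have hsup : IsPGroup 2 (A ⊔ P : Subgroup X) := hA.to_sup_of_normal_right' hPp hAP
        have hle : A ⊔ P ≤ K := sup_le ((Subgroup.map_subtype_le (Q : Subgroup C)).trans inf_le_left) inf_le_right
        have heq : A ⊔ P = P := by
          refine (Subgroup.eq_of_le_of_card_ge le_sup_right ?_).symm
          exact (card_two_group_le hsup hle le_rfl).trans_eq (card_sylow_inf S K).symm
        exact heq ▸ Subgroup.mem_sup_left ⟨q, hq, rfl⟩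
      rw [Subgroup.mem_center_iff]
      intro c
      exact Subtype.ext (Subgroup.mem_centralizer_iff.mp c.2.2 _ hqS).symm
    obtain ⟨N, hN, hidx, hmem⟩ := exists_regular_subgroup_of_central_sylow PC hPC
    have hcardC : Nat.card C = Nat.card PC * Nat.card N := by rw [← hidx, N.index_mul_card]
    rw [hcardC, mul_comm]
    refine Nat.mul_le_mul ?_ ?_
    · have hnorm : ∀ v : X, v * v = 1 → v ∈ V → ∀ x ∈ N.map C.subtype, v * x * v ∈ N.map C.subtype := by
        intro v hv hvV x hx
        obtain ⟨c, hc, rfl⟩ := hx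
        have hvi : v⁻¹ = v := inv_eq_of_mul_eq_one_right hv
        have hvS : v ∈ (S : Subgroup X) := hVS hvV
        have hmemC : v * (c : X) * v ∈ C := by
          refine ⟨?_, ?_⟩
          · have := hKn.conj_mem _ c.2.1 v
            rwa [hvi] at this
          · show v * (c : X) * v ∈ Subgroup.centralizer (P : Set X)
            rw [Subgroup.mem_centralizer_iff]
            intro y hy
            have hy' : v * y * v ∈ P := by
              refine ⟨(S : Subgroup X).mul_mem ((S : Subgroup X).mul_mem hvS hy.1) hvS, ?_⟩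
              have := hKn.conj_mem _ hy.2 v
              rwa [hvi] at this
            have := Subgroup.mem_centralizer_iff.mp c.2.2 _ hy'
            calc y * (v * c * v) = v * (v * y * v * c) * v := by
                  simp [mul_assoc, ← mul_assoc v v, hv]
              _ = v * (c * (v * y * v)) * v := by rw [this]
              _ = v * c * v * y := by simp [mul_assoc, hv]
        refine ⟨⟨_, hmemC⟩, (hmem _).mp ?_, rfl⟩
        have hreg := (hmem c).mpr hc
        unfold Cfsg.IsPRegular at hreg ⊢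
        rw [← Subgroup.orderOf_coe] at hreg ⊢
        show ¬ 2 ∣ orderOf (v * (c : X) * v)
        rwa [show v * (c : X) * v = v * (c : X) * v⁻¹ by rw [hvi],
          show orderOf (v * (c : X) * v⁻¹) = orderOf (c : X) from MulEquiv.orderOf_eq (MulAut.conj v) _]
      rw [← Subgroup.card_map_of_injective (K := N) (Subgroup.subtype_injective C)]
      refine card_odd_le h _ (hnorm s h.ss (Or.inr (Or.inl rfl))) (hnorm t h.tt (Or.inr (Or.inr (Or.inl rfl)))) ?_
      rw [Subgroup.card_map_of_injective (Subgroup.subtype_injective C)]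
      exact Nat.not_even_iff_odd.mp fun e => hN e.two_dvd
    · rw [← Subgroup.card_map_of_injective (K := (PC : Subgroup C)) (Subgroup.subtype_injective C)]
      exact card_two_group_le (PC.isPGroup'.map _) ((Subgroup.map_subtype_le _).trans inf_le_left) hb
  have hNK : Nat.card NK ≤ (2 ^ (b + 1)).factorial * (m ^ 3 * 2 ^ (b + 1)) := by
    let φ : NK →* Equiv.Perm P :=
      { toFun := fun g =>
          { toFun := fun y => ⟨(g : X) * y * (g : X)⁻¹, (Subgroup.mem_normalizer_iff.mp g.2.2 _).mp y.2⟩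
            invFun := fun y => ⟨(g : X)⁻¹ * y * (g : X), (Subgroup.mem_normalizer_iff''.mp g.2.2 _).mp y.2⟩
            left_inv := fun y => Subtype.ext (by simp [mul_assoc])
            right_inv := fun y => Subtype.ext (by simp [mul_assoc]) }
        map_one' := Equiv.ext fun y => Subtype.ext (by simp)
        map_mul' := fun g g' => Equiv.ext fun y => Subtype.ext (by simp [mul_assoc]) }
    rw [← φ.ker.index_mul_card]
    refine Nat.mul_le_mul ?_ (le_trans ?_ hC')
    · rw [Subgroup.index_ker]
      refine le_trans (Nat.card_le_card_of_injective _ Subtype.val_injective) ?_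
      rw [Nat.card_perm]
      exact Nat.factorial_le hPb
    · refine Nat.card_le_card_of_injective (fun g => ⟨((g : NK) : X), (g : NK).2.1, ?_⟩)
        fun a c e => Subtype.ext (Subtype.ext (congrArg Subtype.val e :))
      show ((g : NK) : X) ∈ Subgroup.centralizer (P : Set X)
      rw [Subgroup.mem_centralizer_iff]
      intro y hy
      have h1 := Equiv.ext_iff.mp (MonoidHom.mem_ker.mp g.2) ⟨y, hy⟩
      have h2 : ((g : NK) : X) * y * ((g : NK) : X)⁻¹ = y := congrArg Subtype.val h1
      exact (mul_inv_eq_iff_eq_mul.mp h2).symm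
  have hKR : Nat.card K ≤ Nat.card NK * Nat.card R := by
    refine le_trans (Nat.card_le_card_of_injective _ (Subgroup.inclusion_injective hfrat)) ?_
    rw [sup_comm]
    show Nat.card ↥((NK ⊔ R : Subgroup X) : Set X) ≤ _
    rw [Subgroup.mul_normal]
    exact Set.natCard_mul_le
  refine hKR.trans (Nat.mul_le_mul hNK ?_)
  -- the bound on R
  have hbR : (Nat.card R).factorization 2 ≤ b + 1 :=
    le_trans (((Nat.factorization_le_iff_dvd Nat.card_pos.ne' Nat.card_pos.ne').mpr
      (Subgroup.card_dvd_of_le hRK)) 2) hb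
  by_cases hsmall : R ≤ Subgroup.centralizer ({s} : Set X) ∨ R ≤ Subgroup.centralizer ({t} : Set X) ∨
      R ≤ Subgroup.centralizer ({s * t} : Set X)
  · refine le_trans (le_trans ?_ (Nat.le_add_right m _)) (Nat.le_add_right _ _)
    rcases hsmall with e | e | e
    · exact (Nat.card_le_card_of_injective _ (Subgroup.inclusion_injective e)).trans h.cs
    · exact (Nat.card_le_card_of_injective _ (Subgroup.inclusion_injective e)).trans h.ct
    · exact (Nat.card_le_card_of_injective _ (Subgroup.inclusion_injective e)).trans h.cst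
  push Not at hsmall
  obtain ⟨hRs, hRt, hRst⟩ := hsmall
  by_cases hZ : Subgroup.center R = ⊥
  · -- a normal subgroup of bounded index
    refine le_trans ?_ (Nat.le_add_left _ _)
    obtain ⟨g, hg, hgR⟩ := exists_large_centralizer h.tt h.ct R hRt
    set H := Subgroup.centralizer ({g} : Set R) with hH
    have hHidx : H.index ≤ 2 * m ^ 2 := by
      have h1 := H.index_mul_card
      rw [← h1] at hgR
      exact Nat.le_of_mul_le_mul_right hgR Nat.card_pos
    have hHtop : H ≠ ⊤ := fun e => hg (by
      have : g ∈ Subgroup.center R := Subgroup.mem_center_iff.mpr fun y => by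
        have hy : y ∈ H := e ▸ Subgroup.mem_top y
        exact Subgroup.mem_centralizer_singleton_iff.mp hy
      rwa [hZ, Subgroup.mem_bot] at this)
    set M₀ := H.normalCore
    have hM₀ : M₀.index ≤ (2 * m ^ 2).factorial := by
      rw [show M₀ = H.normalCore from rfl, Subgroup.normalCore_eq_ker, Subgroup.index_ker]
      refine le_trans (Nat.card_le_card_of_injective _ Subtype.val_injective) ?_
      rw [Nat.card_perm]
      exact Nat.factorial_le hHidx
    let cm : X → Subgroup R := fun v => M₀.comap (MulAut.conjNormal (H := R) v).toMonoidHom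
    haveI : ∀ v, (cm v).Normal := fun v => (H.normalCore_normal).comap _
    set M : Subgroup R := cm 1 ⊓ cm s ⊓ cm t ⊓ cm (s * t) with hM
    have hMidx : M.index ≤ ((2 * m ^ 2).factorial) ^ 4 := by
      have he : ∀ v, (cm v).index ≤ (2 * m ^ 2).factorial := fun v =>
        le_of_eq_of_le (Subgroup.index_comap_of_surjective _ (MulAut.conjNormal (H := R) v).surjective) hM₀
      calc M.index ≤ (cm 1 ⊓ cm s ⊓ cm t).index * (cm (s * t)).index := Subgroup.index_inf_le
        _ ≤ ((cm 1 ⊓ cm s).index * (cm t).index) * (cm (s * t)).index :=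
            Nat.mul_le_mul_right _ Subgroup.index_inf_le
        _ ≤ (((cm 1).index * (cm s).index) * (cm t).index) * (cm (s * t)).index :=
            Nat.mul_le_mul_right _ (Nat.mul_le_mul_right _ Subgroup.index_inf_le)
        _ ≤ _ := by
          rw [pow_succ, pow_succ, pow_succ, pow_one]
          exact Nat.mul_le_mul (Nat.mul_le_mul (Nat.mul_le_mul (he _) (he _)) (he _)) (he _)
    haveI hMn : M.Normal := inferInstance
    have hMne : M ≠ ⊤ := fun e => hHtop (eq_top_iff.mpr fun x _ => by
      have hx : x ∈ M := e ▸ Subgroup.mem_top x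
      have h1 : x ∈ cm 1 := hx.1.1.1
      exact H.normalCore_le (by simpa [cm] using h1))
    have hMeven : Even M.index := by
      by_contra hodd
      refine hMne (eq_top_iff.mpr fun x _ => ?_)
      have key : ∀ y : X, y ∈ R → ∀ hy : y ∈ R, (⟨y, hy⟩ : R) ∈ M := by
        intro y hy
        induction hy using Subgroup.closure_induction with
        | mem y hy =>
          intro hy'
          obtain ⟨-, k, hk⟩ := hy
          exact mem_of_two_pow (k := k) (Subtype.ext (by simpa using hk))
            (Nat.not_even_iff_odd.mp hodd) (M.pow_index_mem _)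
        | one => exact fun _ => M.one_mem
        | mul a c ha hc iha ihc => exact fun _ => M.mul_mem (iha ha) (ihc hc)
        | inv a ha iha => exact fun _ => M.inv_mem (iha ha)
      exact key x x.2 x.2
    set Mx := M.map R.subtype with hMx
    set Y := Subgroup.normalizer (Mx : Set X) with hY
    have hnorm : ∀ v : X, v * v = 1 → (∀ w : X, w = 1 ∨ w = s ∨ w = t ∨ w = s * t →
        w * v = 1 ∨ w * v = s ∨ w * v = t ∨ w * v = s * t) → v ∈ Y := by
      intro v hv hperm
      have hvi : v⁻¹ = v := inv_eq_of_mul_eq_one_right hv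
      have hfwd : ∀ x ∈ Mx, v * x * v⁻¹ ∈ Mx := by
        rintro _ ⟨x, hx, rfl⟩
        refine ⟨MulAut.conjNormal v x, ?_, by simp⟩
        have hmem : ∀ w, (w = 1 ∨ w = s ∨ w = t ∨ w = s * t) → MulAut.conjNormal v x ∈ cm w := by
          intro w hw
          show MulAut.conjNormal w (MulAut.conjNormal v x) ∈ M₀
          rw [← MulAut.mul_apply, ← map_mul]
          rcases hperm w hw with e | e | e | e <;> rw [e]
          · exact hx.1.1.1
          · exact hx.1.1.2
          · exact hx.1.2
          · exact hx.2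
        exact ⟨⟨⟨hmem 1 (Or.inl rfl), hmem s (Or.inr (Or.inl rfl))⟩,
          hmem t (Or.inr (Or.inr (Or.inl rfl)))⟩, hmem _ (Or.inr (Or.inr (Or.inr rfl)))⟩
      rw [hY, Subgroup.mem_normalizer_iff]
      intro x
      refine ⟨hfwd x, fun hx => ?_⟩
      have := hfwd _ hx
      rw [hvi] at this
      simpa [mul_assoc, ← mul_assoc v v, hv] using this
    have hst' : s * (s * t) = t := by rw [← mul_assoc, h.ss, one_mul]
    have hts : t * (s * t) = s := by rw [h.comm, ← mul_assoc, h.tt, one_mul]
    have hsY : s ∈ Y := hnorm s h.ss (by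
      rintro w (rfl | rfl | rfl | rfl)
      · exact Or.inr (Or.inl (one_mul _))
      · exact Or.inl h.ss
      · exact Or.inr (Or.inr (Or.inr h.comm.symm))
      · exact Or.inr (Or.inr (Or.inl (by rw [h.comm, mul_assoc, h.ss, mul_one]))))
    have htY : t ∈ Y := hnorm t h.tt (by
      rintro w (rfl | rfl | rfl | rfl)
      · exact Or.inr (Or.inr (Or.inl (one_mul _)))
      · exact Or.inr (Or.inr (Or.inr rfl))
      · exact Or.inl h.tt
      · exact Or.inr (Or.inl (by rw [mul_assoc, h.tt, mul_one])))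
    have hMY : Mx ≤ Y := Subgroup.le_normalizer
    have hcardMx : Nat.card (Mx.subgroupOf Y) = Nat.card M := by
      rw [Nat.card_congr (Subgroup.subgroupOfEquivOfLe hMY).toEquiv, hMx,
        Subgroup.card_map_of_injective R.subtype_injective]
    haveI : (Mx.subgroupOf Y).Normal := Subgroup.normal_subgroupOf_of_le_normalizer le_rfl
    have hIH := IH (h.subgroup Y hsY htY) (Mx.subgroupOf Y) (by
      rw [hcardMx]
      have h1 := hbR
      rw [← M.index_mul_card, Nat.factorization_mul Subgroup.index_ne_zero_of_finite Nat.card_pos.ne',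
        Finsupp.add_apply] at h1
      have h2 : 1 ≤ M.index.factorization 2 :=
        (Nat.Prime.dvd_iff_one_le_factorization Nat.prime_two Subgroup.index_ne_zero_of_finite).mp
          hMeven.two_dvd
      omega)
    rw [hcardMx] at hIH
    rw [← M.index_mul_card]
    exact Nat.mul_le_mul hMidx hIH
  · -- the centre
    refine le_trans (le_trans ?_ (Nat.le_add_left _ m)) (Nat.le_add_right _ _)
    set Z := (Subgroup.center R).map R.subtype with hZdef
    haveI hZn : Z.Normal := ⟨by
      rintro _ ⟨z, hz, rfl⟩ g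
      refine ⟨MulAut.conjNormal g z, ?_, by simp⟩
      rw [SetLike.mem_coe, Subgroup.mem_center_iff] at hz ⊢
      intro y
      have := congrArg (MulAut.conjNormal (H := R) g) (hz ((MulAut.conjNormal g).symm y))
      rwa [map_mul, map_mul, MulEquiv.apply_symm_apply] at this⟩
    have hZR : Z ≤ R := Subgroup.map_subtype_le _
    have hcomm : ∀ z ∈ Z, ∀ r ∈ R, r * z = z * r := by
      rintro _ ⟨z, hz, rfl⟩ r hr
      exact congrArg Subtype.val (Subgroup.mem_center_iff.mp hz ⟨r, hr⟩)
    have hZ2 : IsPGroup 2 Z := by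
      -- the odd part is normal, so trivial
      let O : Subgroup X :=
        { carrier := {x | x ∈ Z ∧ Odd (orderOf x)}
          one_mem' := ⟨Z.one_mem, by simp⟩
          mul_mem' := fun {a c} ha hc => ⟨Z.mul_mem ha.1 hc.1,
            Odd.of_dvd_nat (ha.2.mul hc.2)
              ((Commute.orderOf_mul_dvd_lcm (hcomm c hc.1 a (hZR ha.1))).trans (Nat.lcm_dvd_mul _ _))⟩
          inv_mem' := fun {a} ha => ⟨Z.inv_mem ha.1, by rw [orderOf_inv]; exact ha.2⟩ }
      have hObot : O = ⊥ := by
        refine hO O ⟨fun x hx g => ⟨hZn.conj_mem x hx.1 g, ?_⟩⟩ (fun x hx => hRK (hZR hx.1)) ?_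
        · rw [show orderOf (g * x * g⁻¹) = orderOf x from MulEquiv.orderOf_eq (MulAut.conj g) x]
          exact hx.2
        · rw [← Nat.not_even_iff_odd]
          intro he
          obtain ⟨x, hx⟩ := exists_prime_orderOf_dvd_card' (G := O) 2 he.two_dvd
          have := x.2.2
          rw [Subgroup.orderOf_coe, hx] at this
          exact absurd this (by decide)
      rw [IsPGroup.iff_orderOf]
      intro z
      obtain ⟨k, q, hq, hkq⟩ := Nat.exists_eq_two_pow_mul_odd (orderOf_pos z).ne'
      refine ⟨k, ?_⟩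
      have hzpow : (z : X) ^ 2 ^ k ∈ O := ⟨Z.pow_mem z.2 _, by
        rw [orderOf_pow' _ (by positivity), Subgroup.orderOf_coe, hkq, Nat.gcd_mul_right_left,
          Nat.mul_div_cancel_left _ (by positivity)]
        exact hq⟩
      rw [hObot, Subgroup.mem_bot] at hzpow
      have h1 : orderOf z ∣ 2 ^ k := orderOf_dvd_of_pow_eq_one (Subtype.ext (by simpa using hzpow))
      rw [hkq] at h1 ⊢
      have : q = 1 := by
        have h2 : q ∣ 2 ^ k := (dvd_mul_left q _).trans h1
        exact Nat.eq_one_of_dvd_coprimes ((Nat.coprime_two_right.mpr hq).pow_right k) dvd_rfl h2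
      rw [this, mul_one]
    have hZne : Z ≠ ⊥ := fun e => hZ ((Subgroup.map_eq_bot_iff_of_injective _ R.subtype_injective).mp e)
    have hZb : Nat.card Z ≤ 2 ^ (b + 1) := card_two_group_le hZ2 (hZR.trans hRK) hb
    have hnot : ∀ v : X, ¬ R ≤ Subgroup.centralizer ({v} : Set X) → v ∉ Z := fun v hv hvZ =>
      hv fun r hr => Subgroup.mem_centralizer_singleton_iff.mpr (hcomm v hvZ r hr)
    have hQ : Hyp (m * 2 ^ (b + 1)) (s : X ⧸ Z) (t : X ⧸ Z) :=
      h.quotient Z (hnot s hRs) (hnot t hRt) (hnot _ hRst) (Nat.mul_le_mul_left _ hZb)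
    haveI : (R.map (QuotientGroup.mk' Z)).Normal := hRn.map _ (QuotientGroup.mk'_surjective Z)
    have hcard : Nat.card R = Nat.card Z * Nat.card (R.map (QuotientGroup.mk' Z)) := by
      exact card_eq_card_mul_map Z R hZR
    rw [hcard]
    refine Nat.mul_le_mul hZb (IH hQ _ ?_)
    rw [hcard, Nat.factorization_mul Nat.card_pos.ne' Nat.card_pos.ne', Finsupp.add_apply] at hbR
    obtain ⟨k, hk⟩ := IsPGroup.iff_card.mp hZ2
    have hk1 : k ≠ 0 := fun e => hZne (Subgroup.card_eq_one.mp (by rw [hk, e, pow_zero]))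
    rw [hk, Nat.prime_two.factorization_pow, Finsupp.single_eq_same] at hbR
    omega

/-- A normal subgroup with bounded 2-part is bounded by the centralizers of the four-group. -/
theorem card_le_bound : ∀ (b : ℕ) {X : Type u} [Group X] [Finite X] {n : ℕ} {s t : X}, Hyp n s t →
    ∀ (K : Subgroup X) [K.Normal], (Nat.card K).factorization 2 ≤ b → Nat.card K ≤ bound b n := by
  intro b
  induction b with
  | zero =>
    intro X _ _ n s t h K hKn hb
    refine card_odd_le h K (fun x hx => ?_) (fun x hx => ?_) ?_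
    · have := hKn.conj_mem x hx s
      rwa [inv_eq_of_mul_eq_one_right h.ss] at this
    · have := hKn.conj_mem x hx t
      rwa [inv_eq_of_mul_eq_one_right h.tt] at this
    · rw [← Nat.not_even_iff_odd]
      intro he
      have := (Nat.Prime.dvd_iff_one_le_factorization Nat.prime_two Nat.card_pos.ne').mp he.two_dvd
      omega
  | succ b IH =>
    intro X _ _ n s t h K hKn hb
    classical
    haveI : Fact (Nat.Prime 2) := ⟨Nat.prime_two⟩
    obtain ⟨O, ⟨hOn, hOK, hOodd⟩, hmax⟩ :=
      (Set.toFinite {N : Subgroup X | N.Normal ∧ N ≤ K ∧ Odd (Nat.card N)}).exists_maximal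
        ⟨⊥, inferInstance, bot_le, by simp⟩
    haveI := hOn
    have hO3 : Nat.card O ≤ n ^ 3 := by
      refine card_odd_le h O (fun x hx => ?_) (fun x hx => ?_) hOodd
      · have := hOn.conj_mem x hx s
        rwa [inv_eq_of_mul_eq_one_right h.ss] at this
      · have := hOn.conj_mem x hx t
        rwa [inv_eq_of_mul_eq_one_right h.tt] at this
    have hnot : ∀ v : X, v ≠ 1 → v * v = 1 → v ∉ O := by
      intro v hv hv2 hvO
      apply hv
      obtain ⟨j, hj⟩ := hOodd
      have h1 : v ^ Nat.card O = 1 := congrArg Subtype.val (pow_card_eq_one' (x := (⟨v, hvO⟩ : O)))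
      rwa [hj, pow_succ, pow_mul, sq, hv2, one_pow, one_mul] at h1
    have hc2 : (s * t) * (s * t) = 1 := by
      rw [mul_assoc, ← mul_assoc t, ← h.comm, mul_assoc s t t, h.tt, mul_one, h.ss]
    have hc1 : s * t ≠ 1 := fun e => h.hst (by
      rw [← inv_eq_of_mul_eq_one_right h.tt]; exact eq_inv_of_mul_eq_one_left e)
    have hQ : Hyp (n * n ^ 3) (s : X ⧸ O) (t : X ⧸ O) :=
      h.quotient O (hnot s h.hs h.ss) (hnot t h.ht h.tt) (hnot _ hc1 hc2) (Nat.mul_le_mul_left _ hO3)
    haveI : (K.map (QuotientGroup.mk' O)).Normal := hKn.map _ (QuotientGroup.mk'_surjective O)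
    have hcard : Nat.card K = Nat.card O * Nat.card (K.map (QuotientGroup.mk' O)) := by
      exact card_eq_card_mul_map O K hOK
    have hstep := card_le_step (F := bound b) (fun {Y} _ _ {m'} {s' t'} => IH) hQ (K.map (QuotientGroup.mk' O)) (by
        refine le_trans ?_ hb
        rw [hcard, Nat.factorization_mul Nat.card_pos.ne' Nat.card_pos.ne', Finsupp.add_apply]
        exact Nat.le_add_left _ _) (by
      intro N hN hNK hNodd
      haveI := hN
      set N' := N.comap (QuotientGroup.mk' O) with hN'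
      have hON : O ≤ N' := fun x hx => Subgroup.mem_comap.mpr (by
        rw [QuotientGroup.mk'_apply, (QuotientGroup.eq_one_iff x).mpr hx]; exact N.one_mem)
      have hmap : N'.map (QuotientGroup.mk' O) = N :=
        Subgroup.map_comap_eq_self_of_surjective (QuotientGroup.mk'_surjective O) N
      have hle : N' ≤ O := by
        refine hmax ⟨hN.comap _, fun x hx => ?_, ?_⟩ hON
        · obtain ⟨k, hk, hkx⟩ := hNK (Subgroup.mem_comap.mp hx)
          have : k⁻¹ * x ∈ O := QuotientGroup.eq.mp hkx
          simpa using K.mul_mem hk (hOK this)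
        · rw [card_eq_card_mul_map O N' hON, hmap]
          exact hOodd.mul hNodd
      rw [← hmap, Subgroup.map_eq_bot_iff, QuotientGroup.ker_mk']
      exact hle)
    rw [hcard]
    exact Nat.mul_le_mul hO3 hstep

end CfsgLib.Blk83.Four
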