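import Cfsg.Agent.Lib.Blk83.InertialPair
import Cfsg.Agent.Lib.Blk83.SubsectionWeight

/-!
The heights of a block against the inertial index and the centre of the defect group.
-/

set_option autoImplicit false
set_option maxHeartbeats 4000000
set_option synthInstance.maxHeartbeats 400000

open Cfsg CfsgLib.Blocks CfsgLib.Blocks.Pairs CfsgLib.BlockRank
open scoped Classical ComplexConjugate

namespace CfsgLib.Blk83

universe u

variable {G : Type u} [Group G] [Finite G] {p : ℕ} [Fact p.Prime] {M : Ideal AlgInt}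

theorem centralizer_zpowers (x : G) :
    Subgroup.centralizer (Subgroup.zpowers x : Set G) = Subgroup.centralizer ({x} : Set G) := by
  rw [Subgroup.zpowers_eq_closure, Subgroup.centralizer_closure]

/-- The weights of the subsections at a `p`-element add up to the norm on its section. -/
theorem sum_subWeight_eq [Fintype G] (hM : Cfsg.IsPModular p M) {x : G} {C : Subgroup G}
    (hC : C = Subgroup.centralizer {x}) (χ : Cfsg.IrrCharacter G)
    [Fintype {b : Set (Cfsg.IrrCharacter C) // Cfsg.IsPBlock M b}] :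
    ((∑ b : {b : Set (Cfsg.IrrCharacter C) // Cfsg.IsPBlock M b}, subWeight p x C b.1 χ : ℝ) : ℂ) =
      (Nat.card C : ℂ)⁻¹ * sectionSum p (fun g => (χ : G → ℂ) g * conj ((χ : G → ℂ) g)) x := by
  letI := Fintype.ofFinite C
  rw [sectionSum_eq_sum_regSet _ hC,
    sum_regSet_eq_sum_regNorm hM (isClassFunction_translate hC χ), Finset.mul_sum]
  push_cast
  refine Finset.sum_congr rfl fun b _ => ?_
  rw [subWeight_eq_regPair, regNorm_eq, regPair]

/-- The order of the centre of a defect group times `p` to the height is at most the inertial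
index times the order of the defect group. -/
theorem card_center_mul_pow_le (hM : Cfsg.IsPModular p M) {B : Set (Cfsg.IrrCharacter G)}
    (hB : Cfsg.IsPBlock M B) {D : Subgroup G} (hBD : Cfsg.IsDefectGroup p M B D) {H : Subgroup G}
    (hH : H = D ⊔ Subgroup.centralizer (D : Set G)) {b : Set (Cfsg.IrrCharacter H)}
    (hind : Cfsg.IsInducedBlock M H b B) {T : Subgroup G}
    (hT : ∀ g : G, g ∈ T ↔ (g ∈ Subgroup.normalizer (D : Set G) ∧ ∀ θ ∈ b,
      ∀ θ' : Cfsg.IrrCharacter H, (∀ h h' : H, (h' : G) = g * h * g⁻¹ →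
        (θ' : H → ℂ) h' = (θ : H → ℂ) h) → θ' ∈ b))
    {χ : Cfsg.IrrCharacter G} (hχ : χ ∈ B) :
    Nat.card (Subgroup.center D) * p ^ Cfsg.blockHeight p B (χ : G → ℂ) ≤
      H.relIndex T * Nat.card D := by
  haveI : M.IsMaximal := hM.2.1
  haveI : CharP (ResField M) p := charP_resField hM.1 (natCast_mem_of_isPModular hM)
  letI : Fintype G := Fintype.ofFinite G
  have hp : p.Prime := Fact.out
  have hmax := (isDefectGroup_iff_maxR hM hB).1 hBD
  have hDp := hmax.pgroup
  have hP := pairOf_of_induced hM hDp hH hB hind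
  have hno := hmax.noExt hP
  have hcardD : Nat.card D = p ^ Cfsg.blockDefect p B := card_defectGroup hM hB hBD
  set eD := eIn hind.1 with heD
  -- the inertial group
  have hDH : D ≤ H := hH ▸ le_sup_left
  have hCH : Subgroup.centralizer (D : Set G) ≤ H := hH ▸ le_sup_right
  have hnormH : ∀ g ∈ Subgroup.normalizer (D : Set G), g ∈ Subgroup.normalizer (H : Set G) := by
    intro g hg
    refine mem_normalizer_of_conjSub_eq ?_
    rw [hH]
    show (D ⊔ Subgroup.centralizer (D : Set G)).map _ = _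
    rw [Subgroup.map_sup]
    show conjSub g D ⊔ conjSub g (Subgroup.centralizer (D : Set G)) = _
    rw [← centralizer_conjSub, conjSub_eq_of_mem_normalizer hg]
  have hTs : ∀ g ∈ pairStab D eD, g ∈ T := by
    rintro g ⟨hgN, hgf⟩
    rw [hT]
    refine ⟨hgN, fun θ hθ θ' hc => ?_⟩
    obtain ⟨χ', hχ', hc'⟩ := ((stabilizesBlock_iff hind.1 (hnormH g hgN)).2 hgf).2 θ hθ
    have : θ' = χ' := Subtype.ext (funext fun k' => by
      have hk : g⁻¹ * (k' : G) * g ∈ H :=
        (Subgroup.mem_normalizer_iff''.mp (hnormH g hgN) k').mp k'.2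
      rw [hc ⟨_, hk⟩ k' (by group), hc' ⟨_, hk⟩ k' (by group)])
    rwa [this]
  -- the centre of the defect group
  set Z : Subgroup G := (Subgroup.center D).map D.subtype with hZdef
  have hZD : Z ≤ D := Subgroup.map_subtype_le _
  have hZcard : Nat.card Z = Nat.card (Subgroup.center D) :=
    Nat.card_congr (Subgroup.equivMapOfInjective _ _ D.subtype_injective).toEquiv.symm
  have hZcomm : ∀ z ∈ Z, D ≤ Subgroup.centralizer ({z} : Set G) := by
    rintro _ ⟨z, hz, rfl⟩ d hd
    exact Subgroup.mem_centralizer_singleton_iff.2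
      (congrArg Subtype.val (Subgroup.mem_center_iff.1 hz ⟨d, hd⟩))
  have hHC : ∀ z ∈ Z, H ≤ Subgroup.centralizer ({z} : Set G) := by
    intro z hz
    rw [hH]
    refine sup_le (hZcomm z hz) fun c hc => Subgroup.mem_centralizer_singleton_iff.2 ?_
    exact (Subgroup.mem_centralizer_iff.1 hc z (hZD hz)).symm
  have hchoice : ∀ Q : Subgroup G,
      ∃ bq : Set (Cfsg.IrrCharacter (Subgroup.centralizer (Q : Set G))), Q ≤ Z →
        ∃ hb : Cfsg.IsPBlock M bq, SLE p Q (eIn hb) D eD := by
    intro Q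
    by_cases hQ : Q ≤ Z
    · obtain ⟨f, hf⟩ := (existsUnique_sle hP.pair (hQ.trans hZD)).1
      obtain ⟨bq, hb, hbe⟩ := exists_eIn_eq (hf.pair_left hP.pair).block
      exact ⟨bq, fun _ => ⟨hb, hbe ▸ hf⟩⟩
    · exact ⟨∅, fun h => absurd h hQ⟩
  choose bQ hbQ using hchoice
  set W : G → ℝ := fun z => subWeight p z (Subgroup.centralizer (Subgroup.zpowers z : Set G))
    (bQ (Subgroup.zpowers z)) χ with hW
  have hzp : ∀ z ∈ Z, ∃ k : ℕ, orderOf z = p ^ k := by
    intro z hz
    obtain ⟨k, hk⟩ := IsPGroup.iff_orderOf.mp hDp ⟨z, hZD hz⟩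
    exact ⟨k, by rw [← hk, Subgroup.orderOf_mk]⟩
  have hfacts : ∀ z ∈ Z, ∃ hb : Cfsg.IsPBlock M (bQ (Subgroup.zpowers z)),
      SLE p (Subgroup.zpowers z) (eIn hb) D eD ∧
      Cfsg.IsInducedBlock M (Subgroup.centralizer (Subgroup.zpowers z : Set G))
        (bQ (Subgroup.zpowers z)) B ∧
      Cfsg.blockDefect p (bQ (Subgroup.zpowers z)) = Cfsg.blockDefect p B := by
    intro z hz
    obtain ⟨hb, hle⟩ := hbQ _ (Subgroup.zpowers_le.2 hz)
    refine ⟨hb, hle, ?_, ?_⟩
    · exact (isInducedBlock_iff_pairOf hM (CfsgLib.BlockRank.isPGroup_zpowers (hzp z hz)) hB hb).2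
        ((SLE.pairOf_iff hle).1 hP)
    · have hDC : D ≤ Subgroup.centralizer (Subgroup.zpowers z : Set G) :=
        centralizer_zpowers z ▸ hZcomm z hz
      obtain ⟨h1, h2⟩ := local_pair_central hP hno hDC hle
      rw [show down (Subgroup.centralizer (Subgroup.zpowers z : Set G)) (eIn hb) = ebar hb by
        rw [eIn, down_up]] at h1
      refine Nat.pow_right_injective hp.two_le ?_
      show p ^ Cfsg.blockDefect p (bQ (Subgroup.zpowers z)) = p ^ Cfsg.blockDefect p B
      rw [← card_defectGroup hM hb ((isDefectGroup_iff_maxR hM hb).2 (maxR_of_noExt h1 h2)),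
        ← hcardD]
      exact Nat.card_congr (Subgroup.subgroupOfEquivOfLe hDC).toEquiv
  set Zf : Finset G := Finset.univ.filter (· ∈ Z) with hZf
  have hmemZ : ∀ z, z ∈ Zf ↔ z ∈ Z := fun z => by simp [hZf]
  have hZfcard : Zf.card = Nat.card Z := by
    rw [Nat.card_eq_fintype_card, Fintype.card_subtype]
  set d := Cfsg.blockDefect p B with hd
  set h := Cfsg.blockHeight p B (χ : G → ℂ) with hh
  -- the lower bound
  have hlow : (Nat.card Z : ℝ) * (p : ℝ) ^ h ≤ (p : ℝ) ^ d * ∑ z ∈ Zf, W z := by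
    set N := Nat.card D with hN
    have hN0 : 0 < N := Nat.card_pos
    set S := (Finset.range N).filter fun k => k.Coprime N with hS
    have hdvd : Nat.card Z ∣ N := Subgroup.card_dvd_of_le hZD
    have hone : ∀ z ∈ Zf, (S.card : ℝ) * (p : ℝ) ^ h ≤ (p : ℝ) ^ d * ∑ k ∈ S, W (z ^ k) := by
      intro z hz
      rw [hmemZ] at hz
      obtain ⟨hb, -, hbi, hbd⟩ := hfacts z hz
      have hordN : orderOf z ∣ N := by
        have := orderOf_dvd_natCard (⟨z, hZD hz⟩ : D)
        rwa [Subgroup.orderOf_mk] at this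
      letI := Fintype.ofFinite ↥(Subgroup.centralizer (Subgroup.zpowers z : Set G))
      have hge := subWeight_sum_ge hM (centralizer_zpowers z) (hzp z hz) hbi hbd hχ hN0
        (orderOf_dvd_iff_pow_eq_one.1 hordN) (fun k hk => hk.coprime_dvd_right hordN)
      refine hge.trans (le_of_eq (congrArg _ (Finset.sum_congr rfl fun k hk => ?_)))
      have hk' : k.Coprime (orderOf z) :=
        ((Finset.mem_filter.1 hk).2).coprime_dvd_right hordN
      have hQ : Subgroup.zpowers (z ^ k) = Subgroup.zpowers z :=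
        Subgroup.eq_of_le_of_card_ge (Subgroup.zpowers_le.2 (pow_mem (Subgroup.mem_zpowers z) k))
          (le_of_eq (by rw [Nat.card_zpowers, Nat.card_zpowers, hk'.symm.orderOf_pow]))
      show (fun Q : Subgroup G => subWeight p (z ^ k) (Subgroup.centralizer (Q : Set G)) (bQ Q) χ)
          (Subgroup.zpowers z) = W (z ^ k)
      rw [← hQ]
    have hperm : ∀ k ∈ S, ∑ z ∈ Zf, W (z ^ k) = ∑ z ∈ Zf, W z := by
      intro k hk
      have hcop : (Nat.card Z).Coprime k :=
        (Nat.Coprime.coprime_dvd_right hdvd (Finset.mem_filter.1 hk).2).symm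
      rw [Finset.sum_subtype Zf hmemZ (fun z => W (z ^ k)), Finset.sum_subtype Zf hmemZ W]
      exact Fintype.sum_equiv (powCoprime hcop) _ _ fun z => by simp [powCoprime]
    have hsum := Finset.sum_le_sum (s := Zf) hone
    rw [Finset.sum_const, nsmul_eq_mul, ← Finset.mul_sum, Finset.sum_comm,
      Finset.sum_congr rfl hperm, Finset.sum_const, nsmul_eq_mul, hZfcard] at hsum
    have hSpos : (0 : ℝ) < (S.card : ℝ) := by
      refine Nat.cast_pos.2 (Finset.card_pos.2 ?_)
      rcases Nat.lt_or_ge 1 N with h1 | h1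
      · exact ⟨1, Finset.mem_filter.2 ⟨Finset.mem_range.2 h1, Nat.coprime_one_left N⟩⟩
      · have h2 : N = 1 := by omega
        exact ⟨0, Finset.mem_filter.2 ⟨Finset.mem_range.2 hN0, by rw [h2]; exact Nat.coprime_one_right 0⟩⟩
    nlinarith
  -- class representatives of `p`-elements
  let rp : G → G := fun g => Quotient.out (ConjClasses.mk g)
  have hout : ∀ g : G, IsConj g (rp g) := fun g =>
    (ConjClasses.mk_eq_mk_iff_isConj.1 (Quotient.out_eq (ConjClasses.mk g))).symm
  let X : Finset G := (Finset.univ.image rp).filter fun x => ∃ k : ℕ, orderOf x = p ^ k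
  have hX : ∀ x ∈ X, ∃ k : ℕ, orderOf x = p ^ k := fun x hx => (Finset.mem_filter.1 hx).2
  have hpconj : ∀ g : G, (∃ k : ℕ, orderOf g = p ^ k) → rp g ∈ X := by
    intro g ⟨k, hk⟩
    refine Finset.mem_filter.2 ⟨Finset.mem_image.2 ⟨g, Finset.mem_univ _, rfl⟩, k, ?_⟩
    obtain ⟨c, hc⟩ := isConj_iff.1 (hout g)
    rw [← hc, ← hk]
    exact MulEquiv.orderOf_eq (MulAut.conj c) g
  have hXrep : ∀ g : G, (∃ k : ℕ, orderOf g = p ^ k) → ∃! x, x ∈ X ∧ IsConj g x := by
    intro g hg
    refine ⟨rp g, ⟨hpconj g hg, hout g⟩, ?_⟩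
    rintro y ⟨hy, hgy⟩
    obtain ⟨g', -, rfl⟩ := Finset.mem_image.1 (Finset.mem_filter.1 hy).1
    show rp g' = rp g
    simp only [rp, show ConjClasses.mk g = ConjClasses.mk g' from
      ConjClasses.mk_eq_mk_iff_isConj.2 (hgy.trans (hout g').symm)]
  -- the upper bound at each class
  have hup : ∀ x : G, ((∑ z ∈ Zf.filter (fun z => rp z = x), W z : ℝ)) ≤
      (H.relIndex T : ℝ) * ((Nat.card (Subgroup.centralizer (Subgroup.zpowers x : Set G)) : ℂ)⁻¹ *
        sectionSum p (fun g => (χ : G → ℂ) g * conj ((χ : G → ℂ) g)) x).re := by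
    intro x
    set C' := Subgroup.centralizer (Subgroup.zpowers x : Set G) with hC'
    haveI : Fintype {b : Set (Cfsg.IrrCharacter C') // Cfsg.IsPBlock M b} := Fintype.ofFinite _
    rw [← sum_subWeight_eq hM (centralizer_zpowers x) χ, Complex.ofReal_re]
    have hg : ∀ z ∈ Zf.filter (fun z => rp z = x), ∃ g : G, g * z * g⁻¹ = x := fun z hz => by
      obtain ⟨c, hc⟩ := isConj_iff.1 (hout z)
      exact ⟨c, hc.trans (Finset.mem_filter.1 hz).2⟩
    choose! g hg using hg
    have htrans : ∀ z ∈ Zf.filter (fun z => rp z = x),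
        ∃ b' : {b : Set (Cfsg.IrrCharacter C') // Cfsg.IsPBlock M b},
          subWeight p x C' b'.1 χ = W z ∧
          ∀ hb : Cfsg.IsPBlock M (bQ (Subgroup.zpowers z)),
            eIn b'.2 = conjA (g z) (eIn hb) := by
      intro z hz
      have hzZ := (hmemZ z).1 (Finset.mem_filter.1 hz).1
      obtain ⟨hb, -⟩ := hfacts z hzZ
      have hmem : ∀ k : G, k ∈ C' ↔
          (g z)⁻¹ * k * g z ∈ Subgroup.centralizer (Subgroup.zpowers z : Set G) := by
        intro k
        rw [hC', centralizer_zpowers, centralizer_zpowers,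
          Subgroup.mem_centralizer_singleton_iff, Subgroup.mem_centralizer_singleton_iff,
          ← hg z hz]
        constructor <;> intro hk
        · calc (g z)⁻¹ * k * g z * z = (g z)⁻¹ * (k * (g z * z * (g z)⁻¹)) * g z := by group
            _ = (g z)⁻¹ * ((g z * z * (g z)⁻¹) * k) * g z := by rw [hk]
            _ = _ := by group
        · calc k * (g z * z * (g z)⁻¹) = g z * ((g z)⁻¹ * k * g z * z) * (g z)⁻¹ := by group
            _ = g z * (z * ((g z)⁻¹ * k * g z)) * (g z)⁻¹ := by rw [hk]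
            _ = _ := by group
      let φ : C' ≃* Subgroup.centralizer (Subgroup.zpowers z : Set G) :=
        { toFun := fun k => ⟨(g z)⁻¹ * k * g z, (hmem k).1 k.2⟩
          invFun := fun k => ⟨g z * k * (g z)⁻¹, (hmem _).2 (by
            rw [show (g z)⁻¹ * (g z * (k : G) * (g z)⁻¹) * g z = k by group]; exact k.2)⟩
          left_inv := fun k => Subtype.ext (by simp [mul_assoc])
          right_inv := fun k => Subtype.ext (by simp [mul_assoc])
          map_mul' := fun a b => Subtype.ext (by simp [mul_assoc]) }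
      refine ⟨⟨_, isPBlock_pullSet φ hb⟩, ?_, fun hb' => ?_⟩
      · have := subWeight_conj (p := p) (g z) z (centralizer_zpowers z) φ (fun _ => rfl)
          (bQ (Subgroup.zpowers z)) χ
        rwa [hg z hz] at this
      · refine eIn_conj φ (g z) (fun _ => rfl) ?_ hb'
        ext k
        rw [mem_conjSub]
        exact hmem k
    haveI : Nonempty {b : Set (Cfsg.IrrCharacter C') // Cfsg.IsPBlock M b} :=
      ⟨⟨_, CfsgLib.BlockReg.isPBlock_blockOf (CfsgLib.Char.principalIrr : Cfsg.IrrCharacter C')⟩⟩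
    choose! b' hb'W hb'e using htrans
    rw [Finset.sum_congr rfl fun z hz => (hb'W z hz).symm,
      ← Finset.sum_fiberwise _ b' (fun z => subWeight p x C' (b' z).1 χ), Finset.mul_sum]
    refine Finset.sum_le_sum fun β _ => ?_
    rw [Finset.sum_congr rfl (g := fun _ => subWeight p x C' β.1 χ) fun z hz => by
        rw [(Finset.mem_filter.1 hz).2], Finset.sum_const, nsmul_eq_mul]
    refine mul_le_mul_of_nonneg_right (Nat.cast_le.2 ?_) (subWeight_nonneg _ _ _ _)
    set F := (Zf.filter fun z => rp z = x).filter fun z => b' z = β with hF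
    rcases F.eq_empty_or_nonempty with h0 | ⟨z, hz⟩
    · simp [h0]
    obtain ⟨hz1, hz2⟩ := Finset.mem_filter.1 hz
    have hzZ := (hmemZ z).1 (Finset.mem_filter.1 hz1).1
    obtain ⟨hbz, hlez, -⟩ := hfacts z hzZ
    letI : Fintype (T ⧸ H.subgroupOf T) := Fintype.ofFinite _
    have hsub : F ⊆ Finset.univ.image
        (fun q : T ⧸ H.subgroupOf T => ((q.out : T) : G) * z * ((q.out : T) : G)⁻¹) := by
      intro w hw
      obtain ⟨hw1, hw2⟩ := Finset.mem_filter.1 hw
      have hwZ := (hmemZ w).1 (Finset.mem_filter.1 hw1).1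
      obtain ⟨hbw, hlew, -⟩ := hfacts w hwZ
      set c := (g w)⁻¹ * g z with hc
      have hczw : c * z * c⁻¹ = w := by
        rw [hc]
        calc (g w)⁻¹ * g z * z * ((g w)⁻¹ * g z)⁻¹
            = (g w)⁻¹ * (g z * z * (g z)⁻¹) * g w := by group
          _ = (g w)⁻¹ * (g w * w * (g w)⁻¹) * g w := by rw [hg z hz1, hg w hw1]
          _ = w := by group
      have hfeq : conjA c (eIn hbz) = eIn hbw := by
        have e1 := hb'e z hz1 hbz
        have e2 := hb'e w hw1 hbw
        rw [hz2] at e1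
        have : eIn (b' w).2 = eIn β.2 := by
          congr 1 <;> first | rw [hw2] | skip
        rw [this, e1] at e2
        rw [hc, ← conjA_conjA, e2, conjA_inv_conjA]
      have hle' : SLE p (Subgroup.zpowers w) (eIn hbw) (conjSub c D) (conjA c eD) := by
        have := hlez.conj c
        rwa [hfeq, conjSub_zpowers, hczw] at this
      obtain ⟨k, hkC, hkD, hke⟩ := exists_conj_above hP hno
        (centralizer_zpowers w ▸ hZcomm w hwZ) hlew (hP.conj c)
        ((hmax.conj (isBlockIdem_ebar hB).mem c).noExt (hP.conj c))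
        (by
          rw [centralizer_zpowers, ← hczw]
          rintro _ ⟨d', hd', rfl⟩
          refine Subgroup.mem_centralizer_singleton_iff.2 ?_
          show c * d' * c⁻¹ * (c * z * c⁻¹) = c * z * c⁻¹ * (c * d' * c⁻¹)
          rw [conj_mul, conj_mul, Subgroup.mem_centralizer_singleton_iff.1 (hZcomm z hzZ hd')])
        hle' (card_map_conj c D)
      have ht : k * c ∈ T := by
        refine hTs _ ⟨mem_normalizer_of_conjSub_eq ?_, ?_⟩
        · rw [← conjSub_conjSub, hkD]
        · rw [← conjA_conjA, hke]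
      refine Finset.mem_image.2 ⟨QuotientGroup.mk ⟨k * c, ht⟩, Finset.mem_univ _, ?_⟩
      obtain ⟨t, ht'⟩ := QuotientGroup.mk_out_eq_mul (H.subgroupOf T) (⟨k * c, ht⟩ : T)
      rw [ht']
      have hzt : ((t : T) : G) * z = z * ((t : T) : G) :=
        Subgroup.mem_centralizer_singleton_iff.1 (hHC z hzZ t.2)
      have hkw : k * w = w * k :=
        Subgroup.mem_centralizer_singleton_iff.1 (centralizer_zpowers w ▸ hkC)
      show k * c * ((t : T) : G) * z * (k * c * ((t : T) : G))⁻¹ = w
      calc k * c * ((t : T) : G) * z * (k * c * ((t : T) : G))⁻¹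
          = k * (c * (((t : T) : G) * z * ((t : T) : G)⁻¹) * c⁻¹) * k⁻¹ := by group
        _ = k * (c * z * c⁻¹) * k⁻¹ := by rw [hzt, mul_inv_cancel_right]
        _ = w := by rw [hczw, hkw, mul_inv_cancel_right]
    refine (Finset.card_le_card hsub).trans (Finset.card_image_le.trans (le_of_eq ?_))
    rw [Finset.card_univ, ← Nat.card_eq_fintype_card]
    rfl
  -- the sections exhaust the norm
  have htot : ∑ x ∈ X, ((Nat.card (Subgroup.centralizer (Subgroup.zpowers x : Set G)) : ℂ)⁻¹ *
      sectionSum p (fun g => (χ : G → ℂ) g * conj ((χ : G → ℂ) g)) x) = 1 := by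
    have hf : Cfsg.IsClassFunction G (fun g => (χ : G → ℂ) g * conj ((χ : G → ℂ) g)) :=
      fun a c => by
        show (χ : G → ℂ) _ * conj ((χ : G → ℂ) _) = _
        rw [CfsgLib.Char.IsIrrCharacter.isClassFunction χ.2 a c]
    have h1 := CfsgLib.Char.classInner_irr_self χ.2
    rw [Cfsg.classInner, inv_mul_eq_iff_eq_mul₀ (Nat.cast_ne_zero.mpr Nat.card_pos.ne'),
      mul_one, sum_eq_sum_sectionSum hf X hX hXrep] at h1
    have hG : (Nat.card G : ℂ) ≠ 0 := Nat.cast_ne_zero.mpr Nat.card_pos.ne'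
    refine mul_left_cancel₀ hG ?_
    rw [mul_one]
    refine Eq.trans ?_ h1
    rw [Finset.mul_sum]
    refine Finset.sum_congr rfl fun x _ => ?_
    rw [centralizer_zpowers x]
    have hc := CfsgLib.Char.card_isConj_mul_card_centralizer x
    have hC0 : (Nat.card (Subgroup.centralizer ({x} : Set G)) : ℂ) ≠ 0 :=
      Nat.cast_ne_zero.mpr Nat.card_pos.ne'
    have hc' : (Nat.card {y : G // IsConj x y} : ℂ) *
        Nat.card (Subgroup.centralizer ({x} : Set G)) = Nat.card G := by exact_mod_cast hc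
    rw [← hc']
    field_simp
  -- conclusion
  have hupper : ∑ z ∈ Zf, W z ≤ (H.relIndex T : ℝ) := by
    rw [← Finset.sum_fiberwise_of_maps_to (t := X) (g := rp) fun z hz =>
      hpconj z (hzp z ((hmemZ z).1 hz))]
    refine (Finset.sum_le_sum fun x _ => hup x).trans (le_of_eq ?_)
    rw [← Finset.mul_sum, ← Complex.re_sum, htot, Complex.one_re, mul_one]
  have hfinal : ((Nat.card (Subgroup.center D) * p ^ h : ℕ) : ℝ) ≤
      ((H.relIndex T * Nat.card D : ℕ) : ℝ) := by
    rw [← hZcard, hcardD]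
    push_cast
    calc (Nat.card Z : ℝ) * (p : ℝ) ^ h ≤ (p : ℝ) ^ d * ∑ z ∈ Zf, W z := hlow
      _ ≤ (p : ℝ) ^ d * (H.relIndex T : ℝ) := mul_le_mul_of_nonneg_left hupper (by positivity)
      _ = _ := mul_comm _ _
  exact_mod_cast hfinal

end CfsgLib.Blk83
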