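import Cfsg.Prelude.Def_Local
import Cfsg.Agent.Lib.Char.Clifford
import Cfsg.Agent.Lib.Char.Conj
import Cfsg.Agent.Lib.Char.Linear
import Cfsg.Agent.Lib.Char.Complete
import Cfsg.Agent.Lib.Blk83.Irr
import Cfsg.Agent.Lib.Solvable.Core
import Cfsg.Agent.Lib.Solvable.CoprimeAction
import Cfsg.Agent.Lib.PLocal.HallHigman
import Cfsg.Agent.Lib.Blocks82.HallHigman
import Cfsg.Agent.Lib.FGS73.Cover

/-!
Degrees prime to `p` in `p`-soluble groups: the Sylow `p`-subgroup is normal and abelian.
-/

set_option autoImplicit false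
open Cfsg

namespace CfsgLib.Blk83

universe u

variable {G : Type u} [Group G] [Finite G] {p : ℕ} [hp : Fact p.Prime]

/-- The points of `G` under conjugation. -/
def ConjPt (G : Type u) := G

instance instMulActionConjPt : MulAction G (ConjPt G) where
  smul g x := MulAut.conj g (show G from x)
  one_smul x := show MulAut.conj (1 : G) (show G from x) = (show G from x) by rw [map_one]; rfl
  mul_smul g h x := show MulAut.conj (g * h) (show G from x) =
    MulAut.conj g (MulAut.conj h (show G from x)) by rw [map_mul]; rfl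

omit hp in
theorem commute_of_forall_linear (h : ∀ χ : Cfsg.IrrCharacter G, Cfsg.charDegree (χ : G → ℂ) = 1)
    (a b : G) : a * b = b * a := by
  by_contra hne
  obtain ⟨χ, hχ, hχne⟩ : ∃ χ : G → ℂ, Cfsg.IsIrrCharacter G χ ∧
      χ (a * b * a⁻¹ * b⁻¹) ≠ χ 1 := by
    by_contra hc
    push Not at hc
    have : IsConj (a * b * a⁻¹ * b⁻¹) 1 :=
      CfsgLib.Char.isConj_of_forall_eq fun χ hχ => hc χ hχ
    refine hne ?_
    have h1 : a * b * a⁻¹ * b⁻¹ = 1 := isConj_one_left.mp this
    calc a * b = (a * b * a⁻¹ * b⁻¹) * (b * a) := by group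
      _ = b * a := by rw [h1, one_mul]
  refine hχne ?_
  obtain ⟨f, hf⟩ := CfsgLib.Char.isIrrCharacter_degree_one_iff.mp
    ⟨hχ, by
      have h1 := CfsgLib.Blk83.one_eq ⟨χ, hχ⟩
      rw [h ⟨χ, hχ⟩, Nat.cast_one] at h1
      exact h1⟩
  rw [hf]
  simp only [map_mul, map_inv, map_one]
  rw [mul_comm (f a) (f b), mul_assoc (f b), mul_inv_cancel, mul_one, mul_inv_cancel]

omit hp in
/-- The degree of a constituent of the restriction and the index of its inertia group divide the
degree. -/
theorem dvd_of_constituent (N : Subgroup G) [N.Normal] [Fintype N] (χ : Cfsg.IrrCharacter G)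
    (θ : Cfsg.IrrCharacter N)
    (h : Cfsg.classInner (fun n : N => (χ : G → ℂ) n) (θ : N → ℂ) ≠ 0) :
    Cfsg.charDegree (θ : N → ℂ) * (CfsgLib.CharTwist.inertia N (θ : N → ℂ)).index ∣
      Cfsg.charDegree (χ : G → ℂ) := by
  cases nonempty_fintype G
  obtain ⟨e, he⟩ := CfsgLib.Char.IsCharacter.exists_nat_classInner
    (CfsgLib.Clifford.isCharacter_res (CfsgLib.Char.IsIrrCharacter.isCharacter χ.2) N) θ.2
  have h1 := CfsgLib.Clifford.apply_one_eq N χ.2 θ.2 h
  rw [he, CfsgLib.Blk83.one_eq χ, CfsgLib.Blk83.one_eq θ] at h1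
  refine ⟨e, Nat.cast_injective (R := ℂ) ?_⟩
  push_cast
  rw [h1]
  ring

omit hp in
/-- Each irreducible character of a normal subgroup lies under one of the whole group. -/
theorem exists_over (N : Subgroup G) [N.Normal] [Fintype N] (θ : Cfsg.IrrCharacter N) :
    ∃ χ : Cfsg.IrrCharacter G,
      Cfsg.classInner (fun n : N => (χ : G → ℂ) n) (θ : N → ℂ) ≠ 0 := by
  cases nonempty_fintype G
  obtain ⟨χ, hχ, hne⟩ := CfsgLib.Clifford.exists_constituent
    (CfsgLib.Char.IsCharacter.indFun N (CfsgLib.Char.IsIrrCharacter.isCharacter θ.2))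
    (by
      rw [CfsgLib.Char.indFun_apply_one]
      exact mul_ne_zero (Nat.cast_ne_zero.mpr Subgroup.index_ne_zero_of_finite)
        (CfsgLib.Char.IsIrrCharacter.apply_one_ne_zero θ.2))
  refine ⟨⟨χ, hχ⟩, fun h => hne ?_⟩
  rw [CfsgLib.Char.classInner_indFun N _ χ (CfsgLib.Char.IsIrrCharacter.isClassFunction hχ),
    ← CfsgLib.Char.classInner_conj_symm (fun n : N => χ n) (θ : N → ℂ)]
  simp only [h, map_zero]

theorem commute_of_normal_pgroup (hdeg : ∀ χ : Cfsg.IrrCharacter G,
    ¬ p ∣ Cfsg.charDegree (χ : G → ℂ)) (P : Subgroup G) [P.Normal] (hP : IsPGroup p P) :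
    IsMulCommutative P := by
  refine ⟨⟨commute_of_forall_linear fun θ => ?_⟩⟩
  cases nonempty_fintype P
  obtain ⟨χ, hχ⟩ := exists_over P θ
  obtain ⟨n, hn⟩ := IsPGroup.iff_card.mp hP
  obtain ⟨k, -, hk⟩ := (Nat.dvd_prime_pow hp.out).mp (hn ▸ CfsgLib.Blk83.deg_dvd θ)
  rcases k with _ | k
  · simpa using hk
  · exact absurd (((dvd_pow_self p k.succ_ne_zero).trans (hk ▸ dvd_rfl)).trans
      ((dvd_mul_right _ _).trans (dvd_of_constituent P χ θ hχ))) (hdeg χ)

omit hp in
theorem sylow_sup_eq {K : Subgroup G} [K.Normal] (N : Subgroup G) [N.Normal] (P : Sylow p G)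
    (hK : (P : Subgroup G) ⊔ N = K) (g : G) :
    (P : Subgroup G).map (MulAut.conj g).toMonoidHom ⊔ N = K := by
  have hN : N.map (MulAut.conj g).toMonoidHom = N := Subgroup.Normal.map_conj_eq N g
  have hKg : K.map (MulAut.conj g).toMonoidHom = K := Subgroup.Normal.map_conj_eq K g
  rw [← hKg, ← hK, Subgroup.map_sup, hN]

/-- In a `p`-soluble group with all irreducible degrees prime to `p` the Sylow `p`-subgroups are
normal and abelian. -/
theorem normal_abelian_sylow_of_degrees (hsolv : Cfsg.IsPSolvable p G)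
    (hdeg : ∀ χ : Cfsg.IrrCharacter G, ¬ p ∣ Cfsg.charDegree (χ : G → ℂ)) (P : Sylow p G) :
    (P : Subgroup G).Normal ∧ IsMulCommutative (P : Subgroup G) := by
  induction hn : Nat.card G using Nat.strong_induction_on generalizing G with
  | _ n ih =>
  subst hn
  rcases subsingleton_or_nontrivial G with hG | hG
  · refine ⟨⟨fun x hx g => ?_⟩, ⟨⟨fun a b => Subsingleton.elim _ _⟩⟩⟩
    rwa [Subsingleton.elim (g * x * g⁻¹) x]
  have key : ∀ (N : Subgroup G) [N.Normal], N ≠ ⊥ →
      ((P : Subgroup G) ⊔ N).Normal ∧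
        IsMulCommutative ((P : Subgroup G).map (QuotientGroup.mk' N)) := by
    intro N _ hN
    have hlt : Nat.card (G ⧸ N) < Nat.card G := by
      rw [N.card_eq_card_quotient_mul_card_subgroup]
      exact lt_mul_of_one_lt_right Nat.card_pos
        ((Nat.one_lt_iff_ne_zero_and_ne_one).mpr ⟨Nat.card_pos.ne',
          fun h => hN (Subgroup.eq_bot_of_card_eq N h)⟩)
    have hdeg' : ∀ η : Cfsg.IrrCharacter (G ⧸ N), ¬ p ∣ Cfsg.charDegree (η : G ⧸ N → ℂ) :=
      fun η h => hdeg ⟨_, CfsgLib.CharTwist.isIrrCharacter_comp η.2 (QuotientGroup.mk' N)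
        (QuotientGroup.mk'_surjective N)⟩ (by simpa [Cfsg.charDegree] using h)
    obtain ⟨h1, h2⟩ := ih _ hlt (CfsgLib.Blocks82.isPSolvable_quotient hsolv N) hdeg'
      (P.mapSurjective (QuotientGroup.mk'_surjective N)) rfl
    rw [Sylow.coe_mapSurjective] at h1 h2
    refine ⟨?_, h2⟩
    have h3 := h1.comap (QuotientGroup.mk' N)
    rwa [Subgroup.comap_map_eq, QuotientGroup.ker_mk'] at h3
  by_cases hQ : Cfsg.pPrimeCore p G = ⊥
  · haveI := CfsgLib.Solvable.pCore_normal p G
    have hN : Cfsg.pCore p G ≠ ⊥ := by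
      intro h
      have h1 := CfsgLib.PLoc.centralizer_pCore_le_self hsolv hQ
      rw [h, le_bot_iff] at h1
      refine absurd h1 (fun h2 => ?_)
      have : (⊤ : Subgroup G) = ⊥ := by
        rw [← h2]
        refine (eq_top_iff.mpr fun x _ => ?_).symm
        rw [Subgroup.mem_centralizer_iff]
        intro y hy
        rw [SetLike.mem_coe, Subgroup.mem_bot] at hy
        rw [hy, one_mul, mul_one]
      exact top_ne_bot this
    have h := (key _ hN).1
    rw [sup_eq_left.mpr (CfsgLib.Solvable.pCore_le_sylow P)] at h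
    haveI := h
    exact ⟨h, commute_of_normal_pgroup hdeg _ P.2⟩
  · haveI := CfsgLib.Solvable.pPrimeCore_normal p G
    set Q := Cfsg.pPrimeCore p G
    obtain ⟨hK, hcomm⟩ := key Q hQ
    set K := (P : Subgroup G) ⊔ Q with hKdef
    haveI := hK
    cases nonempty_fintype G
    cases nonempty_fintype Q
    have hcopPQ : (Nat.card (P : Subgroup G)).Coprime (Nat.card Q) := by
      obtain ⟨k, hk⟩ := P.2.exists_card_eq
      rw [hk]
      exact ((CfsgLib.Solvable.pPrimeCore_card_coprime p G).symm).pow_left k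
    have hdis : (P : Subgroup G) ⊓ Q = ⊥ := Subgroup.inf_eq_bot_of_coprime hcopPQ
    have hPab : IsMulCommutative (P : Subgroup G) := by
      refine ⟨⟨fun a b => Subtype.ext ?_⟩⟩
      haveI := hcomm
      have h1 : QuotientGroup.mk' Q ((a : G) * b) = QuotientGroup.mk' Q ((b : G) * a) := by
        rw [map_mul, map_mul]
        exact setLike_mul_comm (Subgroup.mem_map_of_mem _ a.2) (Subgroup.mem_map_of_mem _ b.2)
      rw [QuotientGroup.mk'_apply, QuotientGroup.mk'_apply, QuotientGroup.eq] at h1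
      have h2 : ((a : G) * b)⁻¹ * ((b : G) * a) ∈ (P : Subgroup G) ⊓ Q :=
        Subgroup.mem_inf.mpr ⟨mul_mem (inv_mem (mul_mem a.2 b.2)) (mul_mem b.2 a.2), h1⟩
      rw [hdis, Subgroup.mem_bot, inv_mul_eq_one] at h2
      exact h2
    -- `P` fixes every irreducible character of `Q`
    have hfix : ∀ θ : Cfsg.IrrCharacter Q,
        (P : Subgroup G) ≤ CfsgLib.CharTwist.inertia Q (θ : Q → ℂ) := by
      intro θ
      obtain ⟨χ, hχ⟩ := exists_over Q θ
      have hidx : ¬ p ∣ (CfsgLib.CharTwist.inertia Q (θ : Q → ℂ)).index := fun h =>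
        hdeg χ (h.trans ((dvd_mul_left _ _).trans (dvd_of_constituent Q χ θ hχ)))
      set I := CfsgLib.CharTwist.inertia Q (θ : Q → ℂ)
      obtain ⟨S⟩ : Nonempty (Sylow p I) := inferInstance
      have hS : IsPGroup p (S.map I.subtype) := S.2.map _
      have hSidx : ¬ p ∣ (S.map I.subtype).index := by
        rw [Subgroup.index_map_subtype]
        exact hp.out.not_dvd_mul S.not_dvd_index hidx
      obtain ⟨g, hg⟩ := MulAction.exists_smul_eq G P (hS.toSylow hSidx)
      have hmap : (P : Subgroup G).map (MulAut.conj g).toMonoidHom = S.map I.subtype :=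
        congrArg (fun T : Sylow p G => (T : Subgroup G)) hg
      have hle : K ≤ I := by
        rw [← sylow_sup_eq Q P hKdef.symm g, hmap]
        exact sup_le (Subgroup.map_subtype_le _)
          (CfsgLib.CharTwist.le_inertia Q (CfsgLib.Char.IsIrrCharacter.isClassFunction θ.2))
      exact le_sup_left.trans hle
    -- hence every class of `Q`
    have hcls : ∀ a ∈ (P : Subgroup G), ∀ x : Q,
        IsConj (MulAut.conjNormal (H := Q) a x) x := by
      intro a ha x
      have h1 := CfsgLib.Char.card_fixed_irr_eq_card_fixed_classes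
        (G := Q) (MulAut.conjNormal (H := Q) a) fun χ hχ => by
          exact CfsgLib.CharTwist.isIrrCharacter_comp_equiv hχ _
      by_contra hx
      have h2 : ¬ ∀ g : Q, ConjClasses.mk g = ConjClasses.mk x →
          IsConj (MulAut.conjNormal (H := Q) a g) g := fun h => hx (h x rfl)
      have h3 := Finite.card_subtype_lt (α := ConjClasses Q)
        (p := fun C => ∀ g : Q, ConjClasses.mk g = C →
          IsConj (MulAut.conjNormal (H := Q) a g) g) h2
      rw [← h1, ← CfsgLib.Char.card_irrCharacter] at h3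
      refine h3.ne (Nat.card_congr (Equiv.subtypeUnivEquiv fun θ => ?_))
      rw [← CfsgLib.CharTwist.conjFun_eq_comp]
      exact CfsgLib.CharTwist.mem_inertia.mp (hfix θ ha)
    have hsolvP : Group.IsSolvable (P : Subgroup G) :=
      Group.isSolvable_of_comm fun a b => hPab.is_comm.comm a b
    -- hence centralizes `Q`
    have hcent : ((Subgroup.centralizer ((P : Subgroup G) : Set G)).subgroupOf Q) = ⊤ := by
      refine CfsgLib.FGS73.eq_top_of_forall_conj_mem fun x => ?_
      let S : Set (ConjPt G) := {w | ∃ q ∈ Q, w = (show G from q * x * q⁻¹)}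
      obtain ⟨w, ⟨q, hq, hw⟩, hwfix⟩ := CfsgLib.Solvable.exists_fixed_point_of_transitive
        (A := (P : Subgroup G)) (K := Q) (by rw [Subgroup.normalizer_eq_top Q]; exact le_top)
        hcopPQ (Or.inl hsolvP) (S := S) ⟨_, 1, one_mem Q, rfl⟩
        (fun a ha w hw => by
          obtain ⟨q, hq, rfl⟩ := hw
          obtain ⟨c, hc⟩ := isConj_iff.mp (hcls a ha x).symm
          refine ⟨a * q * a⁻¹ * c, mul_mem (Subgroup.Normal.conj_mem inferInstance q hq a) c.2, ?_⟩
          have hc' : (c : G) * x * (c : G)⁻¹ = a * x * a⁻¹ := by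
            have := congrArg Subtype.val hc
            simpa using this
          show a * (q * x * q⁻¹) * a⁻¹ = _
          calc a * (q * x * q⁻¹) * a⁻¹
              = (a * q * a⁻¹) * (a * x * a⁻¹) * (a * q * a⁻¹)⁻¹ := by group
            _ = _ := by rw [← hc']; group)
        (fun k hk w hw => by
          obtain ⟨q, hq, rfl⟩ := hw
          exact ⟨k * q, mul_mem hk hq, show k * (q * x * q⁻¹) * k⁻¹ = _ by group⟩)
        (fun v hv w hw => by
          obtain ⟨q₁, hq₁, rfl⟩ := hv
          obtain ⟨q₂, hq₂, rfl⟩ := hw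
          exact ⟨q₂ * q₁⁻¹, mul_mem hq₂ (inv_mem hq₁),
            show q₂ * q₁⁻¹ * (q₁ * x * q₁⁻¹) * (q₂ * q₁⁻¹)⁻¹ = _ by group⟩)
      subst hw
      refine ⟨⟨q, hq⟩⁻¹, ?_⟩
      rw [Subgroup.mem_subgroupOf, Subgroup.mem_centralizer_iff]
      intro a ha
      have h1 : a * (q * x * q⁻¹) * a⁻¹ = q * x * q⁻¹ := hwfix a ha
      simpa [mul_inv_eq_iff_eq_mul] using h1
    have hQC : ∀ q ∈ Q, ∀ a ∈ (P : Subgroup G), a * q = q * a := fun q hq a ha => by
      have : (⟨q, hq⟩ : Q) ∈ (Subgroup.centralizer ((P : Subgroup G) : Set G)).subgroupOf Q := by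
        rw [hcent]; trivial
      exact Subgroup.mem_centralizer_iff.mp this a ha
    refine ⟨⟨fun a ha g => ?_⟩, hPab⟩
    obtain ⟨b, hb, q, hq, hbq⟩ := Subgroup.mem_sup_of_normal_right.mp
      (hK.conj_mem a (Subgroup.mem_sup_left ha) g)
    obtain ⟨k, hk⟩ := P.2.exists_card_eq
    have hpow : ∀ y ∈ (P : Subgroup G), y ^ p ^ k = 1 := fun y hy => by
      have := pow_card_eq_one' (x := (⟨y, hy⟩ : (P : Subgroup G)))
      rw [hk] at this
      exact congrArg Subtype.val this
    have hq1 : q ^ p ^ k = 1 := by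
      have h1 : (b * q) ^ p ^ k = 1 := by
        rw [hbq, conj_pow, hpow a ha, mul_one, mul_inv_cancel]
      rwa [(show Commute b q from hQC q hq b hb).mul_pow, hpow b hb, one_mul] at h1
    have hq' : q = 1 := by
      rw [← orderOf_eq_one_iff]
      refine Nat.eq_one_of_dvd_coprimes hcopPQ ?_ ?_
      · rw [hk]; exact orderOf_dvd_of_pow_eq_one hq1
      · exact Subgroup.orderOf_dvd_natCard Q hq
    rw [← hbq, hq', mul_one]
    exact hb

end CfsgLib.Blk83
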