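/-
Landau: the order of a finite group is bounded in terms of its class number.
-/
import Mathlib.GroupTheory.ClassEquation
import Mathlib.GroupTheory.GroupAction.Quotient
import Mathlib.Algebra.Order.BigOperators.Group.Finset
import Mathlib.Algebra.BigOperators.Field
import Mathlib.Data.Rat.Cast.Order
import Mathlib.Data.Nat.Cast.Field
import Mathlib.GroupTheory.Index
import Mathlib.Tactic.Linarith

set_option autoImplicit false

namespace CfsgLib.Blk83

/-- The bound for solutions of `∑ B / nᵢ = A` with at most `k` summands. -/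
def landauBound : ℕ → ℕ → ℕ
  | 0, _ => 0
  | k + 1, B => (Finset.range ((k + 1) * B + 1)).sup fun m => max m (landauBound k (B * m))

theorem le_landauBound {ι : Type*} [DecidableEq ι] (k : ℕ) :
    ∀ (B : ℕ) (s : Finset ι) (n : ι → ℕ), 0 < B → s.card ≤ k → (∀ i ∈ s, 0 < n i) →
      (∃ A : ℕ, ∑ i ∈ s, (B : ℚ) / n i = A) → ∀ i ∈ s, n i ≤ landauBound k B := by
  induction k with
  | zero =>
    intro B s n _ hs _ _ i hi
    rw [Nat.le_zero, Finset.card_eq_zero] at hs
    subst hs
    exact absurd hi (Finset.notMem_empty i)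
  | succ k ih =>
    intro B s n hB hs hn ⟨A, hA⟩ i hi
    obtain ⟨j, hj, hmin⟩ := s.exists_min_image n ⟨i, hi⟩
    set m := n j with hm
    have hm0 : (0 : ℚ) < m := by exact_mod_cast hn j hj
    have hB' : (0 : ℚ) < B := by exact_mod_cast hB
    have hApos : (0 : ℚ) < A := by
      rw [← hA]
      exact Finset.sum_pos (fun l hl => div_pos hB' (by exact_mod_cast hn l hl)) ⟨i, hi⟩
    have hA1 : (1 : ℚ) ≤ A := by exact_mod_cast (Nat.one_le_iff_ne_zero.mpr (by exact_mod_cast hApos.ne'))
    have hle : (A : ℚ) ≤ ((k + 1 : ℕ) : ℚ) * ((B : ℚ) / m) := by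
      rw [← hA]
      refine (Finset.sum_le_card_nsmul s _ ((B : ℚ) / m) fun l hl => ?_).trans ?_
      · exact div_le_div_of_nonneg_left hB'.le hm0 (by exact_mod_cast hmin l hl)
      · rw [nsmul_eq_mul]
        exact mul_le_mul_of_nonneg_right (by exact_mod_cast hs) (div_nonneg hB'.le hm0.le)
    have hmB : m ≤ (k + 1) * B := by
      have h1 : (m : ℚ) ≤ ((k + 1 : ℕ) : ℚ) * B := by
        rw [← mul_div_assoc, le_div_iff₀ hm0] at hle
        nlinarith
      exact_mod_cast h1
    refine le_trans ?_ (Finset.le_sup (f := fun m => max m (landauBound k (B * m)))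
      (Finset.mem_range.mpr (Nat.lt_succ_of_le hmB)))
    rcases eq_or_ne i j with rfl | hij
    · exact le_max_left _ _
    · refine le_trans ?_ (le_max_right _ _)
      refine ih (B * m) (s.erase j) n (Nat.mul_pos hB (hn j hj)) ?_
        (fun l hl => hn l (Finset.mem_of_mem_erase hl)) ?_ i (Finset.mem_erase.mpr ⟨hij, hi⟩)
      · rw [Finset.card_erase_of_mem hj]; omega
      · have hsum : ∑ l ∈ s.erase j, ((B * m : ℕ) : ℚ) / n l = (A : ℚ) * m - B := by
          have h1 := Finset.add_sum_erase s (fun l => (B : ℚ) / n l) hj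
          rw [hA] at h1
          rw [← h1, add_mul, div_mul_cancel₀ _ hm0.ne', add_sub_cancel_left, Finset.sum_mul]
          exact Finset.sum_congr rfl fun l _ => by push_cast; ring
        have hnn : B ≤ A * m := by
          have h2 : (0 : ℚ) ≤ (A : ℚ) * m - B := hsum ▸ Finset.sum_nonneg fun l _ => div_nonneg (Nat.cast_nonneg _) (Nat.cast_nonneg _)
          have h3 : (B : ℚ) ≤ ((A * m : ℕ) : ℚ) := by push_cast; linarith
          exact_mod_cast h3
        exact ⟨A * m - B, by rw [hsum, Nat.cast_sub hnn]; push_cast; ring⟩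

/-- Landau's theorem. -/
theorem card_le_landauBound {G : Type*} [Group G] [Finite G] (k : ℕ) (hk : Nat.card (ConjClasses G) ≤ k) :
    Nat.card G ≤ landauBound k 1 := by
  classical
  have := Fintype.ofFinite G
  have := Fintype.ofFinite (ConjClasses G)
  let n : ConjClasses G → ℕ := fun c => Nat.card G / Nat.card c.carrier
  have hdiv : ∀ c : ConjClasses G, Nat.card c.carrier ∣ Nat.card G := by
    intro c
    obtain ⟨g, rfl⟩ := ConjClasses.mk_surjective c
    rw [← ConjAct.orbit_eq_carrier_conjClasses, Nat.card_coe_set_eq, ← MulAction.index_stabilizer, Nat.card_congr ConjAct.toConjAct.toEquiv]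
    exact Subgroup.index_dvd_card _
  have hpos : ∀ c : ConjClasses G, 0 < Nat.card c.carrier := by
    intro c
    obtain ⟨g, rfl⟩ := ConjClasses.mk_surjective c
    exact Nat.pos_of_ne_zero (Nat.card_ne_zero.mpr ⟨⟨⟨g, ConjClasses.mem_carrier_mk⟩⟩, inferInstance⟩)
  have hn : ∀ c, 0 < n c := fun c =>
    Nat.div_pos (Nat.le_of_dvd Nat.card_pos (hdiv c)) (hpos c)
  have hsum : ∑ c : ConjClasses G, ((1 : ℕ) : ℚ) / n c = ((1 : ℕ) : ℚ) := by
    have h0 : (Nat.card G : ℚ) ≠ 0 := by exact_mod_cast (Nat.card_pos (α := G)).ne'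
    have h1 : ∀ c : ConjClasses G, ((1 : ℕ) : ℚ) / n c = (Nat.card c.carrier : ℚ) / Nat.card G := by
      intro c
      rw [Nat.cast_div (hdiv c) (by exact_mod_cast (hpos c).ne'), Nat.cast_one, one_div_div]
    rw [Finset.sum_congr rfl (fun c _ => h1 c), ← Finset.sum_div, div_eq_iff h0, Nat.cast_one, one_mul]
    rw [← Nat.cast_sum]
    congr 1
    rw [Nat.card_eq_fintype_card, ← sum_conjClasses_card_eq_card G]
    exact Finset.sum_congr rfl fun c _ => by rw [Nat.card_eq_fintype_card, Set.toFinset_card]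
  have h := le_landauBound k 1 Finset.univ n Nat.one_pos
    (by rw [Finset.card_univ, ← Nat.card_eq_fintype_card]; exact hk) (fun c _ => hn c) ⟨1, hsum⟩
    (ConjClasses.mk 1) (Finset.mem_univ _)
  have h1 : n (ConjClasses.mk 1) = Nat.card G := by
    have : (ConjClasses.mk (1 : G)).carrier = {1} := by
      ext x
      simp [ConjClasses.mem_carrier_iff_mk_eq, ConjClasses.mk_eq_mk_iff_isConj]
    simp [n, this]
  exact h1 ▸ h

end CfsgLib.Blk83
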