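import Mathlib
import Cfsg.Prelude.Def_Characters

/-!
Fixed points of a finite group on matrices, through an integral form: if a subgroup containing
the normalizer of a trivial-intersection Sylow subgroup is given and the degree squared is at
most the Sylow order, the commutant of the subgroup is the commutant of the group.
-/

set_option autoImplicit false

namespace CfsgLib.Blk83.Lattice

/-- A valuation subring of `ℂ` in which `p` is not a unit. -/
theorem exists_valuation (p : ℕ) [Fact p.Prime] :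
    ∃ A : ValuationSubring ℂ, (p : ℂ) ∈ A.nonunits := by
  let R : Subring ℂ := (Int.castRingHom ℂ).range
  let q : R := ⟨(p : ℂ), (p : ℤ), by simp⟩
  have hne : Ideal.span ({q} : Set R) ≠ ⊤ := by
    intro h
    rw [Ideal.span_singleton_eq_top] at h
    obtain ⟨⟨y, z, hz⟩, hy⟩ := h.exists_right_inv
    have h1 : (p : ℂ) * (z : ℂ) = 1 := by
      have := congrArg Subtype.val hy
      simp only [Subring.coe_mul, Subring.coe_one] at this
      rw [← this, ← hz]
      simp [q]
    have h2 : (p : ℤ) * z = 1 := by exact_mod_cast h1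
    have h3 : p ∣ 1 := Int.natCast_dvd_natCast.mp (⟨z, by simpa using h2.symm⟩ : (p : ℤ) ∣ ((1 : ℕ) : ℤ))
    exact (Fact.out : p.Prime).not_dvd_one h3
  obtain ⟨B, -, hB⟩ := Ideal.image_subset_nonunits_valuationSubring _ hne
  exact ⟨B, hB ⟨q, Ideal.mem_span_singleton_self q, rfl⟩⟩

/-- A representation has a basis in which all matrices are integral. -/
theorem exists_integral_basis {G : Type*} [Group G] [Finite G] (A : ValuationSubring ℂ) {n : ℕ}
    (ρ : Representation ℂ G (Fin n → ℂ)) :
    ∃ (m : ℕ) (b : Module.Basis (Fin m) ℂ (Fin n → ℂ)),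
      ∀ g i j, LinearMap.toMatrix b b (ρ g) i j ∈ A := by
  classical
  haveI := Fintype.ofFinite G
  let S : Set (Fin n → ℂ) := Set.range fun x : G × Fin n => ρ x.1 (Pi.single x.2 1)
  have hex : ∃ m : ℕ, ∃ f : Fin m → Fin n → ℂ, Set.range f ⊆ S ∧ S ⊆ Submodule.span A (Set.range f) := by
    refine ⟨Fintype.card (G × Fin n), fun i => ρ ((Fintype.equivFin (G × Fin n)).symm i).1
      (Pi.single ((Fintype.equivFin (G × Fin n)).symm i).2 1), ?_, ?_⟩
    · rintro _ ⟨i, rfl⟩
      exact ⟨_, rfl⟩
    · rintro _ ⟨x, rfl⟩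
      exact Submodule.subset_span ⟨Fintype.equivFin (G × Fin n) x, by simp⟩
  obtain ⟨f, hfS, hSf⟩ := Nat.find_spec hex
  have hmin : ∀ m', m' < Nat.find hex → ¬ ∃ f : Fin m' → Fin n → ℂ,
      Set.range f ⊆ S ∧ S ⊆ Submodule.span A (Set.range f) := fun m' h => Nat.find_min hex h
  generalize Nat.find hex = m at f hfS hSf hmin
  have hind : LinearIndependent ℂ f := by
    rw [Fintype.linearIndependent_iff]
    intro c hc
    by_contra hne
    push Not at hne
    obtain ⟨i₀, hi₀⟩ := hne
    obtain ⟨j, -, hj⟩ := Finset.exists_max_image Finset.univ (fun i => A.valuation (c i))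
      ⟨i₀, Finset.mem_univ _⟩
    have hj0 : c j ≠ 0 := fun h => hi₀ (by
      have h1 := hj i₀ (Finset.mem_univ _)
      rw [h, map_zero, le_zero_iff, map_eq_zero] at h1
      exact h1)
    have hmem : ∀ i, c i / c j ∈ A := fun i => by
      rw [← A.valuation_le_one_iff, map_div₀]
      exact div_le_one_of_le₀ (hj i (Finset.mem_univ _)) zero_le
    obtain ⟨m', hm'⟩ : ∃ m', m = m' + 1 := ⟨m - 1, by have := j.isLt; omega⟩
    refine hmin m' (by omega)
      ⟨fun i => f (Fin.cast hm'.symm ((Fin.cast hm' j).succAbove i)), ?_, ?_⟩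
    · rintro _ ⟨i, rfl⟩
      exact hfS ⟨_, rfl⟩
    · refine hSf.trans ?_
      rw [SetLike.coe_subset_coe, Submodule.span_le]
      rintro _ ⟨i, rfl⟩
      have hother : ∀ i, i ≠ j → f i ∈ Submodule.span A (Set.range fun i =>
          f (Fin.cast hm'.symm ((Fin.cast hm' j).succAbove i))) := by
        intro i hij
        obtain ⟨k, hk⟩ := Fin.exists_succAbove_eq (x := Fin.cast hm' i) (y := Fin.cast hm' j)
          (fun e => hij (Fin.cast_injective _ e))
        exact Submodule.subset_span ⟨k, by simp [hk]⟩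
      rcases eq_or_ne i j with rfl | hij
      · have h1 : f i = -∑ k ∈ Finset.univ.erase i, (⟨c k / c i, hmem k⟩ : A) • f k := by
          rw [← Finset.add_sum_erase _ _ (Finset.mem_univ i)] at hc
          have h2 : f i = -((c i)⁻¹ • ∑ k ∈ Finset.univ.erase i, c k • f k) := by
            rw [← smul_neg, ← eq_neg_of_add_eq_zero_left hc, inv_smul_smul₀ hj0]
          refine h2.trans (congrArg Neg.neg ?_)
          rw [Finset.smul_sum]
          refine Finset.sum_congr rfl fun k _ => ?_
          rw [smul_smul, inv_mul_eq_div]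
          rfl
        rw [SetLike.mem_coe, h1]
        exact Submodule.neg_mem _ (Submodule.sum_mem _ fun k hk =>
          Submodule.smul_mem _ _ (hother k (Finset.ne_of_mem_erase hk)))
      · exact hother i hij
  have hspan : ⊤ ≤ Submodule.span ℂ (Set.range f) := by
    rw [← (Pi.basisFun ℂ (Fin n)).span_eq, Submodule.span_le]
    rintro _ ⟨i, rfl⟩
    refine Submodule.span_le_restrictScalars A ℂ _ (hSf ⟨(1, i), ?_⟩)
    simp
  refine ⟨m, Module.Basis.mk hind hspan, fun g i j => ?_⟩
  rw [LinearMap.toMatrix_apply, Module.Basis.mk_apply]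
  have hgf : ρ g (f j) ∈ Submodule.span A (Set.range f) := by
    obtain ⟨x, hx⟩ := hfS ⟨j, rfl⟩
    refine hSf ⟨(g * x.1, x.2), ?_⟩
    show ρ (g * x.1) _ = _
    rw [← hx, map_mul]
    rfl
  obtain ⟨c, hc⟩ := (Submodule.mem_span_range_iff_exists_fun A).mp hgf
  rw [← hc]
  simp only [map_sum, Finsupp.finsetSum_apply]
  refine A.toSubring.sum_mem fun k _ => ?_
  rw [show (c k : A) • f k = (c k : ℂ) • Module.Basis.mk hind hspan k by
    rw [Module.Basis.mk_apply]; rfl]
  rw [map_smul, Module.Basis.repr_self, Finsupp.smul_apply, Finsupp.single_apply]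
  split
  · simp
  · simp

section Fixed

variable {k : Type*} [Field k] {p : ℕ} [Fact p.Prime] [CharP k p] {P : Type*} [Group P] [Finite P]

/-- A `p`-group acting linearly in characteristic `p` fixes a nonzero vector of any nonzero
invariant subspace. -/
theorem exists_fixed {V : Type*} [AddCommGroup V] [Module k V] (hP : IsPGroup p P)
    (L : P →* Module.End k V) (W : Submodule k V) (hW : ∀ u, ∀ w ∈ W, L u w ∈ W) {v : V}
    (hv : v ∈ W) (hv0 : v ≠ 0) : ∃ w ∈ W, w ≠ 0 ∧ ∀ u, L u w = w := by
  classical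
  let S : Set V := Set.range fun u => L u v
  haveI : Finite S := Set.finite_range _
  let Y : AddSubgroup V := AddSubgroup.closure S
  haveI : AddGroup.FG Y := AddGroup.closure_finite_fg S
  have hpV : ∀ x : V, p • x = 0 := fun x => by
    rw [← Nat.cast_smul_eq_nsmul k, CharP.cast_eq_zero, zero_smul]
  haveI : Finite Y := AddCommGroup.finite_of_fg_torsion Y fun y =>
    isOfFinAddOrder_iff_nsmul_eq_zero.mpr ⟨p, (Fact.out : p.Prime).pos, Subtype.ext (hpV y)⟩
  have hYmem : ∀ u, ∀ y ∈ Y, L u y ∈ Y := fun u y hy => by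
    induction hy using AddSubgroup.closure_induction with
    | mem x hx =>
      obtain ⟨u', rfl⟩ := hx
      exact AddSubgroup.subset_closure ⟨u * u', by simp [map_mul]⟩
    | zero => rw [map_zero]; exact Y.zero_mem
    | add x y _ _ hx hy => rw [map_add]; exact Y.add_mem hx hy
    | neg x _ hx => rw [map_neg]; exact Y.neg_mem hx
  letI : MulAction P Y :=
    { smul := fun u y => ⟨L u y, hYmem u y y.2⟩
      one_smul := fun y => Subtype.ext (show L 1 y = y by rw [map_one]; rfl)
      mul_smul := fun u u' y => Subtype.ext (show L (u * u') y = L u (L u' y) by rw [map_mul]; rfl) }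
  have hvY : v ∈ Y := AddSubgroup.subset_closure ⟨1, by simp⟩
  have hdvd : p ∣ Nat.card Y := by
    have h1 := addOrderOf_dvd_natCard (⟨v, hvY⟩ : Y)
    rwa [addOrderOf_eq_prime (Subtype.ext (hpV v)) (fun e => hv0 (congrArg Subtype.val e))] at h1
  obtain ⟨b, hb, hb0⟩ := hP.exists_fixed_point_of_prime_dvd_card_of_fixed_point Y hdvd
    (a := (0 : Y)) fun u => Subtype.ext (show L u 0 = 0 from map_zero _)
  refine ⟨b, ?_, fun e => hb0 (Subtype.ext e.symm), fun u => congrArg Subtype.val (hb u)⟩
  have hYW : Y ≤ W.toAddSubgroup := (AddSubgroup.closure_le _).mpr (by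
    rintro _ ⟨u, rfl⟩; exact hW u v hv)
  exact hYW b.2

/-- A module of dimension at most the group order is killed by the trace or is free of rank one. -/
theorem trace_eq_zero_or {V : Type*} [AddCommGroup V] [Module k V] [FiniteDimensional k V]
    [Fintype P] (hP : IsPGroup p P) (L : P →* Module.End k V)
    (hdim : Module.finrank k V ≤ Fintype.card P) :
    (∀ v, ∑ u : P, L u v = 0) ∨ (Module.finrank k V = Fintype.card P ∧
      ∃ t : V, ∀ w, (∀ u, L u w = w) → ∃ c : k, w = c • t) := by
  classical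
  rw [or_iff_not_imp_left]
  intro hne
  push Not at hne
  obtain ⟨v, hv⟩ := hne
  let W : Submodule k (P → k) := LinearMap.ker (Fintype.linearCombination k fun u => L u v)
  have hind : LinearIndependent k fun u => L u v := by
    rw [Fintype.linearIndependent_iff]
    intro a ha
    by_contra hne'
    push Not at hne'
    obtain ⟨i, hi⟩ := hne'
    let Ls : P →* Module.End k (P → k) :=
      { toFun := fun x => LinearMap.funLeft k k fun u => x⁻¹ * u
        map_one' := by ext; simp [LinearMap.funLeft_apply]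
        map_mul' := fun x y => by
          refine LinearMap.ext fun a => funext fun u => ?_
          simp [LinearMap.funLeft_apply, mul_assoc] }
    obtain ⟨w, hw, hw0, hwf⟩ := exists_fixed hP Ls W (fun x a ha' => by
      simp only [W, LinearMap.mem_ker, Fintype.linearCombination_apply] at ha' ⊢
      rw [← Equiv.sum_comp (Equiv.mulLeft x)]
      calc ∑ u, (Ls x a) (Equiv.mulLeft x u) • L (Equiv.mulLeft x u) v
          = ∑ u, L x (a u • L u v) := Finset.sum_congr rfl fun u _ => by
            simp [Ls, LinearMap.funLeft_apply, map_mul]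
        _ = 0 := by rw [← map_sum, ha', map_zero])
      (v := a) (by simpa [W, Fintype.linearCombination_apply] using ha)
      (fun e => hi (congrFun e i))
    have hconst : ∀ u, w u = w 1 := fun u => by
      have := congrFun (hwf u) u
      simp only [Ls, MonoidHom.coe_mk, OneHom.coe_mk, LinearMap.funLeft_apply, inv_mul_cancel] at this
      exact this.symm
    simp only [W, LinearMap.mem_ker, Fintype.linearCombination_apply] at hw
    rw [Finset.sum_congr rfl fun u _ => by rw [hconst u], ← Finset.smul_sum, smul_eq_zero] at hw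
    exact hw.elim (fun h => hw0 (funext fun u => by rw [hconst, h]; rfl)) hv
  have hcard : Module.finrank k V = Fintype.card P :=
    le_antisymm hdim hind.fintype_card_le_finrank
  haveI : Nonempty P := ⟨1⟩
  refine ⟨hcard, ∑ u, L u v, fun w hw => ?_⟩
  let b := basisOfLinearIndependentOfCardEqFinrank hind hcard.symm
  obtain ⟨a, ha⟩ : ∃ a : P → k, ∑ u, a u • L u v = w :=
    ⟨b.repr w, by simpa [b] using b.sum_repr w⟩
  refine ⟨a 1, ?_⟩
  have hconst : ∀ x, a x = a 1 := by
    intro x
    have h1 : ∑ u, (a (x⁻¹ * u) - a u) • L u v = 0 := by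
      simp only [sub_smul, Finset.sum_sub_distrib, ha]
      rw [sub_eq_zero]
      calc ∑ u, a (x⁻¹ * u) • L u v = ∑ u, a u • L (x * u) v := by
            rw [← Equiv.sum_comp (Equiv.mulLeft x)]; simp
        _ = L x w := by rw [← ha, map_sum]; simp [map_mul]
        _ = w := hw x
    have := Fintype.linearIndependent_iff.mp hind _ h1 x
    rw [inv_mul_cancel, sub_eq_zero] at this
    exact this.symm
  rw [← ha, Finset.smul_sum]
  exact Finset.sum_congr rfl fun u _ => by rw [hconst]

omit [Finite P] in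
/-- Conjugation of matrices by a matrix representation. -/
theorem trace_conj_eq_zero [Fintype P] (hP : IsPGroup p P) {d : ℕ}
    (τ : P →* Matrix (Fin d) (Fin d) k) (hd : d * d ≤ Fintype.card P) (hP1 : 1 < Fintype.card P)
    (X : Matrix (Fin d) (Fin d) k) : ∑ u : P, τ u * X * τ u⁻¹ = 0 := by
  classical
  let L : P →* Module.End k (Matrix (Fin d) (Fin d) k) :=
    { toFun := fun u => (LinearMap.mulLeft k (τ u)).comp (LinearMap.mulRight k (τ u⁻¹))
      map_one' := LinearMap.ext fun X => by simp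
      map_mul' := fun a b => LinearMap.ext fun X => by simp [mul_assoc] }
  have hLa : ∀ u X, L u X = τ u * X * τ u⁻¹ := fun u X => by simp [L, mul_assoc]
  have hdim : Module.finrank k (Matrix (Fin d) (Fin d) k) = d * d := by simp [Module.finrank_matrix]
  rcases trace_eq_zero_or hP L (hdim ▸ hd) with h | ⟨hcard, t, ht⟩
  · simpa only [hLa] using h X
  exfalso
  have hd2 : 2 ≤ d := by
    rw [hdim] at hcard
    by_contra h
    interval_cases d <;> omega
  let L1 : P →* Module.End k (Fin d → k) :=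
    { toFun := fun u => Matrix.mulVecLin (τ u)
      map_one' := by simp; rfl
      map_mul' := fun a b => by simp [Matrix.mulVecLin_mul]; rfl }
  let L2 : P →* Module.End k (Fin d → k) :=
    { toFun := fun u => Matrix.vecMulLinear (τ u⁻¹)
      map_one' := LinearMap.ext fun f => by simp
      map_mul' := fun a b => LinearMap.ext fun f => by simp [Matrix.vecMul_vecMul] }
  haveI : Nonempty (Fin d) := ⟨⟨0, by omega⟩⟩
  obtain ⟨v0, hv0⟩ := exists_ne (0 : Fin d → k)
  obtain ⟨w, -, hw0, hw⟩ := exists_fixed hP L1 ⊤ (fun _ _ _ => trivial) (v := v0) trivial hv0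
  obtain ⟨f, -, hf0, hf⟩ := exists_fixed hP L2 ⊤ (fun _ _ _ => trivial) (v := v0) trivial hv0
  obtain ⟨c1, hc1⟩ := ht 1 fun u => by rw [hLa, mul_one, ← map_mul, mul_inv_cancel, map_one]
  obtain ⟨c2, hc2⟩ := ht (Matrix.vecMulVec w f) fun u => by
    have h1 : Matrix.mulVec (τ u) w = w := hw u
    have h2 : Matrix.vecMul f (τ u⁻¹) = f := hf u
    rw [hLa, Matrix.mul_vecMulVec, Matrix.vecMulVec_mul, h1, h2]
  have hc10 : c1 ≠ 0 := fun e => by
    rw [e, zero_smul] at hc1
    exact one_ne_zero hc1
  set a := c2 * c1⁻¹ with ha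
  have heq : Matrix.vecMulVec w f = a • (1 : Matrix (Fin d) (Fin d) k) := by
    rw [hc2, hc1, smul_smul, ha, mul_assoc, inv_mul_cancel₀ hc10, mul_one]
  have hentry : ∀ i j, w i * f j = if i = j then a else 0 := fun i j => by
    have := congrFun (congrFun heq i) j
    simpa [Matrix.vecMulVec_apply, Matrix.one_apply] using this
  obtain ⟨i, hi⟩ := Function.ne_iff.mp hw0
  obtain ⟨j, hj⟩ := Function.ne_iff.mp hf0
  have hij : i = j := by
    by_contra e
    have := hentry i j
    rw [if_neg e] at this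
    exact mul_ne_zero hi hj this
  subst hij
  haveI : Nontrivial (Fin d) := Fin.nontrivial_iff_two_le.mpr hd2
  obtain ⟨l, hl⟩ := exists_ne i
  have hll := hentry l l
  rw [if_pos rfl] at hll
  have ha0 : a ≠ 0 := by
    have := hentry i i
    rw [if_pos rfl] at this
    rw [← this]
    exact mul_ne_zero hi hj
  have hwl : w l ≠ 0 := fun e => ha0 (by rw [← hll, e, zero_mul])
  have := hentry l i
  rw [if_neg hl] at this
  exact mul_ne_zero hwl hj this

end Fixed

section Cosets

variable {G : Type*} [Group G] [Fintype G] {M : Type*} [AddCommMonoid M]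

/-- A sum over the group of a function constant on cosets. -/
theorem sum_eq_card_nsmul (H : Subgroup G) [Fintype (G ⧸ H)] (F : G ⧸ H → M) :
    ∑ g : G, F g = Nat.card H • ∑ c : G ⧸ H, F c := by
  classical
  rw [← Finset.sum_fiberwise Finset.univ (fun g : G => (g : G ⧸ H)), Finset.smul_sum]
  refine Finset.sum_congr rfl fun c _ => ?_
  rw [Finset.sum_congr rfl fun g hg => by rw [(Finset.mem_filter.mp hg).2], Finset.sum_const]
  congr 1
  obtain ⟨g₀, rfl⟩ := QuotientGroup.mk_surjective c
  rw [← Fintype.card_subtype, ← Nat.card_eq_fintype_card]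
  refine Nat.card_congr
    { toFun := fun g => ⟨g₀⁻¹ * g.1, QuotientGroup.eq.mp g.2.symm⟩
      invFun := fun h => ⟨g₀ * h.1, (QuotientGroup.eq.mpr (by simp)).symm⟩
      left_inv := fun g => Subtype.ext (by simp)
      right_inv := fun h => Subtype.ext (by simp) }

end Cosets

/-- The cosets off the subgroup are moved freely by the Sylow subgroup. -/
theorem free_off_base {G : Type*} [Group G] [Finite G] {p : ℕ} [Fact p.Prime] (P : Sylow p G)
    (hTI : ∀ g : G, g ∉ Subgroup.normalizer ((P : Subgroup G) : Set G) →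
      (P : Subgroup G) ⊓ ((P : Subgroup G).map (MulAut.conj g).toMonoidHom) = ⊥)
    (H : Subgroup G) (hH : Subgroup.normalizer ((P : Subgroup G) : Set G) ≤ H)
    (g u : G) (hu : u ∈ (P : Subgroup G)) (hu1 : u ≠ 1) (hg : g⁻¹ * u * g ∈ H) : g ∈ H := by
  have hPH : (P : Subgroup G) ≤ H := Subgroup.le_normalizer.trans hH
  let P' : Sylow p H := P.subtype hPH
  have hp : IsPGroup p (Subgroup.zpowers (⟨g⁻¹ * u * g, hg⟩ : H)) := by
    obtain ⟨n, hn⟩ := P.isPGroup' ⟨u, hu⟩
    have hn' : u ^ p ^ n = 1 := congrArg Subtype.val hn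
    have h1 : (⟨g⁻¹ * u * g, hg⟩ : H) ^ p ^ n = 1 := Subtype.ext (by
      show (g⁻¹ * u * g) ^ p ^ n = 1
      have := conj_pow (i := p ^ n) (a := g⁻¹) (b := u)
      rw [inv_inv, hn', mul_one, inv_mul_cancel] at this
      exact this)
    obtain ⟨k, -, hk⟩ := (Nat.dvd_prime_pow Fact.out).mp (orderOf_dvd_of_pow_eq_one h1)
    exact IsPGroup.of_card (by rw [Nat.card_zpowers, hk])
  obtain ⟨Q, hQ⟩ := hp.exists_le_sylow
  obtain ⟨h, hh⟩ := MulAction.exists_smul_eq H Q P'
  have h2 : h * ⟨g⁻¹ * u * g, hg⟩ * h⁻¹ ∈ (P' : Subgroup H) := by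
    rw [← hh, Sylow.coe_subgroup_smul, Subgroup.mem_pointwise_smul_iff_inv_smul_mem]
    have := hQ (Subgroup.mem_zpowers (⟨g⁻¹ * u * g, hg⟩ : H))
    simpa [MulAut.smul_def, mul_assoc] using this
  have h3 : (h : G) * (g⁻¹ * u * g) * (h : G)⁻¹ ∈ (P : Subgroup G) := h2
  by_contra hgH
  have hnot : g * (h : G)⁻¹ ∉ Subgroup.normalizer ((P : Subgroup G) : Set G) := fun hN => hgH (by
    have := H.mul_mem (hH hN) h.2
    rwa [inv_mul_cancel_right] at this)
  refine hu1 ((Subgroup.mem_bot).mp ((hTI _ hnot).le ⟨hu, ⟨_, h3, ?_⟩⟩))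
  simp [mul_assoc]

/-- The heart: integral matrices. -/
theorem commute_of_commute {G : Type*} [Group G] [Fintype G] {p : ℕ} [Fact p.Prime]
    (P : Sylow p G) (hTI : ∀ g : G, g ∉ Subgroup.normalizer ((P : Subgroup G) : Set G) →
      (P : Subgroup G) ⊓ ((P : Subgroup G).map (MulAut.conj g).toMonoidHom) = ⊥)
    (H : Subgroup G) (hH : Subgroup.normalizer ((P : Subgroup G) : Set G) ≤ H)
    (hP1 : 1 < Nat.card (P : Subgroup G))
    (A : ValuationSubring ℂ) (hpA : (p : ℂ) ∈ A.nonunits) {d : ℕ}
    (hd : d * d ≤ Nat.card (P : Subgroup G)) (σ : G →* Matrix (Fin d) (Fin d) A)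
    (X : Matrix (Fin d) (Fin d) ℂ)
    (hX : ∀ h ∈ H, (σ h).map A.subtype * X = X * (σ h).map A.subtype) :
    ∀ g, (σ g).map A.subtype * X = X * (σ g).map A.subtype := by
  classical
  haveI := Fintype.ofFinite (G ⧸ H)
  haveI := Fintype.ofFinite (P : Subgroup G)
  let mC : Matrix (Fin d) (Fin d) A →+* Matrix (Fin d) (Fin d) ℂ := A.subtype.mapMatrix
  let cj : G → Matrix (Fin d) (Fin d) ℂ →ₗ[ℂ] Matrix (Fin d) (Fin d) ℂ := fun g =>
    (LinearMap.mulLeft ℂ (mC (σ g))).comp (LinearMap.mulRight ℂ (mC (σ g⁻¹)))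
  have hcj : ∀ g Y, cj g Y = mC (σ g) * Y * mC (σ g⁻¹) := fun g Y => by simp [cj, mul_assoc]
  have hcjm : ∀ g g' Y, cj (g * g') Y = cj g (cj g' Y) := fun g g' Y => by
    simp only [hcj, mul_inv_rev, map_mul, mul_assoc]
  have hfix : ∀ g Y, cj g Y = Y ↔ mC (σ g) * Y = Y * mC (σ g) := fun g Y => by
    have h1 : mC (σ g⁻¹) * mC (σ g) = 1 := by rw [← map_mul, ← map_mul]; simp
    have h2 : mC (σ g) * mC (σ g⁻¹) = 1 := by rw [← map_mul, ← map_mul]; simp
    rw [hcj]
    constructor
    · intro e
      conv_rhs => rw [← e]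
      rw [mul_assoc _ (mC (σ g⁻¹)), h1, mul_one]
    · intro e
      rw [e, mul_assoc, h2, mul_one]
  set Z : Matrix (Fin d) (Fin d) ℂ := (Nat.card G : ℂ)⁻¹ • ∑ g : G, cj g X with hZdef
  have hZfix : ∀ g, cj g Z = Z := fun g => by
    rw [hZdef, map_smul, map_sum]
    congr 1
    exact Fintype.sum_equiv (Equiv.mulLeft g) _ _ fun x => (hcjm g x X).symm
  suffices hYz : X - Z = 0 by
    intro g
    rw [sub_eq_zero.mp hYz]
    exact (hfix g Z).mp (hZfix g)
  set Y := X - Z with hYdef
  have hYH : ∀ h ∈ H, cj h Y = Y := fun h hh => by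
    rw [hYdef, map_sub, (hfix h X).mpr (hX h hh), hZfix]
  have hYsum : ∑ g : G, cj g Y = 0 := by
    simp only [hYdef, map_sub, Finset.sum_sub_distrib, hZfix, Finset.sum_const, Finset.card_univ]
    rw [sub_eq_zero, hZdef, ← Nat.cast_smul_eq_nsmul ℂ, smul_smul, ← Nat.card_eq_fintype_card,
      mul_inv_cancel₀ (Nat.cast_ne_zero.mpr Nat.card_pos.ne'), one_smul]
  by_contra hY0
  obtain ⟨i₀, j₀, hij⟩ : ∃ i j, Y i j ≠ 0 := by
    by_contra h
    push Not at h
    exact hY0 (Matrix.ext h)
  obtain ⟨q, -, hq⟩ := Finset.exists_max_image Finset.univ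
    (fun q : Fin d × Fin d => A.valuation (Y q.1 q.2)) ⟨(i₀, j₀), Finset.mem_univ _⟩
  set e := Y q.1 q.2 with he
  have he0 : e ≠ 0 := fun h => hij (by
    have h1 := hq (i₀, j₀) (Finset.mem_univ _)
    rw [h, map_zero, le_zero_iff, map_eq_zero] at h1
    exact h1)
  let Y' : Matrix (Fin d) (Fin d) A := fun i j => ⟨Y i j / e, by
    rw [← A.valuation_le_one_iff, map_div₀]
    exact div_le_one_of_le₀ (hq (i, j) (Finset.mem_univ _)) zero_le⟩
  have hY'eq : mC Y' = e⁻¹ • Y := Matrix.ext fun i j => by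
    show Y i j / e = e⁻¹ * Y i j
    rw [div_eq_inv_mul]
  have hmCinj : Function.Injective mC := Matrix.map_injective Subtype.val_injective
  -- the action on integral matrices
  let cA : G → Matrix (Fin d) (Fin d) A → Matrix (Fin d) (Fin d) A := fun g W => σ g * W * σ g⁻¹
  have hcA : ∀ g W, mC (cA g W) = cj g (mC W) := fun g W => by simp [cA, hcj]
  have hAH : ∀ h ∈ H, cA h Y' = Y' := fun h hh => hmCinj (by
    rw [hcA, hY'eq, map_smul, hYH h hh])
  let F : G ⧸ H → Matrix (Fin d) (Fin d) A := fun c => cA c.out Y'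
  have hF : ∀ g : G, F (g : G ⧸ H) = cA g Y' := fun g => by
    obtain ⟨h, hh⟩ := QuotientGroup.mk_out_eq_mul H g
    show cA (Quotient.out _) Y' = _
    rw [hh]
    calc cA (g * h) Y' = cA g (cA h Y') := by simp [cA, mul_assoc]
      _ = cA g Y' := by rw [hAH _ h.2]
  have hFsum : ∑ c : G ⧸ H, F c = 0 := by
    have h1 : Nat.card H • ∑ c : G ⧸ H, F c = 0 := by
      rw [← sum_eq_card_nsmul H F]
      apply hmCinj
      rw [map_sum, map_zero]
      simp only [hF, hcA, hY'eq, map_smul, ← Finset.smul_sum, hYsum, smul_zero]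
    have h2 := congrArg mC h1
    rw [map_nsmul, map_zero, ← Nat.cast_smul_eq_nsmul ℂ, smul_eq_zero] at h2
    exact hmCinj ((h2.resolve_left (Nat.cast_ne_zero.mpr Nat.card_pos.ne')).trans (map_zero _).symm)
  -- reduce
  haveI : CharP (IsLocalRing.ResidueField A) p := (CharP.charP_iff_prime_eq_zero Fact.out).mpr (by
    rw [← map_natCast (IsLocalRing.residue A), IsLocalRing.residue_eq_zero_iff,
      ← ValuationSubring.coe_mem_nonunits_iff]
    simpa using hpA)
  let mk : Matrix (Fin d) (Fin d) A →+* Matrix (Fin d) (Fin d) (IsLocalRing.ResidueField A) :=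
    (IsLocalRing.residue A).mapMatrix
  let τ : (P : Subgroup G) →* Matrix (Fin d) (Fin d) (IsLocalRing.ResidueField A) :=
    (mk.toMonoidHom.comp σ).comp (P : Subgroup G).subtype
  have hcPF : ∀ (u : (P : Subgroup G)) c, mk (F (u • c)) = τ u * mk (F c) * τ u⁻¹ := fun u c => by
    obtain ⟨g, rfl⟩ := QuotientGroup.mk_surjective c
    show mk (F (((u : G) * g : G) : G ⧸ H)) = _
    rw [hF, hF]
    simp [cA, τ, mul_assoc]
  -- the cosets off the base fall into regular orbits
  set base : G ⧸ H := ((1 : G) : G ⧸ H) with hbase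
  have hbfix : ∀ u : (P : Subgroup G), u • base = base := fun u => by
    show (((u : G) * 1 : G) : G ⧸ H) = ((1 : G) : G ⧸ H)
    rw [QuotientGroup.eq]
    simpa using H.inv_mem ((Subgroup.le_normalizer.trans hH) u.2)
  have hfree : ∀ c, c ≠ base → Function.Injective fun u : (P : Subgroup G) => u • c := by
    intro c hc u u' huu
    obtain ⟨g, rfl⟩ := QuotientGroup.mk_surjective c
    by_contra hne
    have h1 : (u⁻¹ * u') • (g : G ⧸ H) = (g : G ⧸ H) := by
      rw [mul_smul, ← show u • (g : G ⧸ H) = u' • (g : G ⧸ H) from huu, inv_smul_smul]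
    replace h1 : ((((u⁻¹ * u' : (P : Subgroup G)) : G) * g : G) : G ⧸ H) = g := h1
    rw [eq_comm, QuotientGroup.eq, ← mul_assoc] at h1
    refine hc ((QuotientGroup.eq).mpr ?_)
    rw [mul_one]
    exact H.inv_mem (free_off_base P hTI H hH g _ (u⁻¹ * u').2
      (fun e => hne (inv_mul_eq_one.mp (Subtype.ext e))) h1)
  have hrest : ∑ c ∈ Finset.univ.erase base, mk (F c) = 0 := by
    let orb := fun c : G ⧸ H => (Finset.univ : Finset (P : Subgroup G)).image fun u => u • c
    rw [← Finset.sum_fiberwise_of_maps_to (g := orb) (t := (Finset.univ.erase base).image orb)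
      fun c hc => Finset.mem_image_of_mem _ hc]
    refine Finset.sum_eq_zero fun o ho => ?_
    obtain ⟨c, hc, rfl⟩ := Finset.mem_image.mp ho
    have hne := Finset.ne_of_mem_erase hc
    rw [show (Finset.univ.erase base).filter (fun x => orb x = orb c) = orb c from ?_]
    · rw [Finset.sum_image fun a _ b _ h => hfree c hne h]
      simp only [hcPF]
      exact trace_conj_eq_zero P.isPGroup' τ (by rwa [← Nat.card_eq_fintype_card])
        (by rwa [← Nat.card_eq_fintype_card]) _
    · ext x
      simp only [Finset.mem_filter, Finset.mem_erase, Finset.mem_univ, and_true]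
      constructor
      · rintro ⟨-, hx⟩
        rw [← hx]
        exact Finset.mem_image.mpr ⟨1, Finset.mem_univ _, one_smul _ _⟩
      · intro hx
        obtain ⟨u, -, rfl⟩ := Finset.mem_image.mp hx
        refine ⟨fun h => hne ((MulAction.injective u) (h.trans (hbfix u).symm)), ?_⟩
        ext y
        simp only [orb, Finset.mem_image, Finset.mem_univ, true_and]
        exact ⟨fun ⟨v, hv⟩ => ⟨v * u, by rw [mul_smul, hv]⟩,
          fun ⟨v, hv⟩ => ⟨v * u⁻¹, by rw [mul_smul, inv_smul_smul, hv]⟩⟩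
  have hred : mk Y' = 0 := by
    have h1 := congrArg mk hFsum
    rw [map_sum, ← Finset.add_sum_erase _ _ (Finset.mem_univ base), hrest, add_zero, map_zero,
      hbase, hF] at h1
    rw [hAH 1 H.one_mem] at h1
    exact h1
  have h1 : Y' q.1 q.2 = 1 := Subtype.ext (div_self he0)
  have h2 := congrFun (congrFun hred q.1) q.2
  rw [show mk Y' q.1 q.2 = IsLocalRing.residue A (Y' q.1 q.2) from rfl, h1, map_one] at h2
  exact one_ne_zero h2

end CfsgLib.Blk83.Lattice
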