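import Cfsg.Agent.Lib.CharDeep.Induction
import Cfsg.Agent.Lib.Char.Induced
import Cfsg.Agent.Lib.BlockReg.Basic
import Cfsg.Agent.Lib.Blk83.PrincipalBound

/-!
The sum of an irreducible character over the `p`-elements is divisible by the `p`-part of the order.
-/

set_option autoImplicit false
open Cfsg

namespace CfsgLib.Blk83

universe u

variable {G : Type u} [Group G] [Finite G] {p : ℕ} [Fact p.Prime] {M : Ideal Cfsg.AlgInt}

/-- The `p`-elements. -/
noncomputable def pEls [Fintype G] (p : ℕ) : Finset G :=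
  letI : DecidablePred fun g : G => ∃ j : ℕ, orderOf g = p ^ j := Classical.decPred _
  Finset.univ.filter fun g : G => ∃ j : ℕ, orderOf g = p ^ j

theorem mem_pEls [Fintype G] {g : G} : g ∈ pEls p ↔ ∃ j : ℕ, orderOf g = p ^ j := by
  classical
  simp [pEls]

/-- In a `p`-elementary group the `p`-elements form the Sylow subgroup. -/
theorem exists_pEl_subgroup {E : Type*} [Group E] [Finite E] (hE : Cfsg.IsElementary p E) :
    ∃ S : Subgroup E, Nat.card S = p ^ (Nat.card E).factorization p ∧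
      ∀ e : E, (∃ j : ℕ, orderOf e = p ^ j) ↔ e ∈ S := by
  have hp : p.Prime := Fact.out
  obtain ⟨x, hx, hcop, k, hk⟩ := hE
  obtain ⟨P⟩ := (inferInstance : Nonempty (Sylow p E))
  have htop : (P : Subgroup E) ⊔ Subgroup.zpowers x = ⊤ := by
    rw [← Subgroup.index_eq_one]
    have h1 : ((P : Subgroup E) ⊔ Subgroup.zpowers x).index ∣ (P : Subgroup E).index :=
      Subgroup.index_dvd_of_le le_sup_left
    have h2 : ((P : Subgroup E) ⊔ Subgroup.zpowers x).index ∣ p ^ k :=
      hk ▸ Subgroup.index_dvd_of_le le_sup_right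
    obtain ⟨i, -, hi⟩ := (Nat.dvd_prime_pow hp).mp h2
    rcases i with _ | i
    · simpa using hi
    · exfalso
      exact P.not_dvd_index ((dvd_pow_self p i.succ_ne_zero).trans (hi ▸ h1))
  haveI hn : (P : Subgroup E).Normal := by
    rw [← Subgroup.normalizer_eq_top_iff, eq_top_iff, ← htop, sup_le_iff]
    refine ⟨Subgroup.le_normalizer, ?_⟩
    rw [Subgroup.zpowers_le]
    refine Subgroup.centralizer_le_normalizer _ ?_
    rw [Subgroup.mem_centralizer_iff]
    exact fun y _ => Subgroup.mem_center_iff.mp hx y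
  refine ⟨P, P.card_eq_multiplicity, fun e => ⟨fun he => ?_, fun he => ?_⟩⟩
  · obtain ⟨j, hj⟩ := he
    have hQ : IsPGroup p (Subgroup.zpowers e) := IsPGroup.of_card (n := j) (by rw [Nat.card_zpowers, hj])
    have hsup : IsPGroup p (Subgroup.zpowers e ⊔ (P : Subgroup E) : Subgroup E) :=
      hQ.to_sup_of_normal_right P.isPGroup'
    rw [← P.is_maximal' hsup le_sup_right]
    exact Subgroup.mem_sup_left (Subgroup.mem_zpowers e)
  · obtain ⟨j, hj⟩ := IsPGroup.iff_orderOf.mp P.isPGroup' ⟨e, he⟩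
    exact ⟨j, by rw [← hj, Subgroup.orderOf_mk]⟩

/-- `∑ χ(u)` over the `p`-elements `u` is divisible by the `p`-part of `|G|`. -/
theorem sum_pEls_div_memRing [Fintype G] (hM : Cfsg.IsPModular p M) (χ : Cfsg.IrrCharacter G) :
    Cfsg.MemLocalRing M ((∑ u ∈ pEls p, (χ : G → ℂ) u) /
      ((p ^ (Nat.card G).factorization p : ℕ) : ℂ)) := by
  classical
  have hp : p.Prime := Fact.out
  obtain ⟨m, l, hm, hl, heq⟩ := CfsgLib.CharDeep.Ind.brauer_local G p hp
  set pa : ℂ := ((p ^ (Nat.card G).factorization p : ℕ) : ℂ) with hpa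
  set F : G → ℂ := fun g => if ∃ j : ℕ, orderOf g = p ^ j then (χ : G → ℂ) g else 0 with hF
  have hFc : Cfsg.IsClassFunction G F := fun g h => by
    have : orderOf (h * g * h⁻¹) = orderOf g := MulEquiv.orderOf_eq (MulAut.conj h) g
    simp only [hF, this, CfsgLib.Char.IsIrrCharacter.isClassFunction χ.2 g h]
  have hsum : ∑ u ∈ pEls p, (χ : G → ℂ) u = ∑ g, F g := by
    simp only [hF, ← Finset.sum_filter]
    exact Finset.sum_congr (by ext; simp [mem_pEls]) fun _ _ => rfl
  have hterm : ∀ t ∈ l, Cfsg.MemLocalRing M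
      ((∑ g, ((t.2.2 : ℂ) • Cfsg.indFun t.1 t.2.1) g * F g) / pa) := by
    rintro ⟨E, φ, c⟩ ht
    obtain ⟨hE, hφ⟩ := hl _ ht
    dsimp only at hE hφ ⊢
    obtain ⟨S, hS, hmem⟩ := exists_pEl_subgroup hE
    haveI : Fintype S := Fintype.ofFinite S
    have hχE : Cfsg.IsCharacter E (fun e : E => (χ : G → ℂ) e) := by
      obtain ⟨f, n, ρ, hirr, rfl⟩ := χ
      exact ⟨n, ρ.comp E.subtype, rfl⟩
    obtain ⟨n, σ, hσ⟩ := CfsgLib.Char.IsCharacter.mul hφ hχE
    haveI : Invertible (Nat.card S : ℂ) := invertibleOfNonzero (by simp [Nat.card_pos.ne'])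
    set m' := Module.finrank ℂ (Representation.invariants (σ.comp S.subtype : Representation ℂ S (Fin n → ℂ)))
    have havg : ∑ w : S, σ.character (w : E) = (Nat.card S : ℂ) * m' := by
      rw [← Representation.card_inv_mul_sum_char_eq_finrank, ← mul_assoc,
        mul_inv_cancel₀ (by simp [Nat.card_pos.ne']), one_mul]
      rfl
    have hsumE : ∑ e : E, φ e * F e = (Nat.card S : ℂ) * m' := by
      rw [← havg, ← Finset.sum_subtype (Finset.univ.filter fun e : E => e ∈ S) (by simp)
        (fun e => σ.character e), Finset.sum_filter]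
      refine Finset.sum_congr rfl fun e _ => ?_
      have : (∃ j : ℕ, orderOf (e : G) = p ^ j) ↔ e ∈ S := by
        rw [Subgroup.orderOf_coe]; exact hmem e
      simp only [hF, this, hσ, Pi.mul_apply]
      split_ifs <;> simp
    have hval : (∑ g, ((c : ℂ) • Cfsg.indFun E φ) g * F g) / pa =
        (c : ℂ) * (m' : ℂ) * (((Nat.card G * Nat.card S : ℕ) : ℂ) /
          ((Nat.card E * p ^ (Nat.card G).factorization p : ℕ) : ℂ)) := by
      simp only [Pi.smul_apply, smul_eq_mul, mul_assoc, ← Finset.mul_sum]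
      rw [CfsgLib.Char.sum_indFun_mul E φ F hFc, hsumE, hpa]
      push_cast
      ring
    rw [hval]
    refine CfsgLib.BlockReg.memRing_mul hM (CfsgLib.BlockReg.memRing_mul hM
      (CfsgLib.BlockReg.memRing_intCast hM c) (CfsgLib.BlockReg.memRing_natCast hM _))
      (CfsgLib.BlockReg.natCast_div_memRing hM (mul_ne_zero Nat.card_pos.ne' (pow_ne_zero _ hp.ne_zero))
        (Or.inr ?_))
    rw [Nat.factorization_mul Nat.card_pos.ne' Nat.card_pos.ne',
      Nat.factorization_mul Nat.card_pos.ne' (pow_ne_zero _ hp.ne_zero), Finsupp.add_apply,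
      Finsupp.add_apply, hS, hp.factorization_pow, hp.factorization_pow, Finsupp.single_eq_same,
      Finsupp.single_eq_same]
    omega
  have hmul : Cfsg.MemLocalRing M ((m : ℂ) * ((∑ u ∈ pEls p, (χ : G → ℂ) u) / pa)) := by
    have h1 : (m : ℂ) * ((∑ u ∈ pEls p, (χ : G → ℂ) u) / pa) =
        (l.map fun t => (∑ g, ((t.2.2 : ℂ) • Cfsg.indFun t.1 t.2.1) g * F g) / pa).sum := by
      rw [hsum, ← mul_div_assoc, Finset.mul_sum]
      have : ∀ g, (m : ℂ) * F g = (l.map fun t => (t.2.2 : ℂ) • Cfsg.indFun t.1 t.2.1).sum g * F g :=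
        fun g => by rw [← heq]
      simp only [this]
      clear heq hterm hl this
      induction l with
      | nil => simp
      | cons t l ih =>
        simp only [List.map_cons, List.sum_cons, Pi.add_apply, add_mul, Finset.sum_add_distrib,
          add_div, ih]
    rw [h1]
    clear h1 heq hl
    induction l with
    | nil => simpa using CfsgLib.BlockReg.memRing_zero hM
    | cons t l ih =>
      rw [List.map_cons, List.sum_cons]
      exact CfsgLib.BlockReg.memRing_add hM (hterm t (List.mem_cons_self ..))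
        (ih fun s hs => hterm s (List.mem_cons_of_mem _ hs))
  have hm0 : (m : ℂ) ≠ 0 := by
    rw [Int.cast_ne_zero]
    rintro rfl
    exact hm (dvd_zero _)
  have h2 : ¬ Cfsg.MemLocalIdeal M (m : ℂ) := fun h =>
    hm ((CfsgLib.BlockReg.memIdeal_intCast_iff hM m).mp h)
  have h3 := CfsgLib.BlockReg.memRing_mul hM
    (CfsgLib.BlockReg.memRing_inv hM (CfsgLib.BlockReg.memRing_intCast hM m) h2) hmul
  rwa [← mul_assoc, inv_mul_cancel₀ hm0, one_mul] at h3

end CfsgLib.Blk83
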