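import Cfsg.Agent.Lib.Blocks.Pairs.InducedIn
import Cfsg.Agent.Lib.Blocks.Pairs.Defect
import Cfsg.Agent.Lib.Blocks.Pairs.Local
import Cfsg.Agent.Lib.Blocks.Pairs.Correspondence
import Cfsg.Agent.Lib.Blocks.EquivDefect
import Cfsg.Agent.Lib.Blocks.Induced
import Cfsg.Agent.Lib.Blocks.Quotient
import Cfsg.Agent.Lib.OddOrder.PiCore

/-!
Brauer pairs whose block contains a normal `π'`-subgroup of the centralizer in its kernel.
-/

set_option autoImplicit false
set_option maxHeartbeats 1000000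
set_option synthInstance.maxHeartbeats 400000

open Cfsg CfsgLib.Blocks CfsgLib.Blocks.Pairs
open scoped Classical

namespace CfsgLib.Blk83.PiKer

universe u

variable {G : Type u} [Group G] [Finite G] {F : Type*} [Field F]

/-- The averaged sum over a subgroup. -/
noncomputable def avgA (K : Subgroup G) : MonoidAlgebra F G :=
  ofFun fun x => if x ∈ K then (Nat.card K : F)⁻¹ else 0

theorem coeff_avgA (K : Subgroup G) (x : G) :
    (avgA K : MonoidAlgebra F G).coeff x = if x ∈ K then (Nat.card K : F)⁻¹ else 0 := by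
  simp [avgA]

theorem suppIn_avgA (K : Subgroup G) : SuppIn K (avgA K : MonoidAlgebra F G) :=
  fun x hx => by simp [coeff_avgA, hx]

theorem conjFixed_avgA {K L : Subgroup G} (hL : L ≤ Subgroup.normalizer (K : Set G)) :
    ConjFixed L (avgA K : MonoidAlgebra F G) := by
  intro u hu x
  rw [coeff_avgA, coeff_avgA]
  exact if_congr (Subgroup.mem_normalizer_iff.mp (hL hu) x).symm rfl rfl

theorem inCenter_avgA {K H : Subgroup G} (hKH : K ≤ H)
    (hH : H ≤ Subgroup.normalizer (K : Set G)) : InCenter H (avgA K : MonoidAlgebra F G) :=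
  ⟨(suppIn_avgA K).mono hKH, conjFixed_avgA hH⟩

theorem avgA_mul {L K : Subgroup G} (hLK : L ≤ K) (hL : (Nat.card L : F) ≠ 0) :
    avgA L * avgA K = (avgA K : MonoidAlgebra F G) := by
  haveI := Fintype.ofFinite G
  ext c
  rw [coeff_mul_group, coeff_avgA]
  have h : ∀ y, (avgA L : MonoidAlgebra F G).coeff y * (avgA K : MonoidAlgebra F G).coeff (y⁻¹ * c)
      = if y ∈ L then (Nat.card L : F)⁻¹ * (if c ∈ K then (Nat.card K : F)⁻¹ else 0) else 0 := by
    intro y
    rw [coeff_avgA, coeff_avgA]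
    by_cases hy : y ∈ L
    · rw [if_pos hy, if_pos hy]
      congr 1
      exact if_congr (K.mul_mem_cancel_left (K.inv_mem (hLK hy))) rfl rfl
    · rw [if_neg hy, if_neg hy, zero_mul]
  rw [Finset.sum_congr rfl fun y _ => h y, ← Finset.sum_filter, Finset.sum_const, nsmul_eq_mul,
    ← Fintype.card_subtype, ← Nat.card_eq_fintype_card, ← mul_assoc]
  rw [show Nat.card {x // x ∈ L} = Nat.card L from rfl, mul_inv_cancel₀ hL, one_mul]

theorem avgA_idem {K : Subgroup G} (hK : (Nat.card K : F) ≠ 0) :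
    avgA K * avgA K = (avgA K : MonoidAlgebra F G) := avgA_mul le_rfl hK

theorem avgA_mul_right {L K : Subgroup G} (hLK : L ≤ K) (hK : K ≤ Subgroup.normalizer (L : Set G))
    (hL : (Nat.card L : F) ≠ 0) : avgA K * avgA L = (avgA K : MonoidAlgebra F G) := by
  rw [mul_comm_of_suppIn (suppIn_avgA K) (conjFixed_avgA hK), avgA_mul hLK hL]

/-- A central idempotent either fixes or kills a block idempotent. -/
theorem mul_eq_of_ne_zero {H : Subgroup G} {e z : MonoidAlgebra F G} (he : IsBlockIdem H e)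
    (hz : InCenter H z) (hzi : z * z = z) (h : z * e ≠ 0) : z * e = e :=
  (he.prim z hz hzi).resolve_right h

theorem conjA_avgA (x : G) (K : Subgroup G) :
    conjA x (avgA K : MonoidAlgebra F G) = avgA (conjSub x K) := by
  ext y
  rw [coeff_conjA, coeff_avgA, coeff_avgA, Subgroup.card_map_of_injective (MulAut.conj x).injective]
  exact if_congr mem_conjSub.symm rfl rfl

section Trunc

variable {p : ℕ} [Fact p.Prime] [CharP F p]

theorem natCast_ne_zero' {n : ℕ} (h : ¬ p ∣ n) : (n : F) ≠ 0 :=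
  fun e => h ((CharP.cast_eq_zero_iff F p n).mp e)

theorem trunc_avgA {P K : Subgroup G} (hP : IsPGroup p P)
    (hPK : P ≤ Subgroup.normalizer (K : Set G)) :
    trunc P (avgA K : MonoidAlgebra F G) = avgA (K ⊓ Subgroup.centralizer (P : Set G)) := by
  letI : MulAction P K :=
    { smul := fun u k => ⟨(u : G) * k * (u : G)⁻¹, (Subgroup.mem_normalizer_iff.mp (hPK u.2) k).mp k.2⟩
      one_smul := fun k => Subtype.ext (by show ((1 : P) : G) * k * ((1 : P) : G)⁻¹ = k; simp)
      mul_smul := fun u v k => Subtype.ext (by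
        show ((u * v : P) : G) * k * ((u * v : P) : G)⁻¹ = u * (v * k * (v : G)⁻¹) * (u : G)⁻¹
        simp [mul_assoc]) }
  have hfix : ∀ k : K, k ∈ MulAction.fixedPoints P K ↔ (k : G) ∈ Subgroup.centralizer (P : Set G) := by
    intro k
    rw [Subgroup.mem_centralizer_iff]
    constructor
    · intro h u hu
      exact mul_inv_eq_iff_eq_mul.mp (congrArg Subtype.val (h ⟨u, hu⟩))
    · intro h u
      exact Subtype.ext (mul_inv_eq_iff_eq_mul.mpr (h u u.2))
  have hcard : (Nat.card (MulAction.fixedPoints P K) : F) = (Nat.card K : F) := by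
    rw [CharP.natCast_eq_natCast F p]
    exact (hP.card_modEq_card_fixedPoints K).symm
  have he : Nat.card (MulAction.fixedPoints P K) =
      Nat.card ↥(K ⊓ Subgroup.centralizer (P : Set G)) :=
    Nat.card_congr
      { toFun := fun k => ⟨(k.1 : G), k.1.2, (hfix k.1).mp k.2⟩
        invFun := fun k => ⟨⟨(k : G), k.2.1⟩, (hfix _).mpr k.2.2⟩
        left_inv := fun k => rfl
        right_inv := fun k => rfl }
  ext x
  rw [coeff_trunc, coeff_avgA, coeff_avgA, ← he, hcard]
  by_cases hC : x ∈ Subgroup.centralizer (P : Set G)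
  · rw [if_pos hC]
    exact if_congr ⟨fun h => ⟨h, hC⟩, fun h => h.1⟩ rfl rfl
  · rw [if_neg hC, if_neg fun h : x ∈ K ⊓ Subgroup.centralizer (P : Set G) => hC h.2]

end Trunc

/-! ### The `π'`-core -/

variable {π : Set ℕ}

/-- The largest normal `π'`-subgroup of a subgroup. -/
abbrev piO (π : Set ℕ) (X : Subgroup G) : Subgroup G := Cfsg.piCoreOf {q | q ∉ π} X

theorem not_dvd_card_of_pi {p : ℕ} [Fact p.Prime] (hpπ : p ∈ π) {K : Subgroup G}
    (hK : IsPiSubgroup {q | q ∉ π} K) : ¬ p ∣ Nat.card K :=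
  fun h => hK p Fact.out h hpπ

/-- Every `π'`-element lies in the `π'`-core. -/
def Hall (π : Set ℕ) (X : Subgroup G) : Prop :=
  ∀ x ∈ X, (∀ q : ℕ, q.Prime → q ∣ orderOf x → q ∉ π) → x ∈ piO π X

theorem pi_of_mem {K : Subgroup G} (hK : IsPiSubgroup {q | q ∉ π} K) {x : G} (hx : x ∈ K) :
    ∀ q : ℕ, q.Prime → q ∣ orderOf x → q ∉ π :=
  fun q hq hd => hK q hq (hd.trans (Subgroup.orderOf_dvd_natCard K hx))

theorem Hall.mono {X Y : Subgroup G} (hX : Hall π X) (hYX : Y ≤ X) : Hall π Y :=
  fun y hy hpi => CfsgLib.OddOrder.piCoreOf_inf_le _ hYX ⟨hX y (hYX hy) hpi, hy⟩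

theorem hall_of_subtype {X : Subgroup G}
    (h : ∀ x : X, (∀ q : ℕ, q.Prime → q ∣ orderOf x → q ∉ π) → x ∈ Cfsg.piCore {q | q ∉ π} X) :
    Hall π X :=
  fun x hx hpi => ⟨⟨x, hx⟩, h ⟨x, hx⟩ (by simpa [Subgroup.orderOf_mk] using hpi), rfl⟩

variable {p : ℕ} [Fact p.Prime] [CharP F p]

/-- The block of the pair has the `π'`-core of the centralizer in its kernel. -/
def Triv (π : Set ℕ) (Q : Subgroup G) (f : MonoidAlgebra F G) : Prop :=
  avgA (piO π (Subgroup.centralizer (Q : Set G))) * f = f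

theorem trunc_step {Q P : Subgroup G} {f e : MonoidAlgebra F G} (h : NS p Q f P e) :
    avgA (piO π (Subgroup.centralizer (Q : Set G)) ⊓ Subgroup.centralizer (P : Set G)) * e =
      trunc P (avgA (piO π (Subgroup.centralizer (Q : Set G))) * f) * e := by
  have hPK : P ≤ Subgroup.normalizer
      (piO π (Subgroup.centralizer (Q : Set G)) : Set G) :=
    h.norm.trans ((normalizer_le_normalizer_centralizer Q).trans
      (CfsgLib.OddOrder.normalizer_le_normalizer_piCoreOf _ _))
  rw [trunc_mul h.pairP.pgroup (conjFixed_avgA hPK) h.fix, mul_assoc, h.br,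
    trunc_avgA h.pairP.pgroup hPK]

theorem triv_down_step (hpπ : p ∈ π) {Q P : Subgroup G} {f e : MonoidAlgebra F G}
    (h : NS p Q f P e) (hP : Triv π P e) : Triv π Q f := by
  set K := piO π (Subgroup.centralizer (Q : Set G)) with hKdef
  have hK0 : (Nat.card K : F) ≠ 0 :=
    natCast_ne_zero' (p := p) (not_dvd_card_of_pi hpπ (CfsgLib.OddOrder.piCoreOf_isPiSubgroup _ _))
  refine mul_eq_of_ne_zero h.pairQ.block (inCenter_avgA (CfsgLib.OddOrder.piCoreOf_le _ _)
    (CfsgLib.OddOrder.le_normalizer_piCoreOf _ _)) (avgA_idem hK0) fun h0 => h.pairP.block.ne_zero ?_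
  have hK'0 : (Nat.card ↥(K ⊓ Subgroup.centralizer (P : Set G)) : F) ≠ 0 :=
    natCast_ne_zero' (p := p) (not_dvd_card_of_pi hpπ
      (CfsgLib.OddOrder.IsPiSubgroup.anti (CfsgLib.OddOrder.piCoreOf_isPiSubgroup _ _) inf_le_left))
  have h1 : avgA (K ⊓ Subgroup.centralizer (P : Set G)) * e = e := by
    conv_lhs => rw [← hP, ← mul_assoc]
    rw [avgA_mul (CfsgLib.OddOrder.piCoreOf_inf_le _ (centralizer_anti h.le)) hK'0, hP]
  rw [← h1, trunc_step h, h0, trunc_zero, zero_mul]

theorem triv_up_step {Q P : Subgroup G} {f e : MonoidAlgebra F G} (h : NS p Q f P e)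
    (hall : Hall π (Subgroup.centralizer (Q : Set G))) (hQ : Triv π Q f) : Triv π P e := by
  have heq : piO π (Subgroup.centralizer (P : Set G)) =
      piO π (Subgroup.centralizer (Q : Set G)) ⊓ Subgroup.centralizer (P : Set G) := by
    refine le_antisymm (fun x hx => ?_)
      (CfsgLib.OddOrder.piCoreOf_inf_le _ (centralizer_anti h.le))
    have hxP := CfsgLib.OddOrder.piCoreOf_le _ _ hx
    exact ⟨hall x (centralizer_anti h.le hxP)
      (pi_of_mem (CfsgLib.OddOrder.piCoreOf_isPiSubgroup _ _) hx), hxP⟩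
  show avgA _ * e = e
  rw [heq, trunc_step h, hQ, h.br]

theorem triv_down (hpπ : p ∈ π) {Q P : Subgroup G} {f e : MonoidAlgebra F G}
    (h : SLE p Q f P e) (hP : Triv π P e) : Triv π Q f := by
  suffices ∀ b : Subgroup G × MonoidAlgebra F G,
      Relation.ReflTransGen (fun a b : Subgroup G × MonoidAlgebra F G => NS p a.1 a.2 b.1 b.2)
        (Q, f) b → Triv π b.1 b.2 → Triv π Q f from this _ h hP
  intro b hb
  induction hb with
  | refl => exact id
  | tail _ hns ih => exact fun hb => ih (triv_down_step hpπ hns hb)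

theorem triv_up {Q P : Subgroup G} {f e : MonoidAlgebra F G} (h : SLE p Q f P e)
    (hall : Hall π (Subgroup.centralizer (Q : Set G))) (hQ : Triv π Q f) : Triv π P e := by
  suffices ∀ b : Subgroup G × MonoidAlgebra F G,
      Relation.ReflTransGen (fun a b : Subgroup G × MonoidAlgebra F G => NS p a.1 a.2 b.1 b.2)
        (Q, f) b → Q ≤ b.1 ∧ Triv π b.1 b.2 from (this _ h).2
  intro b hb
  induction hb with
  | refl => exact ⟨le_rfl, hQ⟩
  | tail _ hns ih => exact ⟨ih.1.trans hns.le, triv_up_step hns (hall.mono (centralizer_anti ih.1)) ih.2⟩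

omit [Fact p.Prime] [CharP F p] in
theorem triv_conj (x : G) {Q : Subgroup G} {f : MonoidAlgebra F G} (h : Triv π Q f) :
    Triv π (conjSub x Q) (conjA x f) := by
  show avgA (Cfsg.piCoreOf _ _) * _ = _
  rw [centralizer_conjSub, ← CfsgLib.OddOrder.map_piCoreOf_conj, ← conjA_avgA, ← conjA_mul, h]

omit [Fact p.Prime] [CharP F p] in
theorem triv_of_conj (x : G) {Q : Subgroup G} {f : MonoidAlgebra F G}
    (h : Triv π (conjSub x Q) (conjA x f)) : Triv π Q f := by
  have := triv_conj x⁻¹ h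
  rwa [conjSub_conjSub, conjA_conjA, inv_mul_cancel, conjSub_one, conjA_one] at this

/-- All pairs of the block below a maximal pair with the property have it. -/
theorem triv_of_maximal (hpπ : p ∈ π) {B e : MonoidAlgebra F G} {P : Subgroup G}
    (hP : PairOf p B P e) (hno : NoExt p P e) (hT : Triv π P e) {Q : Subgroup G}
    {f : MonoidAlgebra F G} (hQ : PairOf p B Q f) : Triv π Q f := by
  obtain ⟨x, hx⟩ := exists_conj_sle hP hno hQ
  exact triv_of_conj x (triv_down hpπ hx hT)

/-- The property propagates from a pair with a Hall complement to a maximal pair. -/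
theorem triv_maximal_of {B e : MonoidAlgebra F G} {P : Subgroup G}
    (hP : PairOf p B P e) (hno : NoExt p P e) {Q : Subgroup G}
    {f : MonoidAlgebra F G} (hQ : PairOf p B Q f)
    (hall : Hall π (Subgroup.centralizer (Q : Set G))) (hT : Triv π Q f) : Triv π P e := by
  obtain ⟨x, hx⟩ := exists_conj_sle hP hno hQ
  refine triv_up hx (fun y hy hpi => ?_) (triv_conj x hT)
  have h1 : x⁻¹ * y * x ∈ piO π (Subgroup.centralizer (Q : Set G)) := by
    refine hall _ (mem_centralizer_conjSub.mp hy) ?_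
    rwa [show orderOf (x⁻¹ * y * x) = orderOf y from by
      simpa using MulEquiv.orderOf_eq (MulAut.conj x⁻¹) y]
  rw [centralizer_conjSub]
  show y ∈ Cfsg.piCoreOf _ _
  rw [← CfsgLib.OddOrder.map_piCoreOf_conj]
  exact mem_conjSub.mpr h1

/-! ### Kernels -/

variable {M : Ideal AlgInt} [M.IsMaximal]

theorem avgA_mul_ebar_iff {X : Type u} [Group X] [Finite X] (K : Subgroup X) [K.Normal]
    (hM : IsPModular p M) (hK : ¬ p ∣ Nat.card K) {B : Set (IrrCharacter X)} (hB : IsPBlock M B) :
    avgA K * ebar hB = ebar hB ↔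
      ∀ θ ∈ B, ∀ k ∈ K, (θ : X → ℂ) k = (θ : X → ℂ) 1 := by
  haveI : CharP (ResField M) p := charP_resField hM.1 (natCast_mem_of_isPModular hM)
  set A := {χ : IrrCharacter X | ∀ n ∈ K, (χ : X → ℂ) n = (χ : X → ℂ) 1} with hA
  have hmem : ∀ g, blockCoeff A g ∈ locRing M := fun g => by
    rw [hA, blockCoeff_trivialOn]
    split_ifs
    · exact CfsgLib.BlockReg.memRing_inv_natCast hM hK
    · exact Subring.zero_mem _
  set z := mapCenter (red M) (idemR M A hmem)
  have hz : (z : MonoidAlgebra (ResField M) X) = avgA K := by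
    ext g
    rw [coe_mapCenter, coeff_avgA]
    simp only [MonoidAlgebra.coeff_mapRingHom, idemR, coeff_ofFun, Finsupp.mapRange_apply]
    by_cases hg : g ∈ K
    · rw [if_pos hg]
      refine eq_inv_of_mul_eq_one_left ?_
      rw [← map_natCast (red M), ← map_mul, ← map_one (red M)]
      congr 1
      apply Subtype.ext
      push_cast
      rw [hA, blockCoeff_trivialOn, if_pos hg,
        inv_mul_cancel₀ (Nat.cast_ne_zero.mpr Nat.card_pos.ne')]
    · rw [if_neg hg, ← map_zero (red M)]
      congr 1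
      apply Subtype.ext
      push_cast
      rw [hA, blockCoeff_trivialOn, if_neg hg]
  have hlam : ∀ χ, lam M χ z = blockInd A χ := fun χ => by
    rw [lam_mapCenter, lamR_idemR]
    unfold blockInd
    split_ifs <;> simp
  have hzi : IsIdempotentElem z := (isIdempotentElem_idemR hmem).map _
  obtain ⟨χ, hχ⟩ := IsPBlock.nonempty hB
  rw [← hz]
  constructor
  · intro h θ hθ k hk
    have h1 := (lam_eq_one_iff hB hθ hzi).mpr h
    rw [hlam, blockInd] at h1
    by_contra hne
    rw [if_neg fun hA' : θ ∈ A => hne (hA' k hk)] at h1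
    exact zero_ne_one h1
  · intro h
    refine (lam_eq_one_iff hB hχ hzi).mp ?_
    rw [hlam, blockInd, if_pos (show χ ∈ A from h χ hχ)]

theorem avgA_mul_eIn_iff {H K : Subgroup G} (hKH : K ≤ H)
    (hH : H ≤ Subgroup.normalizer (K : Set G)) (hM : IsPModular p M) (hK : ¬ p ∣ Nat.card K)
    {b : Set (IrrCharacter H)} (hb : IsPBlock M b) :
    avgA K * eIn hb = eIn hb ↔
      ∀ θ ∈ b, ∀ h : H, (h : G) ∈ K → (θ : H → ℂ) h = (θ : H → ℂ) 1 := by
  haveI : (K.subgroupOf H).Normal := Subgroup.normal_subgroupOf_of_le_normalizer hH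
  have hcard : Nat.card (K.subgroupOf H) = Nat.card K :=
    Nat.card_congr (Subgroup.subgroupOfEquivOfLe hKH).toEquiv
  have hup : up H (avgA (K.subgroupOf H) : MonoidAlgebra (ResField M) H) = avgA K := by
    ext x
    rw [coeff_avgA]
    by_cases hx : x ∈ H
    · simp only [up, coeff_ofFun, dif_pos hx, coeff_avgA, hcard]
      exact if_congr Subgroup.mem_subgroupOf rfl rfl
    · rw [if_neg fun h => hx (hKH h), up_suppIn H _ x hx]
  have h1 := avgA_mul_ebar_iff (K.subgroupOf H) hM (hcard ▸ hK) hb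
  rw [eIn, ← hup, ← up_mul, (up_injective H).eq_iff, h1]
  rfl

end CfsgLib.Blk83.PiKer
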