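import Cfsg.Agent.Lib.Blk83.PiKernel

/-!
The `π'`-core of a local subgroup in the kernel of a block, read on Brauer pairs.
-/

set_option autoImplicit false
set_option maxHeartbeats 1000000
set_option synthInstance.maxHeartbeats 400000

open Cfsg CfsgLib.Blocks CfsgLib.Blocks.Pairs
open scoped Classical

namespace CfsgLib.Blk83.PiKer

universe u

variable {G : Type u} [Group G] [Finite G] {p : ℕ} [Fact p.Prime] {M : Ideal AlgInt} [M.IsMaximal]

/-- The Brauer image of the induced block fixes the inducing block. -/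
theorem trunc_mul_eIn_of_induced (hM : IsPModular p M) {P H : Subgroup G} (hP : IsPGroup p P)
    (hPH : P ≤ H) (hCH : Subgroup.centralizer (P : Set G) ≤ H)
    (hN : H ≤ Subgroup.normalizer (P : Set G)) {b : Set (IrrCharacter H)}
    {B : Set (IrrCharacter G)} (hind : IsInducedBlock M H b B) :
    trunc P (ebar hind.2.1) * eIn hind.1 = eIn hind.1 := by
  obtain ⟨ξ, hξ⟩ := IsPBlock.nonempty hind.1
  obtain ⟨χ, hχ⟩ := IsPBlock.nonempty hind.2.1
  set z := brCenter P H hN (blockIdem hind.2.1) with hz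
  have hzi : IsIdempotentElem z := (isIdempotentElem_blockIdem hind.2.1).map (brHom hM hP hCH hN)
  have hlam : lam M ξ z = 1 := by
    rw [hz, lam_brCenter_eq hM hP hPH hN hind hξ hχ, lam_blockIdem_of_mem _ hχ]
  have h1 := congrArg (up H) ((lam_eq_one_iff hind.1 hξ hzi).mp hlam)
  rw [up_mul] at h1
  have hup : up H (z : MonoidAlgebra (ResField M) H) = trunc P (ebar hind.2.1) := by
    ext x
    rw [coeff_trunc]
    by_cases hx : x ∈ H
    · simp only [up, coeff_ofFun, dif_pos hx]
      rfl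
    · rw [up_suppIn H _ x hx, if_neg fun h => hx (hCH h)]
  rwa [hup] at h1

/-- A block of `H` under `b` gives a pair of the induced block. -/
theorem exists_pair_below (hM : IsPModular p M) {P H : Subgroup G} (hP : IsPGroup p P)
    (hPH : P ≤ H) (hCH : Subgroup.centralizer (P : Set G) ≤ H)
    (hN : H ≤ Subgroup.normalizer (P : Set G)) {b : Set (IrrCharacter H)}
    {B : Set (IrrCharacter G)} (hind : IsInducedBlock M H b B) :
    ∃ e, PairOf p (ebar hind.2.1) P e ∧ eIn hind.1 * e = e := by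
  haveI : CharP (ResField M) p := charP_resField hM.1 (natCast_mem_of_isPModular hM)
  have hb := isBlockIdem_eIn hind.1
  have hsupp := suppIn_centralizer_of_idem hP hPH hN hb.mem hb.idem
  obtain ⟨e, he, hbe⟩ := exists_blockIdem_mul (H := Subgroup.centralizer (P : Set G))
    ⟨hsupp, hb.mem.fixed.mono hCH⟩ hb.idem hb.ne_zero
  refine ⟨e, ⟨isBlockIdem_ebar hind.2.1, ⟨hP, he⟩, ?_⟩, hbe⟩
  rw [← hbe, ← mul_assoc, trunc_mul_eIn_of_induced hM hP hPH hCH hN hind]

/-- The maximal pair under the Brauer correspondent. -/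
theorem normalizer_data (hM : IsPModular p M) {π : Set ℕ} (hpπ : p ∈ π) {B : Set (IrrCharacter G)}
    (hB : IsPBlock M B) {D : Subgroup G} (hBD : IsDefectGroup p M B D)
    {B₁ : Set (IrrCharacter ↥(Subgroup.normalizer (D : Set G)))}
    (hB₁ : IsInducedBlock M (Subgroup.normalizer (D : Set G)) B₁ B) :
    ∃ e, PairOf p (ebar hB) D e ∧ NoExt p D e ∧
      (Triv π D e ↔ ∀ n : ↥(Subgroup.normalizer (D : Set G)),
        n ∈ Cfsg.piCore {q | q ∉ π} ↥(Subgroup.normalizer (D : Set G)) → n ∈ Cfsg.blockKer B₁) := by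
  haveI : CharP (ResField M) p := charP_resField hM.1 (natCast_mem_of_isPModular hM)
  have hDp := isPGroup_defectGroup hBD
  have hDN : D ≤ (Subgroup.normalizer (D : Set G)) := Subgroup.le_normalizer
  have hCN : Subgroup.centralizer (D : Set G) ≤ (Subgroup.normalizer (D : Set G)) := Subgroup.centralizer_le_normalizer _
  obtain ⟨e, he, hbe⟩ := exists_pair_below hM hDp hDN hCN le_rfl hB₁
  refine ⟨e, he, (maxR_of_isDefectGroup hM hB hBD).noExt he, ?_⟩
  set K := piO π (Subgroup.centralizer (D : Set G)) with hKdef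
  have hKpi := CfsgLib.OddOrder.piCoreOf_isPiSubgroup (G := G) {q | q ∉ π} (Subgroup.centralizer (D : Set G))
  have hKp : ¬ p ∣ Nat.card K := not_dvd_card_of_pi hpπ hKpi
  have hNK : (Subgroup.normalizer (D : Set G)) ≤ Subgroup.normalizer (K : Set G) :=
    (normalizer_le_normalizer_centralizer D).trans
      (CfsgLib.OddOrder.normalizer_le_normalizer_piCoreOf _ _)
  have hKN : K ≤ (Subgroup.normalizer (D : Set G)) := (CfsgLib.OddOrder.piCoreOf_le _ _).trans hCN
  have hON : piO π (Subgroup.normalizer (D : Set G)) = K := by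
    refine le_antisymm ?_ (CfsgLib.OddOrder.le_piCoreOf hKN hNK hKpi)
    have hOC : piO π (Subgroup.normalizer (D : Set G)) ≤ Subgroup.centralizer (D : Set G) := by
      intro x hx
      rw [Subgroup.mem_centralizer_iff]
      intro d hd
      have hxN := CfsgLib.OddOrder.piCoreOf_le _ _ hx
      have h1 : d * x * d⁻¹ * x⁻¹ ∈ piO π (Subgroup.normalizer (D : Set G)) := (piO π (Subgroup.normalizer (D : Set G))).mul_mem
        ((Subgroup.mem_normalizer_iff.mp
          (CfsgLib.OddOrder.le_normalizer_piCoreOf _ (Subgroup.normalizer (D : Set G)) (hDN hd)) x).mp hx) ((piO π (Subgroup.normalizer (D : Set G))).inv_mem hx)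
      have h2 : d * x * d⁻¹ * x⁻¹ ∈ D := by
        rw [show d * x * d⁻¹ * x⁻¹ = d * (x * d⁻¹ * x⁻¹) by group]
        exact D.mul_mem hd ((Subgroup.mem_normalizer_iff.mp hxN d⁻¹).mp (D.inv_mem hd))
      have hco : (Nat.card (piO π (Subgroup.normalizer (D : Set G)))).Coprime (Nat.card D) := by
        obtain ⟨k, hk⟩ := IsPGroup.iff_card.mp hDp
        rw [hk]
        exact (Nat.Coprime.pow_left k ((Fact.out : p.Prime).coprime_iff_not_dvd.mpr
          (not_dvd_card_of_pi hpπ (CfsgLib.OddOrder.piCoreOf_isPiSubgroup _ _)))).symm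
      have h3 := (Subgroup.inf_eq_bot_of_coprime hco).le ⟨h1, h2⟩
      rw [Subgroup.mem_bot, mul_inv_eq_one, mul_inv_eq_iff_eq_mul] at h3
      exact h3
    exact CfsgLib.OddOrder.le_piCoreOf hOC
      (hCN.trans (CfsgLib.OddOrder.le_normalizer_piCoreOf _ (Subgroup.normalizer (D : Set G))))
      (CfsgLib.OddOrder.piCoreOf_isPiSubgroup _ _)
  have hker : (∀ n : (Subgroup.normalizer (D : Set G)), n ∈ Cfsg.piCore {q | q ∉ π} (Subgroup.normalizer (D : Set G)) → n ∈ Cfsg.blockKer B₁) ↔
      avgA K * eIn hB₁.1 = eIn hB₁.1 := by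
    rw [avgA_mul_eIn_iff hKN hNK hM hKp hB₁.1]
    have hmem : ∀ n : (Subgroup.normalizer (D : Set G)), (n : G) ∈ K ↔ n ∈ Cfsg.piCore {q | q ∉ π} (Subgroup.normalizer (D : Set G)) := fun n => by
      rw [← hON]
      exact Subgroup.mem_map_iff_mem (Subgroup.normalizer (D : Set G)).subtype_injective
    exact ⟨fun h θ hθ n hn => h n ((hmem n).mp hn) θ hθ,
      fun h n hn θ hθ => h θ hθ n ((hmem n).mpr hn)⟩
  rw [hker]
  constructor
  · intro hT
    refine mul_eq_of_ne_zero (isBlockIdem_eIn hB₁.1) (inCenter_avgA hKN hNK)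
      (avgA_idem (natCast_ne_zero' hKp)) fun h0 => he.pair.block.ne_zero ?_
    have h1 : avgA K * eIn hB₁.1 * e = e := by rw [mul_assoc, hbe, hT]
    rw [← h1, h0, zero_mul]
  · intro h
    show avgA K * e = e
    rw [← hbe, ← mul_assoc, h]

/-- A pair at a defect group of a block of `H` gives a pair of the induced block. -/
theorem exists_pair_of_induced (hM : IsPModular p M) {H : Subgroup G} {b : Set (IrrCharacter H)}
    {B : Set (IrrCharacter G)} (hind : IsInducedBlock M H b B) {D₀ : Subgroup H}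
    (hD₀ : IsDefectGroup p M b D₀)
    (hC : Subgroup.centralizer ((D₀.map H.subtype : Subgroup G) : Set G) ≤ H) :
    ∃ f, PairOf p (ebar hind.2.1) (D₀.map H.subtype) f ∧
      trunc (D₀.map H.subtype) (eIn hind.1) * f = f := by
  haveI : CharP (ResField M) p := charP_resField hM.1 (natCast_mem_of_isPModular hM)
  set P := D₀.map H.subtype with hPdef
  have hDp := isPGroup_defectGroup hD₀
  have hPp : IsPGroup p P := hDp.map _
  set L := Subgroup.centralizer (P : Set G) with hL
  have hL'eq : Subgroup.centralizer (D₀ : Set H) = L.subgroupOf H := centralizer_subgroupOf_map D₀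
  obtain ⟨e, he⟩ := exists_pairOf (isBlockIdem_ebar hind.1) hDp
    (maxR_of_isDefectGroup hM hind.1 hD₀).ne_zero
  obtain ⟨β, hβ, rfl⟩ := exists_eIn_eq he.pair.block
  let φ : Subgroup.centralizer (D₀ : Set H) ≃* L :=
    (MulEquiv.subgroupCongr hL'eq).trans (Subgroup.subgroupOfEquivOfLe hC)
  have hφ : ∀ k, (φ k : G) = ((k : H) : G) := fun k => rfl
  set c := pullSet φ.symm β with hcdef
  have hc : IsPBlock M c := isPBlock_pullSet φ.symm hβ
  have hcβ : pullSet φ c = β := by
    rw [hcdef, pullSet, pullSet, Set.image_image]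
    simp only [pull_pull_symm, Set.image_id']
  have hup : up H (eIn hβ) = eIn hc := by
    ext g
    by_cases hg : g ∈ L
    · have hgH := hC hg
      have hg' : (⟨g, hgH⟩ : H) ∈ Subgroup.centralizer (D₀ : Set H) := by rw [hL'eq]; exact hg
      simp only [up, eIn, coeff_ofFun, dif_pos hgH, dif_pos hg', dif_pos hg, coeff_ebar]
      congr 1
      apply Subtype.ext
      show blockCoeff β _ = blockCoeff (pullSet φ.symm β) _
      rw [blockCoeff_pullSet]
      rfl
    · conv_rhs => rw [eIn, up_suppIn _ _ g hg]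
      by_cases hgH : g ∈ H
      · have hg' : (⟨g, hgH⟩ : H) ∉ Subgroup.centralizer (D₀ : Set H) := by rw [hL'eq]; exact hg
        simp [up, hgH, eIn, hg']
      · rw [up_suppIn H _ g hgH]
  have hβb := (isInducedBlock_iff_pairOf hM hDp hind.1 hβ).mpr he
  obtain ⟨B', hcB⟩ := exists_isInducedBlock_pcentralizer hM hPp hc
  have hBB : B' = B :=
    IsInducedBlock.unique (isInducedBlock_trans H φ hφ (hcβ.symm ▸ hβb) hcB) hind
  subst hBB
  refine ⟨eIn hc, (isInducedBlock_iff_pairOf hM hPp hind.2.1 hc).mp hcB, ?_⟩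
  rw [← hup]
  have h1 := congrArg (up H) he.br
  rw [up_mul, up_trunc] at h1
  exact h1

end CfsgLib.Blk83.PiKer
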