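/-
Divisibility of integers `n = r * d` from local properties of `r`.
-/
import Cfsg.Agent.Lib.BlockReg.LocalRing
import Mathlib.Data.Nat.Factorization.Basic

set_option autoImplicit false
open Cfsg

namespace CfsgLib.Blk83

open CfsgLib.BlockReg

/-- Divisibility of an integer from the local behaviour of its quotient by a degree. -/
theorem pow_succ_dvd {p : ℕ} {M : Ideal Cfsg.AlgInt} (hM : Cfsg.IsPModular p M) {d : ℕ} (hd : d ≠ 0) {n : ℤ}
    {r : ℂ} (h : (n : ℂ) = r * (d : ℂ)) (hr : Cfsg.MemLocalIdeal M r) :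
    (p : ℤ) ^ (d.factorization p + 1) ∣ n := by
  set e := d.factorization p
  have hdecomp : (d : ℂ) = (p : ℂ) ^ e * ((ordCompl[p] d : ℕ) : ℂ) := by
    exact_mod_cast (Nat.ordProj_mul_ordCompl_eq_self d p).symm
  suffices ∀ j, j ≤ e + 1 → (p : ℤ) ^ j ∣ n from this _ le_rfl
  intro j
  induction j with
  | zero => exact fun _ => by simp
  | succ j ih =>
    intro hj
    obtain ⟨q, hq⟩ := ih (by omega)
    have hp0 : (p : ℂ) ≠ 0 := by exact_mod_cast hM.1.ne_zero
    have hqr : (q : ℂ) = r * (((p ^ (e - j) * ordCompl[p] d : ℕ)) : ℂ) := by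
      apply mul_left_cancel₀ (pow_ne_zero j hp0)
      have h2 : (n : ℂ) = (p : ℂ) ^ j * (q : ℂ) := by rw [hq]; push_cast; ring
      rw [← h2, h, hdecomp, show (p : ℂ) ^ e = (p : ℂ) ^ j * (p : ℂ) ^ (e - j) by
        rw [← pow_add]; congr 1; omega]
      push_cast
      ring
    have hmem : Cfsg.MemLocalIdeal M (q : ℂ) := by
      rw [hqr]; exact memIdeal_mul_right hM hr (memRing_natCast hM _)
    obtain ⟨q', hq'⟩ := (memIdeal_intCast_iff hM q).mp hmem
    exact ⟨q', by rw [hq, hq', pow_succ, mul_assoc]⟩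

theorem pow_dvd {p : ℕ} {M : Ideal Cfsg.AlgInt} (hM : Cfsg.IsPModular p M) {d : ℕ} (hd : d ≠ 0) {n : ℤ}
    {r : ℂ} (h : (n : ℂ) = r * (d : ℂ)) (hr : Cfsg.MemLocalRing M r) :
    (p : ℤ) ^ d.factorization p ∣ n := by
  have h1 := pow_succ_dvd hM hd (n := (p : ℤ) * n) (r := r * (p : ℂ))
    (by push_cast; rw [h]; ring) (memIdeal_mul_left hM hr ((memIdeal_natCast_iff hM p).mpr dvd_rfl))
  rw [pow_succ'] at h1
  exact (mul_dvd_mul_iff_left (by exact_mod_cast hM.1.ne_zero)).mp h1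

end CfsgLib.Blk83
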