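/-
Separation of classes by irreducible characters, linear characters as homomorphisms.
-/
import Cfsg.Agent.Lib.Blk83.PairCount
import Mathlib.GroupTheory.Abelianization.Defs
import Mathlib.LinearAlgebra.Matrix.Trace
import Mathlib.LinearAlgebra.Trace

set_option autoImplicit false
open Cfsg
open scoped ComplexConjugate

namespace CfsgLib.Blk83

variable {G : Type*} [Group G] [Finite G]

omit [Finite G] in
theorem char_eq_of_isConj (χ : Cfsg.IrrCharacter G) {g h : G} (hgh : IsConj g h) :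
    (χ : G → ℂ) g = (χ : G → ℂ) h := by
  obtain ⟨f, n, ρ, hirr, rfl⟩ := χ
  obtain ⟨c, rfl⟩ := isConj_iff.mp hgh
  exact (ρ.char_conj g c).symm

theorem char_one_ne_zero (χ : Cfsg.IrrCharacter G) : (χ : G → ℂ) 1 ≠ 0 := by
  rw [CfsgLib.Blk83.one_eq]; exact_mod_cast (CfsgLib.Blk83.deg_pos χ).ne'

/-- If at each irreducible character `g` and `h` agree, or it vanishes at `g`, they are conjugate. -/
theorem isConj_of_sum_eq {g h : G}
    (H : ∀ χ : Cfsg.IrrCharacter G, (χ : G → ℂ) g = (χ : G → ℂ) h ∨ (χ : G → ℂ) g = 0) : IsConj g h := by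
  classical
  by_contra hne
  have h1 : ∑ χ : Cfsg.IrrCharacter G, (χ : G → ℂ) g * conj ((χ : G → ℂ) h) =
      ∑ χ : Cfsg.IrrCharacter G, (χ : G → ℂ) g * conj ((χ : G → ℂ) g) := by
    refine Finset.sum_congr rfl fun χ _ => ?_
    rcases H χ with h' | h'
    · rw [h']
    · simp [h']
  rw [CfsgLib.Char.sum_mul_conj, CfsgLib.Char.sum_mul_conj, if_neg hne, if_pos (IsConj.refl g)] at h1
  exact Nat.card_pos.ne' (Nat.cast_eq_zero.mp h1.symm)

theorem isConj_of_char_eq {g h : G} (H : ∀ χ : Cfsg.IrrCharacter G, (χ : G → ℂ) g = (χ : G → ℂ) h) :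
    IsConj g h :=
  isConj_of_sum_eq fun χ => Or.inl (H χ)

omit [Finite G] in
theorem linear_hom (χ : Cfsg.IrrCharacter G) (h1 : (χ : G → ℂ) 1 = 1) :
    ∃ l : G →* ℂˣ, ∀ g : G, ((l g : ℂˣ) : ℂ) = (χ : G → ℂ) g := by
  obtain ⟨f, n, ρ, hirr, rfl⟩ := χ
  change ρ.character 1 = 1 at h1
  rw [ρ.char_one, Module.finrank_fin_fun] at h1
  have hn : n = 1 := by exact_mod_cast h1
  subst hn
  let l₀ : G →* ℂ :=
    { toFun := ρ.character
      map_one' := by simp
      map_mul' := fun a b => by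
        simp only [Representation.character, map_mul,
          LinearMap.trace_eq_matrix_trace ℂ (Pi.basisFun ℂ (Fin 1)), LinearMap.toMatrix_mul,
          Matrix.trace_fin_one, Matrix.mul_apply, Fin.sum_univ_one] }
  exact ⟨l₀.toHomUnits, fun g => rfl⟩

end CfsgLib.Blk83
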