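import Cfsg.Agent.Lib.Blk83.ItoMichler
import Cfsg.Agent.Lib.Blocks.Quotient
import Cfsg.Agent.Lib.Blocks.Knorr
import Cfsg.Agent.Lib.BlockReg.Height
import Cfsg.Agent.Lib.Char.DefectZero
import Cfsg.Agent.Lib.Char.Ito

/-!
Constituents, on a normal subgroup, of a character of relative defect zero.
-/

set_option autoImplicit false
open Cfsg
open scoped ComplexConjugate

namespace CfsgLib.Blk83

universe u

variable {G : Type u} [Group G] [Finite G]

/-- A constituent of a function invariant under translation by a normal subgroup is trivial on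
that subgroup. -/
theorem apply_eq_one_of_constituent [Fintype G] (Z : Subgroup G) [Z.Normal] {f : G → ℂ}
    (hf : ∀ g : G, ∀ z ∈ Z, f (g * z) = f g) {ψ : G → ℂ} (hψ : Cfsg.IsIrrCharacter G ψ)
    (hne : Cfsg.classInner f ψ ≠ 0) : ∀ z ∈ Z, ψ z = ψ 1 := by
  classical
  obtain ⟨n, ρ, hρ, rfl⟩ := hψ
  by_contra hcon
  push Not at hcon
  obtain ⟨z₀, hz₀, hz₀ne⟩ := hcon
  have hker : ∃ h ∈ Z, ρ h ≠ 1 := ⟨z₀, hz₀, fun h => hz₀ne (by
    show LinearMap.trace ℂ _ (ρ z₀) = LinearMap.trace ℂ _ (ρ 1)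
    rw [h, map_one ρ])⟩
  have hzero : ∑ h : Z, ρ (h : G) = 0 := by
    apply LinearMap.ext
    intro v
    have hv : (∑ h : Z, ρ (h : G)) v ∈ CfsgLib.CharKernel.fixedSpace ρ Z := by
      rw [CfsgLib.CharKernel.mem_fixedSpace]
      intro a ha
      rw [← Module.End.mul_apply, Finset.mul_sum]
      exact congrFun (congrArg DFunLike.coe (Fintype.sum_equiv (Equiv.mulLeft (⟨a, ha⟩ : Z))
        (fun h : Z => ρ a * ρ (h : G)) (fun h : Z => ρ (h : G)) (fun h => by
          show ρ a * ρ (h : G) = ρ (a * (h : G))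
          rw [map_mul]))) v
    rw [CfsgLib.CharKernel.fixedSpace_eq_bot ρ Z hker, Submodule.mem_bot] at hv
    exact hv
  have hχ0 : ∀ g : G, ∑ h : Z, conj (ρ.character (g * (h : G))) = 0 := by
    intro g
    rw [← map_sum]
    show conj (∑ h : Z, LinearMap.trace ℂ _ (ρ (g * (h : G)))) = 0
    simp only [map_mul, ← map_sum, ← Finset.mul_sum, hzero, mul_zero, map_zero]
  have h1 : ∀ h : Z, ∑ g, f g * conj (ρ.character (g * (h : G))) =
      ∑ g, f g * conj (ρ.character g) := fun h => by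
    refine Fintype.sum_equiv (Equiv.mulRight (h : G)) _ _ fun g => ?_
    show _ = f (g * (h : G)) * conj (ρ.character (g * (h : G)))
    rw [hf g h h.2]
  have h2 : (Nat.card Z : ℂ) * ∑ g, f g * conj (ρ.character g) = 0 := by
    calc (Nat.card Z : ℂ) * ∑ g, f g * conj (ρ.character g)
        = ∑ h : Z, ∑ g, f g * conj (ρ.character (g * (h : G))) := by
          simp only [h1, Finset.sum_const, Finset.card_univ, nsmul_eq_mul,
            Nat.card_eq_fintype_card]
      _ = 0 := by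
          rw [Finset.sum_comm]
          exact Finset.sum_eq_zero fun g _ => by rw [← Finset.mul_sum, hχ0, mul_zero]
  apply hne
  rw [Cfsg.classInner, (mul_eq_zero.mp h2).resolve_left
    (by exact_mod_cast Nat.card_pos.ne'), mul_zero]

/-- A character of full `p`-part degree vanishes at `p`-singular elements. -/
theorem vanish_of_defect_zero {p : ℕ} (hp : p.Prime) {χ : G → ℂ} (hχ : Cfsg.IsIrrCharacter G χ)
    (hdeg : (Cfsg.charDegree χ).factorization p = (Nat.card G).factorization p) {x : G}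
    (hx : p ∣ orderOf x) : χ x = 0 := by
  obtain ⟨n, ρ, hρ, rfl⟩ := hχ
  haveI := hρ
  have hd : Cfsg.charDegree ρ.character = Module.finrank ℂ (Fin n → ℂ) := by
    simp [Cfsg.charDegree, Representation.char_one]
  refine CfsgLib.Char.character_eq_zero_of_defect_zero ρ hp
    (Nat.ordProj_dvd (Nat.card G) p) (Nat.pow_succ_factorization_not_dvd Nat.card_pos.ne' hp)
    ?_ x hx
  rw [← hd, ← hdeg]
  exact Nat.ordProj_dvd _ p

/-- An irreducible degree divides the index of an abelian normal subgroup. -/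
theorem deg_dvd_index (χ : Cfsg.IrrCharacter G) (A : Subgroup G) [A.Normal]
    (hA : ∀ a ∈ A, ∀ b ∈ A, a * b = b * a) :
    Cfsg.charDegree (χ : G → ℂ) ∣ A.index := by
  obtain ⟨f, n, ρ, hirr, rfl⟩ := χ
  haveI := hirr
  simpa [Cfsg.charDegree, Representation.char_one] using
    CfsgLib.Char.finrank_dvd_index_of_abelian_normal ρ A hA

/-- If `χ` is trivial on `Q` and has defect zero modulo `Q`, then a constituent on a normal
subgroup `N` centralising `Q` is trivial on `Q ⊓ N` and has defect zero modulo `Q ⊓ N`. -/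
theorem defectZero_constituent {p : ℕ} [Fact p.Prime] (Q N : Subgroup G) [Q.Normal] [N.Normal]
    [Fintype N] (hcomm : ∀ q ∈ Q, ∀ c ∈ N, q * c = c * q) (χ : Cfsg.IrrCharacter G)
    (hχQ : ∀ g : G, ∀ q ∈ Q, (χ : G → ℂ) (g * q) = (χ : G → ℂ) g)
    (hdeg : (Cfsg.charDegree (χ : G → ℂ)).factorization p + (Nat.card Q).factorization p =
      (Nat.card G).factorization p)
    (θ : Cfsg.IrrCharacter N)
    (hθ : Cfsg.classInner (fun n : N => (χ : G → ℂ) n) (θ : N → ℂ) ≠ 0) :
    (∀ z ∈ Q.subgroupOf N, (θ : N → ℂ) z = (θ : N → ℂ) 1) ∧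
      (Cfsg.charDegree (θ : N → ℂ)).factorization p + (Nat.card (Q.subgroupOf N)).factorization p =
        (Nat.card N).factorization p := by
  classical
  cases nonempty_fintype G
  have hp : p.Prime := Fact.out
  have htriv : ∀ z ∈ Q.subgroupOf N, (θ : N → ℂ) z = (θ : N → ℂ) 1 :=
    apply_eq_one_of_constituent (Q.subgroupOf N) (fun g z hz => hχQ g z hz) θ.2 hθ
  refine ⟨htriv, ?_⟩
  set T := CfsgLib.CharTwist.inertia N (θ : N → ℂ) with hTdef
  haveI : Fintype T := Fintype.ofFinite T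
  have hNT : N ≤ T := CfsgLib.CharTwist.le_inertia N (CfsgLib.Char.IsIrrCharacter.isClassFunction θ.2)
  have hQT : Q ≤ T := fun q hq => by
    rw [hTdef, CfsgLib.CharTwist.mem_inertia]
    funext n
    exact congrArg (θ : N → ℂ) (Subtype.ext (by
      show q * (n : G) * q⁻¹ = n
      rw [hcomm q hq n n.2, mul_inv_cancel_right]))
  obtain ⟨ψ, hψ, hind, hψθ⟩ :=
    CfsgLib.Clifford.exists_indFun_eq N T hNT θ.2 (fun g => Iff.rfl) χ.2 hθ
  have hψχ : Cfsg.classInner (fun t : T => (χ : G → ℂ) t) ψ ≠ 0 := by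
    have hcl := CfsgLib.Char.IsIrrCharacter.isClassFunction χ.2
    have h1 := CfsgLib.Char.classInner_indFun T ψ _ hcl
    rw [hind, CfsgLib.Char.classInner_irr_self χ.2] at h1
    rw [← CfsgLib.Char.classInner_conj_symm, ← h1, map_one]
    exact one_ne_zero
  have hψQ : ∀ z ∈ Q.subgroupOf T, ψ z = ψ 1 :=
    apply_eq_one_of_constituent (Q.subgroupOf T) (fun g z hz => hχQ g z hz) hψ hψχ
  -- degrees
  have hψdeg : (Cfsg.charDegree ψ).factorization p + (Nat.card Q).factorization p =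
      (Nat.card T).factorization p := by
    have h1 : (χ : G → ℂ) 1 = (T.index : ℂ) * ψ 1 := by
      rw [← hind, CfsgLib.Char.indFun_apply_one]
    rw [one_eq χ, show ψ 1 = (Cfsg.charDegree ψ : ℂ) from one_eq (⟨ψ, hψ⟩ : Cfsg.IrrCharacter T)] at h1
    have h2 : Cfsg.charDegree (χ : G → ℂ) = T.index * Cfsg.charDegree ψ := by exact_mod_cast h1
    have hψpos : 0 < Cfsg.charDegree ψ := deg_pos (⟨ψ, hψ⟩ : Cfsg.IrrCharacter T)
    have h3 := hdeg
    rw [h2, ← T.index_mul_card, Nat.factorization_mul Subgroup.index_ne_zero_of_finite hψpos.ne',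
      Nat.factorization_mul Subgroup.index_ne_zero_of_finite Nat.card_pos.ne',
      Finsupp.add_apply, Finsupp.add_apply] at h3
    omega
  obtain ⟨η, hη, hψη⟩ := CfsgLib.CharTwist.exists_irr_quotient hψ (Q.subgroupOf T) hψQ
  have hQcard : Nat.card (Q.subgroupOf T) = Nat.card Q :=
    Nat.card_congr (Subgroup.subgroupOfEquivOfLe hQT).toEquiv
  have hηdeg : (Cfsg.charDegree η).factorization p =
      (Nat.card (T ⧸ Q.subgroupOf T)).factorization p := by
    have h1 : Cfsg.charDegree ψ = Cfsg.charDegree η := by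
      rw [hψη]
      simp [Cfsg.charDegree]
    have h2 := Subgroup.card_eq_card_quotient_mul_card_subgroup (Q.subgroupOf T)
    rw [hQcard] at h2
    rw [h1, h2, Nat.factorization_mul Nat.card_pos.ne' Nat.card_pos.ne', Finsupp.add_apply] at hψdeg
    omega
  have hres := CfsgLib.Clifford.res_eq_smul_of_fixed N T hNT θ.2
    (fun t ht => ht) hψ (hψθ ▸ hθ)
  -- the character of the quotient of N
  obtain ⟨θ', hθ'⟩ := CfsgLib.Blocks.exists_infl_eq (Q.subgroupOf N) htriv
  haveI := Fintype.ofFinite (N ⧸ Q.subgroupOf N)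
  have hvan : ∀ x : N ⧸ Q.subgroupOf N, orderOf x = p → (θ' : N ⧸ Q.subgroupOf N → ℂ) x = 0 := by
    intro x hx
    obtain ⟨c, rfl⟩ := QuotientGroup.mk_surjective x
    have hc1 : (c : G) ∉ Q := fun h => by
      rw [(QuotientGroup.eq_one_iff c).mpr h, orderOf_one] at hx
      exact hp.one_lt.ne hx
    have hc2 : (c : G) ^ p ∈ Q := by
      have h := pow_orderOf_eq_one (c : N ⧸ Q.subgroupOf N)
      rw [hx, ← QuotientGroup.mk_pow, QuotientGroup.eq_one_iff] at h
      exact h
    have hzero : η (QuotientGroup.mk' (Q.subgroupOf T) ⟨c, hNT c.2⟩) = 0 := by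
      refine vanish_of_defect_zero hp hη hηdeg (dvd_of_eq ?_)
      refine (orderOf_eq_prime ?_ ?_).symm
      · rw [← map_pow]
        exact (QuotientGroup.eq_one_iff _).mpr hc2
      · exact fun h => hc1 ((QuotientGroup.eq_one_iff (⟨c, hNT c.2⟩ : T)).mp h :)
    have h1 : (0 : ℂ) = Cfsg.classInner (fun n : N => ψ ⟨n, hNT n.2⟩) (θ : N → ℂ) *
        (θ : N → ℂ) c := by
      rw [← hzero]
      have := congrFun hres c
      simp only [Pi.smul_apply, smul_eq_mul] at this
      rw [← this, hψη]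
      rfl
    have h2 := (mul_eq_zero.mp h1.symm).resolve_left (hψθ ▸ hθ)
    rw [← hθ'] at h2
    exact h2
  have hK := CfsgLib.Blocks.factorization_deg_of_vanishing (p := p) θ' hvan
  have hdθ : Cfsg.charDegree (θ : N → ℂ) = Cfsg.charDegree (θ' : N ⧸ Q.subgroupOf N → ℂ) := by
    rw [← hθ']
    simp [Cfsg.charDegree]
  rw [hdθ, hK, Subgroup.card_eq_card_quotient_mul_card_subgroup (Q.subgroupOf N),
    Nat.factorization_mul Nat.card_pos.ne' Nat.card_pos.ne', Finsupp.add_apply]

/-- Over a central `p`-subgroup `Z`, a character of defect zero modulo `Z` has height zero. -/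
theorem minExp_eq_of_central {p : ℕ} [Fact p.Prime] {M : Ideal Cfsg.AlgInt}
    (hM : Cfsg.IsPModular p M) (Z : Subgroup G) [Z.Normal] (hZc : Z ≤ Subgroup.center G)
    (hZp : IsPGroup p Z) {B : Set (Cfsg.IrrCharacter G)} (hB : Cfsg.IsPBlock M B)
    {θ : Cfsg.IrrCharacter G} (hθB : θ ∈ B) (htriv : ∀ z ∈ Z, (θ : G → ℂ) z = (θ : G → ℂ) 1)
    (hdeg : (Cfsg.charDegree (θ : G → ℂ)).factorization p + (Nat.card Z).factorization p =
      (Nat.card G).factorization p) :
    CfsgLib.BlockReg.minExp p B = (Cfsg.charDegree (θ : G → ℂ)).factorization p := by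
  classical
  cases nonempty_fintype G
  haveI := Fintype.ofFinite (G ⧸ Z)
  have hp : p.Prime := Fact.out
  obtain ⟨η, hη⟩ := CfsgLib.Blocks.exists_infl_eq Z htriv
  have hval : ∀ g : G, (θ : G → ℂ) g = (η : G ⧸ Z → ℂ) (g : G ⧸ Z) := fun g => by
    rw [← hη]; rfl
  have hdη : Cfsg.charDegree (θ : G → ℂ) = Cfsg.charDegree (η : G ⧸ Z → ℂ) := by
    rw [← hη]
    simp [Cfsg.charDegree]
  have hηdz : (Cfsg.charDegree (η : G ⧸ Z → ℂ)).factorization p =
      (Nat.card (G ⧸ Z)).factorization p := by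
    rw [hdη, Subgroup.card_eq_card_quotient_mul_card_subgroup Z,
      Nat.factorization_mul Nat.card_pos.ne' Nat.card_pos.ne', Finsupp.add_apply] at hdeg
    omega
  have horth : ∑ x : G ⧸ Z, (η : G ⧸ Z → ℂ) x * conj ((η : G ⧸ Z → ℂ) x) =
      (Nat.card (G ⧸ Z) : ℂ) := by
    have h := CfsgLib.Char.classInner_irr_self η.2
    rw [Cfsg.classInner, inv_mul_eq_iff_eq_mul₀ (by exact_mod_cast Nat.card_pos.ne'), mul_one] at h
    exact h
  have hsum : ∑ g ∈ Finset.univ.filter (fun g : G => ¬ p ∣ orderOf g),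
      (θ : G → ℂ) g * conj ((θ : G → ℂ) g) = (Nat.card (G ⧸ Z) : ℂ) := by
    rw [← horth, ← Finset.sum_filter_add_sum_filter_not (s := (Finset.univ : Finset (G ⧸ Z)))
      (fun x => ¬ p ∣ orderOf x),
      Finset.sum_eq_zero (s := Finset.univ.filter fun x : G ⧸ Z => ¬¬ p ∣ orderOf x) fun x hx => by
        rw [vanish_of_defect_zero hp η.2 hηdz (not_not.mp (Finset.mem_filter.mp hx).2), zero_mul],
      add_zero]
    refine Finset.sum_bij (fun g _ => (g : G ⧸ Z)) ?_ ?_ ?_ ?_
    · intro g hg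
      simp only [Finset.mem_filter, Finset.mem_univ, true_and] at hg ⊢
      exact CfsgLib.Blocks.regular_mk Z hg
    · intro a ha b hb hab
      simp only [Finset.mem_filter, Finset.mem_univ, true_and] at ha hb
      have hz : a⁻¹ * b ∈ Z := QuotientGroup.eq.mp hab
      obtain ⟨k, hk⟩ := hZp ⟨_, hz⟩
      have := CfsgLib.BlockReg.eq_one_of_regular_mul (p := p)
        (Subgroup.mem_center_iff.mp (hZc hz) a) ha (k := k)
        (by simpa using congrArg Subtype.val hk) (by rwa [mul_inv_cancel_left])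
      exact (inv_mul_eq_one.mp this)
    · intro x hx
      simp only [Finset.mem_filter, Finset.mem_univ, true_and] at hx
      obtain ⟨g, hg, hgx⟩ := CfsgLib.Blocks.exists_regular_lift Z hp hx
      exact ⟨g, by simp [hg], hgx⟩
    · intro g _
      rw [hval]
  have hn : Cfsg.classInner (CfsgLib.BlockReg.tilde p (θ : G → ℂ)) (θ : G → ℂ) =
      ((p ^ (Cfsg.charDegree (θ : G → ℂ)).factorization p : ℕ) : ℂ) *
        (((p ^ (Nat.card Z).factorization p : ℕ) : ℂ) / (Nat.card Z : ℂ)) := by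
    have h0 : ∑ g, CfsgLib.BlockReg.tilde p (θ : G → ℂ) g * conj ((θ : G → ℂ) g) =
        ((p ^ (Nat.card G).factorization p : ℕ) : ℂ) * (Nat.card (G ⧸ Z) : ℂ) := by
      rw [← hsum, Finset.mul_sum, Finset.sum_filter]
      refine Finset.sum_congr rfl fun g _ => ?_
      unfold CfsgLib.BlockReg.tilde
      split_ifs <;> simp_all [mul_assoc]
    rw [Cfsg.classInner, h0, ← hdeg, pow_add, Subgroup.card_eq_card_quotient_mul_card_subgroup Z]
    have h1 : (Nat.card (G ⧸ Z) : ℂ) ≠ 0 := by exact_mod_cast Nat.card_pos.ne'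
    have h2 : (Nat.card Z : ℂ) ≠ 0 := by exact_mod_cast Nat.card_pos.ne'
    push_cast
    field_simp
  refine le_antisymm (CfsgLib.BlockReg.minExp_le hθB) (not_lt.mp fun hlt => ?_)
  have hI := CfsgLib.BlockReg.rInner_memIdeal hM hB hθB hlt
  rw [CfsgLib.BlockReg.rInner, hn, ← CfsgLib.BlockReg.deg_cast θ, mul_div_right_comm] at hI
  obtain ⟨ha, ha'⟩ := CfsgLib.BlockReg.natCast_div_unit hM
    (n := p ^ (Cfsg.charDegree (θ : G → ℂ)).factorization p)
    (m := Cfsg.charDegree (θ : G → ℂ)) (pow_ne_zero _ hp.ne_zero) (deg_pos θ).ne'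
    (by rw [hp.factorization_pow, Finsupp.single_eq_same])
  obtain ⟨hb, hb'⟩ := CfsgLib.BlockReg.natCast_div_unit hM
    (n := p ^ (Nat.card Z).factorization p) (m := Nat.card Z) (pow_ne_zero _ hp.ne_zero)
    Nat.card_pos.ne' (by rw [hp.factorization_pow, Finsupp.single_eq_same])
  exact CfsgLib.BlockReg.not_memIdeal_mul hM ha hb ha' hb' hI

/-- A character of defect zero modulo `Q` forces every normal `p`-subgroup into `Q`. -/
theorem normal_pgroup_le_of_defectZero {p : ℕ} [Fact p.Prime] (Q R : Subgroup G) [Q.Normal]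
    [R.Normal] (hR : IsPGroup p R) (χ : Cfsg.IrrCharacter G)
    (hχQ : ∀ q ∈ Q, (χ : G → ℂ) q = (χ : G → ℂ) 1)
    (hdeg : (Cfsg.charDegree (χ : G → ℂ)).factorization p + (Nat.card Q).factorization p =
      (Nat.card G).factorization p) : R ≤ Q := by
  obtain ⟨η, hη⟩ := CfsgLib.Blocks.exists_infl_eq Q hχQ
  set S := R.map (QuotientGroup.mk' Q) with hS
  haveI : S.Normal := Subgroup.Normal.map inferInstance _ (QuotientGroup.mk'_surjective Q)
  have hSp : IsPGroup p S := hR.map _
  by_contra hRQ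
  haveI : Nontrivial S := by
    rw [Subgroup.nontrivial_iff_ne_bot, hS, Ne, Subgroup.map_eq_bot_iff, QuotientGroup.ker_mk']
    exact hRQ
  haveI := hSp.center_nontrivial
  set A := (Subgroup.center S).map S.subtype
  have hAab : ∀ a ∈ A, ∀ b ∈ A, a * b = b * a := by
    rintro _ ⟨a, ha, rfl⟩ _ ⟨b, hb, rfl⟩
    rw [← map_mul, ← map_mul, Subgroup.mem_center_iff.mp ha b]
  have hdvd := deg_dvd_index η A hAab
  have hAp : IsPGroup p A := (hSp.to_subgroup _).map _
  obtain ⟨k, hk⟩ := IsPGroup.iff_card.mp hAp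
  have hk0 : k ≠ 0 := by
    rintro rfl
    rw [pow_zero, Subgroup.card_map_of_injective S.subtype_injective] at hk
    exact (Finite.one_lt_card (α := Subgroup.center S)).ne' hk
  have h1 : (Cfsg.charDegree (η : G ⧸ Q → ℂ)).factorization p ≤ A.index.factorization p :=
    ((Nat.factorization_le_iff_dvd (deg_pos η).ne' Subgroup.index_ne_zero_of_finite).mpr hdvd) p
  have h2 : Cfsg.charDegree (χ : G → ℂ) = Cfsg.charDegree (η : G ⧸ Q → ℂ) := by
    rw [← hη]
    simp [Cfsg.charDegree]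
  rw [h2, Subgroup.card_eq_card_quotient_mul_card_subgroup Q, ← A.card_mul_index, hk,
    Nat.factorization_mul (mul_ne_zero (pow_ne_zero _ (Fact.out : p.Prime).ne_zero)
      Subgroup.index_ne_zero_of_finite) Nat.card_pos.ne',
    Nat.factorization_mul (pow_ne_zero _ (Fact.out : p.Prime).ne_zero)
      Subgroup.index_ne_zero_of_finite, Finsupp.add_apply, Finsupp.add_apply,
    (Fact.out : p.Prime).factorization_pow, Finsupp.single_eq_same] at hdeg
  omega

end CfsgLib.Blk83
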